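import Cfsg.Agent.Cit.Nil.LO.CentSL

/-!
# THEOREM KL for nil families of generalised quaternion groups of any order (helper818)

helper542's version (#18335) of `blueprints/CIT-6b-LieOdd-helper443.md`, section 6.

`NQ Om` : `Hyp Om`, the members are 2-groups. `RR Om z` : the product of the members over `z`.
`CQ Om Oc z S` : as `CW` with `NQ Om`.

* `CQ.le_centralizer` : `E_z` centralises `J ∈ Om_c(S)`;
* `slq_centralizer` : the same for `J ≃ SL(2,F)`, `|F| > 3`;
* `exists_sylow_q` : commuting members `K`, `K'` over `z ≠ u`.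
-/

set_option autoImplicit false
set_option linter.style.haveILetI false
set_option linter.unusedSectionVars false

namespace Cfsg.Agent.Cit.Nil.LO

open Subgroup Cfsg Cit RG

variable {G : Type*} [Group G]

/-- see the head of the file -/
structure NQ (Om : Set (Subgroup G)) : Prop where
  hyp : Hyp Om
  two : ∀ K ∈ Om, IsPGroup 2 K

namespace NQ

variable [Finite G] {Om : Set (Subgroup G)} {𝒦 : Set (Subgroup G)} {z x y g u v : G} {K L : Subgroup G}

section

variable (h : NQ Om)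

include h

theorem gq (hK : K ∈ Ov Om z) : ∃ c v n, GQ K c v z n := by
  have hQ : Syl K K := ⟨le_rfl, h.two K hK.1, by rw [relIndex_self]; decide⟩
  have h1 := h.hyp.exists_gq hK.1 hQ
  rwa [hK.2] at h1

theorem Ov_mem (hK : K ∈ Ov Om z) : z ∈ K := by
  have h1 := h.hyp.zz_mem hK.1
  rwa [hK.2] at h1

theorem zz_sq (hz : z ∈ ZZ Om) : z * z = 1 := by
  obtain ⟨K, hK, rfl⟩ := hz
  exact h.hyp.zz_mul hK

theorem zz_ne (hz : z ∈ ZZ Om) : z ≠ 1 := by
  obtain ⟨K, hK, rfl⟩ := hz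
  exact h.hyp.zz_ne hK

theorem zz_inv (hz : z ∈ ZZ Om) : z⁻¹ = z := inv_eq_of_mul_eq_one_right (h.zz_sq hz)

theorem Ov_cen (hK : K ∈ Ov Om z) (hx : x ∈ K) : z * x = x * z := by
  have h1 := h.hyp.comm_zz hK.1 (le_normalizer hx)
  rw [hK.2] at h1
  exact h1.symm

theorem Ov_comm (hK : K ∈ Ov Om z) (hL : L ∈ Ov Om z) (hne : K ≠ L) (hx : x ∈ K) (hy : y ∈ L) : x * y = y * x := by
  rcases h.hyp.h2 K hK.1 L hL.1 (hK.2.trans hL.2.symm) with h1 | h1
  · exact absurd h1 hne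
  · have h2 : ⁅K, L⁆ = ⊥ := by
      rw [← le_bot_iff]
      refine h1.trans (inf_le_left.trans ?_)
      rw [OO_eq_bot_of_two (h.two K hK.1)]
    rw [commutator_eq_bot_iff_le_centralizer] at h2
    exact (mem_centralizer_iff.1 (h2 hx) y hy).symm

theorem Ov_cj (hK : K ∈ Ov Om z) (g : G) : cj g K ∈ Ov Om (g * z * g⁻¹) :=
  ⟨h.hyp.conj K hK.1 g, by rw [h.hyp.zz_cj hK.1, hK.2]⟩

theorem Ov_cj' (hK : K ∈ Ov Om z) (hg : g * z = z * g) : cj g K ∈ Ov Om z := by
  have h1 := h.Ov_cj hK g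
  rwa [hg, mul_inv_cancel_right] at h1

theorem RR_cen (hx : x ∈ RR Om z) : z * x = x * z := SS_comm (fun _ hK _ hk => h.Ov_cen hK hk) hx

theorem RR_cj' (hx : x ∈ RR Om z) (hg : g * z = z * g) : g * x * g⁻¹ ∈ RR Om z :=
  SS_cj_le (fun _ hK => h.Ov_cj' hK hg) hx

theorem RR_mem (hz : z ∈ ZZ Om) : z ∈ RR Om z := by
  obtain ⟨K, hK⟩ := hz
  exact mem_SS_of hK (h.Ov_mem hK)

/-- the members over `z` are normal in `E_z` -/
theorem RR_norm (hK : K ∈ Ov Om z) (hx : x ∈ RR Om z) : cj x K = K := by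
  have h1 : RR Om z ≤ normalizer (K : Set G) := SS_le fun L hL l hl => by
    by_cases hLK : L = K
    · subst hLK
      exact le_normalizer hl
    · rw [mem_normalizer_iff]
      intro y
      constructor
      · intro hy
        rw [h.Ov_comm hL hK hLK hl hy, mul_inv_cancel_right]
        exact hy
      · intro hy
        have h2 := h.Ov_comm hL hK hLK (inv_mem hl) hy
        have h3 : y = l * y * l⁻¹ := by
          calc y = l⁻¹ * (l * y * l⁻¹) * l := by group
            _ = (l * y * l⁻¹) * l⁻¹ * l := by rw [h2]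
            _ = l * y * l⁻¹ := by group
        rw [h3]
        exact hy
  exact mem_normalizer_iff_cj.1 (h1 hx)

theorem RR_two : IsPGroup 2 (RR Om z) := by
  haveI : Fact (Nat.Prime 2) := ⟨Nat.prime_two⟩
  obtain ⟨T, hT⟩ := Hyp.exists_syl (RR Om z)
  refine hT.2.1.to_le (SS_le fun K hK => ?_)
  have h1 : T ≤ normalizer (K : Set G) := fun x hx => mem_normalizer_iff_cj.2 (h.RR_norm hK (hT.1 hx))
  have h2 : IsPGroup 2 (T ⊔ K : Subgroup G) := hT.2.1.to_sup_of_normal_right' (h.two K hK.1) h1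
  have h3 := LB.syl_eq_of_le hT h2 (sup_le hT.1 (WR.le_RR hK)) le_sup_left
  rw [h3]
  exact le_sup_right

theorem Ov_central (hK : K ∈ Ov Om z) (hx : x ∈ K) (hc : ∀ k ∈ K, x * k = k * x) : x = 1 ∨ x = z := by
  obtain ⟨c, v, n, g⟩ := h.gq hK
  exact g.eq_of_cent hx hc

/-- splitting off a member -/
theorem SS_split (h𝒦 : 𝒦 ⊆ Ov Om z) (hK : K ∈ 𝒦) (hv : v ∈ SS 𝒦) :
    ∃ k ∈ K, ∃ w ∈ SS (𝒦 \ {K}), v = k * w ∧ ∀ l ∈ K, w * l = l * w := by
  have hcom : ∀ w ∈ SS (𝒦 \ {K}), ∀ l ∈ K, w * l = l * w := by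
    intro w hw l hl
    refine (SS_comm (x := l) (fun L hL k hk => ?_) hw).symm
    exact h.Ov_comm (h𝒦 hK) (h𝒦 hL.1) (fun h1 => hL.2 h1.symm) hl hk
  have h1 : ∃ k ∈ K, ∃ w ∈ SS (𝒦 \ {K}), v = k * w := by
    refine closure_induction (p := fun v _ => ∃ k ∈ K, ∃ w ∈ SS (𝒦 \ {K}), v = k * w) ?_ ?_ ?_ ?_ hv
    · rintro g ⟨L, hL, hg⟩
      by_cases hLK : L = K
      · subst hLK
        exact ⟨g, hg, 1, one_mem _, (mul_one g).symm⟩
      · exact ⟨1, one_mem _, g, mem_SS_of (K := L) ⟨hL, hLK⟩ hg, (one_mul g).symm⟩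
    · exact ⟨1, one_mem _, 1, one_mem _, (mul_one 1).symm⟩
    · rintro _ _ - - ⟨k, hk, w, hw, rfl⟩ ⟨k', hk', w', hw', rfl⟩
      refine ⟨k * k', mul_mem hk hk', w * w', mul_mem hw hw', ?_⟩
      calc k * w * (k' * w') = k * (w * k') * w' := by group
        _ = k * (k' * w) * w' := by rw [hcom w hw k' hk']
        _ = k * k' * (w * w') := by group
    · rintro _ - ⟨k, hk, w, hw, rfl⟩
      refine ⟨k⁻¹, inv_mem hk, w⁻¹, inv_mem hw, ?_⟩
      rw [_root_.mul_inv_rev, hcom _ (inv_mem hw) _ (inv_mem hk)]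
  obtain ⟨k, hk, w, hw, h2⟩ := h1
  exact ⟨k, hk, w, hw, h2, hcom w hw⟩

/-- the centre of `SS 𝒦` -/
theorem SS_center : ∀ (n : ℕ) (𝒦 : Set (Subgroup G)), 𝒦.ncard = n → 𝒦 ⊆ Ov Om z → ∀ v ∈ SS 𝒦,
    (∀ K ∈ 𝒦, ∀ k ∈ K, v * k = k * v) → v = 1 ∨ v = z := by
  intro n
  induction n with
  | zero =>
    intro 𝒦 hn h𝒦 v hv hc
    rw [Set.ncard_eq_zero] at hn
    subst hn
    rw [SS_empty, mem_bot] at hv
    exact Or.inl hv
  | succ n ih =>
    intro 𝒦 hn h𝒦 v hv hc
    obtain ⟨K, hK⟩ : 𝒦.Nonempty := by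
      rw [Set.nonempty_iff_ne_empty]; rintro rfl; rw [Set.ncard_empty] at hn; omega
    obtain ⟨k, hk, w, hw, rfl, hcw⟩ := h.SS_split h𝒦 hK hv
    have hk1 : k = 1 ∨ k = z := by
      refine h.Ov_central (h𝒦 hK) hk fun l hl => ?_
      have h1 := hc K hK l hl
      have h2 : k * l * w = l * k * w := by
        calc k * l * w = k * (l * w) := by group
          _ = k * w * l := by rw [← hcw l hl]; group
          _ = l * (k * w) := h1
          _ = l * k * w := by group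
      exact mul_right_cancel h2
    have hk2 : ∀ L ∈ 𝒦, ∀ l ∈ L, k * l = l * k := by
      intro L hL l hl
      rcases hk1 with rfl | rfl
      · rw [one_mul, mul_one]
      · exact h.Ov_cen (h𝒦 hL) hl
    have hw1 : w = 1 ∨ w = z := by
      refine ih (𝒦 \ {K}) ?_ (Set.sdiff_subset.trans h𝒦) w hw fun L hL l hl => ?_
      · have h1 := Set.ncard_sdiff_singleton_add_one hK (Set.toFinite 𝒦)
        omega
      · have h1 := hc L hL.1 l hl
        have h2 := hk2 L hL.1 l hl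
        have h3 : k * (w * l) = k * (l * w) := by
          calc k * (w * l) = k * w * l := by group
            _ = l * (k * w) := h1
            _ = (l * k) * w := by group
            _ = k * (l * w) := by rw [← h2]; group
        exact mul_left_cancel h3
    have hzz := h.zz_sq ⟨K, h𝒦 hK⟩
    rcases hk1 with rfl | rfl <;> rcases hw1 with rfl | rfl
    · left; rw [one_mul]
    · right; rw [one_mul]
    · right; rw [mul_one]
    · left; exact hzz

theorem RR_center (hv : v ∈ RR Om z) (hc : ∀ K ∈ Ov Om z, ∀ k ∈ K, v * k = k * v) : v = 1 ∨ v = z :=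
  h.SS_center _ _ rfl subset_rfl v hv hc

/-- a pair generating a quaternion group of order eight -/
theorem pair (hK : K ∈ Ov Om z) : ∃ a ∈ K, ∃ b ∈ K, a * a = z ∧ b * b = z ∧ b * a = z * (a * b) := by
  obtain ⟨c, v, n, g⟩ := h.gq hK
  obtain ⟨a, ha, b, hb, ha4, hb4, -, hab⟩ := g.exists_pair
  have h1 := h.hyp.sq_eq_zz hK.1 ha ha4
  have h2 := h.hyp.sq_eq_zz hK.1 hb hb4
  rw [hK.2] at h1 h2
  refine ⟨a, ha, b, hb, h1, h2, ?_⟩
  rw [hab]
  exact (h.Ov_cen hK (mul_mem ha hb)).symm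

/-- every nontrivial subgroup of `K` contains `z` -/
theorem exists_pow (hK : K ∈ Ov Om z) (hx : x ∈ K) (h1 : x ≠ 1) : z ∈ zpowers x := by
  haveI : Fact (Nat.Prime 2) := ⟨Nat.prime_two⟩
  obtain ⟨k, hk⟩ := IsPGroup.iff_orderOf.1 (h.two K hK.1) ⟨x, hx⟩
  rw [Subgroup.orderOf_mk] at hk
  have hk0 : k ≠ 0 := by
    rintro rfl
    rw [pow_zero, orderOf_eq_one_iff] at hk
    exact h1 hk
  obtain ⟨m, rfl⟩ := Nat.exists_eq_succ_of_ne_zero hk0
  have h2 : orderOf (x ^ 2 ^ m) = 2 := by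
    rw [orderOf_pow_of_dvd (by positivity) (by rw [hk]; exact pow_dvd_pow 2 (Nat.le_succ m)), hk, Nat.succ_eq_add_one,
      pow_succ, Nat.mul_div_cancel_left _ (by positivity)]
  have h3 := h.hyp.uniq K hK.1 _ (pow_mem hx _) h2
  rw [hK.2] at h3
  rw [← h3]
  exact pow_mem (mem_zpowers x) _

end

end NQ

/-- see the head of the file -/
structure CQ (Om Oc : Set (Subgroup G)) (z : G) (S : Subgroup G) : Prop where
  nq : NQ Om
  h : Hyp Oc
  qs : ∀ J ∈ Oc, IsQuasisimple J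
  oo : ∀ J ∈ Oc, OO J = ⊥
  f2 : ∀ J ∈ Oc, FTwo J
  hz : z ∈ ZZ Om
  hS : IsPGroup 2 S
  hE : RR Om z ≤ S

namespace CQ

variable [Finite G] {Om Oc : Set (Subgroup G)} {z x y g k : G} {S J J' K : Subgroup G}

section

variable (c : CQ Om Oc z S)

include c

theorem zz1 : z * z = 1 := c.nq.zz_sq c.hz

theorem zne : z ≠ 1 := c.nq.zz_ne c.hz

theorem zinv : z⁻¹ = z := c.nq.zz_inv c.hz

theorem zS : z ∈ S := c.hE (c.nq.RR_mem c.hz)

theorem cen (hg : g ∈ RR Om z) : g * z = z * g := (c.nq.RR_cen hg).symm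

/-- the commutators with elements of `C(z)` -/
theorem com_mem (hx : x * z = z * x) (hg : g ∈ RR Om z) : x * (g * x⁻¹ * g⁻¹) ∈ RR Om z := by
  have h1 := mul_mem (c.nq.RR_cj' hg hx) (inv_mem hg)
  have h2 : x * g * x⁻¹ * g⁻¹ = x * (g * x⁻¹ * g⁻¹) := by group
  rwa [h2] at h1

/-- `x⁻¹ x^g ∈ E_z` for `x ∈ C(z)` -/
theorem com_mem' (hx : x * z = z * x) (hg : g ∈ RR Om z) : x⁻¹ * (g * x * g⁻¹) ∈ RR Om z := by
  have h1 : x⁻¹ * z = z * x⁻¹ := (Commute.inv_left (show Commute _ _ from hx)).eq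
  have h2 := c.com_mem h1 hg
  rwa [inv_inv] at h2

theorem eq_one (hx : x ∈ RR Om z) (ho : Odd (orderOf x)) : x = 1 := by
  obtain ⟨n, hn⟩ := c.nq.RR_two (z := z) ⟨x, hx⟩
  exact eq_one_of_two_odd (n := n) (congrArg Subtype.val hn) ho

/-- an element `x` of odd order of `C(z)` commuting with `g x g⁻¹` is centralised by `g` -/
theorem odd_fix (hx : x * z = z * x) (hg : g ∈ RR Om z) (ho : Odd (orderOf x))
    (hc : x * (g * x * g⁻¹) = (g * x * g⁻¹) * x) : g * x * g⁻¹ = x := by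
  have h1 := c.com_mem hx hg
  have h2 : g * x⁻¹ * g⁻¹ = (g * x * g⁻¹)⁻¹ := by group
  rw [h2] at h1
  have h3 : x * (g * x * g⁻¹)⁻¹ = (g * x * g⁻¹)⁻¹ * x := (Commute.inv_right (show Commute _ _ from hc)).eq
  have h4 := c.eq_one h1 (odd_mul h3 ho (by rw [orderOf_inv, orderOf_conj]; exact ho))
  exact (mul_inv_eq_one.1 h4).symm

/-- the group `S` acts on `Om_c(S)` -/
theorem cjJ (hJ : J ∈ OmS Oc S) (hg : g ∈ S) : cj g J ∈ OmS Oc S := cj_mem_OmS' c.h.conj (le_normalizer hg) hJ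

/-- different members of `Om_c(S)` commute -/
theorem comm (hJ : J ∈ OmS Oc S) (hJ' : J' ∈ OmS Oc S) (hne : J ≠ J') : ∀ a ∈ J, ∀ b ∈ J', a * b = b * a := by
  have h1 := CoresComm.inf_le_centralizer c.h c.hS hJ hJ' hne (c.oo J hJ.1)
  have h3 := CoresComm.le_normalizer c.h c.hS hJ hJ' hne (c.oo J hJ.1) (c.oo J' hJ'.1)
  have h5 := CoresComm.le_centralizer_of_quasisimple c.h c.hS hJ' h1 h3 (c.qs J' hJ'.1)
  exact fun a ha b hb => mem_centralizer_iff.1 (h5 hb) a ha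

/-- there is an element `g` of `E_z` with `g² = z` -/
theorem exists_four : ∃ g ∈ RR Om z, g * g = z := by
  obtain ⟨K, hK⟩ := c.hz
  obtain ⟨a, ha, -, -, haa, -⟩ := c.nq.pair hK
  exact ⟨a, WR.le_RR hK ha, haa⟩

/-- **(2.1)** -/
theorem norm (hJ : J ∈ OmS Oc S) : cj z J = J := by
  by_contra hne
  obtain ⟨g, hg, hgg⟩ := c.exists_four
  have hzg : g * z = z * g := c.cen hg
  set J' := cj z J with hJ'
  have mJ' : J' ∈ OmS Oc S := c.cjJ hJ c.zS
  have h1 : cj g J = J ∨ cj g J = J' := by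
    by_contra hcon
    push Not at hcon
    obtain ⟨n1, n2⟩ := hcon
    have mg : cj g J ∈ OmS Oc S := c.cjJ hJ (c.hE hg)
    have mg' : cj g J' ∈ OmS Oc S := c.cjJ mJ' (c.hE hg)
    have e1 : cj g J' = cj z (cj g J) := by rw [hJ', ← cj_mul, hzg, cj_mul]
    have n3 : cj g J' ≠ J := by
      intro h2
      apply n2
      rw [e1] at h2
      have h3 := congrArg (cj z⁻¹) h2
      rw [cj_inv_cj, c.zinv] at h3
      exact h3
    have n4 : cj g J' ≠ J' := by
      intro h2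
      apply n1
      rw [e1, hJ', cj_inj] at h2
      exact h2
    obtain ⟨j, hj, hjo, hjn⟩ := exists_odd_nc (c.qs J hJ.1) (c.oo J hJ.1)
    set j' := z * j * z⁻¹ with hj'
    have hjj' : j' ∈ J' := conj_mem_cj hj
    have hcjj : j * j' = j' * j := c.comm hJ mJ' (fun h => hne h.symm) j hj j' hjj'
    have hzj : z * j = j' * z := by rw [hj']; group
    have hzj' : z * j' = j * z := by
      calc z * j' = (z * z) * j * z⁻¹ := by rw [hj']; group
        _ = j * z := by rw [c.zz1, one_mul, c.zinv]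
    have hze : j * j' * z = z * (j * j') := by
      calc j * j' * z = j' * j * z := by rw [hcjj]
        _ = j' * (j * z) := by group
        _ = j' * (z * j') := by rw [hzj']
        _ = (j' * z) * j' := by group
        _ = (z * j) * j' := by rw [hzj]
        _ = z * (j * j') := by group
    have heo : Odd (orderOf (j * j')) := odd_mul hcjj hjo (by rw [hj', orderOf_conj]; exact hjo)
    have hge : g * (j * j') * g⁻¹ = (g * j * g⁻¹) * (g * j' * g⁻¹) := by group
    -- everything commutes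
    have k1 : g * j * g⁻¹ ∈ cj g J := conj_mem_cj hj
    have k2 : g * j' * g⁻¹ ∈ cj g J' := conj_mem_cj hjj'
    have ca : ∀ a ∈ J, a * (g * (j * j') * g⁻¹) = (g * (j * j') * g⁻¹) * a := by
      intro a ha
      have h2 := c.comm hJ mg (fun h => n1 h.symm) a ha _ k1
      have h3 := c.comm hJ mg' (fun h => n3 h.symm) a ha _ k2
      rw [hge]
      exact (Commute.mul_right (show Commute _ _ from h2) (show Commute _ _ from h3)).eq
    have ca' : ∀ a ∈ J', a * (g * (j * j') * g⁻¹) = (g * (j * j') * g⁻¹) * a := by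
      intro a ha
      have h2 := c.comm mJ' mg (fun h => n2 h.symm) a ha _ k1
      have h3 := c.comm mJ' mg' (fun h => n4 h.symm) a ha _ k2
      rw [hge]
      exact (Commute.mul_right (show Commute _ _ from h2) (show Commute _ _ from h3)).eq
    have hcc : (j * j') * (g * (j * j') * g⁻¹) = (g * (j * j') * g⁻¹) * (j * j') :=
      (Commute.mul_left (show Commute _ _ from ca j hj) (show Commute _ _ from ca' j' hjj')).eq
    have hfix := c.odd_fix hze hg heo hcc
    apply hjn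
    intro y hy
    have h2 := ca y hy
    rw [hfix] at h2
    have h3 : y * j' = j' * y := c.comm hJ mJ' (fun h => hne h.symm) y hy j' hjj'
    have h4 : (y * j) * j' = (j * y) * j' := by
      calc (y * j) * j' = y * (j * j') := by group
        _ = j * j' * y := h2
        _ = j * (j' * y) := by group
        _ = j * (y * j') := by rw [h3]
        _ = _ := by group
    exact (mul_right_cancel h4).symm
  rcases h1 with h1 | h1
  · apply hne
    rw [hJ', ← hgg, cj_mul, h1, h1]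
  · rw [hJ', ← hgg, cj_mul, cj_inj] at h1
    apply hne
    rw [hJ', ← hgg, cj_mul, ← h1, ← h1]

/-- **(2.2)** -/
theorem le_of_comm (hJ : J ∈ OmS Oc S) (hc : Cen J z) : ∀ g ∈ RR Om z, Cen J g := by
  have h1 : ∀ g ∈ RR Om z, cj g J = J := by
    intro g hg
    by_contra hne
    obtain ⟨j, hj, hjo, hjn⟩ := exists_odd_nc (c.qs J hJ.1) (c.oo J hJ.1)
    have mg : cj g J ∈ OmS Oc S := c.cjJ hJ (c.hE hg)
    have k1 : g * j * g⁻¹ ∈ cj g J := conj_mem_cj hj
    have h2 := c.odd_fix (hc j hj).symm hg hjo (c.comm hJ mg (fun h => hne h.symm) j hj _ k1)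
    apply hjn
    intro y hy
    have h3 := c.comm hJ mg (fun h => hne h.symm) y hy _ k1
    rw [h2] at h3
    exact h3.symm
  -- `[J, E_z] ≤ J ∩ E_z`
  have h2 : ⁅J, RR Om z⁆ ≤ J ⊓ RR Om z := by
    rw [commutator_le]
    intro j hj g hg
    rw [commutatorElement_def]
    have e : j * g * j⁻¹ * g⁻¹ = j * (g * j⁻¹ * g⁻¹) := by group
    rw [e]
    refine ⟨mul_mem hj ?_, c.com_mem (hc j hj).symm hg⟩
    rw [← h1 g hg]
    exact conj_mem_cj (inv_mem hj)
  have h3 : J ≤ normalizer ((J ⊓ RR Om z : Subgroup G) : Set G) := by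
    intro j hj
    rw [mem_normalizer_iff_cj, cj_inf, mem_normalizer_iff_cj.1 (le_normalizer hj)]
    congr 1
    refine le_antisymm ?_ ?_
    · intro x hx
      rw [mem_cj] at hx
      have h4 := c.nq.RR_cj' hx (hc j hj).symm
      have h5 : j * (j⁻¹ * x * j) * j⁻¹ = x := by group
      rwa [h5] at h4
    · intro x hx
      rw [mem_cj]
      have h4 := c.nq.RR_cj' hx (hc _ (inv_mem hj)).symm
      rwa [inv_inv] at h4
  have h4 : J ⊓ RR Om z ≤ centralizer (J : Set G) :=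
    two_le (c.qs J hJ.1) inf_le_left h3 (c.nq.RR_two.to_le inf_le_right)
  have h5 : ⁅⁅J, RR Om z⁆, J⁆ = ⊥ := commutator_eq_bot_iff_le_centralizer.2 (h2.trans h4)
  have h6 : ⁅⁅J, J⁆, RR Om z⁆ = ⊥ := by
    apply commutator_commutator_eq_bot_of_rotate
    · exact h5
    · rw [commutator_comm (RR Om z) J]; exact h5
  rw [eq_of_qs (c.qs J hJ.1), commutator_eq_bot_iff_le_centralizer] at h6
  intro g hg y hy
  exact mem_centralizer_iff.1 (h6 hy) g hg

/-- **(2.3)** -/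
theorem not_norm (hJ : J ∈ OmS Oc S) (hn : ¬ Cen J z) (hK : K ∈ Ov Om z) : ¬ ∀ k ∈ K, cj k J = J := by
  intro hnK
  have hQ : Syl (J ⊓ S) J := syl_inf c.hS hJ
  have hKE : ∀ k ∈ K, k ∈ RR Om z := fun k hk => WR.le_RR hK hk
  have hKQ : ∀ k ∈ K, cj k (J ⊓ S) = J ⊓ S := by
    intro k hk
    rw [cj_inf, hnK k hk, mem_normalizer_iff_cj.1 (le_normalizer (c.hE (hKE k hk)))]
  have hKJ' : ∀ k ∈ K, ∀ x ∈ J, k * x * k⁻¹ ∈ J := fun k hk x hx => by
    rw [← hnK k hk]
    exact conj_mem_cj hx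
  have hzJ : z ∈ normalizer (J : Set G) := mem_normalizer_iff_cj.2 (c.norm hJ)
  -- `K ∩ J = 1`
  have hinf : ∀ x ∈ K, x ∈ J → x = 1 := by
    intro x hxK hxJ
    by_contra h1
    apply hn
    have h2 : z ∈ J := zpowers_le.2 hxJ (c.nq.exists_pow hK hxK h1)
    rw [c.h.eq_zz hJ.1 h2 c.zz1 c.zne]
    exact cen_zz c.h hJ.1
  -- `[K, C_J(z)] = 1`
  have hcen : ∀ x ∈ J, x * z = z * x → ∀ k ∈ K, k * x = x * k := by
    intro x hx hxz k hk
    have hxK : cj x K = K := by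
      by_contra hne
      have mx : cj x K ∈ Ov Om z := c.nq.Ov_cj' hK hxz
      have key : ∀ k ∈ K, ∀ l ∈ K, k * l = l * k := by
        intro k hk l hl
        -- `d = k⁻¹ (x k x⁻¹)`
        have d1 : k⁻¹ * (x * k * x⁻¹) ∈ RR Om z := mul_mem (inv_mem (hKE k hk)) (c.nq.RR_cj' (hKE k hk) hxz)
        have d2 : k⁻¹ * (x * k * x⁻¹) ∈ J := by
          have h1 : k⁻¹ * (x * k * x⁻¹) = (k⁻¹ * x * k⁻¹⁻¹) * x⁻¹ := by group
          rw [h1]
          exact mul_mem (hKJ' _ (inv_mem hk) x hx) (inv_mem hx)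
        set d := k⁻¹ * (x * k * x⁻¹) with hd
        have d3 : d * l * d⁻¹ * l⁻¹ = 1 := by
          refine hinf _ (mul_mem ?_ (inv_mem hl)) ?_
          · have h1 := conj_mem_cj (g := d) hl
            rwa [c.nq.RR_norm hK d1] at h1
          · have h1 : d * l * d⁻¹ * l⁻¹ = d * (l * d⁻¹ * l⁻¹) := by group
            rw [h1]
            exact mul_mem d2 (hKJ' l hl _ (inv_mem d2))
        have d4 : d * l = l * d := by
          rw [mul_inv_eq_one, mul_inv_eq_iff_eq_mul] at d3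
          exact d3
        have d5 : (x * k * x⁻¹) * l = l * (x * k * x⁻¹) := c.nq.Ov_comm mx hK hne (conj_mem_cj hk) hl
        have h1 : x * k * x⁻¹ = k * d := by rw [hd]; group
        rw [h1] at d5
        have h2 : k * l * d = l * k * d := by
          calc k * l * d = k * (l * d) := by group
            _ = k * (d * l) := by rw [d4]
            _ = k * d * l := by group
            _ = l * (k * d) := d5
            _ = _ := by group
        exact mul_right_cancel h2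
      obtain ⟨e, v, n, q⟩ := c.nq.gq hK
      exact q.not_comm (key v q.v_mem e q.c_mem)
    have h1 : x * k * x⁻¹ * k⁻¹ = 1 := by
      refine hinf _ (mul_mem ?_ (inv_mem hk)) ?_
      · have h1 := conj_mem_cj (g := x) hk
        rwa [hxK] at h1
      · have h1 : x * k * x⁻¹ * k⁻¹ = x * (k * x⁻¹ * k⁻¹) := by group
        rw [h1]
        exact mul_mem hx (hKJ' k hk _ (inv_mem hx))
    rw [mul_inv_eq_one, mul_inv_eq_iff_eq_mul] at h1
    exact h1.symm
  -- `z` does not centralise the Sylow 2-subgroup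
  have hzQ : ¬ ∀ x ∈ J ⊓ S, z * x = x * z := by
    intro h1
    apply hn
    intro y hy
    have h2 := Trivial.comm_mem_OO c.h hJ.1 hQ hzJ (b := 1) (by rw [pow_one, pow_two]; exact c.zz1) h1 y hy
    rw [c.oo J hJ.1, mem_bot, mul_inv_eq_one, mul_inv_eq_iff_eq_mul] at h2
    exact h2
  obtain ⟨a, ha, b, hb, haa, hbb, hba⟩ := c.nq.pair hK
  have hza : z * a = a * z := (c.cen (hKE a ha)).symm
  have hzb : z * b = b * z := (c.cen (hKE b hb)).symm
  obtain ⟨e, v, n, q⟩ := c.h.exists_gq hJ.1 hQ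
  rcases Nat.eq_zero_or_pos n with rfl | hn0
  · -- `|Q| = 8`
    have hcard := q.card
    obtain ⟨m, ⟨f⟩⟩ := c.h.isGQ hJ.1 hQ
    have hm : m = 0 := by
      haveI : NeZero (2 ^ (m + 1)) := ⟨by positivity⟩
      rw [Nat.card_congr f.toEquiv, Nat.card_eq_fintype_card, QuaternionGroup.card] at hcard
      have h1 : 2 ^ (m + 3) = 2 ^ 3 := by rw [← hcard]; ring
      have := Nat.pow_right_injective (le_refl 2) h1
      omega
    subst hm
    let f' : ↥(J ⊓ S) ≃* ROne.QEight.Q := f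
    let ρ : (k : G) → k ∈ K → MulAut ROne.QEight.Q := fun k hk => (f'.symm.trans (WR.actK (hKQ k hk))).trans f'
    have hρ : ∀ (k : G) (hk : k ∈ K) (x : ↥(J ⊓ S)), ρ k hk (f' x) = f' (WR.actK (hKQ k hk) x) := by
      intro k hk x
      change f' (WR.actK (hKQ k hk) (f'.symm (f' x))) = _
      rw [f'.symm_apply_apply]
    have hsurj : ∀ p : ROne.QEight.Q, ∃ x, p = f' x := fun p => ⟨f'.symm p, (f'.apply_symm_apply p).symm⟩
    have h1 : ρ a ha * ρ a ha = ρ b hb * ρ b hb := by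
      refine MulEquiv.ext fun p => ?_
      obtain ⟨x, rfl⟩ := hsurj p
      rw [MulAut.mul_apply, MulAut.mul_apply]
      simp only [hρ a ha, hρ b hb]
      congr 1
      refine Subtype.ext ?_
      change a * (a * x * a⁻¹) * a⁻¹ = b * (b * x * b⁻¹) * b⁻¹
      calc a * (a * x * a⁻¹) * a⁻¹ = (a * a) * x * (a * a)⁻¹ := by group
        _ = (b * b) * x * (b * b)⁻¹ := by rw [haa, hbb]
        _ = _ := by group
    have h2 : ρ b hb * ρ a ha = ρ a ha * ρ a ha * ρ a ha * ρ b hb := by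
      refine MulEquiv.ext fun p => ?_
      obtain ⟨x, rfl⟩ := hsurj p
      rw [MulAut.mul_apply, MulAut.mul_apply, MulAut.mul_apply, MulAut.mul_apply]
      simp only [hρ a ha, hρ b hb]
      congr 1
      refine Subtype.ext ?_
      change b * (a * x * a⁻¹) * b⁻¹ = a * (a * (a * (b * x * b⁻¹) * a⁻¹) * a⁻¹) * a⁻¹
      calc b * (a * x * a⁻¹) * b⁻¹ = (b * a) * x * (b * a)⁻¹ := by group
        _ = (a * a * (a * b)) * x * (a * a * (a * b))⁻¹ := by rw [hba, haa]
        _ = _ := by group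
    have h3 := ROne.QEight.quat _ _ h1 h2
    apply hzQ
    intro x hx
    have h4 := congrArg (fun φ : MulAut ROne.QEight.Q => φ (f' ⟨x, hx⟩)) h3
    simp only [MulAut.mul_apply, MulAut.one_apply] at h4
    rw [hρ a ha, hρ a ha] at h4
    have h5 : a * (a * x * a⁻¹) * a⁻¹ = x := congrArg Subtype.val (f'.injective h4)
    have h6 : z * x * z⁻¹ = x := by
      rw [← haa]
      calc a * a * x * (a * a)⁻¹ = a * (a * x * a⁻¹) * a⁻¹ := by group
        _ = x := h5
    rwa [mul_inv_eq_iff_eq_mul] at h6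
  · -- `|Q| ≥ 16`
    have hcc : ∀ k ∈ K, ∃ m : ℤ, k * e * k⁻¹ = e ^ m := by
      intro k hk
      have h1 : k * e * k⁻¹ ∈ zpowers e :=
        OneFieldHom.mem_zpowers_of_orderOf q hn0.ne' (by
          have := conj_mem_cj (g := k) q.c_mem
          rwa [hKQ k hk] at this) (by rw [orderOf_conj]; exact q.ord)
      obtain ⟨m, hm⟩ := h1
      exact ⟨m, hm.symm⟩
    have hzab : z * (a * b) = (a * b) * z := by
      rw [← mul_assoc, hza, mul_assoc, hzb, mul_assoc]
    have hez : e * z = z * e := by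
      obtain ⟨m, hm⟩ := hcc a ha
      obtain ⟨m', hm'⟩ := hcc b hb
      have h1 : (a * b) * e * (a * b)⁻¹ = e ^ (m * m') := by
        rw [← OneBasic.conj_zpow_pow hm, ← hm']; group
      have h2 : (b * a) * e * (b * a)⁻¹ = e ^ (m * m') := by
        rw [mul_comm m m', ← OneBasic.conj_zpow_pow hm', ← hm]; group
      have h3 : (b * a) * e * (b * a)⁻¹ = (a * b) * (z * e * z⁻¹) * (a * b)⁻¹ := by
        rw [hba, hzab]; group
      rw [h2, ← h1] at h3
      have h4 := mul_left_cancel (mul_right_cancel h3)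
      rw [eq_mul_inv_iff_mul_eq] at h4
      exact h4
    have hek : ∀ k ∈ K, ∀ l : ℤ, k * e ^ l * k⁻¹ = e ^ l := by
      intro k hk l
      have h1 : k * e * k⁻¹ = e ^ (1 : ℤ) := by
        rw [hcen e q.c_mem.1 hez k hk, mul_inv_cancel_right, zpow_one]
      rw [OneBasic.conj_zpow_pow h1, one_mul]
    have hact : ∀ k ∈ K, ∃ i : ℤ, k * v * k⁻¹ = v * e ^ i := by
      intro k hk
      refine q.exists_act (mem_normalizer_iff_cj.2 (hKQ k hk)) ?_
      obtain ⟨m, hm⟩ := hcc k⁻¹ (inv_mem hk)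
      rw [inv_inv] at hm
      exact ⟨m, hm.symm⟩
    obtain ⟨i, hi⟩ := hact a ha
    obtain ⟨j, hj⟩ := hact b hb
    have hzv : z * v * z⁻¹ = v := by
      have h1 : (a * b) * v * (a * b)⁻¹ = v * e ^ (i + j) := by
        calc (a * b) * v * (a * b)⁻¹ = a * (b * v * b⁻¹) * a⁻¹ := by group
          _ = a * (v * e ^ j) * a⁻¹ := by rw [hj]
          _ = (a * v * a⁻¹) * (a * e ^ j * a⁻¹) := by group
          _ = v * e ^ (i + j) := by rw [hi, hek a ha, mul_assoc, ← zpow_add]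
      have h2 : (b * a) * v * (b * a)⁻¹ = v * e ^ (i + j) := by
        calc (b * a) * v * (b * a)⁻¹ = b * (a * v * a⁻¹) * b⁻¹ := by group
          _ = b * (v * e ^ i) * b⁻¹ := by rw [hi]
          _ = (b * v * b⁻¹) * (b * e ^ i * b⁻¹) := by group
          _ = v * e ^ (i + j) := by rw [hj, hek b hb, mul_assoc, ← zpow_add, add_comm]
      have h3 : (b * a) * v * (b * a)⁻¹ = (a * b) * (z * v * z⁻¹) * (a * b)⁻¹ := by
        rw [hba, hzab]; group
      rw [h2, ← h1] at h3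
      exact (mul_left_cancel (mul_right_cancel h3)).symm
    rw [mul_inv_eq_iff_eq_mul] at hzv
    apply hzQ
    intro x hx
    rcases q.cov x hx with ⟨l, rfl⟩ | ⟨l, rfl⟩
    · exact ((show Commute z e from hez.symm).pow_right l).eq
    · exact (Commute.mul_right (show Commute z v from hzv) ((show Commute z e from hez.symm).pow_right l)).eq

/-- **(2.4)** -/
theorem conj_t (hJ : J ∈ OmS Oc S) (hn : ¬ Cen J z) (hK : K ∈ Ov Om z) (hgK : g ∈ K) (hgg : g * g = z)
    (hgJ : cj g J ≠ J) : g * zz J * g⁻¹ = zz J ∧ zz J ∈ RR Om z := by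
  have hg : g ∈ RR Om z := WR.le_RR hK hgK
  have hzJ : z ∈ normalizer (J : Set G) := mem_normalizer_iff_cj.2 (c.norm hJ)
  have mg : cj g J ∈ OmS Oc S := c.cjJ hJ (c.hE hg)
  have hcom : ∀ x ∈ J, ∀ y ∈ J, x * (g * y * g⁻¹) = (g * y * g⁻¹) * x := fun x hx y hy =>
    c.comm hJ mg (fun h => hgJ h.symm) x hx _ (conj_mem_cj hy)
  have hcen : ∀ x ∈ J, g * x * g⁻¹ = x → Cen J x := by
    intro x hx h1 y hy
    have h2 := hcom y hy x hx
    rw [h1] at h2
    exact h2.symm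
  have hct := cen_zz c.h hJ.1
  have htt := c.h.zz_mul hJ.1
  have htJ := c.h.zz_mem hJ.1
  rcases c.f2 J hJ.1 z hzJ c.zz1 hn with ⟨s, hs, hs1, hso, hsz⟩ | ⟨τ, hτ, j, hj, ⟨a, ha, hτa⟩, hτz, hjz⟩
  · exfalso
    have h1 := c.odd_fix hsz hg hso (hcom s hs s hs)
    exact hs1 (cen_odd (c.oo J hJ.1) hs (hcen s hs h1) hso)
  set t := zz J with ht
  have htg : g * t * g⁻¹ = t := by
    have hmm : ∀ k : ℕ, (τ⁻¹ * (g * τ * g⁻¹)) ^ k = (τ ^ k)⁻¹ * (g * τ ^ k * g⁻¹) := by
      intro k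
      have h1 : Commute τ⁻¹ (g * τ * g⁻¹) := Commute.inv_left (show Commute _ _ from hcom τ hτ τ hτ)
      rw [h1.mul_pow, inv_pow, conj_pow]
    have hτi : τ⁻¹ * z = z * τ⁻¹ := (Commute.inv_left (show Commute _ _ from hτz)).eq
    by_cases hτK : cj τ⁻¹ K = K
    · -- `d = τ⁻¹ τ^g ∈ K`
      have d1 : τ⁻¹ * (g * τ * g⁻¹) ∈ K := by
        have h1 : τ⁻¹ * (g * τ * g⁻¹) = (τ⁻¹ * g * τ⁻¹⁻¹) * g⁻¹ := by group
        rw [h1]
        refine mul_mem ?_ (inv_mem hgK)
        have h2 := conj_mem_cj (g := τ⁻¹) hgK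
        rwa [hτK] at h2
      obtain ⟨m, rfl⟩ : ∃ m, a = m + 1 := ⟨a - 1, by omega⟩
      have hτt : τ ^ 2 ^ m = t := by
        refine c.h.eq_zz hJ.1 (pow_mem hτ _) ?_ ?_
        · rw [← pow_add, ← two_mul, ← pow_succ', ← hτa, pow_orderOf_eq_one]
        · intro h10
          have h11 := Nat.le_of_dvd (by positivity) (orderOf_dvd_of_pow_eq_one h10)
          rw [hτa, pow_succ] at h11
          have h12 : 0 < 2 ^ m := by positivity
          omega
      have d2 := hmm (2 ^ m)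
      rw [hτt] at d2
      have d3 : (τ⁻¹ * (g * τ * g⁻¹)) ^ 2 ^ m ∈ K := pow_mem d1 _
      rw [d2] at d3
      -- an element of `K` of order `≤ 2`
      have hcg : Commute t⁻¹ (g * t * g⁻¹) := Commute.inv_left (show Commute _ _ from hcom t htJ t htJ)
      have d4 : t⁻¹ * (g * t * g⁻¹) * (t⁻¹ * (g * t * g⁻¹)) = 1 := by
        have h1 : t⁻¹ * (g * t * g⁻¹) * (t⁻¹ * (g * t * g⁻¹)) = (t⁻¹ * t⁻¹) * (g * (t * t) * g⁻¹) := by
          calc t⁻¹ * (g * t * g⁻¹) * (t⁻¹ * (g * t * g⁻¹)) = t⁻¹ * ((g * t * g⁻¹) * t⁻¹) * (g * t * g⁻¹) := by group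
            _ = t⁻¹ * (t⁻¹ * (g * t * g⁻¹)) * (g * t * g⁻¹) := by rw [hcg.eq]
            _ = _ := by group
        rw [h1, htt, mul_one, mul_inv_cancel, mul_one, ← mul_inv_rev, htt, inv_one]
      by_cases d5 : t⁻¹ * (g * t * g⁻¹) = 1
      · exact (inv_mul_eq_one.1 d5).symm
      · exfalso
        apply hn
        have d6 := c.nq.hyp.eq_zz hK.1 d3 d4 d5
        rw [hK.2] at d6
        intro y hy
        rw [← d6]
        have h11 : Commute t⁻¹ y := Commute.inv_left (show Commute _ _ from hct y hy)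
        have h12 : Commute (g * t * g⁻¹) y := (show Commute _ _ from hcom y hy t htJ).symm
        exact (h11.mul_left h12).eq
    · -- `τ² = t`
      have d1 : (τ⁻¹ * g * τ⁻¹⁻¹) * g⁻¹ = g⁻¹ * (τ⁻¹ * g * τ⁻¹⁻¹) :=
        c.nq.Ov_comm (c.nq.Ov_cj' hK hτi) hK hτK (conj_mem_cj hgK) (inv_mem hgK)
      have d2 : (τ⁻¹ * (g * τ * g⁻¹)) ^ 2 = 1 := by
        have h1 : τ⁻¹ * (g * τ * g⁻¹) = (τ⁻¹ * g * τ⁻¹⁻¹) * g⁻¹ := by group
        rw [h1, (show Commute _ _ from d1).mul_pow, inv_pow, conj_pow, pow_two, hgg]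
        rw [hτi, inv_inv]
        have h2 : z * τ⁻¹ * τ * z⁻¹ = 1 := by group
        exact h2
      rw [hmm, inv_mul_eq_one] at d2
      have h6 : Cen J (τ ^ 2) := hcen _ (pow_mem hτ 2) d2.symm
      rcases cen_two c.h hJ.1 (pow_mem hτ 2) h6 (n := a) (by
        rw [← pow_mul, mul_comm, pow_mul, ← hτa, pow_orderOf_eq_one, one_pow]) with h7 | h7
      · exfalso
        have h11 := Nat.le_of_dvd (by norm_num) (orderOf_dvd_of_pow_eq_one h7)
        rw [hτa] at h11
        have h12 : 2 ^ 2 ≤ 2 ^ a := Nat.pow_le_pow_right (by norm_num) ha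
        omega
      · rw [ht, ← h7]
        exact d2.symm
  refine ⟨htg, ?_⟩
  have hzj : z * j * z⁻¹ = j * t := by
    rw [c.zinv] at hjz
    rw [c.zinv]
    exact hjz
  have hgz : g * z = z * g := c.cen hg
  have htj : ∀ y ∈ J, t * (g * y * g⁻¹) = (g * y * g⁻¹) * t := fun y hy => hcom t htJ y hy
  set w := j * (g * j * g⁻¹) with hw
  have hwz : w * z = z * w := by
    have h1 : z * w * z⁻¹ = w := by
      calc z * w * z⁻¹ = (z * j * z⁻¹) * ((z * g) * j * (z * g)⁻¹) := by rw [hw]; group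
        _ = (z * j * z⁻¹) * ((g * z) * j * (g * z)⁻¹) := by rw [hgz]
        _ = (z * j * z⁻¹) * (g * (z * j * z⁻¹) * g⁻¹) := by group
        _ = (j * t) * (g * (j * t) * g⁻¹) := by rw [hzj]
        _ = j * (t * (g * j * g⁻¹)) * (g * t * g⁻¹) := by group
        _ = j * ((g * j * g⁻¹) * t) * t := by rw [htj j hj, htg]
        _ = j * (g * j * g⁻¹) * (t * t) := by group
        _ = w := by rw [htt, mul_one]
    rw [mul_inv_eq_iff_eq_mul] at h1
    exact h1.symm
  have h1 := c.com_mem' hwz hg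
  have h2 : g * w * g⁻¹ = w * t := by
    calc g * w * g⁻¹ = (g * j * g⁻¹) * ((g * g) * j * (g * g)⁻¹) := by rw [hw]; group
      _ = (g * j * g⁻¹) * (j * t) := by rw [hgg, hzj]
      _ = ((g * j * g⁻¹) * j) * t := by group
      _ = w * t := by rw [← hcom j hj j hj]
  rw [h2, inv_mul_cancel_left] at h1
  exact h1

/-- **MAIN** : `E_z` centralises the members of `Om_c(S)` -/
theorem le_centralizer (hJ : J ∈ OmS Oc S) : ∀ g ∈ RR Om z, Cen J g := by
  by_cases hn : Cen J z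
  · exact c.le_of_comm hJ hn
  exfalso
  -- the elements with square `z` generate the members
  have gen : ∀ K ∈ Ov Om z, ∀ M : Subgroup G, (∀ y ∈ K, y * y = z → y ∈ M) → K ≤ M := by
    intro K hK M hM
    obtain ⟨e, v, n, q⟩ := c.nq.gq hK
    refine q.le_of_four fun y hy hy4 => hM y hy ?_
    have h1 := c.nq.hyp.sq_eq_zz hK.1 hy hy4
    rwa [hK.2] at h1
  have h1 : ∀ K ∈ Ov Om z, ∀ k ∈ K, zz J * k = k * zz J := by
    intro K hK k hk
    have h2 := gen K hK (centralizer {zz J}) (fun y hy hyy => by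
      rw [mem_centralizer_singleton_iff]
      by_cases hyJ : cj y J = J
      · exact c.h.comm_zz hJ.1 (mem_normalizer_iff_cj.2 hyJ)
      · obtain ⟨h2, -⟩ := c.conj_t hJ hn hK hy hyy hyJ
        rw [mul_inv_eq_iff_eq_mul] at h2
        exact h2)
    exact (mem_centralizer_singleton_iff.1 (h2 hk)).symm
  obtain ⟨K, hK⟩ := c.hz
  obtain ⟨g, hg, hgg, hgJ⟩ : ∃ g ∈ K, g * g = z ∧ cj g J ≠ J := by
    by_contra hcon
    push Not at hcon
    refine c.not_norm hJ hn hK fun k hk => ?_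
    rw [← mem_normalizer_iff_cj]
    exact gen K hK _ (fun y hy hyy => mem_normalizer_iff_cj.2 (hcon y hy hyy)) hk
  obtain ⟨-, h3⟩ := c.conj_t hJ hn hK hg hgg hgJ
  rcases c.nq.RR_center h3 h1 with h4 | h4
  · exact c.h.zz_ne hJ.1 h4
  · apply hn
    rw [← h4]
    exact cen_zz c.h hJ.1

end

end CQ

section

variable [Finite G] {Om Oc : Set (Subgroup G)} {z u : G} {S : Subgroup G} {J P K K' : Subgroup G}

theorem CQ.of_sl (nq : NQ Om) (h : Hyp Oc) (hs : SLs Oc) (hz : z ∈ ZZ Om) (hS : IsPGroup 2 S) (hE : RR Om z ≤ S) :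
    CQ Om Oc z S where
  nq := nq
  h := h
  qs J hJ := by
    obtain ⟨F, _, _, h1⟩ := hs J hJ
    exact h1.quasisimple
  oo J hJ := by
    obtain ⟨F, _, _, h1⟩ := hs J hJ
    exact oo_of_sl h1
  f2 J hJ := by
    obtain ⟨F, _, _, h1⟩ := hs J hJ
    exact fTwo_of_sl h hJ h1
  hz := hz
  hS := hS
  hE := hE

/-- `E_z` centralises all `J ∈ Om_c(S)` -/
theorem slq_centralizer (nq : NQ Om) (h : Hyp Oc) (hs : SLs Oc) (hz : z ∈ ZZ Om) (hS : IsPGroup 2 S)
    (hE : RR Om z ≤ S) (hJ : J ∈ OmS Oc S) : ∀ g ∈ RR Om z, ∀ x ∈ J, g * x = x * g :=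
  (CQ.of_sl nq h hs hz hS hE).le_centralizer hJ

/-- commuting members `K`, `K'` over `z ≠ u`: `E_z`, `E_u` commute and lie in a common Sylow 2-subgroup -/
theorem exists_sylow_q (nq : NQ Om) (hK : K ∈ Ov Om z) (hK' : K' ∈ Ov Om u) (hne : z ≠ u)
    (hc : ∀ a ∈ K, ∀ b ∈ K', a * b = b * a) :
    (∀ a ∈ RR Om z, ∀ b ∈ RR Om u, a * b = b * a) ∧
      ∃ S : Sylow 2 G, RR Om z ≤ (S : Subgroup G) ∧ RR Om u ≤ (S : Subgroup G) := by
  haveI : Fact (Nat.Prime 2) := ⟨Nat.prime_two⟩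
  -- members in a common 2-group commute
  have com : ∀ T : Subgroup G, IsPGroup 2 T → ∀ L ∈ Om, ∀ M ∈ Om, L ≤ T → M ≤ T → L ≠ M → ∀ a ∈ L, ∀ b ∈ M,
      a * b = b * a := by
    intro T hT L hL M hM hLT hMT hne a ha b hb
    have oms : ∀ N ∈ Om, N ≤ T → N ∈ OmS Om T := fun N hN hNT => ⟨hN, by
      rw [relIndex_eq_one.2 hNT]; decide⟩
    exact nq.hyp.comm hT (oms L hL hLT) (oms M hM hMT) hne ⟨ha, hLT ha⟩ ⟨hb, hMT hb⟩
  -- a member `M` commuting with `v` commutes with all members over `v ≠ zz M`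
  have key : ∀ {v w : G} {M : Subgroup G}, M ∈ Ov Om w → v ≠ w → (∀ m ∈ M, m * v = v * m) →
      ∀ L ∈ Ov Om v, ∀ a ∈ M, ∀ b ∈ L, a * b = b * a := by
    intro v w M hM hvw hMv L hL a ha b hb
    have h1 : M ≤ normalizer (RR Om v : Set G) := by
      intro m hm
      rw [mem_normalizer_iff]
      intro x
      constructor
      · exact fun hx => nq.RR_cj' hx (hMv m hm)
      · intro hx
        have h2 := nq.RR_cj' hx (hMv _ (inv_mem hm))
        have h3 : m⁻¹ * (m * x * m⁻¹) * m⁻¹⁻¹ = x := by group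
        rwa [h3] at h2
    have h2 : IsPGroup 2 (M ⊔ RR Om v : Subgroup G) := (nq.two M hM.1).to_sup_of_normal_right' nq.RR_two h1
    refine com _ h2 M hM.1 L hL.1 le_sup_left ((WR.le_RR hL).trans le_sup_right) ?_ a ha b hb
    rintro rfl
    exact hvw (hL.2.symm.trans hM.2)
  have h1 : ∀ L ∈ Ov Om z, ∀ a ∈ K', ∀ b ∈ L, a * b = b * a :=
    key hK' hne fun m hm => (hc z (nq.Ov_mem hK) m hm).symm
  have h2 : ∀ L ∈ Ov Om z, ∀ M ∈ Ov Om u, ∀ a ∈ L, ∀ b ∈ M, a * b = b * a := by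
    intro L hL M hM a ha b hb
    exact key hL hne.symm (fun m hm => (h1 L hL u (nq.Ov_mem hK') m hm).symm) M hM a ha b hb
  have h3 : ∀ a ∈ RR Om z, ∀ b ∈ RR Om u, a * b = b * a := fun a ha b hb =>
    SS_comm' (𝒦 := Ov Om z) (𝒦' := Ov Om u) (fun L hL M hM x hx y hy => h2 L hL M hM x hx y hy) ha hb
  refine ⟨h3, ?_⟩
  have h4 : RR Om z ≤ normalizer (RR Om u : Set G) := by
    intro a ha
    rw [mem_normalizer_iff]
    intro b
    constructor
    · intro hb
      rw [h3 a ha b hb, mul_inv_cancel_right]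
      exact hb
    · intro hb
      have h4 := h3 a ha _ hb
      have h5 : a * b * a⁻¹ = b := by
        calc a * b * a⁻¹ = a⁻¹ * (a * (a * b * a⁻¹)) := by group
          _ = a⁻¹ * (a * b * a⁻¹ * a) := by rw [h4]
          _ = b := by group
      rwa [h5] at hb
  have h5 : IsPGroup 2 (RR Om z ⊔ RR Om u : Subgroup G) := nq.RR_two.to_sup_of_normal_right' nq.RR_two h4
  obtain ⟨S, hS⟩ := h5.exists_le_sylow
  exact ⟨S, le_sup_left.trans hS, le_sup_right.trans hS⟩

end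

end Cfsg.Agent.Cit.Nil.LO
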