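import Cfsg.Agent.Cit.Nil.Unbal.Held
import Cfsg.Agent.Cit.Nil.LO.CentQ
import Cfsg.Agent.Cit.OneQuat

/-!
# S1309, (n1)(E): the Held group, members generalised quaternion of any order

* `he_false_q` : `F*(G) ≃ He` has no non-empty family with `NQ` (`Hyp Om`, members 2-groups);
* `he_false_nil` : no family with `Hyp` with a 2-nilpotent member.

As in `Unbal/Held.lean`: the product `E_z` of the members over `z` has order at least `2 * 4 ^ r`, `E_z ∩ F*` is normal
in `C(z)`; so `r ≤ 3` and the perfect group `P = C_{F*}(z)` normalises `K`; `P` centralises an element of order 4 of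
`K ∩ F*` (`|K| ≥ 16`: an element of the cyclic subgroup of index 2).
-/

set_option autoImplicit false
set_option linter.style.haveILetI false
set_option linter.unusedSectionVars false
set_option maxHeartbeats 400000

namespace Cfsg.Agent.Cit.Nil.LO.HeQ

open Subgroup Cfsg Cit Nil RG QuaternionGroup
open Cfsg.Agent.Cit.Nil.Unbal.Held (fact index_dvd core_bot SS_insert solvable_mulAut)
open scoped commutatorElement

section count

variable {G : Type*} [Group G] [Finite G] {Om : Set (Subgroup G)} {z : G} {K : Subgroup G}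

theorem card_ge (h : NQ Om) (hK : K ∈ Ov Om z) : 8 ≤ Nat.card K := by
  obtain ⟨c, v, n, g⟩ := h.gq hK
  rw [g.card, pow_add]
  have : 1 ≤ 2 ^ n := Nat.one_le_two_pow
  omega

/-- the order of the group generated by members over `z` -/
theorem card_SS (h : NQ Om) : ∀ (n : ℕ) (𝒦 : Set (Subgroup G)), 𝒦.ncard = n + 1 → 𝒦 ⊆ Ov Om z →
    2 * 4 ^ (n + 1) ≤ Nat.card (SS 𝒦) := by
  intro n
  induction n with
  | zero =>
    intro 𝒦 hn h𝒦
    obtain ⟨K, rfl⟩ := Set.ncard_eq_one.1 hn
    have h1 : SS {K} = K := by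
      apply le_antisymm
      · refine SS_le ?_
        rintro L rfl
        exact le_rfl
      · exact le_SS rfl
    rw [h1]
    have := card_ge h (h𝒦 rfl)
    omega
  | succ n ih =>
    intro 𝒦 hn h𝒦
    obtain ⟨K, hK⟩ : 𝒦.Nonempty := by
      rw [Set.nonempty_iff_ne_empty]; rintro rfl; rw [Set.ncard_empty] at hn; omega
    have h1 := Set.ncard_sdiff_singleton_add_one hK (Set.toFinite 𝒦)
    have h2 : (𝒦 \ {K}).ncard = n + 1 := by omega
    have h3 := ih (𝒦 \ {K}) h2 (Set.sdiff_subset.trans h𝒦)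
    have h4 : SS 𝒦 = K ⊔ SS (𝒦 \ {K}) := by
      rw [← SS_insert, Set.insert_sdiff_singleton, Set.insert_eq_of_mem hK]
    have hcom' : ∀ w ∈ SS (𝒦 \ {K}), ∀ l ∈ K, w * l = l * w := by
      intro w hw l hl
      refine (SS_comm (x := l) (fun L hL k hk => ?_) hw).symm
      exact h.Ov_comm (h𝒦 hK) (h𝒦 hL.1) (fun h1 => hL.2 h1.symm) hl hk
    have hcom : K ≤ centralizer (SS (𝒦 \ {K}) : Set G) := by
      intro k hk
      rw [mem_centralizer_iff]
      intro w hw
      exact hcom' w hw k hk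
    have h5 := Omega.NoFF.ThmJFam.card_sup_inf hcom
    have hz : z ∈ ZZ Om := ⟨K, h𝒦 hK⟩
    have h6 : K ⊓ SS (𝒦 \ {K}) ≤ zpowers z := by
      rintro x ⟨hx, hx'⟩
      rcases h.Ov_central (h𝒦 hK) hx (fun k hk => hcom' x hx' k hk) with rfl | rfl
      · exact one_mem _
      · exact mem_zpowers _
    have h7 : Nat.card (zpowers z) = 2 := by
      rw [Nat.card_zpowers]
      exact orderOf_eq_prime (by rw [pow_two]; exact h.zz_sq hz) (h.zz_ne hz)
    have h8 := card_le_of_le h6
    rw [h7] at h8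
    have h9 := card_ge h (h𝒦 hK)
    rw [h4]
    have h10 : (4 : ℕ) ^ (n + 1 + 1) = 4 ^ (n + 1) * 4 := pow_succ 4 (n + 1)
    have h11 : 8 * (2 * 4 ^ (n + 1)) ≤ Nat.card K * Nat.card (SS (𝒦 \ {K})) := Nat.mul_le_mul h9 h3
    have h12 : Nat.card (K ⊔ SS (𝒦 \ {K}) : Subgroup G) * Nat.card (K ⊓ SS (𝒦 \ {K}) : Subgroup G) ≤
        Nat.card (K ⊔ SS (𝒦 \ {K}) : Subgroup G) * 2 := Nat.mul_le_mul_left _ h8
    omega

/-- a member of order 8 -/
theorem q8_of (h : NQ Om) (hK : K ∈ Om) (h8 : Nat.card K = 8) : Nonempty (K ≃* QuaternionGroup 2) := by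
  haveI : Fact (Nat.Prime 2) := ⟨Nat.prime_two⟩
  obtain ⟨S, n, ⟨e⟩⟩ := h.hyp.quat K hK
  have h3 : (S : Subgroup K) = ⊤ := by
    have h4 : IsPGroup 2 (⊤ : Subgroup K) := (h.two K hK).to_subgroup ⊤
    exact S.is_maximal' h4 le_top |>.symm
  have h5 : Nat.card (S : Subgroup K) = 8 := by rw [h3, card_top, h8]
  have h6 : n = 0 := by
    rw [Nat.card_congr e.toEquiv, Nat.card_eq_fintype_card, QuaternionGroup.card, pow_succ] at h5
    by_contra hn
    have h7 : 2 ^ 1 ≤ 2 ^ n := Nat.pow_le_pow_right (by norm_num) (by omega)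
    omega
  subst h6
  exact ⟨(((MulEquiv.subgroupCongr h3).trans topEquiv).symm.trans e)⟩

/-- **a perfect group centralising `z` centralises an element of order 4 of `K ∩ X`** (at most 4 members) -/
theorem comm_of_perfect (h : NQ Om) {P X : Subgroup G} (hP : ⁅P, P⁆ = P) (hPz : ∀ p ∈ P, p * z = z * p)
    (hK : K ∈ Ov Om z) (hr : (Ov Om z).ncard ≤ 4) (hX : ∀ g k : G, g ∈ X ∨ k ∈ X ∨ g * k ∈ X) :
    ∃ y ∈ K, y ∈ X ∧ y * y = z ∧ ∀ p ∈ P, p * y = y * p := by
  have hXs : ∀ g : G, g * g ∈ X := by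
    intro g
    rcases hX g g with h1 | h1 | h1
    · exact mul_mem h1 h1
    · exact mul_mem h1 h1
    · exact h1
  have hn : ∀ p ∈ P, cj p K = K := by
    let f : P →* Equiv.Perm (Ov Om z) :=
      { toFun := fun p =>
          { toFun := fun L => ⟨cj (p : G) L, h.Ov_cj' L.2 (hPz p p.2)⟩
            invFun := fun L => ⟨cj (p : G)⁻¹ L, h.Ov_cj' L.2 (hPz _ (inv_mem p.2))⟩
            left_inv := fun L => Subtype.ext (by
              change cj (p : G)⁻¹ (cj (p : G) L) = L
              rw [← cj_mul, inv_mul_cancel, cj_one])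
            right_inv := fun L => Subtype.ext (by
              change cj (p : G) (cj (p : G)⁻¹ L) = L
              rw [← cj_mul, mul_inv_cancel, cj_one]) }
        map_one' := by
          ext L
          change _ ∈ cj (1 : G) L ↔ _
          rw [cj_one]; rfl
        map_mul' := fun p q => by
          ext L
          change _ ∈ cj ((p : G) * q) L ↔ _ ∈ cj (p : G) (cj (q : G) L)
          rw [cj_mul] }
    intro p hp
    have h1 := Schreier.Tools.perm_eq_one hP (by rwa [Nat.card_coe_set_eq]) f ⟨p, hp⟩ ⟨K, hK⟩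
    exact congrArg Subtype.val h1
  obtain ⟨c, v, n, g⟩ := h.gq hK
  rcases Nat.eq_zero_or_pos n with rfl | hn0
  · -- order 8
    have h8 : Nat.card K = 8 := by rw [g.card]; norm_num
    obtain ⟨a, ha, b, hb, haa, hbb, hba⟩ := h.pair hK
    have hab : a * b * (a * b) = z := by
      calc a * b * (a * b) = a * (b * a) * b := by group
        _ = a * (z * (a * b)) * b := by rw [hba]
        _ = a * z * a * (b * b) := by group
        _ = z * a * a * (b * b) := by rw [h.Ov_cen hK ha]
        _ = z * (a * a) * (b * b) := by group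
        _ = z := by rw [haa, hbb, h.zz_sq ⟨K, hK⟩, one_mul]
    obtain ⟨y, hy, hyX, hyy⟩ : ∃ y ∈ K, y ∈ X ∧ y * y = z := by
      rcases hX a b with h4 | h4 | h4
      · exact ⟨a, ha, h4, haa⟩
      · exact ⟨b, hb, h4, hbb⟩
      · exact ⟨a * b, mul_mem ha hb, h4, hab⟩
    have hPK : P ≤ normalizer (K : Set G) := fun p hp => mem_normalizer_iff_cj.2 (hn p hp)
    let ψ : P →* MulAut K := (normalizerMonoidHom K).comp (inclusion hPK)
    haveI := solvable_mulAut (q8_of h hK.1 h8).some
    refine ⟨y, hy, hyX, hyy, fun p hp => ?_⟩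
    have h1 := Schreier.Tools.hom_eq_one hP ψ ⟨p, hp⟩
    have h2 : p * y * p⁻¹ = y := congrArg (fun α : MulAut K => ((α ⟨y, hy⟩ : K) : G)) h1
    rw [mul_inv_eq_iff_eq_mul] at h2
    exact h2
  · -- order at least 16
    obtain ⟨m, rfl⟩ : ∃ m, n = m + 1 := ⟨n - 1, by omega⟩
    have hcyc : ∀ p ∈ P, ∃ i : ℕ, p * c * p⁻¹ = c ^ i := by
      intro p hp
      have h1 : p * c * p⁻¹ ∈ K := by
        have h2 : p * c * p⁻¹ ∈ cj p K := conj_mem_cj g.c_mem
        rwa [hn p hp] at h2
      rcases g.cov _ h1 with h2 | ⟨i, h2⟩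
      · exact h2
      · exfalso
        have h3 : orderOf (p * c * p⁻¹) = orderOf c := orderOf_conj p c
        rw [h2, g.orderOf_out, g.ord] at h3
        have h4 : (2 : ℕ) ^ 3 ≤ 2 ^ (m + 1 + 2) := Nat.pow_le_pow_right (by norm_num) (by omega)
        omega
    have hcom : P ≤ centralizer {c} := by
      rw [← hP, commutator_le]
      intro p hp q hq
      obtain ⟨i, hi⟩ := hcyc p hp
      obtain ⟨j, hj⟩ := hcyc q hq
      rw [mem_centralizer_singleton_iff]
      have e1 : (p * q) * c * (p * q)⁻¹ = c ^ (i * j) := by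
        calc (p * q) * c * (p * q)⁻¹ = p * (q * c * q⁻¹) * p⁻¹ := by group
          _ = p * c ^ j * p⁻¹ := by rw [hj]
          _ = (p * c * p⁻¹) ^ j := by rw [conj_pow]
          _ = c ^ (i * j) := by rw [hi, ← pow_mul]
      have e2 : (q * p) * c * (q * p)⁻¹ = c ^ (i * j) := by
        calc (q * p) * c * (q * p)⁻¹ = q * (p * c * p⁻¹) * q⁻¹ := by group
          _ = q * c ^ i * q⁻¹ := by rw [hi]
          _ = (q * c * q⁻¹) ^ i := by rw [conj_pow]
          _ = c ^ (i * j) := by rw [hj, ← pow_mul, mul_comm]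
      rw [commutatorElement_def]
      have e3 : p * q * c * (p * q)⁻¹ = q * p * c * (q * p)⁻¹ := by rw [e1, e2]
      calc p * q * p⁻¹ * q⁻¹ * c = (p * q) * ((q * p)⁻¹ * c * (q * p)) * (q * p)⁻¹ := by group
        _ = (p * q) * ((p * q)⁻¹ * ((p * q) * ((q * p)⁻¹ * c * (q * p)) * (p * q)⁻¹) * (p * q)) * (q * p)⁻¹ := by group
        _ = c * (p * q * p⁻¹ * q⁻¹) := by
          have e4 : (q * p)⁻¹ * c * (q * p) = (p * q)⁻¹ * c * (p * q) := by
            -- both sides are the powers `c ^ k` with `p q`-image `c`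
            obtain ⟨i', hi'⟩ := hcyc p⁻¹ (inv_mem hp)
            obtain ⟨j', hj'⟩ := hcyc q⁻¹ (inv_mem hq)
            rw [inv_inv] at hi' hj'
            have f1 : (q * p)⁻¹ * c * (q * p) = c ^ (i' * j') := by
              calc (q * p)⁻¹ * c * (q * p) = p⁻¹ * (q⁻¹ * c * q) * p := by group
                _ = p⁻¹ * c ^ j' * p⁻¹⁻¹ := by rw [hj', inv_inv]
                _ = (p⁻¹ * c * p⁻¹⁻¹) ^ j' := by rw [conj_pow]
                _ = c ^ (i' * j') := by rw [inv_inv, hi', ← pow_mul]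
            have f2 : (p * q)⁻¹ * c * (p * q) = c ^ (i' * j') := by
              calc (p * q)⁻¹ * c * (p * q) = q⁻¹ * (p⁻¹ * c * p) * q := by group
                _ = q⁻¹ * c ^ i' * q⁻¹⁻¹ := by rw [hi', inv_inv]
                _ = (q⁻¹ * c * q⁻¹⁻¹) ^ i' := by rw [conj_pow]
                _ = c ^ (i' * j') := by rw [inv_inv, hj', ← pow_mul, mul_comm]
            rw [f1, f2]
          rw [e4]
          group
    refine ⟨c ^ 2 ^ (m + 1), pow_mem g.c_mem _, ?_, ?_, fun p hp => ?_⟩
    · have h1 : c ^ 2 ^ (m + 1) = (c * c) ^ 2 ^ m := by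
        rw [← pow_two, ← pow_mul, ← pow_succ']
      rw [h1]
      exact pow_mem (hXs c) _
    · rw [← pow_two, ← pow_mul, ← pow_succ]
      exact g.z_eq
    · have h1 := mem_centralizer_singleton_iff.1 (hcom hp)
      exact (show Commute p c from h1).pow_right _

end count

/-! ### The conclusion -/

section main

variable {G : Type*} [Group G] [Finite G]

/-- **the Held group**: no family of generalised quaternion groups satisfies `Hyp` -/
theorem he_false_q {Om : Set (Subgroup G)} (w : NQ Om) {K : Subgroup G}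
    (hK : K ∈ Om) (fs : AssemblyNil.FS G) (hHe : Cfsg.Spor.IsoHe ↥(generalizedFittingSubgroup G)) : False := by
  obtain ⟨X, hX⟩ : ∃ X, X = generalizedFittingSubgroup G := ⟨_, rfl⟩
  have hXn : X.Normal := by rw [hX]; exact Lib.GenFitting.genFitting_normal (G := G)
  have hcen : centralizer (X : Set G) = ⊥ := by rw [hX]; exact End.centralizer_fstar fs.simple fs.na
  rw [← hX] at hHe
  have hi := index_dvd hcen hHe
  have hcases : ∀ g k : G, g ∈ X ∨ k ∈ X ∨ g * k ∈ X := by
    intro g k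
    rcases (Nat.dvd_prime Nat.prime_two).1 hi with h1 | h1
    · left; rw [Subgroup.index_eq_one.1 h1]; trivial
    · have h2 := Subgroup.mul_mem_iff_of_index_two h1 (a := g) (b := k)
      by_cases h3 : g ∈ X
      · exact Or.inl h3
      · by_cases h4 : k ∈ X
        · exact Or.inr (Or.inl h4)
        · exact Or.inr (Or.inr (h2.2 ⟨fun h5 => absurd h5 h3, fun h5 => absurd h5 h4⟩))
  obtain ⟨z, hz⟩ : ∃ z, z = zz K := ⟨_, rfl⟩
  have hKz : K ∈ Ov Om z := ⟨hK, hz.symm⟩
  have hzz : z * z = 1 := w.zz_sq ⟨K, hKz⟩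
  have hz1 : z ≠ 1 := w.zz_ne ⟨K, hKz⟩
  have hXs : ∀ g : G, g * g ∈ X := by
    intro g
    rcases hcases g g with h1 | h1 | h1
    · exact mul_mem h1 h1
    · exact mul_mem h1 h1
    · exact h1
  obtain ⟨y, hy, hyX, hyy⟩ : ∃ y ∈ K, y ∈ X ∧ y * y = z := by
    obtain ⟨a, ha, b, hb, haa, hbb, hba⟩ := w.pair hKz
    have hab : a * b * (a * b) = z := by
      calc a * b * (a * b) = a * (b * a) * b := by group
        _ = a * (z * (a * b)) * b := by rw [hba]
        _ = a * z * a * (b * b) := by group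
        _ = z * a * a * (b * b) := by rw [w.Ov_cen hKz ha]
        _ = z * (a * a) * (b * b) := by group
        _ = z := by rw [haa, hbb, hzz, one_mul]
    rcases hcases a b with h4 | h4 | h4
    · exact ⟨a, ha, h4, haa⟩
    · exact ⟨b, hb, h4, hbb⟩
    · exact ⟨a * b, mul_mem ha hb, h4, hab⟩
  have hzX : z ∈ X := by rw [← hyy]; exact mul_mem hyX hyX
  -- the group generated by the members over `z`
  obtain ⟨n, hn⟩ : ∃ n, (Ov Om z).ncard = n + 1 := by
    refine ⟨(Ov Om z).ncard - 1, ?_⟩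
    have : 0 < (Ov Om z).ncard := (Set.ncard_pos (Set.toFinite _)).2 ⟨K, hKz⟩
    omega
  have hcard := card_SS w n (Ov Om z) hn le_rfl
  have h2E : IsPGroup 2 (RR Om z) := w.RR_two
  rcases fact hHe (t := ⟨z, hzX⟩) (Subtype.ext hzz) (fun h1 => hz1 (congrArg Subtype.val h1))
    ((RR Om z).subgroupOf X) (by
      intro q hq
      rw [mem_centralizer_singleton_iff]
      exact Subtype.ext (w.RR_cen hq).symm)
    (h2E.comap_subtype) (by
      intro c hc q hq
      exact w.RR_cj' hq (congrArg Subtype.val hc)) with h1 | ⟨h1, h2, h3⟩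
  · have h2 := h1 ⟨y, hyX⟩ (WR.le_RR hKz hy)
    apply hz1
    rw [← hyy]
    exact congrArg Subtype.val h2
  · -- at most 4 members
    have h4 : Nat.card (RR Om z) ∣ 256 := by
      have h5 : X.relIndex (RR Om z) ∣ 2 := (relIndex_dvd_index_of_normal _ _).trans hi
      have h6 : Nat.card ((RR Om z).subgroupOf X) = Nat.card (X.subgroupOf (RR Om z)) := by
        rw [← card_map_of_injective X.subtype_injective, ← card_map_of_injective (RR Om z).subtype_injective,
          subgroupOf_map_subtype, subgroupOf_map_subtype, inf_comm]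
      have h7 := (X.subgroupOf (RR Om z)).card_mul_index
      rw [← h7, ← h6]
      exact mul_dvd_mul h1 h5
    have hr : (Ov Om z).ncard ≤ 4 := by
      by_contra h5
      have h6 : Nat.card (SS (Ov Om z)) ≤ 256 := Nat.le_of_dvd (by norm_num) h4
      obtain ⟨m, rfl⟩ : ∃ m, n = m + 4 := ⟨n - 4, by omega⟩
      have h7 : 4 ^ 5 ≤ 4 ^ (m + 4 + 1) := Nat.pow_le_pow_right (by norm_num) (by omega)
      omega
    obtain ⟨x, hx, hxX, hxx, h5⟩ := comm_of_perfect w (P := (centralizer {(⟨z, hzX⟩ : X)}).map X.subtype) (X := X) (by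
      rw [← map_commutator, h2]) (by
      rintro _ ⟨p, hp, rfl⟩
      exact congrArg Subtype.val (mem_centralizer_singleton_iff.1 hp)) hKz hr hcases
    rcases h3 ⟨x, hxX⟩ (Subtype.ext (by
        change x * z = z * x
        rw [← hxx, mul_assoc])) (fun c hc => Subtype.ext (h5 c ⟨c, mem_centralizer_singleton_iff.2 hc, rfl⟩).symm)
        with h6 | h6
    · have h7 : x = 1 := congrArg Subtype.val h6
      apply hz1
      rw [← hxx, h7, one_mul]
    · have h7 : x = z := congrArg Subtype.val h6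
      apply hz1
      have h8 := hxx
      rw [h7, hzz] at h8
      exact h8.symm

/-- 2-nilpotent members -/
theorem nq_of_he {Om : Set (Subgroup G)} (hyp : Hyp Om) (nil : NilOm Om) (fs : AssemblyNil.FS G)
    (hHe : Cfsg.Spor.IsoHe ↥(generalizedFittingSubgroup G)) : NQ Om := by
  have hzX : ∀ L ∈ Om, zz L ∈ generalizedFittingSubgroup G := by
    obtain ⟨X, hX⟩ : ∃ X, X = generalizedFittingSubgroup G := ⟨_, rfl⟩
    have hXn : X.Normal := by rw [hX]; exact Lib.GenFitting.genFitting_normal (G := G)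
    have hcen : centralizer (X : Set G) = ⊥ := by rw [hX]; exact End.centralizer_fstar fs.simple fs.na
    rw [← hX]
    rw [← hX] at hHe
    have hi := index_dvd hcen hHe
    intro L hL
    obtain ⟨Q, hQ⟩ := Hyp.exists_syl L
    obtain ⟨c, v, n, hq⟩ := hyp.exists_gq hL hQ
    have h1 : v * v = zz L := hq.v_sq
    rw [← h1, ← pow_two]
    rcases (Nat.dvd_prime Nat.prime_two).1 hi with h5 | h5
    · rw [Subgroup.index_eq_one.1 h5]; trivial
    · exact Subgroup.sq_mem_of_index_two h5 v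
  refine ⟨hyp, fun L hL => ?_⟩
  have hO : OO L = ⊥ := ROne.OO_eq_bot hyp hL
    (core_bot fs hHe (hyp.zz_mul hL) (hyp.zz_ne hL) (hzX L hL))
  obtain ⟨Q, hQ⟩ := Hyp.exists_syl L
  have h1 := nil L hL Q hQ
  rw [hO, bot_sup_eq] at h1
  exact hQ.2.1.to_le h1

/-- **the Held group**: no family with `Hyp` of 2-nilpotent groups -/
theorem he_false_nil {Om : Set (Subgroup G)} (hyp : Hyp Om) (nil : NilOm Om) {K : Subgroup G} (hK : K ∈ Om)
    (fs : AssemblyNil.FS G) (hHe : Cfsg.Spor.IsoHe ↥(generalizedFittingSubgroup G)) : False :=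
  he_false_q (nq_of_he hyp nil fs hHe) hK fs hHe

end main

end Cfsg.Agent.Cit.Nil.LO.HeQ
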