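import Cfsg.Agent.Cit.Nil.Unbal.LThree
import Cfsg.Agent.Cit.NilComp

/-!
# S1309: no members in groups `G` with `F*(G) = L₃(4)` (members 2-groups of any order, no (C3))

`LF X` : the properties of `L₃(4)` which are used: `Unbal.Heis`, one class of involutions, squares of elements of `C(z)` are
central in `C(z)`, a noncentral involution of `C(z)` whose centraliser in `C(z)` is elementary abelian.

* `WF.case_one` : no element of order four of a member is in `F`;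
* `WF.false_of` : no member at all;
* `lf_psl` : `PSL(3, F)`, `|F| = 4`, has `LF`;
* `lthree_false` : the theorem.
-/

set_option autoImplicit false
set_option linter.style.haveILetI false
set_option linter.unusedSectionVars false

namespace Cfsg.Agent.Cit.Nil.LO.LThreeQ

open Subgroup Cfsg Cit Nil Unbal

/-- see the head of the file -/
structure LF (X : Type*) [Group X] : Prop extends Heis X where
  conj : ∀ z w : X, z ≠ 1 → z * z = 1 → w ≠ 1 → w * w = 1 → ∃ g, g * z * g⁻¹ = w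
  sq : ∀ z : X, z ≠ 1 → z * z = 1 → ∀ a, a * z = z * a → ∀ c, c * z = z * c → a * a * c = c * (a * a)
  nc : ∀ z : X, z ≠ 1 → z * z = 1 → ∃ a, a ≠ 1 ∧ a * a = 1 ∧ a * z = z * a ∧
    (∀ b, b * z = z * b → b * a = a * b → b * b = 1) ∧ ∃ t, t * a = a * t ∧ t * z ≠ z * t

variable {G : Type*} [Group G]

/-- the world -/
structure WF (Om : Set (Subgroup G)) (F : Subgroup G) : Prop where
  hyp : Hyp Om
  two : ∀ K ∈ Om, IsPGroup 2 K
  nor : F.Normal
  lf : LF F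
  q4 : ∀ q ∈ commutator G, q ^ 4 = 1 → q ∈ F

namespace WF

variable [Finite G] {Om : Set (Subgroup G)} {F K L : Subgroup G} {a b c d g i j k l s t u x y z : G}

section

variable (w : WF Om F)

include w

theorem cen (hz : z ∈ F) (hz1 : z ≠ 1) (hz2 : z * z = 1) (ha : a ∈ F) (hb : b ∈ F) (haz : a * z = z * a)
    (hbz : b * z = z * b) : (∀ c ∈ F, c * z = z * c → a * b * a⁻¹ * b⁻¹ * c = c * (a * b * a⁻¹ * b⁻¹)) ∧
      a * b * a⁻¹ * b⁻¹ * (a * b * a⁻¹ * b⁻¹) = 1 := by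
  have h1 := w.lf.cen ⟨z, hz⟩ (fun h => hz1 (congrArg Subtype.val h)) (Subtype.ext hz2) ⟨a, ha⟩ ⟨b, hb⟩
    (Subtype.ext haz) (Subtype.ext hbz)
  exact ⟨fun c hc hcz => congrArg Subtype.val (h1.1 ⟨c, hc⟩ (Subtype.ext hcz)), congrArg Subtype.val h1.2⟩

theorem mov (hi : i ∈ F) (h1 : i * i ≠ 1) (h2 : i * i * (i * i) = 1) :
    ∃ t ∈ F, t * (i * i) = i * i * t ∧ t * i * t⁻¹ * i⁻¹ ≠ 1 ∧ t * i * t⁻¹ * i⁻¹ ≠ i * i := by
  obtain ⟨t, e1, e2, e3⟩ := w.lf.mov ⟨i, hi⟩ (fun h => h1 (congrArg Subtype.val h)) (Subtype.ext h2)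
  exact ⟨t, t.2, congrArg Subtype.val e1, fun h => e2 (Subtype.ext h), fun h => e3 (Subtype.ext h)⟩

theorem exists_conj (hz : z ∈ F) (hz1 : z ≠ 1) (hz2 : z * z = 1) (ha : a ∈ F) (ha1 : a ≠ 1) (ha2 : a * a = 1) :
    ∃ g ∈ F, g * z * g⁻¹ = a := by
  obtain ⟨g, hg⟩ := w.lf.conj ⟨z, hz⟩ ⟨a, ha⟩ (fun h => hz1 (congrArg Subtype.val h)) (Subtype.ext hz2)
    (fun h => ha1 (congrArg Subtype.val h)) (Subtype.ext ha2)
  exact ⟨g, g.2, congrArg Subtype.val hg⟩

theorem sq (hz : z ∈ F) (hz1 : z ≠ 1) (hz2 : z * z = 1) (ha : a ∈ F) (haz : a * z = z * a) (hc : c ∈ F)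
    (hcz : c * z = z * c) : a * a * c = c * (a * a) :=
  congrArg Subtype.val (w.lf.sq ⟨z, hz⟩ (fun h => hz1 (congrArg Subtype.val h)) (Subtype.ext hz2) ⟨a, ha⟩
    (Subtype.ext haz) ⟨c, hc⟩ (Subtype.ext hcz))

theorem nc (hz : z ∈ F) (hz1 : z ≠ 1) (hz2 : z * z = 1) : ∃ a ∈ F, a ≠ 1 ∧ a * a = 1 ∧ a * z = z * a ∧
    (∀ b ∈ F, b * z = z * b → b * a = a * b → b * b = 1) ∧ ∃ t ∈ F, t * a = a * t ∧ t * z ≠ z * t := by
  obtain ⟨a, e1, e2, e3, e4, t, e5, e6⟩ := w.lf.nc ⟨z, hz⟩ (fun h => hz1 (congrArg Subtype.val h)) (Subtype.ext hz2)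
  exact ⟨a, a.2, fun h => e1 (Subtype.ext h), congrArg Subtype.val e2, congrArg Subtype.val e3,
    fun b hb h1 h2 => congrArg Subtype.val (e4 ⟨b, hb⟩ (Subtype.ext h1) (Subtype.ext h2)),
    t, t.2, congrArg Subtype.val e5, fun h => e6 (Subtype.ext h)⟩

/-! ### The members -/

/-- different members over the same involution commute -/
theorem comm (hK : K ∈ Om) (hL : L ∈ Om) (hz : zz K = zz L) (hne : K ≠ L) : ∀ a ∈ K, ∀ b ∈ L, a * b = b * a := by
  intro a ha b hb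
  rcases w.hyp.h2 K hK L hL hz with h1 | h1
  · exact absurd h1 hne
  · have h2 : a * b * a⁻¹ * b⁻¹ ∈ OO K := (h1 (commutator_mem_commutator ha hb)).1
    rwa [OO_eq_bot_of_two (w.two K hK), mem_bot, mul_inv_eq_one, mul_inv_eq_iff_eq_mul] at h2

theorem sq_eq (hK : K ∈ Om) (hy : y ∈ K) (hy4 : orderOf y = 4) : y * y = zz K := by
  have h1 : y ^ 4 = 1 := by rw [← hy4]; exact pow_orderOf_eq_one y
  refine w.hyp.eq_zz hK (K.mul_mem hy hy) ?_ ?_
  · rw [← h1]; simp only [pow_succ, pow_zero, one_mul, mul_assoc]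
  · intro h2
    have h3 := orderOf_dvd_of_pow_eq_one (show y ^ 2 = 1 by rw [pow_two]; exact h2)
    rw [hy4] at h3
    omega

theorem norm (hK : K ∈ Om) (hL : L ∈ Om) (hy : y ∈ K) (hy4 : orderOf y = 4) (hc : y * zz L = zz L * y) :
    y ∈ normalizer (L : Set G) :=
  w.hyp.norm_four (w.two K hK) hK hL hy hy (by omega) hc

/-- `K` has elements of order four, and every such element is inverted by another one -/
theorem exists_four (hK : K ∈ Om) : ∃ y ∈ K, orderOf y = 4 := by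
  obtain ⟨c, v, n, hgq⟩ := w.hyp.exists_gq hK (syl_self (w.two K hK))
  exact ⟨v, hgq.v_mem, hgq.orderOf_v⟩

theorem exists_inv (hK : K ∈ Om) (hy : y ∈ K) (hy4 : orderOf y = 4) :
    ∃ x ∈ K, orderOf x = 4 ∧ x * y * x⁻¹ = y⁻¹ := by
  obtain ⟨c, v, n, hgq⟩ := w.hyp.exists_gq hK (syl_self (w.two K hK))
  exact hgq.exists_inverting hy hy4

theorem inv_eq (hK : K ∈ Om) (hy : y ∈ K) (hy4 : orderOf y = 4) : y⁻¹ = zz K * y := by
  rw [inv_eq_iff_mul_eq_one, ← w.sq_eq hK hy hy4]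
  have h1 : y ^ 4 = 1 := by rw [← hy4]; exact pow_orderOf_eq_one y
  rw [← h1]; simp only [pow_succ, pow_zero, one_mul, mul_assoc]

theorem zF (K : Subgroup G) (hK : K ∈ Om) : zz K ∈ F := by
  obtain ⟨y, hy, hy4⟩ := w.exists_four hK
  obtain ⟨x, hx, hx4, hxy⟩ := w.exists_inv hK hy hy4
  have h1 : x * y * x⁻¹ * y⁻¹ = zz K := by
    rw [hxy, ← mul_inv_rev, w.sq_eq hK hy hy4, w.hyp.zz_inv hK]
  refine w.q4 _ ?_ ?_
  · rw [← h1]
    exact commutator_mem_commutator (mem_top x) (mem_top y)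
  · have h2 := w.hyp.zz_mul hK
    calc zz K ^ 4 = (zz K * zz K) * (zz K * zz K) := by simp only [pow_succ, pow_zero, one_mul, mul_assoc]
      _ = 1 := by rw [h2, one_mul]

theorem z_comm (hK : K ∈ Om) (hy : y ∈ K) : y * zz K = zz K * y :=
  mem_centralizer_singleton_iff.1 (w.hyp.le_centralizer hK hy)

/-- **no element of order four of a member is in `F`** -/
theorem case_one (hK : K ∈ Om) (hy : y ∈ K) (hyF : y ∈ F) (hy4 : orderOf y = 4) : False := by
  obtain ⟨z, hz⟩ : ∃ z, z = zz K := ⟨_, rfl⟩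
  have hyy : y * y = z := by rw [hz]; exact w.sq_eq hK hy hy4
  have hzz : z * z = 1 := by rw [hz]; exact w.hyp.zz_mul hK
  have hz1 : z ≠ 1 := by rw [hz]; exact w.hyp.zz_ne hK
  have hzF : z ∈ F := by rw [hz]; exact w.zF K hK
  have hyz : y * z = z * y := by rw [hz]; exact w.z_comm hK hy
  have hyi : y⁻¹ = z * y := by rw [hz]; exact w.inv_eq hK hy hy4
  obtain ⟨t, htF, htz, ht1, ht2⟩ := w.mov hyF (by rw [hyy]; exact hz1) (by rw [hyy]; exact hzz)
  rw [hyy] at htz ht2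
  obtain ⟨c, hc⟩ : ∃ c, c = t * y * t⁻¹ * y⁻¹ := ⟨_, rfl⟩
  rw [← hc] at ht1 ht2
  have hcy : t * y * t⁻¹ = c * y := by rw [hc]; group
  obtain ⟨hcc, hc2⟩ := w.cen hzF hz1 hzz htF hyF htz hyz
  rw [← hc] at hcc hc2
  -- `K^t ≠ K`
  have hKt : cj t K ∈ Om := w.hyp.conj K hK t
  have hzt : zz K = zz (cj t K) := by
    rw [w.hyp.zz_cj hK, ← hz, htz, mul_inv_cancel_right]
  have hne : K ≠ cj t K := by
    intro h1
    have h2 : c ∈ K := by
      rw [hc]
      refine K.mul_mem ?_ (K.inv_mem hy)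
      rw [h1]
      exact conj_mem_cj hy
    exact ht2 ((w.hyp.eq_zz hK h2 hc2 ht1).trans hz.symm)
  have hcomm := w.comm hK hKt hzt hne
  -- elements inverting `y`
  have hinv : ∀ k ∈ K, k * y * k⁻¹ = y⁻¹ → k * c * k⁻¹ = c * z := by
    intro k hk hky
    have h1 : k * (c * y) = c * y * k := by
      rw [← hcy]
      exact hcomm k hk _ (conj_mem_cj hy)
    have h2 : k * c * k⁻¹ * (k * y * k⁻¹) = c * y := by
      calc k * c * k⁻¹ * (k * y * k⁻¹) = k * (c * y) * k⁻¹ := by group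
        _ = c * y := by rw [h1, mul_inv_cancel_right]
    rw [hky] at h2
    calc k * c * k⁻¹ = k * c * k⁻¹ * y⁻¹ * y := by group
      _ = c * y * y := by rw [h2]
      _ = c * z := by rw [mul_assoc, hyy]
  obtain ⟨x, hx, hx4, hxy⟩ := w.exists_inv hK hy hy4
  have hxx : x * x = z := by rw [hz]; exact w.sq_eq hK hx hx4
  have hxz : x * z = z * x := by rw [hz]; exact w.z_comm hK hx
  have hxc := hinv x hx hxy
  -- the involution `a`
  obtain ⟨a, ha⟩ : ∃ a, a = x⁻¹ * (t * x * t⁻¹) := ⟨_, rfl⟩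
  have hxt := hcomm x hx _ (conj_mem_cj (g := t) hx)
  have hax : a * x = x * a := by
    rw [ha]
    calc x⁻¹ * (t * x * t⁻¹) * x = x⁻¹ * (t * x * t⁻¹ * x) := by group
      _ = x⁻¹ * (x * (t * x * t⁻¹)) := by rw [hxt]
      _ = x * (x⁻¹ * (t * x * t⁻¹)) := by group
  have haF : a ∈ F := by
    have h1 := F.mul_mem (w.nor.conj_mem t htF x⁻¹) (F.inv_mem htF)
    have h2 : x⁻¹ * t * x⁻¹⁻¹ * t⁻¹ = a := by rw [ha]; group
    rwa [h2] at h1
  have ha2 : a * a = 1 := by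
    have h1 : x⁻¹ * (t * x * t⁻¹) = t * x * t⁻¹ * x⁻¹ := by
      rw [eq_mul_inv_iff_mul_eq, mul_assoc, ← hxt, inv_mul_cancel_left]
    calc a * a = x⁻¹ * (t * x * t⁻¹) * (x⁻¹ * (t * x * t⁻¹)) := by rw [ha]
      _ = x⁻¹ * (t * x * t⁻¹) * (t * x * t⁻¹ * x⁻¹) := by rw [h1]
      _ = x⁻¹ * (t * (x * x) * t⁻¹) * x⁻¹ := by group
      _ = x⁻¹ * z * x⁻¹ := by rw [hxx, htz, mul_inv_cancel_right]
      _ = 1 := by
        rw [← hxx]; group
  have haz : a * z = z * a := by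
    have h1 : t⁻¹ * z = z * t⁻¹ := by
      rw [inv_mul_eq_iff_eq_mul, ← mul_assoc, htz, mul_inv_cancel_right]
    have h2 : x⁻¹ * z = z * x⁻¹ := by
      rw [inv_mul_eq_iff_eq_mul, ← mul_assoc, hxz, mul_inv_cancel_right]
    rw [ha]
    calc x⁻¹ * (t * x * t⁻¹) * z = x⁻¹ * t * x * (t⁻¹ * z) := by group
      _ = x⁻¹ * t * (x * z) * t⁻¹ := by rw [h1]; group
      _ = x⁻¹ * (t * z) * x * t⁻¹ := by rw [hxz]; group
      _ = x⁻¹ * z * (t * x * t⁻¹) := by rw [htz]; group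
      _ = z * (x⁻¹ * (t * x * t⁻¹)) := by rw [h2]; group
  -- `a` is not central in `C(z)`
  have hd : a * (t * y * t⁻¹) ≠ t * y * t⁻¹ * a := by
    intro h1
    have e1 : x⁻¹ * t * x = a * t := by rw [ha]; group
    have e2 : x⁻¹ * y * x = y⁻¹ := by
      have h3 : x * y⁻¹ * x⁻¹ = y := by
        have h4 := congrArg (·⁻¹) hxy
        simpa [mul_assoc] using h4
      calc x⁻¹ * y * x = x⁻¹ * (x * y⁻¹ * x⁻¹) * x := by rw [h3]
        _ = y⁻¹ := by group
    have e3 : x⁻¹ * c * x = c := by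
      calc x⁻¹ * c * x = (x⁻¹ * t * x) * (x⁻¹ * y * x) * (x⁻¹ * t * x)⁻¹ * (x⁻¹ * y * x)⁻¹ := by rw [hc]; group
        _ = (a * t) * y⁻¹ * (a * t)⁻¹ * y := by rw [e1, e2, inv_inv]
        _ = (a * (t * y * t⁻¹) * a⁻¹)⁻¹ * y := by group
        _ = (t * y * t⁻¹)⁻¹ * y := by rw [h1, mul_inv_cancel_right]
        _ = (t * y⁻¹ * t⁻¹) * y := by group
        _ = (t * (z * y) * t⁻¹) * (z * y)⁻¹ := by rw [hyi, ← hyi, inv_inv, hyi]
        _ = (t * z) * y * t⁻¹ * y⁻¹ * z⁻¹ := by group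
        _ = z * (t * y * t⁻¹ * y⁻¹) * z⁻¹ := by rw [htz]; group
        _ = z * c * z⁻¹ := by rw [hc]
        _ = c := by rw [← hcc z hzF rfl, mul_inv_cancel_right]
    have e4 : x * c * x⁻¹ = c := by
      calc x * c * x⁻¹ = x * (x⁻¹ * c * x) * x⁻¹ := by rw [e3]
        _ = c := by group
    rw [hxc] at e4
    exact hz1 (mul_eq_left.1 e4)
  have ha1 : a ≠ 1 := by
    rintro rfl
    exact hd (by rw [one_mul, mul_one])
  -- the member over `a`
  obtain ⟨g, hgF, hg⟩ := w.exists_conj hzF hz1 hzz haF ha1 ha2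
  have hKa : cj g K ∈ Om := w.hyp.conj K hK g
  have hza : zz (cj g K) = a := by rw [w.hyp.zz_cj hK, ← hz, hg]
  have hxN := w.norm hK hKa hx hx4 (by rw [hza, hax])
  have hyaF : g * y * g⁻¹ ∈ F := w.nor.conj_mem y hyF g
  have hyaa : g * y * g⁻¹ * (g * y * g⁻¹) = a := by
    calc g * y * g⁻¹ * (g * y * g⁻¹) = g * (y * y) * g⁻¹ := by group
      _ = a := by rw [hyy, hg]
  obtain ⟨v, hv⟩ : ∃ v, v = x * (g * y * g⁻¹) * x⁻¹ := ⟨_, rfl⟩
  have hvK : v ∈ cj g K := by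
    rw [hv]
    exact (mem_normalizer_iff.1 hxN _).1 (conj_mem_cj hy)
  have hvF : v ∈ F := by rw [hv]; exact w.nor.conj_mem _ hyaF x
  have hvv : v * v = a := by
    calc v * v = x * (g * y * g⁻¹ * (g * y * g⁻¹)) * x⁻¹ := by rw [hv]; group
      _ = a := by rw [hyaa, ← hax, mul_inv_cancel_right]
  obtain ⟨v', hv'⟩ : ∃ v', v' = g⁻¹ * v * g := ⟨_, rfl⟩
  have hv'K : v' ∈ K := by rw [hv']; exact mem_cj.1 hvK
  have hv'F : v' ∈ F := by
    rw [hv']
    have h1 := w.nor.conj_mem v hvF g⁻¹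
    rwa [inv_inv] at h1
  have hv'v' : v' * v' = z := by
    calc v' * v' = g⁻¹ * (v * v) * g := by rw [hv']; group
      _ = g⁻¹ * (g * z * g⁻¹) * g := by rw [hvv, hg]
      _ = z := by group
  have hv'z : v' * z = z * v' := by rw [hz]; exact w.z_comm hK hv'K
  have hvy : v' = y ∨ v' = y⁻¹ := by
    obtain ⟨-, h2⟩ := w.cen hzF hz1 hzz hv'F hyF hv'z hyz
    have hmem : v' * y * v'⁻¹ * y⁻¹ ∈ K :=
      K.mul_mem (K.mul_mem (K.mul_mem hv'K hy) (K.inv_mem hv'K)) (K.inv_mem hy)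
    have h3 : v' * y * v'⁻¹ * y⁻¹ = 1 := by
      by_contra h4
      have h5 := w.hyp.eq_zz hK hmem h2 h4
      rw [← hz] at h5
      have h6 : v' * y * v'⁻¹ = y⁻¹ := by
        rw [hyi, ← h5]; group
      have h7 := hinv v' hv'K h6
      have h8 := hcc v' hv'F hv'z
      rw [← h8, mul_inv_cancel_right] at h7
      exact hz1 (mul_eq_left.1 h7.symm)
    have h4 : v' * y = y * v' := by
      rwa [mul_inv_eq_one, mul_inv_eq_iff_eq_mul] at h3
    by_cases h5 : v' * y⁻¹ = 1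
    · left
      rwa [mul_inv_eq_one] at h5
    · right
      have h6 : v' * y⁻¹ * (v' * y⁻¹) = 1 := by
        calc v' * y⁻¹ * (v' * y⁻¹) = v' * (y⁻¹ * (v' * y) * y⁻¹) * y⁻¹ := by group
          _ = v' * (y⁻¹ * (y * v') * y⁻¹) * y⁻¹ := by rw [h4]
          _ = (v' * v') * (y * y)⁻¹ := by group
          _ = 1 := by rw [hv'v', hyy, mul_inv_cancel]
      have h7 := w.hyp.eq_zz hK (K.mul_mem hv'K (K.inv_mem hy)) h6 h5
      rw [← hz, mul_inv_eq_iff_eq_mul] at h7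
      rw [h7, hyi]
  -- `x ya x⁻¹ = ya^{±1}`
  have hback : v = g * v' * g⁻¹ := by rw [hv']; group
  have hzya : g * y * g⁻¹ * z = z * (g * y * g⁻¹) := by
    have h1 : x * (g * y * g⁻¹) * x⁻¹ = g * y * g⁻¹ ∨ x * (g * y * g⁻¹) * x⁻¹ = (g * y * g⁻¹)⁻¹ := by
      rw [← hv, hback]
      rcases hvy with h2 | h2
      · left; rw [h2]
      · right; rw [h2]; group
    have h2 : x * (x * (g * y * g⁻¹) * x⁻¹) * x⁻¹ = g * y * g⁻¹ := by
      rcases h1 with h3 | h3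
      · rw [h3, h3]
      · rw [h3]
        have h4 : x * (g * y * g⁻¹)⁻¹ * x⁻¹ = (x * (g * y * g⁻¹) * x⁻¹)⁻¹ := by group
        rw [h4, h3, inv_inv]
    have h3 : z * (g * y * g⁻¹) * z⁻¹ = g * y * g⁻¹ := by
      calc z * (g * y * g⁻¹) * z⁻¹ = x * (x * (g * y * g⁻¹) * x⁻¹) * x⁻¹ := by rw [← hxx]; group
        _ = g * y * g⁻¹ := h2
    exact (mul_inv_eq_iff_eq_mul.1 h3).symm
  have h1 := w.sq hzF hz1 hzz hyaF hzya (w.nor.conj_mem y hyF t) (by
    have h3 : t⁻¹ * z = z * t⁻¹ := by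
      rw [inv_mul_eq_iff_eq_mul, ← mul_assoc, htz, mul_inv_cancel_right]
    calc t * y * t⁻¹ * z = t * y * (t⁻¹ * z) := by group
      _ = t * (y * z) * t⁻¹ := by rw [h3]; group
      _ = t * z * y * t⁻¹ := by rw [hyz]; group
      _ = z * (t * y * t⁻¹) := by rw [htz]; group)
  rw [hyaa] at h1
  exact hd h1

/-! ### The case `K ∩ F = ⟨z⟩` -/

/-- 2-elements of `K` in a subgroup without elements of order four -/
theorem eq_of (hK : K ∈ Om) (hl : l ∈ K) (P : G → Prop) (hP : ∀ n : ℕ, P (l ^ n)) (h4 : ∀ y ∈ K, P y → orderOf y ≠ 4) :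
    l = 1 ∨ l = zz K := by
  by_cases h1 : l = 1
  · exact Or.inl h1
  right
  refine w.hyp.eq_zz hK hl ?_ h1
  obtain ⟨m, hm⟩ := (IsPGroup.iff_orderOf.1 (w.two K hK)) ⟨l, hl⟩
  rw [Subgroup.orderOf_mk] at hm
  rcases lt_or_ge m 2 with h2 | h2
  · interval_cases m
    · rw [pow_zero, orderOf_eq_one_iff] at hm
      exact absurd hm h1
    · rw [← pow_two, ← pow_one 2, ← hm]
      exact pow_orderOf_eq_one l
  · exfalso
    refine h4 (l ^ 2 ^ (m - 2)) (K.pow_mem hl _) (hP _) ?_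
    rw [orderOf_pow_of_dvd (by positivity) (by rw [hm]; exact pow_dvd_pow 2 (by omega)), hm,
      Nat.pow_div (by omega) (by norm_num)]
    have h5 : m - (m - 2) = 2 := by omega
    rw [h5]

theorem eq_of_comm (hK : K ∈ Om) (hl : l ∈ K) (hc : l ∈ commutator G) : l = 1 ∨ l = zz K := by
  refine w.eq_of hK hl (fun y => y ∈ commutator G) (fun n => pow_mem hc n) ?_
  intro y hy hyc hy4
  refine w.case_one hK hy (w.q4 y hyc ?_) hy4
  rw [← hy4]
  exact pow_orderOf_eq_one y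

/-- `[g, l] ∈ {1, z}` for `g ∈ N(K)` -/
theorem conj_or (hK : K ∈ Om) (hg : g ∈ normalizer (K : Set G)) (hl : l ∈ K) : g * l = l * g ∨ g * l = zz K * l * g := by
  have h1 : g * l * g⁻¹ * l⁻¹ ∈ K := K.mul_mem ((mem_normalizer_iff.1 hg l).1 hl) (K.inv_mem hl)
  rcases w.eq_of_comm hK h1 (commutator_mem_commutator (mem_top g) (mem_top l)) with h2 | h2
  · left
    rwa [mul_inv_eq_one, mul_inv_eq_iff_eq_mul] at h2
  · right
    rw [← h2]; group

/-- an involution `a ≠ z` of `F` commuting with an element of order four of `K` centralises `K` -/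
theorem cent_of (hK : K ∈ Om) (haF : a ∈ F) (ha1 : a ≠ 1) (ha2 : a * a = 1) (hi : i ∈ K)
    (hi4 : orderOf i = 4) (hai : a * i = i * a) : ∀ j ∈ K, a * j = j * a := by
  obtain ⟨g, hgF, hg⟩ := w.exists_conj (w.zF K hK) (w.hyp.zz_ne hK) (w.hyp.zz_mul hK) haF ha1 ha2
  have hKa : cj g K ∈ Om := w.hyp.conj K hK g
  have hza : zz (cj g K) = a := by rw [w.hyp.zz_cj hK, hg]
  have hiN := w.norm hK hKa hi hi4 (by rw [hza, hai])
  have hii := w.sq_eq hK hi hi4
  -- `K_a` centralises `z = i²`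
  have hz : ∀ l ∈ cj g K, l * zz K = zz K * l := by
    intro l hl
    have h1 : i * (i * l * i⁻¹) * i⁻¹ = l := by
      rcases w.conj_or hKa hiN hl with h2 | h2
      · rw [h2, mul_inv_cancel_right, h2, mul_inv_cancel_right]
      · rw [hza] at h2
        have h3 : i * l * i⁻¹ = a * l := by rw [h2, mul_inv_cancel_right]
        rw [h3]
        calc i * (a * l) * i⁻¹ = a * (i * l * i⁻¹) := by rw [← mul_assoc, ← hai]; group
          _ = l := by rw [h3, ← mul_assoc, ha2, one_mul]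
    have h4 : zz K * l * (zz K)⁻¹ = l := by
      calc zz K * l * (zz K)⁻¹ = i * (i * l * i⁻¹) * i⁻¹ := by rw [← hii]; group
        _ = l := h1
    exact (mul_inv_eq_iff_eq_mul.1 h4).symm
  obtain ⟨l, hl, hl4⟩ := w.exists_four hKa
  have hll : l * l = a := by rw [w.sq_eq hKa hl hl4, hza]
  have hlN := w.norm hKa hK hl hl4 (hz l hl)
  intro j hj
  have h1 : l * (l * j * l⁻¹) * l⁻¹ = j := by
    rcases w.conj_or hK hlN hj with h2 | h2
    · rw [h2, mul_inv_cancel_right, h2, mul_inv_cancel_right]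
    · have h3 : l * j * l⁻¹ = zz K * j := by rw [h2, mul_inv_cancel_right]
      rw [h3]
      calc l * (zz K * j) * l⁻¹ = zz K * (l * j * l⁻¹) := by rw [← mul_assoc, hz l hl]; group
        _ = j := by rw [h3, ← mul_assoc, w.hyp.zz_mul hK, one_mul]
  have h4 : a * j * a⁻¹ = j := by
    calc a * j * a⁻¹ = l * (l * j * l⁻¹) * l⁻¹ := by rw [← hll]; group
      _ = j := h1
  exact mul_inv_eq_iff_eq_mul.1 h4

/-- `C_F(z)` normalises `K` -/
theorem norm_of (hK : K ∈ Om) (htF : t ∈ F) (htz : t * zz K = zz K * t) : t ∈ normalizer (K : Set G) := by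
  rw [mem_normalizer_iff_cj]
  by_contra hne
  have hKt : cj t K ∈ Om := w.hyp.conj K hK t
  have hzt : zz K = zz (cj t K) := by
    rw [w.hyp.zz_cj hK, htz, mul_inv_cancel_right]
  have hcomm := w.comm hK hKt hzt (Ne.symm hne)
  obtain ⟨i, hi, hi4⟩ := w.exists_four hK
  have hii := w.sq_eq hK hi hi4
  have hit := hcomm i hi _ (conj_mem_cj (g := t) hi)
  obtain ⟨x, hx, hx4, hxi⟩ := w.exists_inv hK hi hi4
  have hxn : x * i ≠ i * x := by
    intro h1
    rw [h1, mul_inv_cancel_right] at hxi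
    have h2 : i * i = 1 := by
      nth_rw 2 [hxi]
      rw [mul_inv_cancel]
    rw [hii] at h2
    exact w.hyp.zz_ne hK h2
  -- `i^t ∉ K`
  have hnot : t * i * t⁻¹ ∉ K := by
    intro h1
    obtain ⟨x', hx', -, hxi'⟩ := w.exists_inv hK h1 (by
      have : orderOf (t * i * t⁻¹) = orderOf i := MulEquiv.orderOf_eq (MulAut.conj t) i
      rw [this, hi4])
    have h2 := hcomm x' hx' _ (conj_mem_cj (g := t) hi)
    rw [h2, mul_inv_cancel_right] at hxi'
    have h3 : t * i * t⁻¹ * (t * i * t⁻¹) = 1 := by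
      nth_rw 2 [hxi']
      rw [mul_inv_cancel]
    have h4 : t * (i * i) * t⁻¹ = 1 := by
      rw [← h3]; group
    rw [hii, htz, mul_inv_cancel_right] at h4
    exact w.hyp.zz_ne hK h4
  obtain ⟨a, ha⟩ : ∃ a, a = i⁻¹ * (t * i * t⁻¹) := ⟨_, rfl⟩
  have hat : i * a = t * i * t⁻¹ := by rw [ha]; group
  have haF : a ∈ F := by
    have h1 := F.mul_mem (w.nor.conj_mem t htF i⁻¹) (F.inv_mem htF)
    have h2 : i⁻¹ * t * i⁻¹⁻¹ * t⁻¹ = a := by rw [ha]; group
    rwa [h2] at h1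
  have ha1 : a ≠ 1 := by
    intro h1
    apply hnot
    rw [← hat, h1, mul_one]
    exact hi
  have hai : a * i = i * a := by
    rw [ha]
    calc i⁻¹ * (t * i * t⁻¹) * i = i⁻¹ * (t * i * t⁻¹ * i) := by group
      _ = i⁻¹ * (i * (t * i * t⁻¹)) := by rw [hit]
      _ = i * (i⁻¹ * (t * i * t⁻¹)) := by group
  have ha2 : a * a = 1 := by
    have h1 : i⁻¹ * (t * i * t⁻¹) = t * i * t⁻¹ * i⁻¹ := by
      rw [eq_mul_inv_iff_mul_eq, mul_assoc, ← hit, inv_mul_cancel_left]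
    calc a * a = i⁻¹ * (t * i * t⁻¹) * (i⁻¹ * (t * i * t⁻¹)) := by rw [ha]
      _ = i⁻¹ * (t * i * t⁻¹) * (t * i * t⁻¹ * i⁻¹) := by rw [h1]
      _ = i⁻¹ * (t * (i * i) * t⁻¹) * i⁻¹ := by group
      _ = i⁻¹ * zz K * i⁻¹ := by rw [hii, htz, mul_inv_cancel_right]
      _ = 1 := by rw [← hii]; group
  have h1 := w.cent_of hK haF ha1 ha2 hi hi4 hai x hx
  have h2 := hcomm x hx _ (conj_mem_cj (g := t) hi)
  apply hxn
  have h3 : i = t * i * t⁻¹ * a⁻¹ := by rw [← hat, mul_inv_cancel_right]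
  have h4 : x * a⁻¹ = a⁻¹ * x := by
    rw [eq_inv_mul_iff_mul_eq, ← mul_assoc, h1, mul_inv_cancel_right]
  calc x * i = x * (t * i * t⁻¹) * a⁻¹ := by conv_lhs => rw [h3, ← mul_assoc]
    _ = t * i * t⁻¹ * (x * a⁻¹) := by rw [h2, mul_assoc]
    _ = t * i * t⁻¹ * a⁻¹ * x := by rw [h4]; group
    _ = i * x := by rw [← h3]

/-- the involutions of `C_F(z)` centralise `K` -/
theorem cent_inv (hK : K ∈ Om) (hb : b ∈ F) (hbz : b * zz K = zz K * b) (hb2 : b * b = 1) : ∀ k ∈ K, b * k = k * b := by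
  by_cases h1 : b = 1
  · intro k _
    rw [h1, one_mul, mul_one]
  have hbN := w.norm_of hK hb hbz
  obtain ⟨c, v, n, hgq⟩ := w.hyp.exists_gq hK (syl_self (w.two K hK))
  obtain ⟨q₁, hq₁, q₂, hq₂, h41, h42, h43, -⟩ := hgq.exists_pair
  rcases w.conj_or hK hbN hq₁ with e1 | e1
  · exact w.cent_of hK hb h1 hb2 hq₁ h41 e1
  rcases w.conj_or hK hbN hq₂ with e2 | e2
  · exact w.cent_of hK hb h1 hb2 hq₂ h42 e2
  refine w.cent_of hK hb h1 hb2 (K.mul_mem hq₁ hq₂) h43 ?_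
  have hz1 := w.z_comm hK hq₁
  calc b * (q₁ * q₂) = b * q₁ * q₂ := by rw [mul_assoc]
    _ = zz K * q₁ * (b * q₂) := by rw [e1]; group
    _ = zz K * (q₁ * zz K) * q₂ * b := by rw [e2]; group
    _ = (zz K * zz K) * q₁ * q₂ * b := by rw [hz1]; group
    _ = q₁ * q₂ * b := by rw [w.hyp.zz_mul hK, one_mul]

/-- **no members** -/
theorem false_of (hK : K ∈ Om) : False := by
  have hzF := w.zF K hK
  have hz1 := w.hyp.zz_ne hK
  have hzz := w.hyp.zz_mul hK
  obtain ⟨a, haF, ha1, ha2, haz, hel, t, htF, hta, htz⟩ := w.nc hzF hz1 hzz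
  obtain ⟨k, hk, hk4⟩ := w.exists_four hK
  have hkk := w.sq_eq hK hk hk4
  have hkz := w.z_comm hK hk
  have hak := w.cent_inv hK haF haz ha2 k hk
  obtain ⟨hd1, hd2⟩ := w.cen haF ha1 ha2 htF hzF hta haz.symm
  obtain ⟨d, hd⟩ : ∃ d, d = t * zz K * t⁻¹ * (zz K)⁻¹ := ⟨_, rfl⟩
  rw [← hd] at hd1 hd2
  have hdF : d ∈ F := by
    rw [hd]
    exact F.mul_mem (F.mul_mem (F.mul_mem htF hzF) (F.inv_mem htF)) (F.inv_mem hzF)
  have hdz : d * zz K = zz K * d := hd1 _ hzF haz.symm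
  have hdk := w.cent_inv hK hdF hdz hd2 k hk
  have htzd : t * zz K * t⁻¹ = d * zz K := by rw [hd]; group
  obtain ⟨u, hu⟩ : ∃ u, u = t⁻¹ * (k * t * k⁻¹) := ⟨_, rfl⟩
  have huF : u ∈ F := by
    rw [hu]
    exact F.mul_mem (F.inv_mem htF) (w.nor.conj_mem t htF k)
  have hktk : k * t * k⁻¹ = t * u := by rw [hu]; group
  have hta' : t⁻¹ * a = a * t⁻¹ := by
    rw [inv_mul_eq_iff_eq_mul, ← mul_assoc, hta, mul_inv_cancel_right]
  have hka' : k⁻¹ * a = a * k⁻¹ := by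
    rw [inv_mul_eq_iff_eq_mul, ← mul_assoc, ← hak, mul_inv_cancel_right]
  have hua : u * a = a * u := by
    rw [hu]
    calc t⁻¹ * (k * t * k⁻¹) * a = t⁻¹ * (k * t * (k⁻¹ * a)) := by group
      _ = t⁻¹ * (k * (t * a) * k⁻¹) := by rw [hka']; group
      _ = t⁻¹ * (k * a * t * k⁻¹) := by rw [hta]; group
      _ = t⁻¹ * a * (k * t * k⁻¹) := by rw [← hak]; group
      _ = a * (t⁻¹ * (k * t * k⁻¹)) := by rw [hta']; group
  have huz : u * zz K = zz K * u := by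
    have h1 : k * t * k⁻¹ * zz K * (k * t * k⁻¹)⁻¹ = t * zz K * t⁻¹ := by
      have h2 : k⁻¹ * zz K = zz K * k⁻¹ := by
        rw [inv_mul_eq_iff_eq_mul, ← mul_assoc, hkz, mul_inv_cancel_right]
      calc k * t * k⁻¹ * zz K * (k * t * k⁻¹)⁻¹ = k * t * (k⁻¹ * zz K) * k * t⁻¹ * k⁻¹ := by group
        _ = k * (t * zz K * t⁻¹) * k⁻¹ := by rw [h2]; group
        _ = (k * d) * zz K * k⁻¹ := by rw [htzd]; group
        _ = d * (k * zz K) * k⁻¹ := by rw [← hdk]; group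
        _ = d * zz K := by rw [hkz]; group
        _ = t * zz K * t⁻¹ := htzd.symm
    rw [hktk] at h1
    have h3 : u * zz K * u⁻¹ = zz K := by
      calc u * zz K * u⁻¹ = t⁻¹ * (t * u * zz K * (t * u)⁻¹) * t := by group
        _ = t⁻¹ * (t * zz K * t⁻¹) * t := by rw [h1]
        _ = zz K := by group
    exact mul_inv_eq_iff_eq_mul.1 h3
  have hu2 := hel u huF huz hua
  have huk := w.cent_inv hK huF huz hu2 k hk
  apply htz
  have h1 : k * (k * t * k⁻¹) * k⁻¹ = t := by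
    rw [hktk]
    calc k * (t * u) * k⁻¹ = (k * t * k⁻¹) * (k * u) * k⁻¹ := by group
      _ = t * u * u := by rw [hktk, ← huk]; group
      _ = t := by rw [mul_assoc, hu2, mul_one]
  have h2 : zz K * t * (zz K)⁻¹ = t := by
    calc zz K * t * (zz K)⁻¹ = k * (k * t * k⁻¹) * k⁻¹ := by rw [← hkk]; group
      _ = t := h1
  exact (mul_inv_eq_iff_eq_mul.1 h2).symm

end

end WF

/-! ### `PSL(3,4)` -/

theorem LF.congr {X Y : Type*} [Group X] [Group Y] (e : X ≃* Y) (h : LF X) : LF Y where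
  toHeis := h.toHeis.congr e
  conj := by
    intro z w hz1 hz2 hw1 hw2
    have key : ∀ a : Y, a ≠ 1 → a * a = 1 → e.symm a ≠ 1 ∧ e.symm a * e.symm a = 1 := fun a h1 h2 =>
      ⟨fun h3 => h1 (e.symm.injective (h3.trans (map_one _).symm)), by rw [← map_mul, h2, map_one]⟩
    obtain ⟨g, hg⟩ := h.conj _ _ (key z hz1 hz2).1 (key z hz1 hz2).2 (key w hw1 hw2).1 (key w hw1 hw2).2
    refine ⟨e g, e.symm.injective ?_⟩
    simpa using hg
  sq := by
    intro z hz1 hz2 a ha c hc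
    have h1 := h.sq (e.symm z) (fun h3 => hz1 (e.symm.injective (h3.trans (map_one _).symm)))
      (by rw [← map_mul, hz2, map_one]) (e.symm a) (by rw [← map_mul, ha, map_mul]) (e.symm c)
      (by rw [← map_mul, hc, map_mul])
    apply e.symm.injective
    simpa using h1
  nc := by
    intro z hz1 hz2
    obtain ⟨a, e1, e2, e3, e4, t, e5, e6⟩ := h.nc (e.symm z) (fun h3 => hz1 (e.symm.injective (h3.trans (map_one _).symm)))
      (by rw [← map_mul, hz2, map_one])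
    refine ⟨e a, fun h1 => e1 (e.injective (h1.trans (map_one e).symm)), by rw [← map_mul, e2, map_one], ?_, ?_, e t,
      by rw [← map_mul, e5, map_mul], ?_⟩
    · apply e.symm.injective
      simpa using e3
    · intro b hb1 hb2
      apply e.symm.injective
      rw [map_mul, map_one]
      refine e4 _ ?_ ?_
      · rw [← map_mul, hb1, map_mul]
      · apply e.injective
        simpa using hb2
    · intro h1
      apply e6
      have h2 := congrArg e.symm h1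
      simpa using h2

section psl

open Cfsg.Agent.SporadicA.FieldFour Cfsg.Agent.ONType.Psl Cfsg.Agent.StdL34.PslCent Cfsg.Agent.StdLThreeFour.Base
open Cfsg.Agent.StdLThreeFour.Facts1

theorem lf_PSL3 : LF L0 where
  toHeis := heis_PSL3
  conj := by
    intro x y hx hx2 hy hy2
    obtain ⟨l, hl⟩ := inv_conj hx hx2
    obtain ⟨m, hm⟩ := inv_conj hy hy2
    refine ⟨m⁻¹ * l, ?_⟩
    calc m⁻¹ * l * x * (m⁻¹ * l)⁻¹ = m⁻¹ * (l * x * l⁻¹) * m := by group
      _ = m⁻¹ * (m * y * m⁻¹) * m := by rw [hl, hm]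
      _ = y := by group
  sq := by
    intro z hz1 hz2 a ha c hc
    obtain ⟨l, hl⟩ := inv_conj hz1 hz2
    have key : ∀ x, x * z = z * x → ∃ x1 x2 x3, l * x * l⁻¹ = e x1 x2 x3 := by
      intro x hx
      apply (cent_t02 _).1
      rw [← hl]
      calc l * x * l⁻¹ * (l * z * l⁻¹) = l * (x * z) * l⁻¹ := by group
        _ = l * (z * x) * l⁻¹ := by rw [hx]
        _ = l * z * l⁻¹ * (l * x * l⁻¹) := by group
    obtain ⟨a1, a2, a3, hae⟩ := key a ha
    obtain ⟨c1, c2, c3, hce⟩ := key c hc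
    have h2 : l * (a * a * c) * l⁻¹ = l * (c * (a * a)) * l⁻¹ := by
      calc l * (a * a * c) * l⁻¹ = (l * a * l⁻¹) * (l * a * l⁻¹) * (l * c * l⁻¹) := by group
        _ = (l * c * l⁻¹) * ((l * a * l⁻¹) * (l * a * l⁻¹)) := by
            rw [hae, hce, e_sq]
            refine (comm_iff _ _ _ _ _ _).2 ?_
            rw [mul_zero, zero_mul, add_zero]
        _ = l * (c * (a * a)) * l⁻¹ := by group
    exact mul_left_cancel (mul_right_cancel h2)
  nc := by
    intro z hz1 hz2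
    obtain ⟨l, hl⟩ := inv_conj hz1 hz2
    have hz : z = l⁻¹ * t 0 2 1 * l := by rw [← hl]; group
    have conj_mul : ∀ x y : L0, l⁻¹ * x * l * (l⁻¹ * y * l) = l⁻¹ * (x * y) * l := fun x y => by group
    refine ⟨l⁻¹ * e 1 0 0 * l, ?_, ?_, ?_, ?_, l⁻¹ * t 2 1 1 * l, ?_, ?_⟩
    · intro h1
      have h2 : e 1 0 0 = 1 := by
        calc e 1 0 0 = l * (l⁻¹ * e 1 0 0 * l) * l⁻¹ := by group
          _ = 1 := by rw [h1, mul_one, mul_inv_cancel]
      exact one_ne_zero (e_one h2).1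
    · rw [conj_mul, e_sq, mul_zero, e_zero, mul_one, inv_mul_cancel]
    · rw [hz, conj_mul, conj_mul, ← e_02, (comm_iff 1 0 0 0 0 1).2 (by rw [zero_mul, mul_zero, add_zero])]
    · intro b hb1 hb2
      have h1 : l * b * l⁻¹ * t 0 2 1 = t 0 2 1 * (l * b * l⁻¹) := by
        rw [← hl]
        calc l * b * l⁻¹ * (l * z * l⁻¹) = l * (b * z) * l⁻¹ := by group
          _ = l * (z * b) * l⁻¹ := by rw [hb1]
          _ = l * z * l⁻¹ * (l * b * l⁻¹) := by group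
      obtain ⟨b1, b2, b3, hbe⟩ := (cent_t02 _).1 h1
      have hbe' : l * b * l⁻¹ = e b1 b2 b3 := hbe
      have h2 : e b1 b2 b3 * e 1 0 0 = e 1 0 0 * e b1 b2 b3 := by
        rw [← hbe']
        calc l * b * l⁻¹ * e 1 0 0 = l * (b * (l⁻¹ * e 1 0 0 * l)) * l⁻¹ := by group
          _ = l * (l⁻¹ * e 1 0 0 * l * b) * l⁻¹ := by rw [hb2]
          _ = e 1 0 0 * (l * b * l⁻¹) := by group
      have h3 := (comm_iff _ _ _ _ _ _).1 h2
      rw [one_mul, mul_zero, add_zero] at h3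
      have h4 : l * (b * b) * l⁻¹ = 1 := by
        calc l * (b * b) * l⁻¹ = (l * b * l⁻¹) * (l * b * l⁻¹) := by group
          _ = 1 := by rw [hbe', e_sq, h3, mul_zero, e_zero]
      calc b * b = l⁻¹ * (l * (b * b) * l⁻¹) * l := by group
        _ = 1 := by rw [h4, mul_one, inv_mul_cancel]
    · rw [conj_mul, conj_mul, e_01, t_col 2 1 0 1 1 (by decide) (by decide)]
    · rw [hz, conj_mul, conj_mul]
      intro h1
      have h2 : t 2 1 1 * t 0 2 1 = t 0 2 1 * t 2 1 1 := mul_left_cancel (mul_right_cancel h1)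
      rw [t_sum 0 1 2 1 1 (by decide) (by decide) (by decide), one_mul, ← e_01] at h2
      have h3 : e 1 0 0 = 1 := mul_eq_left.1 h2.symm
      exact one_ne_zero (e_one h3).1

theorem lf_psl {X : Type*} [Group X] {F : Type*} [Field F] [Fintype F] (hF : Fintype.card F = 4)
    (e : Nonempty (X ≃* Matrix.ProjectiveSpecialLinearGroup (Fin 3) F)) : LF X := by
  obtain ⟨e⟩ := e
  obtain ⟨f⟩ := nonempty_psl_equiv (n := Fin 3) F hF
  exact lf_PSL3.congr (f.trans e.symm)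

end psl

/-- **no members (2-groups of any order) if `F*(G) = L₃(4)`** -/
theorem lthree_false {G : Type*} [Group G] [Finite G] {Om : Set (Subgroup G)} (h : Hyp Om)
    (two : ∀ K ∈ Om, IsPGroup 2 K) {K : Subgroup G} (hK : K ∈ Om) (fs : AssemblyNil.FS G)
    (hL : ∃ (F : Type) (_ : Field F) (_ : Fintype F), Fintype.card F = 4 ∧
      Nonempty (↥(generalizedFittingSubgroup G) ≃* Matrix.ProjectiveSpecialLinearGroup (Fin 3) F)) : False := by
  obtain ⟨F, i, j, hF, e⟩ := hL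
  have w : WF Om (generalizedFittingSubgroup G) :=
    ⟨h, two, Lib.GenFitting.genFitting_normal (G := G), lf_psl hF e,
      fun q hq h4 => mem_fstar fs (Cfsg.Agent.StdL3.OuterFacts.facts_of_psl hF e).cube hq h4⟩
  exact w.false_of hK

end Cfsg.Agent.Cit.Nil.LO.LThreeQ
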