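import Cfsg.Agent.Cit.Nil.CVT.KLOf

/-!
# Cores: two different members over one involution (helper818)

`core_eq_bot_of_comm` : `F*(G)` simple, members 2-groups, two commuting members: `O(C(t)) = 1` for all involutions `t`.
`core_eq_bot_of_two` : the same with two different members over the same involution.
`cfa_of_two` : `r ≥ 2`, `|K| = 8`, in the form `CFA` (`Cit/Nil/RTwo/SMain.lean`), from `FSimp F`.
-/

set_option autoImplicit false
set_option linter.style.haveILetI false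

namespace Cfsg.Agent.Cit.Nil.LO

open Subgroup Cfsg Cit
open Cfsg.Agent.Cit.Nil.ROne (FSimp)

universe u

/-- two commuting members -/
theorem core_eq_bot_of_comm (hT : TStmt.{u}) (hC : ChartOut.{u}) (hC2 : ChartOut2.{u}) {G : Type u} [Group G]
    [Finite G] (fs : AssemblyNil.FS G) (h1311 : AssemblyNil.St1311 G) {Om : Set (Subgroup G)} (w : NQ Om)
    {K L : Subgroup G} (hK : K ∈ Om) (hL : L ∈ Om) (hc : ∀ x ∈ K, ∀ y ∈ L, x * y = y * x) :
    ∀ t : G, orderOf t = 2 → centralizerPPrimeCore 2 t = ⊥ := by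
  intro t ht
  by_contra h
  exact CVT.KLOf.false_of_core hT hC hC2 fs h1311 w hK hL hc ht h

/-- two members over the same involution, 2-groups, commute -/
theorem NQ.comm_of_zz {G : Type*} [Group G] [Finite G] {Om : Set (Subgroup G)} (w : NQ Om) {K L : Subgroup G}
    (hK : K ∈ Om) (hL : L ∈ Om) (hne : K ≠ L) (hz : zz K = zz L) : ∀ x ∈ K, ∀ y ∈ L, x * y = y * x := by
  intro k hk l hl
  rcases w.hyp.h2 K hK L hL hz with h1 | h1
  · exact absurd h1 hne
  rw [OO_eq_bot_of_two (w.two K hK), bot_inf_eq, le_bot_iff, Subgroup.commutator_eq_bot_iff_le_centralizer] at h1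
  exact (mem_centralizer_iff.1 (h1 hk) l hl).symm

/-- members of order 8 -/
theorem NQ.of_card {G : Type*} [Group G] [Finite G] {Om : Set (Subgroup G)} (h : Hyp Om)
    (card : ∀ K ∈ Om, Nat.card K = 8) : NQ Om where
  hyp := h
  two K hK := IsPGroup.of_card (p := 2) (n := 3) (by rw [card K hK]; norm_num)

/-- **two different members over the same involution** -/
theorem core_eq_bot_of_two (hT : TStmt.{u}) (hC : ChartOut.{u}) (hC2 : ChartOut2.{u}) {G : Type u} [Group G]
    [Finite G] (fs : AssemblyNil.FS G) (h1311 : AssemblyNil.St1311 G) {Om : Set (Subgroup G)} (w : NQ Om)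
    {K L : Subgroup G} (hK : K ∈ Om) (hL : L ∈ Om) (hne : K ≠ L) (hz : zz K = zz L) :
    ∀ t : G, orderOf t = 2 → centralizerPPrimeCore 2 t = ⊥ :=
  core_eq_bot_of_comm hT hC hC2 fs h1311 w hK hL (w.comm_of_zz hK hL hne hz)

/-- **`CFA G`, from two commuting members** (`f : FSimp F`) -/
theorem cfa_of_comm (hT : TStmt.{u}) (hC : ChartOut.{u}) (hC2 : ChartOut2.{u})
    (h1311 : ∀ (G : Type u) [Group G] [Finite G], AssemblyNil.FS G → AssemblyNil.St1311 G) {G : Type u} [Group G]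
    [Finite G] {F : Subgroup G} (f : FSimp F) (h2 : 2 ∣ Nat.card F) {Om : Set (Subgroup G)} (w : NQ Om)
    {K L : Subgroup G} (hK : K ∈ Om) (hL : L ∈ Om) (hc : ∀ x ∈ K, ∀ y ∈ L, x * y = y * x) :
    ∀ j : G, j * j = 1 → j ≠ 1 → OO (centralizer {j}) = ⊥ := by
  intro j hj hj1
  haveI : Fact (Nat.Prime 2) := ⟨Nat.prime_two⟩
  have fs := CVT.KLOf.fs_of f h2
  exact core_eq_bot_of_comm hT hC hC2 fs (h1311 G fs) w hK hL hc j
    (orderOf_eq_prime (by rw [pow_two]; exact hj) hj1)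

/-- **`CFA G`, `r ≥ 2`, `|K| = 8`** -/
theorem cfa_of_two (hT : TStmt.{u}) (hC : ChartOut.{u}) (hC2 : ChartOut2.{u})
    (h1311 : ∀ (G : Type u) [Group G] [Finite G], AssemblyNil.FS G → AssemblyNil.St1311 G) {G : Type u} [Group G]
    [Finite G] {F : Subgroup G} (f : FSimp F) (h2 : 2 ∣ Nat.card F) {Om : Set (Subgroup G)} (h : Hyp Om)
    (card : ∀ K ∈ Om, Nat.card K = 8) {K L : Subgroup G} (hK : K ∈ Om) (hL : L ∈ Om) (hne : K ≠ L)
    (hz : zz K = zz L) : ∀ j : G, j * j = 1 → j ≠ 1 → OO (centralizer {j}) = ⊥ :=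
  cfa_of_comm hT hC hC2 h1311 f h2 (NQ.of_card h card) hK hL ((NQ.of_card h card).comm_of_zz hK hL hne hz)

end Cfsg.Agent.Cit.Nil.LO
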