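import Mathlib
import Cfsg.Agent.Nodes.CenVV
import Cfsg.Agent.Nodes.ChartFrame

/-!
# Lie odd sections, the chart part: interface (S1309, (n1), piece (C))

Text: `blueprints/CIT-6b-LieOdd-helper443.md`, sections 3, 4.

* `QK K e` : `K` is a quaternion group of order 8 (as far as it matters), `e` its involution.
* `Cen C F K` : `F = -F` is a maximal set of pairwise orthogonal classical roots; `K` centralises `Z r`, `r ∈ F`, and
  normalises `L = ⟨X y⟩`.
* `Out C F` : the OUTPUT for a type: if `K, e` and `K', e'` are as above and neither `e` nor `e'` centralises `L`, then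
  `e e'` centralises `L`.
* `KL_frame` : the plug (for a frame of members of `Om`).
-/

set_option autoImplicit false
set_option linter.unusedSectionVars false
set_option linter.dupNamespace false

namespace Cfsg.Agent.LOC.ChartDefs

open CoxeterSystem Cfsg.Agent.ChevalleyStructure.CoxeterGeom Cfsg.Agent.Tits.Roots Cfsg.Agent.Tits.Core
  Cfsg.Agent.Tits.RootComb Cfsg.Agent.Nodes.Comb Cfsg.Agent.Nodes.SubComb Cfsg.Agent.Nodes.Reps
  Cfsg.Agent.Nodes.Coroot Cfsg.Agent.Nodes.PosPair Cfsg.Agent.Nodes.BNOf Cfsg.Agent.Nodes.RGDLib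
  Cfsg.Agent.Nodes.Chart Cfsg.Agent.Nodes.ClsNorm Cfsg.Agent.Nodes.ChartLoc Cfsg.Agent.Nodes.ChartFrame

/-- `K` is a quaternion group of order 8, `e` its involution (only the properties which are used). -/
structure QK {Y : Type*} [Group Y] (K : Subgroup Y) (e : Y) : Prop where
  mem : e ∈ K
  ne : e ≠ 1
  sq : e * e = 1
  cen : ∀ k ∈ K, k * e = e * k
  pow : ∀ k ∈ K, k * k = 1 ∨ k * k = e
  one : ∀ k ∈ K, k * k = 1 → k = 1 ∨ k = e
  com : ∃ a ∈ K, ∃ b ∈ K, a * a = e ∧ b * b = e ∧ a * b = e * (b * a)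

section QKsec

variable {Y : Type*} [Group Y] {K : Subgroup Y} {e : Y}

theorem QK.of_equiv (f : QuaternionGroup 2 ≃* K) (he : e ∈ K) (h1 : e ≠ 1) (h2 : e * e = 1) : QK K e := by
  have key : ∀ g : QuaternionGroup 2, g * g = 1 → g = 1 ∨ g = QuaternionGroup.a 2 := by decide
  have hsymm : ∀ k : K, f (f.symm k) = k := f.apply_symm_apply
  have he' : f (QuaternionGroup.a 2) = ⟨e, he⟩ := by
    rcases key (f.symm ⟨e, he⟩) (by
      apply f.injective
      rw [map_mul, hsymm, map_one]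
      exact Subtype.ext h2) with h3 | h3
    · exfalso
      have := congrArg f h3
      rw [hsymm, map_one] at this
      exact h1 (congrArg Subtype.val this)
    · rw [← h3, hsymm]
  have hv : ((f (QuaternionGroup.a 2) : K) : Y) = e := by rw [he']
  have c1 : ∀ g : QuaternionGroup 2, g * QuaternionGroup.a 2 = QuaternionGroup.a 2 * g := by decide
  have c2 : ∀ g : QuaternionGroup 2, g * g = 1 ∨ g * g = QuaternionGroup.a 2 := by decide
  have tr : ∀ g : QuaternionGroup 2, ∀ g' : QuaternionGroup 2, ((f (g * g') : K) : Y) = (f g : Y) * (f g' : Y) := by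
    intro g g'; rw [map_mul]; rfl
  refine ⟨he, h1, h2, fun k hk => ?_, fun k hk => ?_, fun k hk hkk => ?_, ?_⟩
  · have := congrArg (fun g => ((f g : K) : Y)) (c1 (f.symm ⟨k, hk⟩))
    simp only [tr, hsymm, hv] at this
    exact this
  · rcases c2 (f.symm ⟨k, hk⟩) with h3 | h3
    · left
      have := congrArg (fun g => ((f g : K) : Y)) h3
      simp only [tr, hsymm, map_one] at this
      exact this
    · right
      have := congrArg (fun g => ((f g : K) : Y)) h3
      simp only [tr, hsymm, hv] at this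
      exact this
  · rcases key (f.symm ⟨k, hk⟩) (by
      apply f.injective
      rw [map_mul, hsymm, map_one]
      exact Subtype.ext hkk) with h3 | h3
    · left
      have := congrArg (fun g => ((f g : K) : Y)) h3
      simp only [hsymm, map_one] at this
      exact this
    · right
      have := congrArg (fun g => ((f g : K) : Y)) h3
      simp only [hsymm, hv] at this
      exact this
  · have d1 : (QuaternionGroup.a 1 : QuaternionGroup 2) * QuaternionGroup.a 1 = QuaternionGroup.a 2 := by decide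
    have d2 : (QuaternionGroup.xa 0 : QuaternionGroup 2) * QuaternionGroup.xa 0 = QuaternionGroup.a 2 := by decide
    have d3 : (QuaternionGroup.a 1 : QuaternionGroup 2) * QuaternionGroup.xa 0 =
      QuaternionGroup.a 2 * (QuaternionGroup.xa 0 * QuaternionGroup.a 1) := by decide
    refine ⟨f (QuaternionGroup.a 1), (f _).2, f (QuaternionGroup.xa 0), (f _).2, ?_, ?_, ?_⟩
    · rw [← tr, d1, hv]
    · rw [← tr, d2, hv]
    · have := congrArg (fun g => ((f g : K) : Y)) d3
      simp only [tr, hv] at this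
      exact this

theorem QK.inv_e (h : QK K e) : e⁻¹ = e := inv_eq_of_mul_eq_one_right h.sq

theorem QK.conj (h : QK K e) (g : Y) : QK (cj g K) (g * e * g⁻¹) := by
  have hm : ∀ {k : Y}, k ∈ cj g K ↔ ∃ l ∈ K, k = g * l * g⁻¹ := by
    intro k
    constructor
    · intro hk
      rw [mem_cj] at hk
      exact ⟨_, hk, by group⟩
    · rintro ⟨l, hl, rfl⟩
      rw [mem_cj]
      have : g⁻¹ * (g * l * g⁻¹) * g = l := by group
      rwa [this]
  have hmul : ∀ x y : Y, g * x * g⁻¹ * (g * y * g⁻¹) = g * (x * y) * g⁻¹ := fun x y => by group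
  have hinj : ∀ x y : Y, g * x * g⁻¹ = g * y * g⁻¹ → x = y := by
    intro x y hxy
    exact mul_left_cancel (mul_right_cancel hxy)
  refine ⟨hm.2 ⟨_, h.mem, rfl⟩, fun h0 => h.ne ?_, ?_, ?_, ?_, ?_, ?_⟩
  · apply hinj
    rw [h0]; group
  · rw [hmul, h.sq]; group
  · intro k hk
    obtain ⟨l, hl, rfl⟩ := hm.1 hk
    rw [hmul, hmul, h.cen l hl]
  · intro k hk
    obtain ⟨l, hl, rfl⟩ := hm.1 hk
    rw [hmul]
    rcases h.pow l hl with h1 | h1
    · left; rw [h1]; group
    · right; rw [h1]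
  · intro k hk hkk
    obtain ⟨l, hl, rfl⟩ := hm.1 hk
    rw [hmul] at hkk
    have h1 : l * l = 1 := hinj _ _ (by rw [hkk]; group)
    rcases h.one l hl h1 with h2 | h2
    · left; rw [h2]; group
    · right; rw [h2]
  · obtain ⟨a, ha, b, hb, h1, h2, h3⟩ := h.com
    refine ⟨_, hm.2 ⟨a, ha, rfl⟩, _, hm.2 ⟨b, hb, rfl⟩, ?_, ?_, ?_⟩
    · rw [hmul, h1]
    · rw [hmul, h2]
    · rw [hmul, hmul, hmul, h3]

end QKsec

variable {I W Y : Type*} [Fintype I] [DecidableEq I] [Group W] [Fintype W] [Group Y] {M : CoxeterMatrix I}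
  {cs : CoxeterSystem M W} {A : I → I → ℤ} {h : IsCartan M A} {p : ℕ} {T : Subgroup Y} {n : I → Y}
  {X : (I → ℤ) → Subgroup Y} {R : Set (I → ℤ)} {Z : (I → ℤ) → Subgroup Y} {z : (I → ℤ) → Y}

/-- `F = -F` is a maximal set of pairwise orthogonal (or opposite) classical roots. -/
structure MaxF (C : Cls cs h p T n X R Z z) (F : Set (I → ℤ)) : Prop where
  sub : ∀ r ∈ F, r ∈ R
  neg : ∀ r ∈ F, -r ∈ F
  orth : ∀ r ∈ F, ∀ s ∈ F, s ≠ r → s ≠ -r → form cs h r s = 0
  max : ∀ x ∈ R, ∃ r ∈ F, form cs h x r ≠ 0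

/-- `K` centralises all `Z r`, `r ∈ F`, and normalises `L = ⟨X y : all roots y⟩`. -/
structure Cen (C : Cls cs h p T n X R Z z) (F : Set (I → ℤ)) (K : Subgroup Y) : Prop where
  comm : ∀ r ∈ F, ∀ a ∈ Z r, ∀ k ∈ K, k * a = a * k
  nor : ∀ k ∈ K, k ∈ Subgroup.normalizer (G1 cs h X : Set Y)

/-- `e` centralises `L = ⟨X y⟩` -/
def Triv (_C : Cls cs h p T n X R Z z) (e : Y) : Prop := ∀ l ∈ G1 cs h X, e * l = l * e

/-- **The output for a type**: two noncentral involutions of such `Q8`'s differ by an element centralising `L`.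
[For the types without `I = {1}`: `∀ K e, QK K e → Cen C F K → Triv C e`.] -/
def Out (C : Cls cs h p T n X R Z z) (F : Set (I → ℤ)) : Prop :=
  ∀ (K K' : Subgroup Y) (e e' : Y), QK K e → QK K' e' → Cen C F K → Cen C F K' →
    ¬ Triv C e → ¬ Triv C e' → Triv C (e * e')

/-- `e` centralises `L` for every `Q8`: the output for the types without `I = {1}`. -/
theorem Out.of_triv {C : Cls cs h p T n X R Z z} {F : Set (I → ℤ)}
    (H : ∀ (K : Subgroup Y) (e : Y), QK K e → Cen C F K → Triv C e) : Out C F :=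
  fun K _ e _ hK _ hc _ h1 _ => absurd (H K e hK hc) h1

/-! ### The plug -/

section Plug

variable {G : Type*} [Group G] {Om : Set (Subgroup G)} {q : ℕ} {L : Subgroup G}

/-- **Plug**: `K`, `K'` are `Q8`'s normalising `L` and centralising a maximal frame of members of `Om` in `L`. -/
theorem KL_frame (C : Chart Om q L) (hO : ∀ K ∈ Om, ∀ g, Cfsg.Agent.Cit.cj g K ∈ Om)
    (hout : ∀ F, MaxF C.cls F → Out C.cls F)
    {κ : Type*} [Finite κ] (J : κ → Subgroup G) (hJ : ∀ i, J i ∈ Om) (hJL : ∀ i, J i ≤ L)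
    (hc : ∀ i j, i ≠ j → Cfsg.Agent.Cit.TypeDet.cm (J i) (J j)) (hmax : ∀ P ∈ Om, P ≤ L → ¬ ∀ k, Cfsg.Agent.Cit.TypeDet.cm P (J k))
    {K K' : Subgroup G} {e e' : G} (hK : QK K e) (hK' : QK K' e')
    (hKL : ∀ k ∈ K, k ∈ Subgroup.normalizer (L : Set G)) (hKL' : ∀ k ∈ K', k ∈ Subgroup.normalizer (L : Set G))
    (hKJ : ∀ i, ∀ a ∈ J i, ∀ k ∈ K, k * a = a * k) (hKJ' : ∀ i, ∀ a ∈ J i, ∀ k ∈ K', k * a = a * k) :
    (∀ l ∈ L, e * l = l * e) ∨ (∀ l ∈ L, e' * l = l * e') ∨ ∀ l ∈ L, e * e' * l = l * (e * e') := by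
  obtain ⟨s, d, FI⟩ := exists_frameIn C (K := J) (fun i => ⟨hJ i, hJL i⟩) hc
  have hmax' := FI.max hO (fun P hP hh => hmax P hP.1 hP.2 hh)
  set F : Set (C.I → ℤ) := {r | ∃ i, r = s i ∨ r = -s i} with hF
  have hFR : ∀ r ∈ F, r ∈ C.R := by
    rintro r ⟨i, rfl | rfl⟩
    · exact FI.R i
    · exact Nodes.ClsNorm.neg_mem C.cls (FI.R i)
  have hM : MaxF C.cls F := by
    refine ⟨hFR, ?_, ?_, ?_⟩
    · rintro r ⟨i, rfl | rfl⟩
      · exact ⟨i, Or.inr rfl⟩
      · exact ⟨i, Or.inl (neg_neg _)⟩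
    · rintro r ⟨i, hi⟩ t ⟨j, hj⟩ h1 h2
      have hij : i ≠ j := by
        rintro rfl
        rcases hi with rfl | rfl <;> rcases hj with rfl | rfl
        · exact h1 rfl
        · exact h2 rfl
        · exact h2 (neg_neg _).symm
        · exact h1 rfl
      have h0 := FI.orth i j hij
      rcases hi with rfl | rfl <;> rcases hj with rfl | rfl <;>
        simp only [form_neg_left, form_neg_right, h0, neg_zero]
    · intro x hx
      by_contra hcon
      push Not at hcon
      exact hmax' x hx fun k => hcon _ ⟨k, Or.inl rfl⟩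
  have hcc : ∀ (K : Subgroup G), (∀ k ∈ K, k ∈ Subgroup.normalizer (L : Set G)) → (∀ i, ∀ a ∈ J i, ∀ k ∈ K, k * a = a * k) →
      Cen C.cls F (cj d K) := by
    intro K h1 h2
    refine ⟨?_, ?_⟩
    · intro r hr a ha k hk
      obtain ⟨i, hi⟩ := hr
      have ha' : a ∈ cj d (J i) := by
        rw [FI.eq]
        unfold Nodes.Perp.KK
        rcases hi with h3 | h3
        · rw [← h3]; exact (le_sup_left : C.Z r ≤ _) ha
        · have h4 : s i = -r := by rw [h3, neg_neg]
          rw [h4, neg_neg]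
          exact (le_sup_right : C.Z r ≤ _) ha
      rw [mem_cj] at ha' hk
      have h3 := h2 _ _ ha' _ hk
      have h4 : k * a = d * ((d⁻¹ * k * d) * (d⁻¹ * a * d)) * d⁻¹ := by group
      have h5 : a * k = d * ((d⁻¹ * a * d) * (d⁻¹ * k * d)) * d⁻¹ := by group
      rw [h4, h3, ← h5]
    · intro k hk
      rw [C.gen]
      rw [mem_cj] at hk
      have h3 := h1 _ hk
      have hdn : d ∈ Subgroup.normalizer (L : Set G) := Subgroup.le_normalizer FI.mem
      have h5 : k = d * (d⁻¹ * k * d) * d⁻¹ := by group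
      rw [h5]
      exact mul_mem (mul_mem hdn h3) (inv_mem hdn)
  have back : ∀ x : G, Triv C.cls (d * x * d⁻¹) → ∀ l ∈ L, x * l = l * x := by
    intro x hx l hl
    have h1 := hx (d * l * d⁻¹) (by
      rw [C.gen]
      exact mul_mem (mul_mem FI.mem hl) (inv_mem FI.mem))
    have h2 : d * (x * l) * d⁻¹ = d * (l * x) * d⁻¹ := by
      have e1 : d * (x * l) * d⁻¹ = d * x * d⁻¹ * (d * l * d⁻¹) := by group
      have e2 : d * (l * x) * d⁻¹ = d * l * d⁻¹ * (d * x * d⁻¹) := by group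
      rw [e1, h1, ← e2]
    exact mul_left_cancel (mul_right_cancel h2)
  by_cases t1 : Triv C.cls (d * e * d⁻¹)
  · exact Or.inl (back e t1)
  by_cases t2 : Triv C.cls (d * e' * d⁻¹)
  · exact Or.inr (Or.inl (back e' t2))
  refine Or.inr (Or.inr (back (e * e') ?_))
  have h1 := hout F hM (cj d K) (cj d K') _ _ (hK.conj d) (hK'.conj d) (hcc K hKL hKJ) (hcc K' hKL' hKJ') t1 t2
  have h2 : d * (e * e') * d⁻¹ = d * e * d⁻¹ * (d * e' * d⁻¹) := by group
  rw [h2]
  exact h1

end Plug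

end Cfsg.Agent.LOC.ChartDefs
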