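import Mathlib

/-!
# S1309, (D3), node (n1), piece (C): `Q₈` on a module or on a plane with a form (no fields, no tori)

Replaces (3.2), (3.3), (3.4) of blueprints/CIT-6b-LieOdd-helper443.md.

* `wedd` : automorphisms commuting with an irreducible set of automorphisms of a finite abelian group commute
  (Schur, Wedderburn);
* `formQ` : `V` abelian of order `|Q|²`, `β : V × V → Q` with `β(v, ·)` onto `Q` for `v ≠ 1`, `e` an involution of `V`
  with `[V, e] ⟂ C_V(e)`; every `1 ≠ d ∈ [V, e]` has `1 ≠ d' ∈ [V, e]` with `d ⟂ d'` : then `e = 1` or `e = -1`;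
* `card_ker` : the kernel of `β(v, ·)` has order `|Q|`.
-/

set_option autoImplicit false

namespace Cfsg.Agent.Cit.Nil.LO.FormQ

section wedd

variable {V : Type*} [CommGroup V] [Finite V]

/-- an automorphism as endomorphism -/
def toE (f : MulAut V) : AddMonoid.End (Additive V) := MonoidHom.toAdditive (f : V ≃* V).toMonoidHom

omit [Finite V] in
theorem toE_apply (f : MulAut V) (v : V) : toE f (Additive.ofMul v) = Additive.ofMul (f v) := rfl

omit [Finite V] in
theorem toE_mul (f g : MulAut V) : toE (f * g) = toE f * toE g := by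
  apply AddMonoidHom.ext
  intro v
  rfl

omit [Finite V] in
theorem toE_inj {f g : MulAut V} (e : toE f = toE g) : f = g := by
  ext v
  exact Additive.ofMul.injective (DFunLike.congr_fun e (Additive.ofMul v))

/-- **Schur and Wedderburn.** -/
theorem wedd {J : Set (MulAut V)} (irr : ∀ U : Subgroup V, (∀ j ∈ J, ∀ u ∈ U, j u ∈ U) → U = ⊥ ∨ U = ⊤)
    {a b : MulAut V} (ha : ∀ j ∈ J, j * a = a * j) (hb : ∀ j ∈ J, j * b = b * j) : a * b = b * a := by
  classical
  rcases subsingleton_or_nontrivial V with hV | hV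
  · ext v
    exact Subsingleton.elim _ _
  let S : Subring (AddMonoid.End (Additive V)) := Subring.centralizer (toE '' J)
  have hfin : Finite (AddMonoid.End (Additive V)) := by
    have : Finite (Additive V) := inferInstanceAs (Finite V)
    exact Finite.of_injective (fun f : AddMonoid.End (Additive V) => (f : Additive V → Additive V))
      DFunLike.coe_injective
  have hS : ∀ f : MulAut V, (∀ j ∈ J, j * f = f * j) → toE f ∈ S := by
    intro f hf
    rw [Subring.mem_centralizer_iff]
    rintro _ ⟨j, hj, rfl⟩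
    rw [← toE_mul, ← toE_mul, hf j hj]
  have hinj : ∀ f : S, f ≠ 0 → ∀ v : Additive V, (f : AddMonoid.End (Additive V)) v = 0 → v = 0 := by
    intro f hf
    have hc := (Subring.mem_centralizer_iff).1 f.2
    let U : Subgroup V := AddSubgroup.toSubgroup' (AddMonoidHom.ker (f : AddMonoid.End (Additive V)))
    have hU : ∀ v : V, v ∈ U ↔ (f : AddMonoid.End (Additive V)) (Additive.ofMul v) = 0 := fun v => Iff.rfl
    rcases irr U (by
      intro j hj u hu
      rw [hU] at hu ⊢
      have h1 := DFunLike.congr_fun (hc _ ⟨j, hj, rfl⟩) (Additive.ofMul u)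
      change toE j ((f : AddMonoid.End (Additive V)) (Additive.ofMul u)) =
        (f : AddMonoid.End (Additive V)) (toE j (Additive.ofMul u)) at h1
      rw [hu, map_zero] at h1
      rw [← toE_apply]
      exact h1.symm) with h1 | h1
    · intro v hv
      have : (Additive.toMul v) ∈ U := (hU _).2 hv
      rw [h1, Subgroup.mem_bot] at this
      exact this
    · exfalso
      apply hf
      apply Subtype.ext
      apply AddMonoidHom.ext
      intro v
      have : (Additive.toMul v) ∈ U := by rw [h1]; exact Subgroup.mem_top _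
      exact (hU _).1 this
  have : Nontrivial S := ⟨0, 1, by
    intro e
    obtain ⟨v, hv⟩ := exists_ne (1 : V)
    apply hv
    have h1 := congrArg (fun f : S => (f : AddMonoid.End (Additive V)) (Additive.ofMul v)) e
    exact Additive.ofMul.injective h1.symm⟩
  have : NoZeroDivisors S := ⟨by
    intro f g hfg
    by_contra hcon
    push Not at hcon
    apply hcon.2
    apply Subtype.ext
    apply AddMonoidHom.ext
    intro v
    apply hinj f hcon.1
    have h1 := congrArg (fun f : S => (f : AddMonoid.End (Additive V)) v) hfg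
    exact h1⟩
  have : IsDomain S := NoZeroDivisors.to_isDomain S
  have hF : IsField S := Finite.isDomain_to_isField S
  have h1 := hF.mul_comm ⟨toE a, hS a ha⟩ ⟨toE b, hS b hb⟩
  have h2 : toE a * toE b = toE b * toE a := congrArg Subtype.val h1
  rw [← toE_mul, ← toE_mul] at h2
  exact toE_inj h2

end wedd

section form

variable {V Q : Type*} [Group V] [Finite V] [Group Q] [Finite Q]

omit [Finite Q] in
theorem card_ker {f : V →* Q} (hf : Function.Surjective f) (hV : Nat.card V = Nat.card Q * Nat.card Q) :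
    Nat.card f.ker = Nat.card Q := by
  have : Finite Q := Finite.of_surjective f hf
  have h1 := Subgroup.card_mul_index f.ker
  rw [Subgroup.index_ker, MonoidHom.range_eq_top.2 hf, Subgroup.card_top, hV] at h1
  exact Nat.eq_of_mul_eq_mul_right Nat.card_pos h1

/-- **The plane lemma.** -/
theorem formQ (hc : ∀ u v : V, u * v = v * u) (hodd : Odd (Nat.card V))
    (hV : Nat.card V = Nat.card Q * Nat.card Q) (β : V → V →* Q) (nd : ∀ v, v ≠ 1 → Function.Surjective (β v))
    (e : MulAut V) (he : ∀ v, e (e v) = v) (perp : ∀ c d, e c = c → e d = d⁻¹ → β c d = 1 ∧ β d c = 1)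
    (iso : ∀ d, d ≠ 1 → e d = d⁻¹ → ∃ d', d' ≠ 1 ∧ e d' = d'⁻¹ ∧ β d d' = 1) :
    (∀ v, e v = v) ∨ ∀ v, e v = v⁻¹ := by
  have hsq : ∀ v : V, v * v = 1 → v = 1 := by
    intro v hv
    have h1 : orderOf v ∣ 2 := orderOf_dvd_of_pow_eq_one (by rw [pow_two]; exact hv)
    exact orderOf_eq_one_iff.1 (Nat.eq_one_of_dvd_coprimes (Nat.coprime_two_left.2 hodd) h1 (orderOf_dvd_natCard v))
  -- square roots
  have hroot : ∀ v : V, ∃ w : V, w * w = v := by
    have hinj : Function.Injective (fun w : V => w * w) := by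
      intro w w' h1
      change w * w = w' * w' at h1
      have h2 : w * w'⁻¹ * (w * w'⁻¹) = 1 := by
        calc w * w'⁻¹ * (w * w'⁻¹) = w * (w'⁻¹ * w) * w'⁻¹ := by group
          _ = w * (w * w'⁻¹) * w'⁻¹ := by rw [hc w'⁻¹ w]
          _ = (w * w) * (w'⁻¹ * w'⁻¹) := by group
          _ = 1 := by rw [h1]; group
      exact mul_inv_eq_one.1 (hsq _ h2)
    exact Finite.surjective_of_injective hinj
  by_contra hcon
  push Not at hcon
  obtain ⟨⟨v1, hv1⟩, v2, hv2⟩ := hcon
  -- `c ≠ 1` fixed, `d ≠ 1` inverted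
  set d : V := e v1 * v1⁻¹ with hd
  set c : V := e v2 * v2 with hcdef
  have hd1 : d ≠ 1 := fun h1 => hv1 (mul_inv_eq_one.1 h1)
  have hc1 : c ≠ 1 := fun h1 => hv2 (mul_eq_one_iff_eq_inv.1 h1)
  have hed : e d = d⁻¹ := by
    rw [hd, map_mul, map_inv, he, mul_inv_rev, inv_inv]
  have hec : e c = c := by
    rw [hcdef, map_mul, he, hc]
  let D : Subgroup V :=
    { carrier := {v | e v = v⁻¹}
      mul_mem' := fun {v w} hv hw => by
        change e v = v⁻¹ at hv
        change e w = w⁻¹ at hw
        change e (v * w) = (v * w)⁻¹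
        rw [map_mul, hv, hw, mul_inv_rev, hc]
      one_mem' := by change e 1 = 1⁻¹; rw [map_one, inv_one]
      inv_mem' := fun {v} hv => by
        change e v = v⁻¹ at hv
        change e v⁻¹ = v⁻¹⁻¹
        rw [map_inv, hv] }
  have hD : ∀ v, v ∈ D ↔ e v = v⁻¹ := fun v => Iff.rfl
  -- `|D| ≤ |Q|`
  have h1 : Nat.card D ≤ Nat.card Q := by
    rw [← card_ker (nd c hc1) hV]
    exact Subgroup.card_le_of_le (fun v hv => (perp c v hec ((hD v).1 hv)).1)
  -- `β d` maps `D` onto `Q`
  have h2 : Function.Surjective ((β d).comp D.subtype) := by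
    intro q
    obtain ⟨v, hv⟩ := nd d hd1 q
    obtain ⟨w, hw⟩ := hroot v
    have e1 : w * (e w)⁻¹ ∈ D := by
      rw [hD, map_mul, map_inv, he, mul_inv_rev, inv_inv]
    have e2 : e (w * e w) = w * e w := by rw [map_mul, he, hc]
    refine ⟨⟨w * (e w)⁻¹, e1⟩, ?_⟩
    change β d (w * (e w)⁻¹) = q
    have e3 : w * (e w)⁻¹ * (w * e w) = v := by
      rw [← hw]
      calc w * (e w)⁻¹ * (w * e w) = w * ((e w)⁻¹ * w) * e w := by group
        _ = w * (w * (e w)⁻¹) * e w := by rw [hc (e w)⁻¹ w]
        _ = w * w := by group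
    rw [← e3, map_mul, (perp _ d e2 hed).2, mul_one] at hv
    exact hv
  -- with nontrivial kernel
  obtain ⟨d', hd'1, hed', hdd'⟩ := iso d hd1 hed
  have h3 := Subgroup.card_mul_index ((β d).comp D.subtype).ker
  rw [Subgroup.index_ker, MonoidHom.range_eq_top.2 h2, Subgroup.card_top] at h3
  have h4 : 1 < Nat.card ((β d).comp D.subtype).ker := by
    rw [Finite.one_lt_card_iff_nontrivial]
    refine ⟨1, ⟨⟨d', (hD _).2 hed'⟩, hdd'⟩, fun h5 => hd'1 ?_⟩
    exact (congrArg (fun x : ((β d).comp D.subtype).ker => ((x : D) : V)) h5).symm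
  have h5 : 0 < Nat.card Q := Nat.card_pos
  nlinarith

end form

end Cfsg.Agent.Cit.Nil.LO.FormQ
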