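import Mathlib
import Cfsg.Agent.Cit.Nil.LO.FormQ
import Cfsg.Agent.Cit.Nil.LO.ChartDefs

/-!
# S1309, (D3), node (n1), piece (C): `FormQ` for sections of a group

* `wedd_grp`, `QK.triv_of_irr` : `K = Q₈` centralises `J`, `J` irreducible on the abelian group `V`: `e` centralises `V`;
* `alt_grp` : `N ≤ Z(M)`, `|M| = |N|³`, `[u, M] = N` for `u ∈ M \ N`, `e` an involution centralising `N`: `e` centralises
  or inverts `M / N`;
* `sym_grp` : `M` abelian, `|M| = |Q|²`, `β(u, v) = [u, v^n] ∈ Q` symmetric, nondegenerate, `K`-invariant: `e` centralises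
  or inverts `M`, and in the second case `u ⟂ u^a` for all `a ∈ K`, `a² = e`.
-/

set_option autoImplicit false
set_option linter.unusedSectionVars false

namespace Cfsg.Agent.LOC.FormGrp

open Cfsg.Agent.LOC.ChartDefs Cfsg.Agent.Cit.Nil.LO.FormQ
open scoped commutatorElement

variable {G : Type*} [Group G]

theorem conj_mem {V : Subgroup G} {a : G} (ha : a ∈ Subgroup.normalizer (V : Set G)) {v : G} (hv : v ∈ V) :
    a * v * a⁻¹ ∈ V := (Subgroup.mem_normalizer_iff.1 ha v).1 hv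

theorem wedd_grp {V J : Subgroup G} [Finite V] (hV : ∀ u ∈ V, ∀ v ∈ V, u * v = v * u)
    (hJ : J ≤ Subgroup.normalizer (V : Set G))
    (irr : ∀ U : Subgroup G, U ≤ V → (∀ j ∈ J, ∀ u ∈ U, j * u * j⁻¹ ∈ U) → U = ⊥ ∨ U = V)
    {a b : G} (ha : a ∈ Subgroup.normalizer (V : Set G)) (hb : b ∈ Subgroup.normalizer (V : Set G))
    (haJ : ∀ j ∈ J, j * a = a * j) (hbJ : ∀ j ∈ J, j * b = b * j) :
    ∀ v ∈ V, a * b * v * (a * b)⁻¹ = b * a * v * (b * a)⁻¹ := by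
  let iC : CommGroup V :=
    { (inferInstance : Group V) with mul_comm := fun u v => Subtype.ext (hV u u.2 v v.2) }
  let φ : Subgroup.normalizer (V : Set G) →* MulAut V := Subgroup.normalizerMonoidHom V
  have hφ : ∀ (g : Subgroup.normalizer (V : Set G)) (v : V), ((φ g v : V) : G) = g * v * (g : G)⁻¹ := fun g v => rfl
  let JJ : Set (MulAut V) := {f | ∃ j, ∃ hj : j ∈ J, f = φ ⟨j, hJ hj⟩}
  have hc : ∀ (g : G) (hg : g ∈ Subgroup.normalizer (V : Set G)), (∀ j ∈ J, j * g = g * j) →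
      ∀ f ∈ JJ, f * φ ⟨g, hg⟩ = φ ⟨g, hg⟩ * f := by
    rintro g hg hgJ f ⟨j, hj, rfl⟩
    rw [← map_mul, ← map_mul]
    congr 1
    exact Subtype.ext (hgJ j hj)
  have key := wedd (V := V) (J := JJ) (a := φ ⟨a, ha⟩) (b := φ ⟨b, hb⟩) (by
    intro U hU
    have h1 := irr (U.map V.subtype) (Subgroup.map_subtype_le U) (by
      rintro j hj _ ⟨u, hu, rfl⟩
      have := hU _ ⟨j, hj, rfl⟩ u hu
      exact ⟨_, this, rfl⟩)
    rcases h1 with h1 | h1
    · left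
      rwa [Subgroup.map_eq_bot_iff_of_injective _ V.subtype_injective] at h1
    · right
      rw [eq_top_iff]
      intro v _
      have h2 : (v : G) ∈ U.map V.subtype := by rw [h1]; exact v.2
      obtain ⟨u, hu, hv⟩ := h2
      rwa [← Subtype.ext (p := fun x => x ∈ V) hv]) (hc a ha haJ) (hc b hb hbJ)
  intro v hv
  rw [← map_mul, ← map_mul] at key
  have h2 := congrArg (fun f : MulAut V => ((f ⟨v, hv⟩ : V) : G)) key
  exact h2

theorem triv_of_irr {V J K : Subgroup G} {e : G} (hK : QK K e) [Finite V]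
    (hV : ∀ u ∈ V, ∀ v ∈ V, u * v = v * u) (hJ : J ≤ Subgroup.normalizer (V : Set G))
    (irr : ∀ U : Subgroup G, U ≤ V → (∀ j ∈ J, ∀ u ∈ U, j * u * j⁻¹ ∈ U) → U = ⊥ ∨ U = V)
    (hKV : K ≤ Subgroup.normalizer (V : Set G)) (hKJ : ∀ k ∈ K, ∀ j ∈ J, k * j = j * k) :
    ∀ v ∈ V, e * v = v * e := by
  obtain ⟨a, ha, b, hb, -, -, hab⟩ := hK.com
  intro v hv
  have h1 : (b * a)⁻¹ * v * (b * a) ∈ V := by
    have := conj_mem (inv_mem (mul_mem (hKV hb) (hKV ha))) hv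
    rwa [inv_inv] at this
  have h2 := wedd_grp hV hJ irr (hKV ha) (hKV hb) (fun j hj => (hKJ a ha j hj).symm)
    (fun j hj => (hKJ b hb j hj).symm) _ h1
  rw [hab] at h2
  have h3 : e * (b * a) * ((b * a)⁻¹ * v * (b * a)) * (e * (b * a))⁻¹ = e * v * e⁻¹ := by group
  have h4 : b * a * ((b * a)⁻¹ * v * (b * a)) * (b * a)⁻¹ = v := by group
  rw [h3, h4] at h2
  calc e * v = e * v * e⁻¹ * e := by group
    _ = v * e := by rw [h2]

theorem sq_eq_one {H : Subgroup G} [Finite H] (hodd : Odd (Nat.card H)) {v : G} (hv : v ∈ H) (h2 : v * v = 1) :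
    v = 1 := by
  have h1 : orderOf (⟨v, hv⟩ : H) ∣ 2 := orderOf_dvd_of_pow_eq_one (by
    rw [pow_two]; exact Subtype.ext h2)
  have h3 := orderOf_eq_one_iff.1 (Nat.eq_one_of_dvd_coprimes (Nat.coprime_two_left.2 hodd) h1
    (orderOf_dvd_natCard (⟨v, hv⟩ : H)))
  exact congrArg Subtype.val h3

theorem comm_mul_right {u x y : G} (h : ⁅u, y⁆ * x = x * ⁅u, y⁆) : ⁅u, x * y⁆ = ⁅u, x⁆ * ⁅u, y⁆ := by
  have e1 : ⁅u, x * y⁆ = ⁅u, x⁆ * (x * ⁅u, y⁆ * x⁻¹) := by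
    simp only [commutatorElement_def]; group
  rw [e1, ← h]; group

theorem comm_mul_left {u u' x : G} (h : ⁅u', x⁆ * u = u * ⁅u', x⁆) : ⁅u * u', x⁆ = ⁅u', x⁆ * ⁅u, x⁆ := by
  have e1 : ⁅u * u', x⁆ = (u * ⁅u', x⁆ * u⁻¹) * ⁅u, x⁆ := by
    simp only [commutatorElement_def]; group
  rw [e1, ← h]; group

theorem comm_inv_right {u x : G} (h : ⁅u, x⁆ * x = x * ⁅u, x⁆) : ⁅u, x⁻¹⁆ = ⁅u, x⁆⁻¹ := by
  have e1 : ⁅u, x⁻¹⁆ = x⁻¹ * ⁅u, x⁆⁻¹ * x := by
    simp only [commutatorElement_def]; group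
  have h' : x⁻¹ * ⁅u, x⁆⁻¹ = ⁅u, x⁆⁻¹ * x⁻¹ := by
    rw [← mul_inv_rev, ← mul_inv_rev, h]
  rw [e1, h']; group

theorem comm_inv_left {u x : G} (h : ⁅u, x⁆ * u = u * ⁅u, x⁆) : ⁅u⁻¹, x⁆ = ⁅u, x⁆⁻¹ := by
  have e1 : ⁅u⁻¹, x⁆ = u⁻¹ * ⁅u, x⁆⁻¹ * u := by
    simp only [commutatorElement_def]; group
  have h' : u⁻¹ * ⁅u, x⁆⁻¹ = ⁅u, x⁆⁻¹ * u⁻¹ := by
    rw [← mul_inv_rev, ← mul_inv_rev, h]
  rw [e1, h']; group

theorem conj_comm (k u x : G) : k * ⁅u, x⁆ * k⁻¹ = ⁅k * u * k⁻¹, k * x * k⁻¹⁆ := by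
  simp only [commutatorElement_def]; group

/-- **The plane with an alternating form.** -/
theorem alt_grp [Finite G] {M N : Subgroup G} (hNM : N ≤ M) (hcen : ∀ c ∈ N, ∀ m ∈ M, c * m = m * c)
    (hcomm : ∀ u ∈ M, ∀ v ∈ M, ⁅u, v⁆ ∈ N) (hodd : Odd (Nat.card M))
    (hcard : Nat.card M = Nat.card N * Nat.card N * Nat.card N)
    (nd : ∀ u ∈ M, u ∉ N → ∀ c ∈ N, ∃ v ∈ M, ⁅u, v⁆ = c) {e : G} (he : e * e = 1)
    (heM : e ∈ Subgroup.normalizer (M : Set G)) (heN : ∀ c ∈ N, e * c = c * e) :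
    (∀ m ∈ M, e * m * e⁻¹ * m⁻¹ ∈ N) ∨ ∀ m ∈ M, e * m * e⁻¹ * m ∈ N := by
  have hei : e⁻¹ = e := inv_eq_of_mul_eq_one_right he
  have hoddN : Odd (Nat.card N) := by
    rw [hcard, Nat.odd_mul] at hodd
    exact hodd.2
  set N' : Subgroup M := N.subgroupOf M with hN'
  have hmem : ∀ m : M, m ∈ N' ↔ (m : G) ∈ N := fun m => Subgroup.mem_subgroupOf
  have hnorm : N'.Normal := ⟨by
    intro c hc m
    rw [hmem] at hc ⊢
    have : ((m * c * m⁻¹ : M) : G) = c := by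
      push_cast
      rw [← hcen _ hc m m.2]
      group
    rw [this]
    exact hc⟩
  let V := M ⧸ N'
  have hVcard : Nat.card V = Nat.card N * Nat.card N := by
    have h1 := Subgroup.card_eq_card_quotient_mul_card_subgroup N'
    have h2 : Nat.card N' = Nat.card N := by
      rw [hN']
      exact Nat.card_congr (Subgroup.subgroupOfEquivOfLe hNM).toEquiv
    rw [h2, hcard] at h1
    exact (Nat.eq_of_mul_eq_mul_right Nat.card_pos h1).symm
  have hVodd : Odd (Nat.card V) := by rw [hVcard]; exact hoddN.mul hoddN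
  -- the form
  have hcom : ∀ u v w : M, ⁅(u : G), (v : G)⁆ * w = w * ⁅(u : G), (v : G)⁆ := fun u v w =>
    hcen _ (hcomm u u.2 v v.2) w w.2
  let f : M → (M →* N) := fun u =>
    { toFun := fun v => ⟨⁅(u : G), (v : G)⁆, hcomm u u.2 v v.2⟩
      map_one' := by
        apply Subtype.ext
        change ⁅(u : G), ((1 : M) : G)⁆ = 1
        rw [Subgroup.coe_one, commutatorElement_one_right]
      map_mul' := fun v w => by
        apply Subtype.ext
        change ⁅(u : G), ((v * w : M) : G)⁆ = ⁅(u : G), (v : G)⁆ * ⁅(u : G), (w : G)⁆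
        rw [Subgroup.coe_mul]
        exact comm_mul_right (hcom u w v) }
  have hf : ∀ u v : M, ((f u v : N) : G) = ⁅(u : G), (v : G)⁆ := fun _ _ => rfl
  have hker : ∀ u : M, N' ≤ (f u).ker := by
    intro u v hv
    rw [MonoidHom.mem_ker]
    apply Subtype.ext
    rw [hf]
    change _ = (1 : G)
    rw [commutatorElement_eq_one_iff_mul_comm]
    exact (hcen _ ((hmem v).1 hv) u u.2).symm
  let β : V → V →* N := fun x => QuotientGroup.lift N' (f x.out) (hker x.out)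
  have hβ : ∀ (x : V) (v : M), β x (QuotientGroup.mk v) = f x.out v := fun x v => rfl
  have hout : ∀ x : V, ((x.out : M) : V) = x := fun x => QuotientGroup.out_eq' x
  -- the automorphism
  let c : M ≃* M := Subgroup.normalizerMonoidHom M ⟨e, heM⟩
  have hc : ∀ m : M, ((c m : M) : G) = e * m * e⁻¹ := fun m => rfl
  have hcN : N'.map (c : M →* M) = N' := by
    apply le_antisymm
    · rintro _ ⟨m, hm, rfl⟩
      rw [hmem]
      have h1 : (m : G) ∈ N := (hmem m).1 hm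
      change e * (m : G) * e⁻¹ ∈ N
      rw [heN _ h1]
      have : (m : G) * e * e⁻¹ = m := by group
      rwa [this]
    · intro m hm
      refine ⟨m, hm, ?_⟩
      apply Subtype.ext
      change e * (m : G) * e⁻¹ = m
      rw [heN _ ((hmem m).1 hm)]
      group
  let E : MulAut V := QuotientGroup.congr N' N' c hcN
  have hE : ∀ m : M, E (QuotientGroup.mk m) = QuotientGroup.mk (c m) := fun m => rfl
  have hmk : ∀ m m' : M, (QuotientGroup.mk m : V) = QuotientGroup.mk m' ↔ (m : G) * (m' : G)⁻¹ ∈ N := by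
    intro m m'
    rw [eq_comm, QuotientGroup.eq, ← hnorm.mem_comm_iff, hmem]
    rfl
  have hconj : ∀ u v : M, e * ⁅(u : G), (v : G)⁆ * e⁻¹ = ⁅(u : G), (v : G)⁆ := fun u v => by
    rw [heN _ (hcomm u u.2 v v.2)]; group
  have h2N : ∀ g : G, g ∈ N → g = g⁻¹ → g = 1 := fun g hg h1 => by
    refine sq_eq_one hoddN hg ?_
    nth_rw 1 [h1]
    exact inv_mul_cancel g
  -- in terms of representatives
  have hcom' : ∀ u v : M, (QuotientGroup.mk u : V) * QuotientGroup.mk v = QuotientGroup.mk v * QuotientGroup.mk u := by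
    intro u v
    rw [← QuotientGroup.mk_mul, ← QuotientGroup.mk_mul, hmk]
    have : ((u * v : M) : G) * ((v * u : M) : G)⁻¹ = ⁅(u : G), (v : G)⁆ := by
      push_cast
      rw [commutatorElement_def]; group
    rw [this]
    exact hcomm u u.2 v v.2
  have hleft : ∀ (x : V) (u : M), (QuotientGroup.mk u : V) = x → ∀ v : M, β x (QuotientGroup.mk v) = f u v := by
    intro x u hu v
    rw [hβ]
    apply Subtype.ext
    rw [hf, hf]
    have h1 : (x.out : G) * (u : G)⁻¹ ∈ N := by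
      rw [← hmk, hout, hu]
    have h2 : (x.out : G) = (x.out : G) * (u : G)⁻¹ * u := by group
    rw [h2, comm_mul_left (hcom u v (⟨_, hNM h1⟩ : M))]
    have h3 : ⁅(x.out : G) * (u : G)⁻¹, (v : G)⁆ = 1 := by
      rw [commutatorElement_eq_one_iff_mul_comm]
      exact hcen _ h1 v v.2
    rw [h3, mul_one]
  have main := formQ (V := V) (Q := N) (by
    intro x y
    obtain ⟨u, rfl⟩ := QuotientGroup.mk_surjective x
    obtain ⟨v, rfl⟩ := QuotientGroup.mk_surjective y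
    exact hcom' u v) hVodd hVcard β (by
    intro x hx q
    have h1 : (x.out : G) ∉ N := by
      intro h2
      apply hx
      rw [← hout x]
      exact (QuotientGroup.eq_one_iff _).2 ((hmem _).2 h2)
    obtain ⟨v, hv, hv'⟩ := nd _ x.out.2 h1 q q.2
    exact ⟨QuotientGroup.mk ⟨v, hv⟩, Subtype.ext hv'⟩) E (by
    intro x
    obtain ⟨u, rfl⟩ := QuotientGroup.mk_surjective x
    rw [hE, hE]
    congr 1
    apply Subtype.ext
    rw [hc, hc, hei]
    calc e * (e * (u : G) * e) * e = (e * e) * u * (e * e) := by group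
      _ = u := by rw [he]; group) (by
    intro x y hx hy
    obtain ⟨u, rfl⟩ := QuotientGroup.mk_surjective x
    obtain ⟨v, rfl⟩ := QuotientGroup.mk_surjective y
    rw [hE, hmk] at hx
    rw [hE, ← QuotientGroup.mk_inv, hmk] at hy
    have k1 : (c u : G) = ((c u : G) * (u : G)⁻¹) * u := by group
    have k2 : (c v : G) = ((c v : G) * ((v⁻¹ : M) : G)⁻¹) * ((v : G)⁻¹) := by
      push_cast
      group
    set α := (c u : G) * (u : G)⁻¹ with hα
    set γ := (c v : G) * ((v⁻¹ : M) : G)⁻¹ with hγ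
    have k3 : ⁅(u : G), (v : G)⁆ = ⁅(c u : G), (c v : G)⁆ := by
      rw [hc, hc, ← conj_comm, hconj]
    have k4 : ⁅(c u : G), (c v : G)⁆ = ⁅(u : G), (v : G)⁆⁻¹ := by
      rw [k1, k2, comm_mul_left (by
        have := hcen _ (hcomm u u.2 (c v) (c v).2) _ (hNM hx)
        rwa [k2] at this)]
      have k5 : ⁅α, γ * (v : G)⁻¹⁆ = 1 := by
        rw [commutatorElement_eq_one_iff_mul_comm]
        exact hcen _ hx _ (mul_mem (hNM hy) (inv_mem v.2))
      rw [k5, mul_one, comm_mul_right (by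
        exact hcen _ (hcomm u u.2 _ (inv_mem v.2)) _ (hNM hy))]
      have k6 : ⁅(u : G), γ⁆ = 1 := by
        rw [commutatorElement_eq_one_iff_mul_comm]
        exact (hcen _ hy _ u.2).symm
      rw [k6, one_mul]
      exact comm_inv_right (hcom u v v)
    have k7 : ⁅(u : G), (v : G)⁆ = 1 := h2N _ (hcomm u u.2 v v.2) (k3.trans k4)
    constructor
    · rw [hleft _ u rfl v]
      exact Subtype.ext k7
    · rw [hleft _ v rfl u]
      apply Subtype.ext
      change ⁅(v : G), (u : G)⁆ = 1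
      rw [← commutatorElement_inv, k7, inv_one]) (by
    intro y hy1 hy
    refine ⟨y, hy1, hy, ?_⟩
    obtain ⟨v, rfl⟩ := QuotientGroup.mk_surjective y
    rw [hleft _ v rfl v]
    apply Subtype.ext
    change ⁅(v : G), (v : G)⁆ = 1
    exact commutatorElement_self _)
  rcases main with main | main
  · left
    intro m hm
    have h1 := main (QuotientGroup.mk ⟨m, hm⟩)
    rwa [hE, hmk] at h1
  · right
    intro m hm
    have h1 := main (QuotientGroup.mk ⟨m, hm⟩)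
    rw [hE, ← QuotientGroup.mk_inv, hmk] at h1
    have h2 : ((c ⟨m, hm⟩ : M) : G) * (((⟨m, hm⟩ : M)⁻¹ : M) : G)⁻¹ = e * m * e⁻¹ * m := by
      push_cast
      rw [inv_inv]
      rfl
    rwa [h2] at h1

/-- **The plane with a symmetric form.** -/
theorem sym_grp [Finite G] {M Q : Subgroup G} {n : G} (hab : ∀ u ∈ M, ∀ v ∈ M, u * v = v * u)
    (hodd : Odd (Nat.card M)) (hcard : Nat.card M = Nat.card Q * Nat.card Q)
    (hin : ∀ u ∈ M, ∀ v ∈ M, ⁅u, n * v * n⁻¹⁆ ∈ Q) (hQM : ∀ c ∈ Q, ∀ v ∈ M, c * v = v * c)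
    (hQn : ∀ c ∈ Q, c * n = n * c) (nd : ∀ u ∈ M, u ≠ 1 → ∀ c ∈ Q, ∃ v ∈ M, ⁅u, n * v * n⁻¹⁆ = c)
    (sym : ∀ u ∈ M, ∀ v ∈ M, ⁅u, n * v * n⁻¹⁆ = ⁅v, n * u * n⁻¹⁆) {K : Subgroup G} {e : G} (hK : QK K e)
    (hKM : K ≤ Subgroup.normalizer (M : Set G)) (hKn : ∀ k ∈ K, k * n = n * k)
    (hKQ : ∀ k ∈ K, ∀ c ∈ Q, k * c = c * k) :
    (∀ u ∈ M, e * u * e⁻¹ = u) ∨ ((∀ u ∈ M, e * u * e⁻¹ = u⁻¹) ∧
      ∀ a ∈ K, a * a = e → ∀ u ∈ M, ⁅u, n * (a * u * a⁻¹) * n⁻¹⁆ = 1) := by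
  have hei : e⁻¹ = e := hK.inv_e
  have he := hK.sq
  have hoddQ : Odd (Nat.card Q) := by
    rw [hcard, Nat.odd_mul] at hodd
    exact hodd.2
  have hQ' : ∀ c ∈ Q, ∀ v ∈ M, c * (n * v * n⁻¹) = n * v * n⁻¹ * c := by
    intro c hc v hv
    have h1 := hQn c hc
    have h2 := hQM c hc v hv
    have h3 : c * n⁻¹ = n⁻¹ * c := by
      calc c * n⁻¹ = n⁻¹ * (n * c) * n⁻¹ := by group
        _ = n⁻¹ * (c * n) * n⁻¹ := by rw [h1]
        _ = n⁻¹ * c := by group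
    calc c * (n * v * n⁻¹) = (c * n) * v * n⁻¹ := by group
      _ = n * (c * v) * n⁻¹ := by rw [h1]; group
      _ = n * v * (c * n⁻¹) := by rw [h2]; group
      _ = n * v * n⁻¹ * c := by rw [h3]; group
  have h2Q : ∀ g : G, g ∈ Q → g = g⁻¹ → g = 1 := fun g hg h1 => by
    refine sq_eq_one hoddQ hg ?_
    nth_rw 1 [h1]
    exact inv_mul_cancel g
  let β : M → M →* Q := fun u =>
    { toFun := fun v => ⟨⁅(u : G), n * (v : G) * n⁻¹⁆, hin u u.2 v v.2⟩
      map_one' := by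
        apply Subtype.ext
        change ⁅(u : G), n * ((1 : M) : G) * n⁻¹⁆ = 1
        rw [Subgroup.coe_one, mul_one, mul_inv_cancel, commutatorElement_one_right]
      map_mul' := fun v w => by
        apply Subtype.ext
        change ⁅(u : G), n * ((v * w : M) : G) * n⁻¹⁆ = ⁅(u : G), n * (v : G) * n⁻¹⁆ * ⁅(u : G), n * (w : G) * n⁻¹⁆
        have h1 : n * ((v * w : M) : G) * n⁻¹ = n * (v : G) * n⁻¹ * (n * (w : G) * n⁻¹) := by
          push_cast
          group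
        rw [h1]
        exact comm_mul_right (hQ' _ (hin u u.2 w w.2) v v.2) }
  have hβ : ∀ u v : M, ((β u v : Q) : G) = ⁅(u : G), n * (v : G) * n⁻¹⁆ := fun _ _ => rfl
  -- invariance under `K`
  have hinv : ∀ k ∈ K, ∀ u ∈ M, ∀ v ∈ M, ⁅k * u * k⁻¹, n * (k * v * k⁻¹) * n⁻¹⁆ = ⁅u, n * v * n⁻¹⁆ := by
    intro k hk u hu v hv
    have h1 := hKn k hk
    have h2 : n * (k * v * k⁻¹) * n⁻¹ = k * (n * v * n⁻¹) * k⁻¹ := by
      have h3 : k⁻¹ * n⁻¹ = n⁻¹ * k⁻¹ := by rw [← mul_inv_rev, ← mul_inv_rev, h1]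
      calc n * (k * v * k⁻¹) * n⁻¹ = (n * k) * v * (k⁻¹ * n⁻¹) := by group
        _ = (k * n) * v * (n⁻¹ * k⁻¹) := by rw [h1, h3]
        _ = k * (n * v * n⁻¹) * k⁻¹ := by group
    rw [h2, ← conj_comm, hKQ k hk _ (hin u hu v hv)]
    group
  -- `⁅u, (v⁻¹)^n⁆ = ⁅u, v^n⁆⁻¹`
  have hneg : ∀ u ∈ M, ∀ v ∈ M, ⁅u, n * v⁻¹ * n⁻¹⁆ = ⁅u, n * v * n⁻¹⁆⁻¹ := by
    intro u hu v hv
    have h1 : n * v⁻¹ * n⁻¹ = (n * v * n⁻¹)⁻¹ := by group
    rw [h1]
    exact comm_inv_right (hQ' _ (hin u hu v hv) v hv)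
  have hperp : ∀ a ∈ K, a * a = e → ∀ u ∈ M, e * u * e⁻¹ = u⁻¹ → ⁅u, n * (a * u * a⁻¹) * n⁻¹⁆ = 1 := by
    intro a ha haa u hu hue
    have hau : a * u * a⁻¹ ∈ M := conj_mem (hKM ha) hu
    refine h2Q _ (hin u hu _ hau) ?_
    have h1 := hinv a ha u hu _ hau
    have h2 : a * (a * u * a⁻¹) * a⁻¹ = u⁻¹ := by
      rw [← hue, ← haa]; group
    rw [h2, hneg _ hau _ hu, sym _ hau _ hu] at h1
    exact h1.symm
  let c : MulAut M := Subgroup.normalizerMonoidHom M ⟨e, hKM hK.mem⟩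
  have hc : ∀ m : M, ((c m : M) : G) = e * m * e⁻¹ := fun m => rfl
  obtain ⟨a, ha, -, -, haa, -, -⟩ := hK.com
  have main := formQ (V := M) (Q := Q) (fun u v => Subtype.ext (hab u u.2 v v.2)) hodd hcard β (by
    intro u hu q
    obtain ⟨v, hv, hv'⟩ := nd u u.2 (fun h0 => hu (Subtype.ext h0)) q q.2
    exact ⟨⟨v, hv⟩, Subtype.ext hv'⟩) c (by
    intro u
    apply Subtype.ext
    rw [hc, hc, hei]
    calc e * (e * (u : G) * e) * e = (e * e) * u * (e * e) := by group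
      _ = u := by rw [he]; group) (by
    intro x y hx hy
    have hx' : e * (x : G) * e⁻¹ = x := congrArg Subtype.val hx
    have hy' : e * (y : G) * e⁻¹ = (y : G)⁻¹ := congrArg Subtype.val hy
    have h1 := hinv e hK.mem x x.2 y y.2
    rw [hx', hy', hneg _ x.2 _ y.2] at h1
    have h3 := h2Q _ (hin x x.2 y y.2) h1.symm
    exact ⟨Subtype.ext h3, Subtype.ext ((sym y y.2 x x.2).trans h3)⟩) (by
    intro d hd hd'
    have hd'' : e * (d : G) * e⁻¹ = (d : G)⁻¹ := congrArg Subtype.val hd'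
    refine ⟨⟨a * d * a⁻¹, conj_mem (hKM ha) d.2⟩, ?_, ?_, ?_⟩
    · intro h0
      apply hd
      have h1 : a * (d : G) * a⁻¹ = 1 := congrArg Subtype.val h0
      apply Subtype.ext
      calc (d : G) = a⁻¹ * (a * d * a⁻¹) * a := by group
        _ = 1 := by rw [h1]; group
    · apply Subtype.ext
      change e * (a * (d : G) * a⁻¹) * e⁻¹ = (a * (d : G) * a⁻¹)⁻¹
      have h1 : e * a = a * e := (hK.cen a ha).symm
      have h2 : a⁻¹ * e⁻¹ = e⁻¹ * a⁻¹ := by rw [← mul_inv_rev, ← mul_inv_rev, h1]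
      calc e * (a * (d : G) * a⁻¹) * e⁻¹ = (e * a) * d * (a⁻¹ * e⁻¹) := by group
        _ = a * (e * d * e⁻¹) * a⁻¹ := by rw [h1, h2]; group
        _ = (a * (d : G) * a⁻¹)⁻¹ := by rw [hd'']; group
    · exact Subtype.ext (hperp a ha haa d d.2 hd''))
  rcases main with main | main
  · left
    intro u hu
    exact congrArg Subtype.val (main ⟨u, hu⟩)
  · right
    have h1 : ∀ u ∈ M, e * u * e⁻¹ = u⁻¹ := fun u hu => congrArg Subtype.val (main ⟨u, hu⟩)
    exact ⟨h1, fun a ha haa u hu => hperp a ha haa u hu (h1 u hu)⟩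

end Cfsg.Agent.LOC.FormGrp
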