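import Mathlib
import Cfsg.Agent.Cit.Nil.LO.FormGrp

/-!
# S1309, (n2), section 7: elements commuting with `Q₈` on a plane with an alternating form (no torus, no field)

* `plane_sq` : `V` of exponent `p`, `|V| = |Q|²`, `β` alternating, `β(v, ·)` onto `Q` for `v ≠ 0`, `a² = b² = -1`,
  `ab = -ba`, all isometries, `x` an isometry commuting with `a`, `b` : then `x² = 1`;
* `alt_sq` : `N ≤ Z(M)`, `|M| = |N|³`, `[u, M] = N` for `u ∈ M \ N`, `K = Q₈` centralises `N`, its involution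
  inverts `M / N`; `g` centralises `N` and `K` and normalises `M` : then `g²` centralises `M`;
* `alt_cent` : if moreover `g` has odd order, then `g` centralises `M`.
-/

set_option autoImplicit false
set_option linter.unusedSectionVars false
set_option linter.style.haveILetI false

namespace Cfsg.Agent.LOC.AltX

open Cfsg.Agent.LOC.ChartDefs Cfsg.Agent.LOC.FormGrp
open scoped commutatorElement

section plane

variable {V Q : Type*} [AddCommGroup V] [AddCommGroup Q]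

theorem eq_zero_of_neg {A : Type*} [AddCommGroup A] {p : ℕ} (hodd : Odd p) (v : A) (hv : p • v = 0) (h1 : v = -v) :
    v = 0 := by
  obtain ⟨j, hj⟩ := hodd
  have h2 : (2 : ℕ) • v = 0 := by
    rw [two_nsmul]
    nth_rw 1 [h1]
    exact neg_add_cancel v
  rw [hj, add_nsmul, mul_nsmul, h2, nsmul_zero, zero_add, one_nsmul] at hv
  exact hv

/-- **The plane lemma.** -/
theorem plane_sq [Finite V] [Finite Q] {p : ℕ} [Fact p.Prime] (hp2 : p ≠ 2) (hexp : ∀ v : V, p • v = 0)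
    (hV : Nat.card V = Nat.card Q * Nat.card Q) (β : V →+ V →+ Q) (nd : ∀ v, v ≠ 0 → Function.Surjective (β v))
    (alt : ∀ u v, β u v = -β v u) (a b x : V →+ V) (ha : ∀ v, a (a v) = -v) (hb : ∀ v, b (b v) = -v)
    (hab : ∀ v, a (b v) = -b (a v)) (ia : ∀ u v, β (a u) (a v) = β u v) (ib : ∀ u v, β (b u) (b v) = β u v)
    (ix : ∀ u v, β (x u) (x v) = β u v) (xa : ∀ v, x (a v) = a (x v)) (xb : ∀ v, x (b v) = b (x v)) :
    ∀ v, x (x v) = v := by
  obtain ⟨α, γ, hαγ⟩ := ZMod.sq_add_sq p (-1)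
  obtain ⟨m, rfl⟩ := ZMod.intCast_surjective α
  obtain ⟨n, rfl⟩ := ZMod.intCast_surjective γ
  have hdvd : (p : ℤ) ∣ m * m + n * n + 1 := by
    rw [← ZMod.intCast_zmod_eq_zero_iff_dvd]
    push_cast
    linear_combination hαγ
  have hodd : Odd p := (Fact.out : p.Prime).odd_of_ne_two hp2
  have hQ : ∀ u v, p • β u v = 0 := by
    intro u v
    rw [← map_nsmul, hexp, map_zero]
  have hz : ∀ v : V, (m * m + n * n) • v = -v := by
    intro v
    obtain ⟨c, hc⟩ := hdvd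
    have h1 : (m * m + n * n + 1) • v = 0 := by
      rw [hc, mul_comm, mul_smul, natCast_zsmul, hexp, smul_zero]
    rw [add_smul, one_smul] at h1
    exact eq_neg_of_add_eq_zero_left h1
  -- adjoints
  have aa : ∀ u v, β (a u) v = -β u (a v) := by
    intro u v
    have h1 := ia u (a v)
    rw [ha, map_neg] at h1
    rw [← h1, neg_neg]
  have ab : ∀ u v, β (b u) v = -β u (b v) := by
    intro u v
    have h1 := ib u (b v)
    rw [hb, map_neg] at h1
    rw [← h1, neg_neg]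
  have hba : ∀ v, b (a v) = -a (b v) := fun v => by rw [hab, neg_neg]
  let ι : V →+ V := m • a + n • b
  have hι : ∀ v, ι v = m • a v + n • b v := fun v => rfl
  have hιι : ∀ v, ι (ι v) = v := by
    intro v
    rw [hι, hι, map_add, map_add, map_zsmul, map_zsmul, map_zsmul, map_zsmul, ha, hb, hba]
    have h1 := hz v
    have h2 : m • (m • -v + n • a (b v)) + n • (m • -a (b v) + n • -v) = -((m * m + n * n) • v) := by
      rw [add_smul, mul_smul, mul_smul]
      simp only [smul_add, smul_neg, smul_smul]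
      rw [mul_comm n m]
      abel
    rw [h2, h1, neg_neg]
  have hιskew : ∀ u v, β (ι u) v = -β u (ι v) := by
    intro u v
    rw [hι, hι, map_add, map_zsmul, map_zsmul, AddMonoidHom.add_apply, AddMonoidHom.coe_smul, AddMonoidHom.coe_smul,
      Pi.smul_apply, Pi.smul_apply, aa, ab, map_add, map_zsmul, map_zsmul, smul_neg, smul_neg, neg_add]
  let c : V →+ V := a.comp b
  have hc : ∀ v, c v = a (b v) := fun v => rfl
  have hcc : ∀ v, c (c v) = -v := by
    intro v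
    rw [hc, hc, hba, map_neg, ha, neg_neg, hb]
  have hιc : ∀ v, ι (c v) = -c (ι v) := by
    intro v
    simp only [hc, hι, map_add, map_zsmul, hba, ha, hb, map_neg, neg_neg, smul_neg]
    abel
  have hcsym : ∀ u v, β u (c v) = β v (c u) := by
    intro u v
    have h1 : β u (a (b v)) = -β (a u) (b v) := by rw [aa, neg_neg]
    have h2 : β (a u) (b v) = -β (b (a u)) v := by rw [ab, neg_neg]
    rw [hc, h1, h2, neg_neg, hba, map_neg, AddMonoidHom.neg_apply, alt v, hc]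
  have xι : ∀ v, x (ι v) = ι (x v) := by
    intro v
    rw [hι, hι, map_add, map_zsmul, map_zsmul, xa, xb]
  have xc : ∀ v, x (c v) = c (x v) := fun v => by rw [hc, hc, xa, xb]
  -- `V₊`, `V₋`
  let P : AddSubgroup V := AddMonoidHom.ker (ι - AddMonoidHom.id V)
  let N : AddSubgroup V := AddMonoidHom.ker (ι + AddMonoidHom.id V)
  have hP : ∀ v, v ∈ P ↔ ι v = v := fun v => by
    rw [AddMonoidHom.mem_ker, AddMonoidHom.sub_apply, sub_eq_zero]; rfl
  have hN : ∀ v, v ∈ N ↔ ι v = -v := fun v => by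
    rw [AddMonoidHom.mem_ker, AddMonoidHom.add_apply, AddMonoidHom.id_apply, add_eq_zero_iff_eq_neg]
  have hPP : ∀ u ∈ P, ∀ v ∈ P, β u v = 0 := by
    intro u hu v hv
    refine eq_zero_of_neg hodd _ (hQ u v) ?_
    have h1 := hιskew u v
    rwa [(hP u).1 hu, (hP v).1 hv] at h1
  have cPN : ∀ v ∈ P, c v ∈ N := by
    intro v hv
    rw [hN, hιc, (hP v).1 hv]
  have cNP : ∀ v ∈ N, c v ∈ P := by
    intro v hv
    rw [hP, hιc, (hN v).1 hv, map_neg, neg_neg]
  have cinj : ∀ v w, c v = c w → v = w := by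
    intro v w h1
    have h2 := congrArg c h1
    rw [hcc, hcc] at h2
    exact neg_injective h2
  have hhalf : ∀ v : V, ∃ w, w + w = v := by
    intro v
    obtain ⟨j, hj⟩ := hodd
    refine ⟨(j + 1) • v, ?_⟩
    have h1 := hexp v
    rw [← add_nsmul, show j + 1 + (j + 1) = (2 * j + 1) + 1 by ring, add_nsmul, ← hj, h1, zero_add, one_nsmul]
  have hcardPN : Nat.card P = Nat.card N :=
    le_antisymm (Nat.card_le_card_of_injective (fun v : P => (⟨c v, cPN v v.2⟩ : N)) (fun v w h1 =>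
      Subtype.ext (cinj _ _ (congrArg Subtype.val h1))))
      (Nat.card_le_card_of_injective (fun v : N => (⟨c v, cNP v v.2⟩ : P)) (fun v w h1 =>
      Subtype.ext (cinj _ _ (congrArg Subtype.val h1))))
  have hcardV : Nat.card V = Nat.card P * Nat.card N := by
    rw [← Nat.card_prod]
    symm
    refine Nat.card_congr (Equiv.ofBijective (fun v : P × N => (v.1 : V) + v.2) ⟨?_, ?_⟩)
    · rintro ⟨⟨u, hu⟩, ⟨v, hv⟩⟩ ⟨⟨u', hu'⟩, ⟨v', hv'⟩⟩ h1
      change u + v = u' + v' at h1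
      have h2 := congrArg ι h1
      rw [map_add, map_add, (hP u).1 hu, (hN v).1 hv, (hP u').1 hu', (hN v').1 hv'] at h2
      have h3 : u - u' = v' - v := by
        rw [sub_eq_sub_iff_add_eq_add, add_comm v' u', h1]
      have h4 : u - u' = -(v' - v) := by
        rw [neg_sub, sub_eq_sub_iff_add_eq_add]
        rw [← sub_eq_add_neg, ← sub_eq_add_neg, sub_eq_sub_iff_add_eq_add] at h2
        rw [h2, add_comm]
      have h5 : v' - v = 0 := eq_zero_of_neg hodd _ (hexp _) (h3.symm.trans h4)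
      rw [h5, sub_eq_zero] at h3
      rw [sub_eq_zero] at h5
      subst h3 h5
      rfl
    · intro v
      obtain ⟨w, rfl⟩ := hhalf v
      refine ⟨⟨⟨w + ι w, by rw [hP, map_add, hιι, add_comm]⟩,
        ⟨w - ι w, by rw [hN, map_sub, hιι, neg_sub]⟩⟩, ?_⟩
      change w + ι w + (w - ι w) = w + w
      abel
  have hNQ : Nat.card N = Nat.card Q := by
    rw [hcardPN, hV] at hcardV
    exact (Nat.mul_self_inj.1 hcardV).symm
  have hinj : ∀ d ∈ P, d ≠ 0 → ∀ w ∈ N, β d w = 0 → w = 0 := by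
    intro d hd hd0 w hw h1
    have hs : Function.Surjective ((β d).comp N.subtype) := by
      intro q
      obtain ⟨v, hv⟩ := nd d hd0 q
      obtain ⟨w, rfl⟩ := hhalf v
      refine ⟨⟨w - ι w, by rw [hN, map_sub, hιι, neg_sub]⟩, ?_⟩
      change β d (w - ι w) = q
      rw [← hv]
      have h2 : β d (w + ι w) = 0 := hPP d hd _ (by rw [hP, map_add, hιι, add_comm])
      have h3 : w + w = (w - ι w) + (w + ι w) := by abel
      rw [h3, map_add (β d) (w - ι w), h2, add_zero]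
    have hb := (Nat.bijective_iff_surjective_and_card ((β d).comp N.subtype)).2 ⟨hs, hNQ⟩
    have h2 := hb.1 (a₁ := ⟨w, hw⟩) (a₂ := 0) (by
      rw [map_zero]
      exact h1)
    exact congrArg Subtype.val h2
  -- the element `x` on `V₊`
  have key : ∀ u ∈ P, x (x u) = u := by
    intro u hu
    have hxu : x u ∈ P := by rw [hP, ← xι, (hP u).1 hu]
    have h1 : β (x u - u) (c (x u + u)) = 0 := by
      rw [map_sub, AddMonoidHom.sub_apply, map_add, map_add, map_add]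
      have h2 : β (x u) (c (x u)) = β u (c u) := by rw [← xc, ix]
      rw [h2, hcsym (x u) u]
      abel
    by_cases h0 : x u - u = 0
    · rw [sub_eq_zero] at h0
      rw [h0, h0]
    have h3 := hinj _ (P.sub_mem hxu hu) h0 _ (cPN _ (P.add_mem hxu hu)) h1
    have h4 : x u + u = 0 := cinj _ _ (by rw [h3, map_zero])
    have h5 : x u = -u := eq_neg_of_add_eq_zero_left h4
    rw [h5, map_neg, h5, neg_neg]
  have key' : ∀ w ∈ N, x (x w) = w := by
    intro w hw
    apply cinj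
    rw [← xc, ← xc, key _ (cNP w hw)]
  intro v
  obtain ⟨w, rfl⟩ := hhalf v
  have h1 : w + w = (w + ι w) + (w - ι w) := by abel
  rw [h1, map_add, map_add, key _ (by rw [hP, map_add, hιι, add_comm]), key' _ (by rw [hN, map_sub, hιι, neg_sub])]

end plane

section mult

variable {V Q : Type*} [CommGroup V] [CommGroup Q]

theorem plane_sq' [Finite V] [Finite Q] {p : ℕ} [Fact p.Prime] (hp2 : p ≠ 2) (hexp : ∀ v : V, v ^ p = 1)
    (hV : Nat.card V = Nat.card Q * Nat.card Q) (β : V →* V →* Q) (nd : ∀ v, v ≠ 1 → Function.Surjective (β v))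
    (alt : ∀ u v, β u v = (β v u)⁻¹) (a b x : V →* V) (ha : ∀ v, a (a v) = v⁻¹) (hb : ∀ v, b (b v) = v⁻¹)
    (hab : ∀ v, a (b v) = (b (a v))⁻¹) (ia : ∀ u v, β (a u) (a v) = β u v) (ib : ∀ u v, β (b u) (b v) = β u v)
    (ix : ∀ u v, β (x u) (x v) = β u v) (xa : ∀ v, x (a v) = a (x v)) (xb : ∀ v, x (b v) = b (x v)) :
    ∀ v, x (x v) = v := by
  haveI : Finite (Additive V) := ‹Finite V›
  haveI : Finite (Additive Q) := ‹Finite Q›
  let B : Additive V →+ Additive V →+ Additive Q :=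
    AddMonoidHom.mk' (fun u => MonoidHom.toAdditive (β u.toMul)) (by
      intro u v
      refine DFunLike.ext _ _ fun w => ?_
      exact congrArg Additive.ofMul (DFunLike.congr_fun (map_mul β u.toMul v.toMul) w.toMul))
  exact plane_sq (V := Additive V) (Q := Additive Q) hp2 hexp hV B nd alt (MonoidHom.toAdditive a)
    (MonoidHom.toAdditive b) (MonoidHom.toAdditive x) ha hb hab ia ib ix xa xb

end mult

section grp

variable {G : Type*} [Group G]

/-- `M / N` for `N ≤ M`, as a type -/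
abbrev Qt (M N : Subgroup G) [(N.subgroupOf M).Normal] : Type _ := M ⧸ N.subgroupOf M

/-- conjugation by `g` on `M` -/
def cjm {M : Subgroup G} {g : G} (hg : g ∈ Subgroup.normalizer (M : Set G)) : M →* M :=
  (Subgroup.normalizerMonoidHom M ⟨g, hg⟩ : MulAut M).toMonoidHom

theorem coe_cjm {M : Subgroup G} {g : G} (hg : g ∈ Subgroup.normalizer (M : Set G)) (m : M) :
    ((cjm hg m : M) : G) = g * m * g⁻¹ := rfl

/-- conjugation by `g` on `M / N`, `g` centralises `N` -/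
def cjq {M N : Subgroup G} [(N.subgroupOf M).Normal] {g : G} (hg : g ∈ Subgroup.normalizer (M : Set G))
    (hgN : ∀ c ∈ N, g * c = c * g) : Qt M N →* Qt M N :=
  QuotientGroup.map _ _ (cjm hg) (by
    intro m hm
    rw [Subgroup.mem_comap, Subgroup.mem_subgroupOf, coe_cjm]
    rw [Subgroup.mem_subgroupOf] at hm
    rw [hgN _ hm, mul_inv_cancel_right]
    exact hm)

theorem cjq_mk {M N : Subgroup G} [(N.subgroupOf M).Normal] {g : G} (hg : g ∈ Subgroup.normalizer (M : Set G))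
    (hgN : ∀ c ∈ N, g * c = c * g) (m : M) :
    cjq hg hgN (QuotientGroup.mk m : Qt M N) = QuotientGroup.mk (cjm hg m) := rfl

theorem mk_eq {M N : Subgroup G} [(N.subgroupOf M).Normal] (m m' : M) :
    (QuotientGroup.mk m : Qt M N) = QuotientGroup.mk m' ↔ (m : G) * (m' : G)⁻¹ ∈ N := by
  rw [eq_comm, QuotientGroup.eq, ← Subgroup.Normal.mem_comm_iff (inferInstance), Subgroup.mem_subgroupOf]
  rfl

/-- `g` trivial modulo `N`, commuting with `e` which inverts `M / N` -/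
theorem cent_of_mod [Finite G] {M N : Subgroup G} {e g : G} (hNM : N ≤ M) (hcen : ∀ c ∈ N, ∀ m ∈ M, c * m = m * c)
    (hodd : Odd (Nat.card N)) (heN : ∀ c ∈ N, e * c = c * e) (hinv : ∀ m ∈ M, e * m * e⁻¹ * m ∈ N)
    (hgN : ∀ c ∈ N, g * c = c * g) (hge : g * e = e * g) (h : ∀ m ∈ M, g * m * g⁻¹ * m⁻¹ ∈ N) :
    ∀ m ∈ M, g * m = m * g := by
  intro m hm
  have h1 := h m hm
  set ζ := g * m * g⁻¹ * m⁻¹ with hζ
  have h2 := hinv m hm
  set η := e * m * e⁻¹ * m with hη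
  have e1 : g * m * g⁻¹ = ζ * m := by rw [hζ]; group
  have e2 : e * m * e⁻¹ = η * m⁻¹ := by rw [hη]; group
  have e3 : g * (e * m * e⁻¹) * g⁻¹ = e * (g * m * g⁻¹) * e⁻¹ := by
    have h3 := hge
    have h4 : e⁻¹ * g⁻¹ = g⁻¹ * e⁻¹ := by rw [← mul_inv_rev, ← mul_inv_rev, h3]
    calc g * (e * m * e⁻¹) * g⁻¹ = (g * e) * m * (e⁻¹ * g⁻¹) := by group
      _ = (e * g) * m * (g⁻¹ * e⁻¹) := by rw [h3, h4]
      _ = e * (g * m * g⁻¹) * e⁻¹ := by group
  have e4 : g * (η * m⁻¹) * g⁻¹ = η * (ζ * m)⁻¹ := by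
    rw [← e1]
    calc g * (η * m⁻¹) * g⁻¹ = (g * η) * m⁻¹ * g⁻¹ := by group
      _ = (η * g) * m⁻¹ * g⁻¹ := by rw [hgN η h2]
      _ = η * (g * m * g⁻¹)⁻¹ := by group
  have e5 : e * (ζ * m) * e⁻¹ = ζ * (η * m⁻¹) := by
    rw [← e2]
    calc e * (ζ * m) * e⁻¹ = (e * ζ) * m * e⁻¹ := by group
      _ = (ζ * e) * m * e⁻¹ := by rw [heN ζ h1]
      _ = ζ * (e * m * e⁻¹) := by group
  rw [e1, e2, e4, e5] at e3
  -- `η (ζ m)⁻¹ = ζ η m⁻¹`
  have e6 : ζ⁻¹ = ζ := by
    have h3 : η * (ζ * m)⁻¹ = ζ⁻¹ * (η * m⁻¹) := by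
      have h4 : ζ⁻¹ * η = η * ζ⁻¹ := hcen _ (inv_mem h1) _ (hNM h2)
      have h5 : ζ⁻¹ * m⁻¹ = m⁻¹ * ζ⁻¹ := hcen _ (inv_mem h1) _ (inv_mem hm)
      calc η * (ζ * m)⁻¹ = η * (m⁻¹ * ζ⁻¹) := by group
        _ = (η * ζ⁻¹) * m⁻¹ := by rw [← h5]; group
        _ = ζ⁻¹ * (η * m⁻¹) := by rw [← h4]; group
    rw [h3] at e3
    exact mul_right_cancel e3
  have e7 : ζ = 1 := sq_eq_one hodd h1 (by
    nth_rw 1 [← e6]
    exact inv_mul_cancel ζ)
  rw [e7, one_mul] at e1
  calc g * m = g * m * g⁻¹ * g := by group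
    _ = m * g := by rw [e1]

/-- **The plane with an alternating form: elements commuting with `Q₈`.** -/
theorem alt_sq [Finite G] {M N K : Subgroup G} {e g : G} {p : ℕ} [Fact p.Prime] (hp2 : p ≠ 2)
    (hexp : ∀ c ∈ N, c ^ p = 1) (hNM : N ≤ M) (hcen : ∀ c ∈ N, ∀ m ∈ M, c * m = m * c)
    (hcomm : ∀ u ∈ M, ∀ v ∈ M, ⁅u, v⁆ ∈ N) (hodd : Odd (Nat.card M))
    (hcard : Nat.card M = Nat.card N * Nat.card N * Nat.card N)
    (nd : ∀ u ∈ M, u ∉ N → ∀ c ∈ N, ∃ v ∈ M, ⁅u, v⁆ = c) (hK : QK K e)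
    (hKM : K ≤ Subgroup.normalizer (M : Set G)) (hKN : ∀ k ∈ K, ∀ c ∈ N, k * c = c * k)
    (hinv : ∀ m ∈ M, e * m * e⁻¹ * m ∈ N) (hgM : g ∈ Subgroup.normalizer (M : Set G))
    (hgN : ∀ c ∈ N, g * c = c * g) (hgK : ∀ k ∈ K, g * k = k * g) : ∀ m ∈ M, g * g * m = m * (g * g) := by
  have hoddN : Odd (Nat.card N) := by
    rw [hcard, Nat.odd_mul] at hodd
    exact hodd.2
  haveI hnorm : (N.subgroupOf M).Normal := ⟨by
    intro c hc m
    rw [Subgroup.mem_subgroupOf] at hc ⊢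
    have : ((m * c * m⁻¹ : M) : G) = c := by
      push_cast
      rw [← hcen _ hc m m.2]
      group
    rw [this]
    exact hc⟩
  have hVcard : Nat.card (Qt M N) = Nat.card N * Nat.card N := by
    have h1 := Subgroup.card_eq_card_quotient_mul_card_subgroup (N.subgroupOf M)
    have h2 : Nat.card (N.subgroupOf M) = Nat.card N := Nat.card_congr (Subgroup.subgroupOfEquivOfLe hNM).toEquiv
    rw [h2, hcard] at h1
    exact (Nat.eq_of_mul_eq_mul_right Nat.card_pos h1).symm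
  letI iV : CommGroup (Qt M N) :=
    { (inferInstance : Group (Qt M N)) with
      mul_comm := by
        intro u v
        obtain ⟨u, rfl⟩ := QuotientGroup.mk_surjective u
        obtain ⟨v, rfl⟩ := QuotientGroup.mk_surjective v
        rw [← QuotientGroup.mk_mul, ← QuotientGroup.mk_mul, mk_eq]
        have : ((u * v : M) : G) * ((v * u : M) : G)⁻¹ = ⁅(u : G), (v : G)⁆ := by
          push_cast
          rw [commutatorElement_def]; group
        rw [this]
        exact hcomm u u.2 v v.2 }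
  letI iN : CommGroup N :=
    { (inferInstance : Group N) with mul_comm := fun u v => Subtype.ext (hcen u u.2 v (hNM v.2)) }
  have hcom : ∀ u v w : M, ⁅(u : G), (v : G)⁆ * w = w * ⁅(u : G), (v : G)⁆ := fun u v w =>
    hcen _ (hcomm u u.2 v v.2) w w.2
  -- the form
  let f0 : M → (M →* N) := fun u =>
    { toFun := fun v => ⟨⁅(u : G), (v : G)⁆, hcomm u u.2 v v.2⟩
      map_one' := by
        apply Subtype.ext
        change ⁅(u : G), ((1 : M) : G)⁆ = 1
        rw [Subgroup.coe_one, commutatorElement_one_right]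
      map_mul' := fun v w => by
        apply Subtype.ext
        change ⁅(u : G), ((v * w : M) : G)⁆ = ⁅(u : G), (v : G)⁆ * ⁅(u : G), (w : G)⁆
        rw [Subgroup.coe_mul]
        exact comm_mul_right (hcom u w v) }
  have hf0 : ∀ u : M, N.subgroupOf M ≤ (f0 u).ker := by
    intro u v hv
    rw [MonoidHom.mem_ker]
    apply Subtype.ext
    change ⁅(u : G), (v : G)⁆ = (1 : G)
    rw [commutatorElement_eq_one_iff_mul_comm]
    exact (hcen _ (Subgroup.mem_subgroupOf.1 hv) u u.2).symm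
  let f : M →* (Qt M N →* N) := MonoidHom.mk' (fun u => QuotientGroup.lift _ (f0 u) (hf0 u)) (by
    intro u u'
    refine DFunLike.ext _ _ fun x => ?_
    obtain ⟨v, rfl⟩ := QuotientGroup.mk_surjective x
    apply Subtype.ext
    change ⁅((u * u' : M) : G), (v : G)⁆ = ⁅(u : G), (v : G)⁆ * ⁅(u' : G), (v : G)⁆
    rw [Subgroup.coe_mul, comm_mul_left (hcom u' v u)]
    exact hcom u' v ⟨_, hNM (hcomm u u.2 v v.2)⟩)
  have hf : N.subgroupOf M ≤ f.ker := by
    intro u hu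
    rw [MonoidHom.mem_ker]
    refine DFunLike.ext _ _ fun x => ?_
    obtain ⟨v, rfl⟩ := QuotientGroup.mk_surjective x
    apply Subtype.ext
    change ⁅(u : G), (v : G)⁆ = (1 : G)
    rw [commutatorElement_eq_one_iff_mul_comm]
    exact hcen _ (Subgroup.mem_subgroupOf.1 hu) v v.2
  let β : Qt M N →* Qt M N →* N := QuotientGroup.lift _ f hf
  have hβ : ∀ u v : M, ((β (QuotientGroup.mk u) (QuotientGroup.mk v) : N) : G) = ⁅(u : G), (v : G)⁆ := fun _ _ => rfl
  -- invariance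
  have inv : ∀ {k : G} (hk : k ∈ Subgroup.normalizer (M : Set G)) (hkN : ∀ c ∈ N, k * c = c * k) (u v : Qt M N),
      β (cjq hk hkN u) (cjq hk hkN v) = β u v := by
    intro k hk hkN u v
    obtain ⟨u, rfl⟩ := QuotientGroup.mk_surjective u
    obtain ⟨v, rfl⟩ := QuotientGroup.mk_surjective v
    apply Subtype.ext
    rw [cjq_mk, cjq_mk, hβ, hβ, coe_cjm, coe_cjm, ← conj_comm, hkN _ (hcomm u u.2 v v.2), mul_inv_cancel_right]
  have cc : ∀ {k l : G} (hk : k ∈ Subgroup.normalizer (M : Set G)) (hkN : ∀ c ∈ N, k * c = c * k)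
      (hl : l ∈ Subgroup.normalizer (M : Set G)) (hlN : ∀ c ∈ N, l * c = c * l), k * l = l * k →
      ∀ v : Qt M N, cjq hk hkN (cjq hl hlN v) = cjq hl hlN (cjq hk hkN v) := by
    intro k l hk hkN hl hlN hkl v
    obtain ⟨v, rfl⟩ := QuotientGroup.mk_surjective v
    rw [cjq_mk, cjq_mk, cjq_mk, cjq_mk]
    congr 1
    apply Subtype.ext
    rw [coe_cjm, coe_cjm, coe_cjm, coe_cjm]
    calc k * (l * (v : G) * l⁻¹) * k⁻¹ = (k * l) * v * (k * l)⁻¹ := by group
      _ = (l * k) * v * (l * k)⁻¹ := by rw [hkl]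
      _ = l * (k * (v : G) * k⁻¹) * l⁻¹ := by group
  obtain ⟨a, ha, b, hb, haa, hbb, hab⟩ := hK.com
  -- `e` inverts
  have hev : ∀ v : M, (QuotientGroup.mk (cjm (hKM hK.mem) v) : Qt M N) = (QuotientGroup.mk v)⁻¹ := by
    intro v
    rw [← QuotientGroup.mk_inv, mk_eq, coe_cjm]
    push_cast
    rw [inv_inv]
    exact hinv v v.2
  have sq : ∀ {k : G} (hk : k ∈ K), k * k = e → ∀ v : Qt M N,
      cjq (hKM hk) (hKN k hk) (cjq (hKM hk) (hKN k hk) v) = v⁻¹ := by
    intro k hk hkk v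
    obtain ⟨v, rfl⟩ := QuotientGroup.mk_surjective v
    rw [← hev, cjq_mk, cjq_mk]
    congr 1
    apply Subtype.ext
    rw [coe_cjm, coe_cjm, coe_cjm, ← hkk]
    group
  have hexpV : ∀ v : Qt M N, v ^ p = 1 := by
    intro v
    by_contra h1
    obtain ⟨c, hc, hc1⟩ : ∃ c ∈ N, c ≠ 1 := by
      by_contra hcon
      push Not at hcon
      have h2 : Nat.card N = 1 := by
        rw [Nat.card_eq_one_iff_unique]
        exact ⟨⟨fun u w => Subtype.ext ((hcon u u.2).trans (hcon w w.2).symm)⟩, ⟨1⟩⟩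
      rw [h2] at hVcard
      have h3 := (Nat.card_eq_one_iff_unique.1 (hVcard.trans (one_mul 1))).1
      exact h1 (Subsingleton.elim _ _)
    obtain ⟨v, rfl⟩ := QuotientGroup.mk_surjective v
    rw [← QuotientGroup.mk_pow, QuotientGroup.eq_one_iff, Subgroup.mem_subgroupOf] at h1
    obtain ⟨w, hw, hw1⟩ := nd _ (v ^ p : M).2 h1 c hc
    have h2 : β (QuotientGroup.mk (v ^ p)) (QuotientGroup.mk ⟨w, hw⟩) = 1 := by
      rw [QuotientGroup.mk_pow, map_pow, MonoidHom.pow_apply]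
      apply Subtype.ext
      rw [Subgroup.coe_pow]
      exact hexp _ (β _ _).2
    have h3 := congrArg Subtype.val h2
    rw [hβ] at h3
    rw [hw1] at h3
    exact hc1 h3
  have main := plane_sq' (V := Qt M N) (Q := N) hp2 hexpV hVcard β (by
    intro u hu c
    obtain ⟨u, rfl⟩ := QuotientGroup.mk_surjective u
    obtain ⟨v, hv, hv'⟩ := nd u u.2 (fun h0 => hu ((QuotientGroup.eq_one_iff _).2 (Subgroup.mem_subgroupOf.2 h0)))
      c c.2
    exact ⟨QuotientGroup.mk ⟨v, hv⟩, Subtype.ext hv'⟩) (by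
    intro u v
    obtain ⟨u, rfl⟩ := QuotientGroup.mk_surjective u
    obtain ⟨v, rfl⟩ := QuotientGroup.mk_surjective v
    apply Subtype.ext
    rw [Subgroup.coe_inv, hβ, hβ, commutatorElement_inv]) (cjq (hKM ha) (hKN a ha)) (cjq (hKM hb) (hKN b hb))
    (cjq hgM hgN) (sq ha haa) (sq hb hbb) (by
    intro v
    obtain ⟨v, rfl⟩ := QuotientGroup.mk_surjective v
    rw [cjq_mk (hKM hb), cjq_mk (hKM ha), cjq_mk (hKM ha), cjq_mk (hKM hb), ← hev]
    congr 1
    apply Subtype.ext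
    rw [coe_cjm, coe_cjm, coe_cjm, coe_cjm, coe_cjm]
    calc a * (b * (v : G) * b⁻¹) * a⁻¹ = (a * b) * v * (a * b)⁻¹ := by group
      _ = e * (b * a) * v * (e * (b * a))⁻¹ := by rw [hab]
      _ = e * (b * (a * (v : G) * a⁻¹) * b⁻¹) * e⁻¹ := by group)
    (inv _ _) (inv _ _) (inv _ _) (cc _ _ _ _ (hgK a ha)) (cc _ _ _ _ (hgK b hb))
  -- the end
  refine cent_of_mod hNM hcen hoddN (hKN e hK.mem) hinv (fun c hc => ?_) ?_ fun m hm => ?_
  · rw [mul_assoc, hgN c hc, ← mul_assoc, hgN c hc, mul_assoc]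
  · rw [mul_assoc, hgK e hK.mem, ← mul_assoc, hgK e hK.mem, mul_assoc]
  · have h1 := main (QuotientGroup.mk ⟨m, hm⟩)
    rw [cjq_mk, cjq_mk, mk_eq, coe_cjm, coe_cjm] at h1
    change g * (g * m * g⁻¹) * g⁻¹ * m⁻¹ ∈ N at h1
    have h2 : g * g * m * (g * g)⁻¹ * m⁻¹ = g * (g * m * g⁻¹) * g⁻¹ * m⁻¹ := by group
    rw [h2]
    exact h1

/-- **The same for `g` of odd order.** -/
theorem alt_cent [Finite G] {M N K : Subgroup G} {e g : G} {p : ℕ} [Fact p.Prime] (hp2 : p ≠ 2)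
    (hexp : ∀ c ∈ N, c ^ p = 1) (hNM : N ≤ M) (hcen : ∀ c ∈ N, ∀ m ∈ M, c * m = m * c)
    (hcomm : ∀ u ∈ M, ∀ v ∈ M, ⁅u, v⁆ ∈ N) (hodd : Odd (Nat.card M))
    (hcard : Nat.card M = Nat.card N * Nat.card N * Nat.card N)
    (nd : ∀ u ∈ M, u ∉ N → ∀ c ∈ N, ∃ v ∈ M, ⁅u, v⁆ = c) (hK : QK K e)
    (hKM : K ≤ Subgroup.normalizer (M : Set G)) (hKN : ∀ k ∈ K, ∀ c ∈ N, k * c = c * k)
    (hinv : ∀ m ∈ M, e * m * e⁻¹ * m ∈ N) (hg : Odd (orderOf g)) (hgM : g ∈ Subgroup.normalizer (M : Set G))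
    (hgN : ∀ c ∈ N, g * c = c * g) (hgK : ∀ k ∈ K, g * k = k * g) : ∀ m ∈ M, g * m = m * g := by
  intro m hm
  have h1 := alt_sq hp2 hexp hNM hcen hcomm hodd hcard nd hK hKM hKN hinv hgM hgN hgK m hm
  obtain ⟨k, hk⟩ := hg
  have h2 : g = (g * g) ^ (k + 1) := by
    rw [← pow_two, ← pow_mul, show 2 * (k + 1) = (2 * k + 1) + 1 by ring, pow_succ, ← hk, pow_orderOf_eq_one, one_mul]
  have h3 : Commute m (g * g) := h1.symm
  have h4 := h3.pow_right (k + 1)
  rw [← h2] at h4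
  exact h4.symm

end grp

end Cfsg.Agent.LOC.AltX
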