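import Mathlib
import Cfsg.Agent.Nodes.SimplyLaced
import Cfsg.Agent.Nodes.KindBase
import Cfsg.Agent.Nodes.CommA
import Cfsg.Agent.Nodes.CenVV

/-!
# Simply laced root group data: the commutators of root groups (S1309, (n1), piece (C))

* `btwn_eq` : `⟨x, y⟩ = -1` : only `x + y` is between `x` and `y`; `not_btwn` : nothing if `⟨x, y⟩ ≥ 0`;
* `comm_pos`, `comm_mem`, `nd` : `[X x, X y] = 1` if `⟨x, y⟩ ≥ 0`; for `⟨x, y⟩ = -1`, `1 ≠ u ∈ X x` the map
  `v ↦ [u, v]` is onto `X (x + y)`;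
* `comm_self`, `Z_eq_X` : rank at least two: `X r` is abelian, `Z r = X r`.
-/

set_option autoImplicit false
set_option linter.unusedSectionVars false
set_option linter.dupNamespace false

namespace Cfsg.Agent.LOC.SL

open CoxeterSystem Cfsg.Agent.ChevalleyStructure.CoxeterGeom Cfsg.Agent.Tits.Roots Cfsg.Agent.Tits.Core
  Cfsg.Agent.Tits.RootComb Cfsg.Agent.Nodes.Comb Cfsg.Agent.Nodes.Reps Cfsg.Agent.Nodes.BNOf
  Cfsg.Agent.Nodes.RGDLib Cfsg.Agent.Nodes.PosPair Cfsg.Agent.Nodes.Chart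
  Cfsg.Agent.Nodes.Coroot Cfsg.Agent.Nodes.PairOf Cfsg.Agent.Nodes.SimplyLaced Cfsg.Agent.Nodes.OppDec
  Cfsg.Agent.Nodes.KindBase
open scoped commutatorElement

variable {I W Y : Type*} [Fintype I] [DecidableEq I] [Group W] [Fintype W] [Group Y] {M : CoxeterMatrix I}
  {cs : CoxeterSystem M W} {A : I → I → ℤ} {h : IsCartan M A} {p : ℕ} {T : Subgroup Y} {n : I → Y}
  {X : (I → ℤ) → Subgroup Y}

/-! ### Roots between -/

section roots

variable (h4 : ∀ i j, M i j ≠ 4) (h6 : ∀ i j, M i j ≠ 6)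
include h4 h6

/-- the Cartan numbers of a root between `x` and `y` -/
theorem btwn_cases {x y z : I → ℤ} (hx : IsRoot cs h x) (hy : IsRoot cs h y) (h1 : x ≠ y) (h2 : x ≠ -y)
    (hz : Btwn cs h x y z) : cpr cs h x y = -1 ∧ z = x + y := by
  obtain ⟨hr, m, a, b, hm, ha, hb, he⟩ := hz
  have hzx : z ≠ x := by
    rintro rfl
    have h3 : (m - a) • z = b • y := by rw [sub_smul, he]; abel
    rcases eq_or_eq_neg_of_smul cs h hy hx (ne_of_gt hb) h3.symm with h4' | h4'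
    · exact h1 h4'.symm
    · exact h2 (by rw [h4', neg_neg])
  have hzx' : z ≠ -x := by
    rintro rfl
    have h3 : (-(m + a)) • x = b • y := by
      have : (-(m + a)) • x = m • (-x) - a • x := by module
      rw [this, he]; abel
    rcases eq_or_eq_neg_of_smul cs h hy hx (ne_of_gt hb) h3.symm with h4' | h4'
    · exact h1 h4'.symm
    · exact h2 (by rw [h4', neg_neg])
  have hzy : z ≠ y := by
    rintro rfl
    have h3 : (m - b) • z = a • x := by rw [sub_smul, he]; abel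
    rcases eq_or_eq_neg_of_smul cs h hx hy (ne_of_gt ha) h3.symm with h4' | h4'
    · exact h1 h4'
    · exact h2 h4'
  have hzy' : z ≠ -y := by
    rintro rfl
    have h3 : (-(m + b)) • y = a • x := by
      have : (-(m + b)) • y = m • (-y) - b • y := by module
      rw [this, he]; abel
    rcases eq_or_eq_neg_of_smul cs h hx hy (ne_of_gt ha) h3.symm with h4' | h4'
    · exact h1 h4'
    · exact h2 h4'
  have e0 := abs_cpr_le_one cs h h4 h6 hx hy h1 h2
  have e1 := abs_cpr_le_one cs h h4 h6 hr hx hzx hzx'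
  have e2 := abs_cpr_le_one cs h h4 h6 hr hy hzy hzy'
  rw [abs_le] at e0 e1 e2
  have s0 := cpr_symm cs h h4 h6 hx hy
  have s1 := cpr_symm cs h h4 h6 hr hx
  have s2 := cpr_symm cs h h4 h6 hr hy
  have f1 : m * cpr cs h z x = a * 2 + b * cpr cs h y x := by
    rw [← cpr_smul cs h m z hx, he, cpr_add cs h _ _ hx, cpr_smul cs h _ _ hx, cpr_smul cs h _ _ hx,
      cpr_self cs h hx]
  have f2 : m * cpr cs h z y = a * cpr cs h x y + b * 2 := by
    rw [← cpr_smul cs h m z hy, he, cpr_add cs h _ _ hy, cpr_smul cs h _ _ hy, cpr_smul cs h _ _ hy,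
      cpr_self cs h hy]
  have f3 : m * 2 = a * cpr cs h x z + b * cpr cs h y z := by
    rw [← cpr_self cs h hr, ← cpr_smul cs h m z hr, he, cpr_add cs h _ _ hr, cpr_smul cs h _ _ hr,
      cpr_smul cs h _ _ hr]
  rw [← s0] at f1
  rw [← s1, ← s2] at f3
  generalize cpr cs h x y = c at *
  generalize cpr cs h z x = α at *
  generalize cpr cs h z y = β at *
  have hc : c = -1 ∨ c = 0 ∨ c = 1 := by omega
  have hα : α = -1 ∨ α = 0 ∨ α = 1 := by omega
  have hβ : β = -1 ∨ β = 0 ∨ β = 1 := by omega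
  have key : c = -1 ∧ m = a ∧ m = b := by
    rcases hc with rfl | rfl | rfl <;> rcases hα with rfl | rfl | rfl <;> rcases hβ with rfl | rfl | rfl <;> omega
  refine ⟨key.1, ?_⟩
  obtain ⟨-, rfl, rfl⟩ := key
  rw [← smul_add] at he
  exact smul_right_injective _ (ne_of_gt hm) he

theorem not_btwn {x y : I → ℤ} (hx : IsRoot cs h x) (hy : IsRoot cs h y) (h1 : x ≠ y)
    (h0 : 0 ≤ cpr cs h x y) (z : I → ℤ) : ¬ Btwn cs h x y z := by
  intro hz
  have h2 : x ≠ -y := by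
    rintro rfl
    rw [cpr_neg cs h y hy, cpr_self cs h hy] at h0
    omega
  have := (btwn_cases h4 h6 hx hy h1 h2 hz).1
  omega

theorem btwn_eq {x y : I → ℤ} (hx : IsRoot cs h x) (hy : IsRoot cs h y) (h0 : cpr cs h x y = -1) (z : I → ℤ)
    (hz : Btwn cs h x y z) : z = x + y := by
  have h1 : x ≠ y := by
    rintro rfl
    rw [cpr_self cs h hy] at h0
    omega
  have h2 : x ≠ -y := by
    rintro rfl
    rw [cpr_neg cs h y hy, cpr_self cs h hy] at h0
    omega
  exact (btwn_cases h4 h6 hx hy h1 h2 hz).2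

theorem isRoot_add {x y : I → ℤ} (hx : IsRoot cs h x) (hy : IsRoot cs h y) (h0 : cpr cs h x y = -1) :
    IsRoot cs h (x + y) := by
  have := isRoot_refl cs h hx hy
  rw [h0] at this
  have e : x - (-1 : ℤ) • y = x + y := by module
  rwa [e] at this

theorem isRoot_sub {x y : I → ℤ} (hx : IsRoot cs h x) (hy : IsRoot cs h y) (h0 : cpr cs h x y = 1) :
    IsRoot cs h (x - y) := by
  have := isRoot_refl cs h hx hy
  rwa [h0, one_smul] at this

end roots

/-! ### Commutators -/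

section rgd

variable (R : RGD cs h p T n X) (h4 : ∀ i j, M i j ≠ 4) (h6 : ∀ i j, M i j ≠ 6)
include R h4 h6

theorem comm_pos {x y : I → ℤ} (hx : IsRoot cs h x) (hy : IsRoot cs h y) (h1 : x ≠ y)
    (h0 : 0 ≤ cpr cs h x y) {a b : Y} (ha : a ∈ X x) (hb : b ∈ X y) : a * b = b * a := by
  have h2 : x ≠ -y := by
    rintro rfl
    rw [cpr_neg cs h y hy, cpr_self cs h hy] at h0
    omega
  exact Nodes.CenVV.comm_of_btwn R hx hy h1 h2 (not_btwn h4 h6 hx hy h1 h0) ha hb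

theorem comm_mem {x y : I → ℤ} (hx : IsRoot cs h x) (hy : IsRoot cs h y) (h0 : cpr cs h x y = -1)
    {a b : Y} (ha : a ∈ X x) (hb : b ∈ X y) : ⁅a, b⁆ ∈ X (x + y) := by
  have h1 : x ≠ y := by
    rintro rfl
    rw [cpr_self cs h hy] at h0
    omega
  have h2 : x ≠ -y := by
    rintro rfl
    rw [cpr_neg cs h y hy, cpr_self cs h hy] at h0
    omega
  refine Nodes.CenVV.comm_mem_of_btwn R hx hy h1 h2 (fun w hw => ?_) ha hb
  rw [btwn_eq h4 h6 hx hy h0 w hw]

theorem comm_mem_neg {x y : I → ℤ} (hx : IsRoot cs h x) (hy : IsRoot cs h y) (h0 : cpr cs h x y = 1)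
    {a b : Y} (ha : a ∈ X x) (hb : b ∈ X (-y)) : ⁅a, b⁆ ∈ X (x - y) := by
  have := comm_mem R h4 h6 hx hy.neg (by rw [cpr_neg_right cs h x hy, h0]) ha hb
  rwa [← sub_eq_add_neg] at this

/-- **Nondegeneracy.** -/
theorem nd {x y : I → ℤ} (hx : IsRoot cs h x) (hy : IsRoot cs h y) (h0 : cpr cs h x y = -1) {u : Y}
    (hu : u ∈ X x) (hu1 : u ≠ 1) {w : Y} (hw : w ∈ X (x + y)) : ∃ v ∈ X y, ⁅u, v⁆ = w := by
  have hxy := isRoot_add h4 h6 hx hy h0
  have h0' : cpr cs h y x = -1 := by rw [cpr_symm cs h h4 h6 hy hx, h0]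
  obtain ⟨a, ha, b, hb, hmap⟩ := exists_mu R hx.neg (a := u) (by rwa [neg_neg]) hu1
  have h1 := hmap _ hy
  have h2 : y - cpr cs h y (-x) • (-x) = x + y := by
    rw [cpr_neg_right cs h y hx, h0']
    module
  rw [h2] at h1
  have h3 : (a * u * b)⁻¹ * w * (a * u * b) ∈ X y := by
    rw [← h1, mem_cj] at hw
    exact hw
  refine ⟨_, h3, ?_⟩
  have hne : y ≠ x + y := fun e => hx.ne_zero (by
    have : x = (x + y) - y := by abel
    rw [this, ← e]; abel)
  have hnx : -x ≠ y := by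
    rintro rfl
    rw [cpr_neg_right cs h x hx, cpr_self cs h hx] at h0
    omega
  have c1 : cpr cs h (-x) y = 1 := by rw [cpr_neg cs h x hy, h0]; ring
  have c2 : cpr cs h (x + y) y = 1 := by rw [cpr_add cs h x y hy, h0, cpr_self cs h hy]; ring
  have c3 : cpr cs h (-x) (x + y) = -1 := by
    rw [cpr_symm cs h h4 h6 hx.neg hxy, cpr_neg_right cs h _ hx, cpr_add cs h x y hx, cpr_self cs h hx, h0']
    ring
  have hvk := comm_mem R h4 h6 hx hy h0 hu h3
  refine Nodes.CommA.nd_aux (X_inf_X R hy hxy hne) h3 hw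
    (comm_pos R h4 h6 hx.neg hy hnx (by omega) hb h3) (comm_pos R h4 h6 hx.neg hy hnx (by omega) ha h3) hvk
    ?_ (comm_pos R h4 h6 hxy hy hne.symm (by omega) hvk h3) (by group)
  have h5 := comm_mem R h4 h6 hx.neg hxy c3 ha hvk
  have h6' : -x + (x + y) = y := by abel
  rwa [h6'] at h5

/-- the same with the other factor given -/
theorem nd' {x y : I → ℤ} (hx : IsRoot cs h x) (hy : IsRoot cs h y) (h0 : cpr cs h x y = -1) {v : Y}
    (hv : v ∈ X y) (hv1 : v ≠ 1) {w : Y} (hw : w ∈ X (x + y)) : ∃ u ∈ X x, ⁅u, v⁆ = w := by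
  have h0' : cpr cs h y x = -1 := by rw [cpr_symm cs h h4 h6 hy hx, h0]
  obtain ⟨u, hu, he⟩ := nd R h4 h6 hy hx h0' hv hv1 (w := w⁻¹) (inv_mem (by rwa [add_comm]))
  refine ⟨u, hu, ?_⟩
  rw [← commutatorElement_inv, he, inv_inv]

/-- `X x` is abelian if there is a root `y` with `⟨x, y⟩ = -1`. -/
theorem comm_self {x y : I → ℤ} (hx : IsRoot cs h x) (hy : IsRoot cs h y) (h0 : cpr cs h x y = 1) {a b : Y}
    (ha : a ∈ X x) (hb : b ∈ X x) : a * b = b * a := by
  have hxy := isRoot_sub h4 h6 hx hy h0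
  have h0' : cpr cs h y x = 1 := by rw [cpr_symm cs h h4 h6 hy hx, h0]
  have c1 : cpr cs h (x - y) y = -1 := by rw [cpr_sub cs h x y hy, h0, cpr_self cs h hy]; ring
  have c2 : cpr cs h (x - y) x = 1 := by rw [cpr_sub cs h x y hx, h0', cpr_self cs h hx]; ring
  obtain ⟨w, hw⟩ := Subgroup.ne_bot_iff_exists_ne_one.1 (Nodes.Bruhat.X_ne_bot R hxy)
  have e1 : x - y + y = x := by abel
  obtain ⟨k, hk, rfl⟩ := nd R h4 h6 hxy hy c1 w.2 (fun e => hw (Subtype.ext e)) (w := a) (by rwa [e1])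
  have n1 : x - y ≠ x := fun e => hy.ne_zero (by
    have : y = x - (x - y) := by abel
    rw [this, e, sub_self])
  have n2 : y ≠ x := by
    rintro rfl
    rw [cpr_self cs h hx] at h0
    omega
  have h3 : Commute (w : Y) b := comm_pos R h4 h6 hxy hx n1 (by omega) w.2 hb
  have h4' : Commute k b := comm_pos R h4 h6 hy hx n2 (by omega) hk hb
  exact ((h3.mul_left h4').mul_left (h3.inv_left)).mul_left h4'.inv_left

end rgd

section cls

variable {R : Set (I → ℤ)} {Z : (I → ℤ) → Subgroup Y} {z : (I → ℤ) → Y} (C : Cls cs h p T n X R Z z)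
  (h4 : ∀ i j, M i j ≠ 4) (h6 : ∀ i j, M i j ≠ 6)
include C h4 h6

theorem Z_eq_X [Fact p.Prime] [Finite Y] (hp2 : p ≠ 2) {r y : I → ℤ} (hr : r ∈ R) (hy : IsRoot cs h y)
    (h0 : cpr cs h r y = 1) : Z r = X r := by
  have hrr := C.root r hr
  refine le_antisymm (C.le r hr) fun a ha => ?_
  refine Nodes.ChartLoc.mem_Z_of_commute C hp2 hr (RGD.le_Sup (X := X) (S := {y | IsRoot cs h y ∧ 0 < form cs h y r})
    ⟨hrr, form_pos cs h hrr.ne_zero⟩ ha) ?_
  have hxy := isRoot_sub h4 h6 hrr hy h0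
  have h0' : cpr cs h y r = 1 := by rw [cpr_symm cs h h4 h6 hy hrr, h0]
  have c1 : cpr cs h (r - y) y = -1 := by rw [cpr_sub cs h r y hy, h0, cpr_self cs h hy]; ring
  have c2 : cpr cs h (r - y) r = 1 := by rw [cpr_sub cs h r y hrr, h0', cpr_self cs h hrr]; ring
  obtain ⟨w, hw⟩ := Subgroup.ne_bot_iff_exists_ne_one.1 (Nodes.Bruhat.X_ne_bot C.rgd hxy)
  have e1 : r - y + y = r := by abel
  obtain ⟨k, hk, rfl⟩ := nd C.rgd h4 h6 hxy hy c1 w.2 (fun e => hw (Subtype.ext e)) (w := a) (by rwa [e1])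
  have n1 : r - y ≠ r := fun e => hy.ne_zero (by
    have : y = r - (r - y) := by abel
    rw [this, e, sub_self])
  have n1' : r - y ≠ -r := by
    intro e
    rw [e, cpr_neg cs h r hrr, cpr_self cs h hrr] at c2
    omega
  have n2 : y ≠ r := by
    rintro rfl
    rw [cpr_self cs h hrr] at h0
    omega
  have n2' : y ≠ -r := by
    rintro rfl
    rw [cpr_neg cs h r hrr, cpr_self cs h hrr] at h0'
    omega
  have i1 := C.z_inv r hr _ hxy n1 n1' (fun e => by rw [(cpr_zero_iff cs h _ hrr).2 e] at c2; omega) w w.2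
  have i2 := C.z_inv r hr _ hy n2 n2' (fun e => by rw [(cpr_zero_iff cs h _ hrr).2 e] at h0'; omega) k hk
  have hz := C.z_sq r hr
  -- `[w⁻¹, k⁻¹] = [w, k]`
  have m1 : Commute ⁅(w : Y), k⁆ (w : Y) := by
    refine comm_pos C.rgd h4 h6 hrr hxy n1.symm (by rw [cpr_symm cs h h4 h6 hrr hxy]; omega) ha w.2
  have m2 : Commute ⁅(w : Y), k⁆ k := comm_pos C.rgd h4 h6 hrr hy n2.symm (by omega) ha hk
  have e2 : ⁅(w : Y)⁻¹, k⁻¹⁆ = ⁅(w : Y), k⁆ := by
    have e3 : ⁅(w : Y)⁻¹, k⁻¹⁆ = (k * w)⁻¹ * ⁅(w : Y), k⁆ * (k * w) := by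
      rw [commutatorElement_def, commutatorElement_def]; group
    rw [e3, mul_assoc, (m2.mul_right m1).eq]
    group
  have e4 : z r * ⁅(w : Y), k⁆ * z r = ⁅(w : Y), k⁆ := by
    have e5 : z r * ⁅(w : Y), k⁆ * z r = ⁅z r * w * z r, z r * k * z r⁆ := by
      have hzi : (z r)⁻¹ = z r := inv_eq_of_mul_eq_one_right hz
      rw [commutatorElement_def, commutatorElement_def]
      simp only [mul_inv_rev, hzi]
      have hz' : ∀ x : Y, z r * (z r * x) = x := fun x => by rw [← mul_assoc, hz, one_mul]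
      simp only [mul_assoc, hz']
    rw [e5, i1, i2, e2]
  calc ⁅(w : Y), k⁆ * z r = z r * (z r * ⁅(w : Y), k⁆ * z r) := by
        rw [← mul_assoc, ← mul_assoc, hz, one_mul]
    _ = z r * ⁅(w : Y), k⁆ := by rw [e4]

end cls

end Cfsg.Agent.LOC.SL
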