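import Mathlib
import Cfsg.Agent.Nodes.SimplyLaced
import Cfsg.Agent.Nodes.KindBase

/-!
# S1309, (D3), node (n1), piece (C): simply laced roots with the same Cartan numbers with a maximal orthogonal set

Text: blueprints/CIT-6b-LieOdd-helper443.md, (3.1). `F` a maximal set of pairwise orthogonal roots of a simply laced
root system, `x ≠ y` roots with `⟨x, r⟩ = ⟨y, r⟩` for all `r ∈ F`, `I = {r ∈ F : ⟨x, r⟩ ≠ 0}`.

* `MaxF.le_zero` : `⟨x, y⟩ ≤ 0`;
* `MaxF.three` : `|I| ≤ 2`;
* `MaxF.two` : `|I| = 2` : `⟨x, y⟩ = 0`, `x + y = c₁ r₁ + c₂ r₂`;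
* `MaxF.one` : `|I| = 1` : `x + y = c₁ r₁`.
-/

set_option autoImplicit false
set_option linter.unusedSectionVars false

namespace Cfsg.Agent.Cit.Nil.LO

open CoxeterSystem Cfsg.Agent.ChevalleyStructure.CoxeterGeom Cfsg.Agent.Tits.Roots Cfsg.Agent.Tits.Core
  Cfsg.Agent.Tits.RootComb Cfsg.Agent.Nodes.Comb Cfsg.Agent.Nodes.Reps Cfsg.Agent.Nodes.BNOf
  Cfsg.Agent.Nodes.RGDLib Cfsg.Agent.Nodes.SubComb Cfsg.Agent.Nodes.Sub Cfsg.Agent.Nodes.PosPair
  Cfsg.Agent.Nodes.ZFam Cfsg.Agent.Nodes.Coroot Cfsg.Agent.Nodes.PairOf Cfsg.Agent.Nodes.SimplyLaced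
  Cfsg.Agent.Nodes.KindBase

variable {I W : Type*} [Fintype I] [DecidableEq I] [Group W] {M : CoxeterMatrix I}
  (cs : CoxeterSystem M W) {A : I → I → ℤ} (h : IsCartan M A)

/-- a maximal set of pairwise orthogonal roots -/
structure MaxF (F : Set (I → ℤ)) : Prop where
  root : ∀ r ∈ F, IsRoot cs h r
  orth : ∀ r ∈ F, ∀ s ∈ F, r ≠ s → cpr cs h r s = 0
  max : ∀ y, IsRoot cs h y → ∃ r ∈ F, cpr cs h y r ≠ 0

variable {cs h} [Fintype W] (h4 : ∀ i j, M i j ≠ 4) (h6 : ∀ i j, M i j ≠ 6) {F : Set (I → ℤ)}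
  (hF : MaxF cs h F) {x y : I → ℤ} (hx : IsRoot cs h x) (hy : IsRoot cs h y) (hne : x ≠ y)
  (hs : ∀ r ∈ F, cpr cs h x r = cpr cs h y r)
include h4 h6 hF hx hy hne hs

theorem MaxF.le_zero : cpr cs h x y ≤ 0 := by
  by_contra hcon
  have h0 : x ≠ -y := by
    rintro rfl
    rw [cpr_neg cs h y hy, cpr_self cs h hy] at hcon
    omega
  have h1 := abs_cpr_le_one cs h h4 h6 hx hy hne h0
  rw [abs_le] at h1
  have h2 : cpr cs h x y = 1 := by omega
  have h3 := isRoot_refl cs h hx hy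
  rw [h2, one_smul] at h3
  obtain ⟨r, hr, hr0⟩ := hF.max _ h3
  apply hr0
  have h4 := cpr_add cs h x (-y) (hF.root r hr)
  rw [← sub_eq_add_neg, cpr_neg cs h y (hF.root r hr), hs r hr] at h4
  omega

/-- norms -/
theorem MaxF.norm {r : I → ℤ} (hr : r ∈ F) (h0 : cpr cs h x r ≠ 0) :
    form cs h x x = form cs h r r ∧ form cs h y y = form cs h r r ∧
      2 * form cs h x r = cpr cs h x r * form cs h r r ∧ 2 * form cs h y r = cpr cs h x r * form cs h r r := by
  have hrr := hF.root r hr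
  refine ⟨form_self_eq cs h h4 h6 hx hrr h0, form_self_eq cs h h4 h6 hy hrr (by rwa [← hs r hr]),
    two_form_cpr cs h x hrr, ?_⟩
  rw [hs r hr]
  exact two_form_cpr cs h y hrr

theorem MaxF.three {r1 r2 r3 : I → ℤ} (h1 : r1 ∈ F) (h2 : r2 ∈ F) (h3 : r3 ∈ F) (h12 : r1 ≠ r2) (h13 : r1 ≠ r3)
    (h23 : r2 ≠ r3) (c1 : cpr cs h x r1 * cpr cs h x r1 = 1) (c2 : cpr cs h x r2 * cpr cs h x r2 = 1)
    (c3 : cpr cs h x r3 * cpr cs h x r3 = 1) : False := by
  have hle := hF.le_zero h4 h6 hx hy hne hs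
  obtain ⟨p1, p2, p3, p4⟩ := hF.norm h4 h6 hx hy hne hs h1 (fun e => by rw [e] at c1; omega)
  obtain ⟨q1, q2, q3, q4⟩ := hF.norm h4 h6 hx hy hne hs h2 (fun e => by rw [e] at c2; omega)
  obtain ⟨s1, s2, s3, s4⟩ := hF.norm h4 h6 hx hy hne hs h3 (fun e => by rw [e] at c3; omega)
  have o12 := (cpr_zero_iff cs h r1 (hF.root r2 h2)).1 (hF.orth r1 h1 r2 h2 h12)
  have o13 := (cpr_zero_iff cs h r1 (hF.root r3 h3)).1 (hF.orth r1 h1 r3 h3 h13)
  have o23 := (cpr_zero_iff cs h r2 (hF.root r3 h3)).1 (hF.orth r2 h2 r3 h3 h23)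
  have hxy := two_form_cpr cs h x hy
  have hpos := form_nonneg cs h (x + y - cpr cs h x r1 • r1 - cpr cs h x r2 • r2 - cpr cs h x r3 • r3)
  have hN := form_pos cs h hx.ne_zero
  generalize cpr cs h x r1 = a1 at *
  generalize cpr cs h x r2 = a2 at *
  generalize cpr cs h x r3 = a3 at *
  generalize cpr cs h x y = c at *
  simp only [sub_eq_add_neg, form_add_left, form_add_right, form_neg_left, form_neg_right, form_smul_left,
    form_smul_right] at hpos
  rw [form_comm cs h y x, form_comm cs h r1 x, form_comm cs h r2 x, form_comm cs h r3 x, form_comm cs h r1 y,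
    form_comm cs h r2 y, form_comm cs h r3 y, form_comm cs h r2 r1, form_comm cs h r3 r1, form_comm cs h r3 r2,
    o12, o13, o23, ← p1, ← q1, ← s1, p2, ← p1] at hpos
  rw [p2, ← p1] at hxy
  rw [← p1] at p3 p4
  rw [← q1] at q3 q4
  rw [← s1] at s3 s4
  generalize form cs h x x = N at *
  generalize form cs h x y = X at *
  generalize form cs h x r1 = X1 at *
  generalize form cs h x r2 = X2 at *
  generalize form cs h x r3 = X3 at *
  generalize form cs h y r1 = Y1 at *
  generalize form cs h y r2 = Y2 at *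
  generalize form cs h y r3 = Y3 at *
  have key : (2 * c - 2) * N ≥ 0 := by
    have e1 : a1 * (2 * X1) = N := by rw [p3, ← mul_assoc, c1, one_mul]
    have e1' : a1 * (2 * Y1) = N := by rw [p4, ← mul_assoc, c1, one_mul]
    have e2 : a2 * (2 * X2) = N := by rw [q3, ← mul_assoc, c2, one_mul]
    have e2' : a2 * (2 * Y2) = N := by rw [q4, ← mul_assoc, c2, one_mul]
    have e3 : a3 * (2 * X3) = N := by rw [s3, ← mul_assoc, c3, one_mul]
    have e3' : a3 * (2 * Y3) = N := by rw [s4, ← mul_assoc, c3, one_mul]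
    have f1 : a1 * (a1 * N) = N := by rw [← mul_assoc, c1, one_mul]
    have f2 : a2 * (a2 * N) = N := by rw [← mul_assoc, c2, one_mul]
    have f3 : a3 * (a3 * N) = N := by rw [← mul_assoc, c3, one_mul]
    linarith
  nlinarith

/-- `|I| = 2` -/
theorem MaxF.two {r1 r2 : I → ℤ} (h1 : r1 ∈ F) (h2 : r2 ∈ F) (h12 : r1 ≠ r2)
    (c1 : cpr cs h x r1 * cpr cs h x r1 = 1) (c2 : cpr cs h x r2 * cpr cs h x r2 = 1) :
    cpr cs h x y = 0 ∧ x + y = cpr cs h x r1 • r1 + cpr cs h x r2 • r2 := by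
  have hle := hF.le_zero h4 h6 hx hy hne hs
  obtain ⟨p1, p2, p3, p4⟩ := hF.norm h4 h6 hx hy hne hs h1 (fun e => by rw [e] at c1; omega)
  obtain ⟨q1, q2, q3, q4⟩ := hF.norm h4 h6 hx hy hne hs h2 (fun e => by rw [e] at c2; omega)
  have o12 := (cpr_zero_iff cs h r1 (hF.root r2 h2)).1 (hF.orth r1 h1 r2 h2 h12)
  have hxy := two_form_cpr cs h x hy
  have hpos := form_nonneg cs h (x + y - cpr cs h x r1 • r1 - cpr cs h x r2 • r2)
  have hzero : x + y - cpr cs h x r1 • r1 - cpr cs h x r2 • r2 ≠ 0 →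
      0 < form cs h (x + y - cpr cs h x r1 • r1 - cpr cs h x r2 • r2)
        (x + y - cpr cs h x r1 • r1 - cpr cs h x r2 • r2) := fun e => form_pos cs h e
  have hval : form cs h (x + y - cpr cs h x r1 • r1 - cpr cs h x r2 • r2)
      (x + y - cpr cs h x r1 • r1 - cpr cs h x r2 • r2) = cpr cs h x y * form cs h x x := by
    generalize cpr cs h x r1 = a1 at *
    generalize cpr cs h x r2 = a2 at *
    simp only [sub_eq_add_neg, form_add_left, form_add_right, form_neg_left, form_neg_right, form_smul_left,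
      form_smul_right]
    rw [form_comm cs h y x, form_comm cs h r1 x, form_comm cs h r2 x, form_comm cs h r1 y,
      form_comm cs h r2 y, form_comm cs h r2 r1, o12, ← p1, ← q1, p2, ← p1]
    rw [p2, ← p1] at hxy
    rw [← p1] at p3 p4
    rw [← q1] at q3 q4
    generalize form cs h x x = N at *
    generalize form cs h x y = X at *
    generalize form cs h x r1 = X1 at *
    generalize form cs h x r2 = X2 at *
    generalize form cs h y r1 = Y1 at *
    generalize form cs h y r2 = Y2 at *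
    have e1 : a1 * (2 * X1) = N := by rw [p3, ← mul_assoc, c1, one_mul]
    have e1' : a1 * (2 * Y1) = N := by rw [p4, ← mul_assoc, c1, one_mul]
    have e2 : a2 * (2 * X2) = N := by rw [q3, ← mul_assoc, c2, one_mul]
    have e2' : a2 * (2 * Y2) = N := by rw [q4, ← mul_assoc, c2, one_mul]
    have f1 : a1 * (a1 * N) = N := by rw [← mul_assoc, c1, one_mul]
    have f2 : a2 * (a2 * N) = N := by rw [← mul_assoc, c2, one_mul]
    linarith
  have hN := form_pos cs h hx.ne_zero
  rw [hval] at hpos hzero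
  have h0 : cpr cs h x y = 0 := by
    by_contra hc
    have : cpr cs h x y ≤ -1 := by omega
    nlinarith
  refine ⟨h0, ?_⟩
  by_contra hc
  have h3 := hzero (fun e => hc (by
    have : x + y = (x + y - cpr cs h x r1 • r1 - cpr cs h x r2 • r2) + (cpr cs h x r1 • r1 + cpr cs h x r2 • r2) := by
      abel
    rw [this, e, zero_add]))
  rw [h0, zero_mul] at h3
  exact lt_irrefl _ h3

/-- `|I| = 1` -/
theorem MaxF.one {r1 : I → ℤ} (h1 : r1 ∈ F) (c1 : cpr cs h x r1 * cpr cs h x r1 = 1)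
    (c0 : ∀ r ∈ F, r ≠ r1 → cpr cs h x r = 0) : cpr cs h x y = -1 ∧ x + y = cpr cs h x r1 • r1 := by
  have hle := hF.le_zero h4 h6 hx hy hne hs
  obtain ⟨p1, p2, p3, p4⟩ := hF.norm h4 h6 hx hy hne hs h1 (fun e => by rw [e] at c1; omega)
  have hr1 := hF.root r1 h1
  have hxy := two_form_cpr cs h x hy
  have hpos := form_nonneg cs h (x + y - cpr cs h x r1 • r1)
  have hzero : x + y - cpr cs h x r1 • r1 ≠ 0 →
      0 < form cs h (x + y - cpr cs h x r1 • r1) (x + y - cpr cs h x r1 • r1) := fun e => form_pos cs h e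
  have hval : form cs h (x + y - cpr cs h x r1 • r1) (x + y - cpr cs h x r1 • r1) =
      (cpr cs h x y + 1) * form cs h x x := by
    generalize cpr cs h x r1 = a1 at *
    simp only [sub_eq_add_neg, form_add_left, form_add_right, form_neg_left, form_neg_right, form_smul_left,
      form_smul_right]
    rw [form_comm cs h y x, form_comm cs h r1 x, form_comm cs h r1 y, ← p1, p2, ← p1]
    rw [p2, ← p1] at hxy
    rw [← p1] at p3 p4
    generalize form cs h x x = N at *
    generalize form cs h x y = X at *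
    generalize form cs h x r1 = X1 at *
    generalize form cs h y r1 = Y1 at *
    have e1 : a1 * (2 * X1) = N := by rw [p3, ← mul_assoc, c1, one_mul]
    have e1' : a1 * (2 * Y1) = N := by rw [p4, ← mul_assoc, c1, one_mul]
    have f1 : a1 * (a1 * N) = N := by rw [← mul_assoc, c1, one_mul]
    linarith
  have hN := form_pos cs h hx.ne_zero
  rw [hval] at hpos hzero
  have h0 : cpr cs h x y = -1 := by
    by_contra hc
    have h2 : cpr cs h x y = 0 := by
      by_contra hc'
      have : cpr cs h x y ≤ -2 := by omega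
      nlinarith
    -- `a r₁ - x` is a root, not orthogonal to `y`, and `a r₁ - x - y` is a root orthogonal to `F`
    have hxr : IsRoot cs h (x - cpr cs h x r1 • r1) := isRoot_refl cs h hx hr1
    have h3 : cpr cs h (x - cpr cs h x r1 • r1) y = -1 := by
      have e1 := cpr_sub cs h x (cpr cs h x r1 • r1) hy
      rw [e1, h2, cpr_smul cs h _ _ hy, cpr_symm cs h h4 h6 hr1 hy, ← hs r1 h1, c1]
      rfl
    have h4' := isRoot_refl cs h hxr hy
    rw [h3] at h4'
    obtain ⟨r, hr, hr0⟩ := hF.max _ h4'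
    apply hr0
    have hrr := hF.root r hr
    rw [cpr_sub cs h _ _ hrr, cpr_sub cs h _ _ hrr, cpr_smul cs h _ _ hrr, cpr_smul cs h _ _ hrr, ← hs r hr]
    by_cases hrr1 : r = r1
    · subst hrr1
      rw [cpr_self cs h hrr]
      ring
    · rw [c0 r hr hrr1, hF.orth r1 h1 r hr (Ne.symm hrr1)]
      ring
  refine ⟨h0, ?_⟩
  by_contra hc
  have h3 := hzero (fun e => hc (by
    have : x + y = (x + y - cpr cs h x r1 • r1) + cpr cs h x r1 • r1 := by abel
    rw [this, e, zero_add]))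
  rw [h0] at h3
  norm_num at h3

end Cfsg.Agent.Cit.Nil.LO
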