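import Mathlib
import Cfsg.Agent.Cit.Nil.LO.ChartDefs
import Cfsg.Agent.Nodes.MuSq

/-!
# Lie odd sections, the chart part: the weight groups (S1309, (n1), piece (C)); all types

`Lam cs h F y` : the roots with the same signs as `y` on `F`; `MM cs h X F y = ⟨X x : x ∈ Lam y⟩`.

* `mem_MM_iff` : `MM y` is the set of `u ∈ VV r` (`(y, r) > 0`, `r ∈ F`) contained in all `VV s`, `(y, s) > 0`, and
  commuting with all `Z s`, `(y, s) ≥ 0`;
* `wt_inv` : the elements normalising `L` and centralising the `Z r`, `r ∈ F`, normalise `MM y`;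
* `closed_Lam`, `mem_Lam_iff`, `X_le_MM`.
-/

set_option autoImplicit false
set_option linter.unusedSectionVars false
set_option linter.dupNamespace false

namespace Cfsg.Agent.LOC.Wt

open CoxeterSystem Cfsg.Agent.ChevalleyStructure.CoxeterGeom Cfsg.Agent.Tits.Roots Cfsg.Agent.Tits.Core
  Cfsg.Agent.Tits.RootComb Cfsg.Agent.Nodes.Comb Cfsg.Agent.Nodes.SubComb Cfsg.Agent.Nodes.Reps
  Cfsg.Agent.Nodes.Coroot Cfsg.Agent.Nodes.PosPair Cfsg.Agent.Nodes.BNOf Cfsg.Agent.Nodes.RGDLib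
  Cfsg.Agent.Nodes.Chart Cfsg.Agent.Nodes.ClsNorm Cfsg.Agent.Nodes.ChartLoc Cfsg.Agent.Nodes.ChartFrame
  Cfsg.Agent.Nodes.Slope Cfsg.Agent.Nodes.Bruhat Cfsg.Agent.LOC.ChartDefs

variable {I W Y : Type*} [Fintype I] [DecidableEq I] [Group W] [Fintype W] [Group Y] {M : CoxeterMatrix I}
  {cs : CoxeterSystem M W} {A : I → I → ℤ} {h : IsCartan M A} {p : ℕ} {T : Subgroup Y} {n : I → Y}
  {X : (I → ℤ) → Subgroup Y} {R : Set (I → ℤ)} {Z : (I → ℤ) → Subgroup Y} {z : (I → ℤ) → Y}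

/-- the roots with the same signs as `y` on `F = -F` -/
def Lam (cs : CoxeterSystem M W) (h : IsCartan M A) (F : Set (I → ℤ)) (y : I → ℤ) : Set (I → ℤ) :=
  {x | IsRoot cs h x ∧ ∀ s ∈ F, (0 < form cs h y s → 0 < form cs h x s) ∧ (0 ≤ form cs h y s → 0 ≤ form cs h x s)}

/-- the weight group -/
def MM (cs : CoxeterSystem M W) (h : IsCartan M A) (X : (I → ℤ) → Subgroup Y) (F : Set (I → ℤ)) (y : I → ℤ) :
    Subgroup Y := RGD.Sup X (Lam cs h F y)

theorem mem_Lam_self {F : Set (I → ℤ)} {y : I → ℤ} (hy : IsRoot cs h y) : y ∈ Lam cs h F y :=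
  ⟨hy, fun _ _ => ⟨fun h0 => h0, fun h0 => h0⟩⟩

theorem mem_Lam_iff {F : Set (I → ℤ)} (hF : ∀ r ∈ F, -r ∈ F) {x y : I → ℤ} :
    x ∈ Lam cs h F y ↔ IsRoot cs h x ∧ ∀ s ∈ F, SignType.sign (form cs h x s) = SignType.sign (form cs h y s) := by
  constructor
  · rintro ⟨hx, h1⟩
    refine ⟨hx, fun s hs => ?_⟩
    obtain ⟨a1, a2⟩ := h1 s hs
    obtain ⟨b1, b2⟩ := h1 (-s) (hF s hs)
    rw [form_neg_right, form_neg_right] at b1 b2
    rcases lt_trichotomy (form cs h y s) 0 with h0 | h0 | h0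
    · rw [sign_neg h0, sign_neg (by have := b1 (by omega); omega)]
    · rw [h0, sign_zero]
      have c1 := a2 h0.ge
      have c2 := b2 (by omega)
      rw [show form cs h x s = 0 by omega, sign_zero]
    · rw [sign_pos h0, sign_pos (a1 h0)]
  · rintro ⟨hx, h1⟩
    refine ⟨hx, fun s hs => ⟨fun h0 => ?_, fun h0 => ?_⟩⟩
    · have := h1 s hs
      rw [sign_pos h0] at this
      exact sign_eq_one_iff.1 this
    · have := h1 s hs
      by_contra hcon
      rw [sign_neg (not_le.1 hcon)] at this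
      have h2 := sign_eq_neg_one_iff.1 this.symm
      omega

theorem Lam_congr {F : Set (I → ℤ)} (hF : ∀ r ∈ F, -r ∈ F) {x y : I → ℤ} (hx : x ∈ Lam cs h F y) :
    Lam cs h F x = Lam cs h F y := by
  ext u
  rw [mem_Lam_iff hF, mem_Lam_iff hF]
  have h1 := ((mem_Lam_iff hF).1 hx).2
  constructor
  · rintro ⟨a, b⟩
    exact ⟨a, fun s hs => (b s hs).trans (h1 s hs)⟩
  · rintro ⟨a, b⟩
    exact ⟨a, fun s hs => (b s hs).trans (h1 s hs).symm⟩

theorem closed_Lam (F : Set (I → ℤ)) (y : I → ℤ) : Closed cs h (Lam cs h F y) := by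
  refine ⟨fun x hx => hx.1, fun x hx u hu v hv => ⟨hv.1, fun s hs => ⟨fun h0 => ?_, fun h0 => ?_⟩⟩⟩
  · have h1 := btwn_pos' hv (Nodes.CenVV.fh cs h s) ((hx.2 s hs).1 h0) ((hu.2 s hs).2 h0.le)
    exact h1
  · have h1 := btwn_nonneg' hv (Nodes.CenVV.fh cs h s) ((hx.2 s hs).2 h0) ((hu.2 s hs).2 h0)
    exact h1

theorem X_le_MM {F : Set (I → ℤ)} {x y : I → ℤ} (hx : x ∈ Lam cs h F y) : X x ≤ MM cs h X F y :=
  RGD.le_Sup hx

/-! ### Cutting down -/

theorem smono {S S' : Set (I → ℤ)} {u : Y} (hSS : ∀ x ∈ S, x ∈ S') (hu : u ∈ RGD.Sup X S) : u ∈ RGD.Sup X S' :=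
  RGD.Sup_mono hSS hu

theorem inf_VV (Rd : RGD cs h p T n X) {S : Set (I → ℤ)} (hS : Closed cs h S) {r s : I → ℤ}
    (hr : ∀ x ∈ S, 0 < form cs h x r) {u : Y} (hu : u ∈ RGD.Sup X S) (hus : u ∈ VV cs h X s) :
    u ∈ RGD.Sup X {x | x ∈ S ∧ 0 < form cs h x s} := by
  obtain ⟨a, ha, c, hc, e⟩ := split Rd hS (Nodes.CenVV.fh cs h r) (Nodes.CenVV.fh cs h s) hr hu
  have ha' : a ∈ VV cs h X s := smono (fun x hx => ⟨hS.root x hx.1, hx.2⟩) ha
  have hc' : c ∈ VV cs h X s := by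
    have : c = a⁻¹ * u := by rw [e]; group
    rw [this]
    exact mul_mem (inv_mem ha') hus
  have h1 : c = 1 := sup_inf_sup' Rd (Nodes.CenVV.fh cs h s) (Nodes.CenVV.fh cs h r) hc'
    (smono (fun x hx => ⟨hS.root x hx.1, hx.2, hr x hx.1⟩) hc)
  rw [e, h1, mul_one]
  exact ha

variable [Finite Y] (C : Cls cs h p T n X R Z z)

include C

theorem inf_C {S : Set (I → ℤ)} (hS : Closed cs h S) {r s : I → ℤ} (hs : s ∈ R)
    (hr : ∀ x ∈ S, 0 < form cs h x r) {u : Y} (hu : u ∈ RGD.Sup X S) (hus : ∀ a ∈ Z s, u * a = a * u) :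
    u ∈ RGD.Sup X {x | x ∈ S ∧ 0 ≤ form cs h x s} := by
  obtain ⟨a, ha, c, hc, e⟩ := split C.rgd hS (Nodes.CenVV.fh cs h r) (Nodes.CenVV.fh cs h (-s)) hr hu
  have hc1 : c ∈ RGD.Sup X {x | x ∈ S ∧ 0 ≤ form cs h x s} := by
    refine smono (fun x hx => ⟨hx.1, ?_⟩) hc
    have := hx.2
    rw [Nodes.CenVV.fh_apply, form_neg_right] at this
    omega
  have hc2 : c ∈ Subgroup.centralizer (Z s : Set Y) := by
    refine RGD.Sup_le (X := X) (fun x hx => ?_) hc1
    intro b hb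
    rw [Subgroup.mem_centralizer_iff]
    intro d hd
    exact (C.cent s hs x (hS.root x hx.1) hx.2 b hb d hd).symm
  have ha' : a ∈ VV cs h X (-s) := smono (fun x hx => ⟨hS.root x hx.1, hx.2⟩) ha
  have ha2 : a ∈ Subgroup.centralizer (Z s : Set Y) := by
    have : a = u * c⁻¹ := by rw [e]; group
    rw [this]
    refine mul_mem ?_ (inv_mem hc2)
    rw [Subgroup.mem_centralizer_iff]
    intro d hd
    exact (hus d hd).symm
  have h1 : a = 1 := by
    refine Nodes.CenVV.eq_one_of_normalizes C (neg_mem C hs) ha' ?_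
    rw [neg_neg]
    exact Nodes.ClsNorm.centralizer_le_normalizer' (Z s) ha2
  rw [e, h1, one_mul]
  exact hc1

/-- the roots of `Lam y`, for a subset `F'` of `F` -/
theorem mem_aux {y r : I → ℤ} {u : Y} (F' : Finset (I → ℤ)) (hF' : ∀ s ∈ F', s ∈ R)
    (hu : u ∈ VV cs h X r) (h1 : ∀ s ∈ F', 0 < form cs h y s → u ∈ VV cs h X s)
    (h2 : ∀ s ∈ F', 0 ≤ form cs h y s → ∀ a ∈ Z s, u * a = a * u) :
    u ∈ RGD.Sup X {x | IsRoot cs h x ∧ 0 < form cs h x r ∧
      ∀ s ∈ F', (0 < form cs h y s → 0 < form cs h x s) ∧ (0 ≤ form cs h y s → 0 ≤ form cs h x s)} := by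
  classical
  induction F' using Finset.induction_on with
  | empty =>
    refine smono (fun x hx => ⟨hx.1, hx.2, fun s hs => absurd hs (Finset.notMem_empty s)⟩) hu
  | insert t F' ht ih =>
    have ih' := ih (fun s hs => hF' s (Finset.mem_insert_of_mem hs)) (fun s hs => h1 s (Finset.mem_insert_of_mem hs))
      (fun s hs => h2 s (Finset.mem_insert_of_mem hs))
    have hcl : Closed cs h {x | IsRoot cs h x ∧ 0 < form cs h x r ∧
        ∀ s ∈ F', (0 < form cs h y s → 0 < form cs h x s) ∧ (0 ≤ form cs h y s → 0 ≤ form cs h x s)} := by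
      refine ⟨fun x hx => hx.1, fun x hx u hu v hv => ⟨hv.1, ?_, fun s hs => ⟨fun h0 => ?_, fun h0 => ?_⟩⟩⟩
      · exact btwn_pos' hv (Nodes.CenVV.fh cs h r) hx.2.1 (le_of_lt hu.2.1)
      · exact btwn_pos' hv (Nodes.CenVV.fh cs h s) ((hx.2.2 s hs).1 h0) ((hu.2.2 s hs).2 h0.le)
      · exact btwn_nonneg' hv (Nodes.CenVV.fh cs h s) ((hx.2.2 s hs).2 h0) ((hu.2.2 s hs).2 h0)
    have hg : ∀ x ∈ {x | IsRoot cs h x ∧ 0 < form cs h x r ∧
        ∀ s ∈ F', (0 < form cs h y s → 0 < form cs h x s) ∧ (0 ≤ form cs h y s → 0 ≤ form cs h x s)},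
        0 < form cs h x r := fun x hx => hx.2.1
    rcases lt_trichotomy (form cs h y t) 0 with h0 | h0 | h0
    · refine smono (fun x hx => ⟨hx.1, hx.2.1, fun s hs => ?_⟩) ih'
      rcases Finset.mem_insert.1 hs with rfl | hs
      · exact ⟨fun h3 => absurd h3 (by omega), fun h3 => absurd h3 (by omega)⟩
      · exact hx.2.2 s hs
    · have h3 := inf_C C hcl (hF' t (Finset.mem_insert_self _ _)) hg ih'
        (h2 t (Finset.mem_insert_self _ _) h0.ge)
      refine smono (fun x hx => ⟨hx.1.1, hx.1.2.1, fun s hs => ?_⟩) h3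
      rcases Finset.mem_insert.1 hs with rfl | hs
      · exact ⟨fun h3 => absurd h3 (by omega), fun _ => hx.2⟩
      · exact hx.1.2.2 s hs
    · have h3 := inf_VV C.rgd hcl hg ih' (h1 t (Finset.mem_insert_self _ _) h0)
      refine smono (fun x hx => ⟨hx.1.1, hx.1.2.1, fun s hs => ?_⟩) h3
      rcases Finset.mem_insert.1 hs with rfl | hs
      · exact ⟨fun _ => hx.2, fun _ => le_of_lt hx.2⟩
      · exact hx.1.2.2 s hs

/-- **The weight group.** -/
theorem mem_MM_iff {F : Set (I → ℤ)} (hF : ∀ s ∈ F, s ∈ R) {y r : I → ℤ} (hrF : r ∈ F) (hr : 0 < form cs h y r)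
    {u : Y} : u ∈ MM cs h X F y ↔ (∀ s ∈ F, 0 < form cs h y s → u ∈ VV cs h X s) ∧
      ∀ s ∈ F, 0 ≤ form cs h y s → ∀ a ∈ Z s, u * a = a * u := by
  constructor
  · intro hu
    refine ⟨fun s hs h0 => smono (fun x hx => ⟨hx.1, (hx.2 s hs).1 h0⟩) hu, fun s hs h0 a ha => ?_⟩
    have h1 : u ∈ Subgroup.centralizer (Z s : Set Y) := by
      refine RGD.Sup_le (X := X) (fun x hx => ?_) hu
      intro b hb
      rw [Subgroup.mem_centralizer_iff]
      intro d hd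
      exact (C.cent s (hF s hs) x hx.1 ((hx.2 s hs).2 h0) b hb d hd).symm
    exact (Subgroup.mem_centralizer_iff.1 h1 a ha).symm
  · rintro ⟨h1, h2⟩
    have hfin : F.Finite := (RGD.finite_roots (cs := cs) (h := h)).subset fun s hs => C.root s (hF s hs)
    have h3 := mem_aux C (y := y) (r := r) (u := u) hfin.toFinset (fun s hs => hF s (hfin.mem_toFinset.1 hs))
      (h1 r hrF hr) (fun s hs => h1 s (hfin.mem_toFinset.1 hs)) (fun s hs => h2 s (hfin.mem_toFinset.1 hs))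
    exact smono (fun x hx => ⟨hx.1, fun s hs => hx.2.2 s (hfin.mem_toFinset.2 hs)⟩) h3

variable [Fact p.Prime]

/-- elements normalising `L` (`T ≤ L`) and centralising `Z r` normalise `VV r` -/
theorem cj_VV_eq (hT : T ≤ G1 cs h X) {r : I → ℤ} (hr : r ∈ R) {k : Y}
    (hk : k ∈ Subgroup.normalizer (G1 cs h X : Set Y)) (hkr : ∀ a ∈ Z r, k * a = a * k) :
    cj k (VV cs h X r) = VV cs h X r := by
  have hGG : GG cs h T X = G1 cs h X := by
    have h1 : GG cs h T X = T ⊔ G1 cs h X := rfl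
    rw [h1]
    exact sup_eq_right.2 hT
  have h1 : cj k (VV cs h X r) ≤ VV cs h X r := by
    refine Nodes.MuSq.cj_VV_le C hr ?_ hkr
    rw [hGG]
    exact hk
  have h2 : cj k⁻¹ (VV cs h X r) ≤ VV cs h X r := by
    refine Nodes.MuSq.cj_VV_le C hr ?_ fun a ha => ?_
    · rw [hGG]
      exact inv_mem hk
    · have h3 := hkr a ha
      calc k⁻¹ * a = k⁻¹ * (a * k) * k⁻¹ := by group
        _ = k⁻¹ * (k * a) * k⁻¹ := by rw [h3]
        _ = a * k⁻¹ := by group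
  refine le_antisymm h1 ?_
  have h3 := cj_mono k h2
  rwa [cj_cj_inv] at h3

/-- **K-invariance of the weight groups** (elementwise). -/
theorem wt_inv (hT : T ≤ G1 cs h X) {F : Set (I → ℤ)} (hF : ∀ s ∈ F, s ∈ R) {y r : I → ℤ} (hrF : r ∈ F)
    (hr : 0 < form cs h y r) {K : Subgroup Y} (hK : Cen C F K) {k : Y} (hk : k ∈ K) {u : Y}
    (hu : u ∈ MM cs h X F y) : k * u * k⁻¹ ∈ MM cs h X F y := by
  rw [mem_MM_iff C hF hrF hr] at hu ⊢
  refine ⟨fun s hs h0 => ?_, fun s hs h0 a ha => ?_⟩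
  · have h1 := cj_VV_eq C hT (hF s hs) (hK.nor k hk) fun a ha => hK.comm s hs a ha k hk
    rw [← h1, mem_cj]
    have h2 : k⁻¹ * (k * u * k⁻¹) * k = u := by group
    rw [h2]
    exact hu.1 s hs h0
  · have h1 := hK.comm s hs a ha k hk
    have h2 := hu.2 s hs h0 a ha
    have h3 : k⁻¹ * a = a * k⁻¹ := by
      calc k⁻¹ * a = k⁻¹ * (a * k) * k⁻¹ := by group
        _ = k⁻¹ * (k * a) * k⁻¹ := by rw [h1]
        _ = a * k⁻¹ := by group
    calc k * u * k⁻¹ * a = k * u * (k⁻¹ * a) := by group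
      _ = k * (u * a) * k⁻¹ := by rw [h3]; group
      _ = (k * a) * u * k⁻¹ := by rw [h2]; group
      _ = a * (k * u * k⁻¹) := by rw [h1]; group

theorem wt_nor (hT : T ≤ G1 cs h X) {F : Set (I → ℤ)} (hF : ∀ s ∈ F, s ∈ R) {y r : I → ℤ} (hrF : r ∈ F)
    (hr : 0 < form cs h y r) {K : Subgroup Y} (hK : Cen C F K) :
    K ≤ Subgroup.normalizer (MM cs h X F y : Set Y) := by
  intro k hk
  rw [mem_normalizer_iff_cj]
  ext u
  rw [mem_cj]
  constructor
  · intro h1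
    have h2 := wt_inv C hT hF hrF hr hK hk h1
    have h3 : k * (k⁻¹ * u * k) * k⁻¹ = u := by group
    rwa [h3] at h2
  · intro h1
    have h2 := wt_inv C hT hF hrF hr hK (inv_mem hk) h1
    rwa [inv_inv] at h2

end Cfsg.Agent.LOC.Wt
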