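import Mathlib
import Cfsg.Agent.Cit.Nil.LO.SimplyRoots
import Cfsg.Agent.Cit.Nil.LO.SLComm
import Cfsg.Agent.Cit.Nil.LO.Wt

/-!
# Lie odd, simply laced charts: the weight groups `MM y` (S1309, (n1), piece (C))

`y` a root, `⟨y, r⟩ = 1`, `r ∈ F`.

* `mm_three` : three such `r`: `MM y = X y`;
* `mm_two` : exactly two, `r`, `s`: `MM y = X y ⊔ X (r + s - y)`;
* `mm_one` : exactly one: `MM y = X y ⊔ X (r - y) ⊔ X r`.
-/

set_option autoImplicit false
set_option linter.unusedSectionVars false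
set_option linter.dupNamespace false

namespace Cfsg.Agent.LOC.SL

open CoxeterSystem Cfsg.Agent.ChevalleyStructure.CoxeterGeom Cfsg.Agent.Tits.Roots Cfsg.Agent.Tits.Core
  Cfsg.Agent.Tits.RootComb Cfsg.Agent.Nodes.Comb Cfsg.Agent.Nodes.Reps Cfsg.Agent.Nodes.BNOf
  Cfsg.Agent.Nodes.RGDLib Cfsg.Agent.Nodes.PosPair Cfsg.Agent.Nodes.Chart
  Cfsg.Agent.Nodes.Coroot Cfsg.Agent.Nodes.SimplyLaced Cfsg.Agent.Nodes.KindBase
  Cfsg.Agent.LOC.ChartDefs Cfsg.Agent.LOC.Wt

variable {I W Y : Type*} [Fintype I] [DecidableEq I] [Group W] [Fintype W] [Group Y] {M : CoxeterMatrix I}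
  {cs : CoxeterSystem M W} {A : I → I → ℤ} {h : IsCartan M A} {p : ℕ} {T : Subgroup Y} {n : I → Y}
  {X : (I → ℤ) → Subgroup Y} {R : Set (I → ℤ)} {Z : (I → ℤ) → Subgroup Y} {z : (I → ℤ) → Y}
  {C : Cls cs h p T n X R Z z} {F : Set (I → ℤ)}

/-- the positive half of `F` -/
theorem half (hF : MaxF C F) (hall : ∀ x, IsRoot cs h x → x ∈ R) :
    Cit.Nil.LO.MaxF cs h {r | r ∈ F ∧ 0 ≤ r} := by
  have hroot : ∀ r ∈ F, IsRoot cs h r := fun r hr => C.root r (hF.sub r hr)
  refine ⟨fun r hr => hroot r hr.1, fun r hr s hs hrs => ?_, fun y hy => ?_⟩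
  · rw [cpr_zero_iff cs h r (hroot s hs.1)]
    refine hF.orth r hr.1 s hs.1 (Ne.symm hrs) ?_
    rintro rfl
    exact (hroot _ hr.1).not_pos_neg hr.2 (by simpa using hs.2)
  · obtain ⟨r, hr, h0⟩ := hF.max y (hall y hy)
    rcases (hroot r hr).pos_or_neg with h1 | h1
    · exact ⟨r, ⟨hr, h1⟩, fun e => h0 ((cpr_zero_iff cs h y (hroot r hr)).1 e)⟩
    · refine ⟨-r, ⟨hF.neg r hr, by simpa using h1⟩, fun e => h0 ((cpr_zero_iff cs h y (hroot r hr)).1 ?_)⟩
      rw [cpr_neg_right cs h y (hroot r hr)] at e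
      omega

theorem exists_half (hF : MaxF C F) {r : I → ℤ} (hr : r ∈ F) :
    ∃ r' ∈ {r | r ∈ F ∧ 0 ≤ r}, r' = r ∨ r' = -r := by
  rcases (C.root r (hF.sub r hr)).pos_or_neg with h1 | h1
  · exact ⟨r, ⟨hr, h1⟩, Or.inl rfl⟩
  · exact ⟨-r, ⟨hF.neg r hr, by simpa using h1⟩, Or.inr rfl⟩

theorem pos_in_F (hF : MaxF C F) {x r : I → ℤ} (hx : x ∈ F) (hr : r ∈ F) (h0 : 0 < cpr cs h x r) : x = r := by
  have hrr := C.root r (hF.sub r hr)
  by_contra hne
  have h1 : x ≠ -r := by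
    rintro rfl
    rw [cpr_neg cs h r hrr, cpr_self cs h hrr] at h0
    omega
  have h2 := hF.orth r hr x hx hne h1
  rw [form_comm, ← cpr_zero_iff cs h x hrr] at h2
  omega

theorem not_in_F (hF : MaxF C F) {y r : I → ℤ} (hr : r ∈ F) (h0 : cpr cs h y r = 1) : y ∉ F := by
  intro hy
  have := pos_in_F hF hy hr (by omega)
  rw [this, cpr_self cs h (C.root r (hF.sub r hr))] at h0
  omega

section

variable (h4 : ∀ i j, M i j ≠ 4) (h6 : ∀ i j, M i j ≠ 6)
include h4 h6

/-- the same Cartan numbers -/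
theorem cpr_eq_of_Lam (hF : MaxF C F) {x y : I → ℤ} (hy : IsRoot cs h y) (hx : x ∈ Lam cs h F y) (hyF : y ∉ F)
    (hxF : x ∉ F) : ∀ r ∈ F, cpr cs h x r = cpr cs h y r := by
  intro r hr
  have hrr := C.root r (hF.sub r hr)
  have hr' := hF.neg r hr
  have hxr := hx.1
  have e1 := abs_cpr_le_one cs h h4 h6 hy hrr (fun e => hyF (e ▸ hr)) (fun e => hyF (e ▸ hr'))
  have e2 := abs_cpr_le_one cs h h4 h6 hxr hrr (fun e => hxF (e ▸ hr)) (fun e => hxF (e ▸ hr'))
  rw [abs_le] at e1 e2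
  obtain ⟨a1, a2⟩ := hx.2 r hr
  obtain ⟨b1, b2⟩ := hx.2 (-r) hr'
  rw [form_neg_right, form_neg_right] at b1 b2
  have p1 := cpr_pos_iff cs h x hrr
  have p2 := cpr_pos_iff cs h y hrr
  have z1 := cpr_zero_iff cs h x hrr
  have z2 := cpr_zero_iff cs h y hrr
  omega

theorem lam_two (hF : MaxF C F) (hall : ∀ x, IsRoot cs h x → x ∈ R) {x y r s : I → ℤ} (hy : IsRoot cs h y)
    (hx : x ∈ Lam cs h F y) (hr : r ∈ F) (hs : s ∈ F) (hrs : r ≠ s) (h1 : cpr cs h y r = 1)
    (h2 : cpr cs h y s = 1) : x = y ∨ x + y = r + s := by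
  have hrr := C.root r (hF.sub r hr)
  have hss := C.root s (hF.sub s hs)
  have hyF := not_in_F hF hr h1
  have hxF : x ∉ F := by
    intro hxF
    apply hrs
    have p1 := (cpr_pos_iff cs h x hrr).2 ((hx.2 r hr).1 ((cpr_pos_iff cs h y hrr).1 (by omega)))
    have p2 := (cpr_pos_iff cs h x hss).2 ((hx.2 s hs).1 ((cpr_pos_iff cs h y hss).1 (by omega)))
    rw [← pos_in_F hF hxF hr p1, ← pos_in_F hF hxF hs p2]
  have heq := cpr_eq_of_Lam h4 h6 hF hy hx hyF hxF
  by_cases hne : x = y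
  · exact Or.inl hne
  right
  have hH := half hF hall
  obtain ⟨r', hr', er⟩ := exists_half hF hr
  obtain ⟨s', hs', es⟩ := exists_half hF hs
  have hr0 : cpr cs h x r = 1 := by rw [heq r hr, h1]
  have hs0 : cpr cs h x s = 1 := by rw [heq s hs, h2]
  have key := (hH.two h4 h6 hx.1 hy hne (fun t ht => heq t ht.1) hr' hs' (by
    rcases er with rfl | rfl <;> rcases es with rfl | rfl
    · exact hrs
    · rintro rfl
      rw [cpr_neg_right cs h y hss] at h1
      omega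
    · intro e
      rw [← e, cpr_neg_right cs h y hrr] at h2
      omega
    · intro e
      exact hrs (neg_injective e)) (by
    rcases er with rfl | rfl
    · rw [hr0]; rfl
    · rw [cpr_neg_right cs h x hrr, hr0]; rfl) (by
    rcases es with rfl | rfl
    · rw [hs0]; rfl
    · rw [cpr_neg_right cs h x hss, hs0]; rfl)).2
  rw [key]
  congr 1
  · rcases er with rfl | rfl
    · rw [hr0, one_smul]
    · rw [cpr_neg_right cs h x hrr, hr0]; module
  · rcases es with rfl | rfl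
    · rw [hs0, one_smul]
    · rw [cpr_neg_right cs h x hss, hs0]; module

theorem lam_three (hF : MaxF C F) (hall : ∀ x, IsRoot cs h x → x ∈ R) {x y r s t : I → ℤ} (hy : IsRoot cs h y)
    (hx : x ∈ Lam cs h F y) (hr : r ∈ F) (hs : s ∈ F) (ht : t ∈ F) (hrs : r ≠ s) (hrt : r ≠ t) (hst : s ≠ t)
    (h1 : cpr cs h y r = 1) (h2 : cpr cs h y s = 1) (h3 : cpr cs h y t = 1) : x = y := by
  by_contra hne
  rcases lam_two h4 h6 hF hall hy hx hr hs hrs h1 h2 with e1 | e1
  · exact hne e1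
  rcases lam_two h4 h6 hF hall hy hx hr ht hrt h1 h3 with e2 | e2
  · exact hne e2
  rw [e1] at e2
  exact hst (add_left_cancel e2)

theorem lam_one (hF : MaxF C F) (hall : ∀ x, IsRoot cs h x → x ∈ R) {x y r : I → ℤ} (hy : IsRoot cs h y)
    (hx : x ∈ Lam cs h F y) (hr : r ∈ F) (h1 : cpr cs h y r = 1)
    (h0 : ∀ s ∈ F, s ≠ r → s ≠ -r → cpr cs h y s = 0) : x = y ∨ x + y = r ∨ x = r := by
  have hrr := C.root r (hF.sub r hr)
  have hyF := not_in_F hF hr h1
  by_cases hxF : x ∈ F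
  · right; right
    exact pos_in_F hF hxF hr ((cpr_pos_iff cs h x hrr).2 ((hx.2 r hr).1 ((cpr_pos_iff cs h y hrr).1 (by omega))))
  have heq := cpr_eq_of_Lam h4 h6 hF hy hx hyF hxF
  by_cases hne : x = y
  · exact Or.inl hne
  right; left
  have hH := half hF hall
  obtain ⟨r', hr', er⟩ := exists_half hF hr
  have hr0 : cpr cs h x r = 1 := by rw [heq r hr, h1]
  have key := (hH.one h4 h6 hx.1 hy hne (fun t ht => heq t ht.1) hr' (by
    rcases er with rfl | rfl
    · rw [hr0]; rfl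
    · rw [cpr_neg_right cs h x hrr, hr0]; rfl) (by
    intro t ht hne'
    rw [heq t ht.1]
    refine h0 t ht.1 ?_ ?_
    · rintro rfl
      rcases er with rfl | rfl
      · exact hne' rfl
      · exact hrr.not_pos_neg ht.2 (by simpa using hr'.2)
    · rintro rfl
      rcases er with rfl | rfl
      · exact hrr.not_pos_neg hr'.2 (by simpa using ht.2)
      · exact hne' rfl)).2
  rw [key]
  rcases er with rfl | rfl
  · rw [hr0, one_smul]
  · rw [cpr_neg_right cs h x hrr, hr0]; module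

end

/-! ### The groups -/

section groups

variable (h4 : ∀ i j, M i j ≠ 4) (h6 : ∀ i j, M i j ≠ 6)
include h4 h6

theorem mm_three (hF : MaxF C F) (hall : ∀ x, IsRoot cs h x → x ∈ R) {y r s t : I → ℤ} (hy : IsRoot cs h y)
    (hr : r ∈ F) (hs : s ∈ F) (ht : t ∈ F) (hrs : r ≠ s) (hrt : r ≠ t) (hst : s ≠ t)
    (h1 : cpr cs h y r = 1) (h2 : cpr cs h y s = 1) (h3 : cpr cs h y t = 1) : MM cs h X F y = X y := by
  refine le_antisymm (RGD.Sup_le fun x hx => ?_) (X_le_MM (mem_Lam_self hy))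
  rw [lam_three h4 h6 hF hall hy hx hr hs ht hrs hrt hst h1 h2 h3]

/-- the second root -/
theorem star (hF : MaxF C F) {y r s : I → ℤ} (hy : IsRoot cs h y) (hr : r ∈ F) (hs : s ∈ F) (hrs : r ≠ s)
    (h1 : cpr cs h y r = 1) (h2 : cpr cs h y s = 1) :
    cpr cs h r s = 0 ∧ cpr cs h s r = 0 ∧ IsRoot cs h (r + s - y) ∧ cpr cs h (r + s - y) r = 1 ∧
      cpr cs h (r + s - y) s = 1 ∧ cpr cs h (r + s - y) y = 0 := by
  have hrr := C.root r (hF.sub r hr)
  have hss := C.root s (hF.sub s hs)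
  have hsr' : s ≠ -r := by
    rintro rfl
    rw [cpr_neg_right cs h y hrr] at h2
    omega
  have e0 : cpr cs h r s = 0 := (cpr_zero_iff cs h r hss).2 (hF.orth r hr s hs hrs.symm hsr')
  have e1 : cpr cs h s r = 0 := (cpr_zero_comm cs h hrr hss).1 e0
  have r1 := isRoot_sub h4 h6 hy hrr h1
  have c1 : cpr cs h (y - r) s = 1 := by rw [cpr_sub cs h y r hss, h2, e0]; ring
  have r2 := isRoot_sub h4 h6 r1 hss c1
  have r3 : IsRoot cs h (r + s - y) := by
    have := r2.neg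
    have e : -(y - r - s) = r + s - y := by abel
    rwa [e] at this
  refine ⟨e0, e1, r3, ?_, ?_, ?_⟩
  · rw [cpr_sub cs h _ y hrr, cpr_add cs h r s hrr, cpr_self cs h hrr, e1, h1]; ring
  · rw [cpr_sub cs h _ y hss, cpr_add cs h r s hss, cpr_self cs h hss, e0, h2]; ring
  · rw [cpr_sub cs h _ y hy, cpr_add cs h r s hy, cpr_self cs h hy, cpr_symm cs h h4 h6 hrr hy,
      cpr_symm cs h h4 h6 hss hy, h1, h2]; ring

theorem mm_two (hF : MaxF C F) (hall : ∀ x, IsRoot cs h x → x ∈ R) {y r s : I → ℤ} (hy : IsRoot cs h y)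
    (hr : r ∈ F) (hs : s ∈ F) (hrs : r ≠ s) (h1 : cpr cs h y r = 1) (h2 : cpr cs h y s = 1)
    (h0 : ∀ t ∈ F, t ≠ r → t ≠ -r → t ≠ s → t ≠ -s → cpr cs h y t = 0) :
    MM cs h X F y = X y ⊔ X (r + s - y) := by
  obtain ⟨-, -, hst, s1, s2, -⟩ := star h4 h6 hF hy hr hs hrs h1 h2
  have hrr := C.root r (hF.sub r hr)
  have hss := C.root s (hF.sub s hs)
  have hmem : r + s - y ∈ Lam cs h F y := by
    refine ⟨hst, fun t ht => ?_⟩
    have htt := C.root t (hF.sub t ht)
    rw [← cpr_pos_iff cs h _ htt, ← cpr_pos_iff cs h _ htt]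
    have z1 := cpr_zero_iff cs h y htt
    have z2 := cpr_zero_iff cs h (r + s - y) htt
    have p1 := cpr_pos_iff cs h y htt
    have p2 := cpr_pos_iff cs h (r + s - y) htt
    have key : cpr cs h (r + s - y) t = cpr cs h y t := by
      by_cases a1 : t = r
      · rw [a1, s1, h1]
      by_cases a2 : t = -r
      · rw [a2, cpr_neg_right cs h _ hrr, cpr_neg_right cs h _ hrr, s1, h1]
      by_cases a3 : t = s
      · rw [a3, s2, h2]
      by_cases a4 : t = -s
      · rw [a4, cpr_neg_right cs h _ hss, cpr_neg_right cs h _ hss, s2, h2]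
      have b1 := hF.orth r hr t ht a1 a2
      have b2 := hF.orth s hs t ht a3 a4
      rw [← cpr_zero_iff cs h _ htt] at b1 b2
      rw [cpr_sub cs h _ y htt, cpr_add cs h r s htt, b1, b2, h0 t ht a1 a2 a3 a4]
      ring
    rw [key] at z2 p2 ⊢
    refine ⟨fun a => a, fun a => ?_⟩
    omega
  refine le_antisymm (RGD.Sup_le fun x hx => ?_) (sup_le (X_le_MM (mem_Lam_self hy)) (X_le_MM hmem))
  rcases lam_two h4 h6 hF hall hy hx hr hs hrs h1 h2 with e | e
  · rw [e]; exact le_sup_left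
  · have : x = r + s - y := by rw [← e]; abel
    rw [this]; exact le_sup_right

theorem mm_one (hF : MaxF C F) (hall : ∀ x, IsRoot cs h x → x ∈ R) {y r : I → ℤ} (hy : IsRoot cs h y)
    (hr : r ∈ F) (h1 : cpr cs h y r = 1) (h0 : ∀ t ∈ F, t ≠ r → t ≠ -r → cpr cs h y t = 0) :
    MM cs h X F y = X y ⊔ X (r - y) ⊔ X r := by
  have hrr := C.root r (hF.sub r hr)
  have hry : IsRoot cs h (r - y) := isRoot_sub h4 h6 hrr hy (by rw [cpr_symm cs h h4 h6 hrr hy, h1])
  have key : ∀ t ∈ F, cpr cs h (r - y) t = cpr cs h y t := by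
    intro t ht
    have htt := C.root t (hF.sub t ht)
    by_cases a1 : t = r
    · rw [a1, cpr_sub cs h _ y hrr, cpr_self cs h hrr, h1]; rfl
    by_cases a2 : t = -r
    · rw [a2, cpr_neg_right cs h _ hrr, cpr_neg_right cs h _ hrr, cpr_sub cs h _ y hrr, cpr_self cs h hrr, h1]
      rfl
    have b1 := hF.orth r hr t ht a1 a2
    rw [← cpr_zero_iff cs h _ htt] at b1
    rw [cpr_sub cs h _ y htt, b1, h0 t ht a1 a2]
    rfl
  have m1 : r - y ∈ Lam cs h F y := by
    refine ⟨hry, fun t ht => ?_⟩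
    have htt := C.root t (hF.sub t ht)
    have z1 := cpr_zero_iff cs h y htt
    have z2 := cpr_zero_iff cs h (r - y) htt
    have p1 := cpr_pos_iff cs h y htt
    have p2 := cpr_pos_iff cs h (r - y) htt
    rw [key t ht] at z2 p2
    constructor <;> intro a <;> omega
  have m2 : r ∈ Lam cs h F y := by
    refine ⟨hrr, fun t ht => ?_⟩
    have htt := C.root t (hF.sub t ht)
    by_cases a1 : t = r
    · rw [a1]
      exact ⟨fun _ => form_pos cs h hrr.ne_zero, fun _ => form_nonneg cs h r⟩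
    by_cases a2 : t = -r
    · rw [a2, form_neg_right, form_neg_right]
      have p1 := cpr_pos_iff cs h y hrr
      constructor <;> intro a <;> omega
    have b1 := hF.orth r hr t ht a1 a2
    have z1 := cpr_zero_iff cs h y htt
    rw [h0 t ht a1 a2] at z1
    rw [b1, z1.1 rfl]
    exact ⟨fun a => a, fun a => a⟩
  refine le_antisymm (RGD.Sup_le fun x hx => ?_)
    (sup_le (sup_le (X_le_MM (mem_Lam_self hy)) (X_le_MM m1)) (X_le_MM m2))
  rcases lam_one h4 h6 hF hall hy hx hr h1 h0 with e | e | e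
  · rw [e]; exact le_sup_of_le_left le_sup_left
  · have : x = r - y := by rw [← e]; abel
    rw [this]; exact le_sup_of_le_left le_sup_right
  · rw [e]; exact le_sup_right

end groups

end Cfsg.Agent.LOC.SL
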