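import Mathlib
import Cfsg.Agent.Cit.Nil.LO.FormGrp
import Cfsg.Agent.Cit.Nil.LO.SLLam
import Cfsg.Agent.Nodes.CardSup

/-!
# Lie odd, simply laced charts: `Q₈` on the weight groups (S1309, (n1), piece (C))

`Z x = X x` for all roots. `y` a root, `⟨y, r⟩ = 1`, `r ∈ F`.

* `wedd_X`, `triv_ab` : `a`, `b` centralise `⟨Z r, Z (-r)⟩`, normalise `X y`: `[a, b]` centralises `X y`;
* `triv_three` : `|I| ≥ 3` : `e` centralises `X y`.
-/

set_option autoImplicit false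
set_option linter.unusedSectionVars false
set_option linter.dupNamespace false

namespace Cfsg.Agent.LOC.SL

open CoxeterSystem Cfsg.Agent.ChevalleyStructure.CoxeterGeom Cfsg.Agent.Tits.Roots Cfsg.Agent.Tits.Core
  Cfsg.Agent.Tits.RootComb Cfsg.Agent.Nodes.Comb Cfsg.Agent.Nodes.Reps Cfsg.Agent.Nodes.BNOf
  Cfsg.Agent.Nodes.RGDLib Cfsg.Agent.Nodes.PosPair Cfsg.Agent.Nodes.Chart Cfsg.Agent.Nodes.ClsNorm
  Cfsg.Agent.Nodes.ChartLoc
  Cfsg.Agent.Nodes.Coroot Cfsg.Agent.Nodes.SimplyLaced Cfsg.Agent.Nodes.KindBase Cfsg.Agent.Nodes.OppDec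
  Cfsg.Agent.LOC.ChartDefs Cfsg.Agent.LOC.Wt Cfsg.Agent.LOC.FormGrp
open scoped commutatorElement

/-! ### Groups -/

section grp

variable {G : Type*} [Group G]

theorem mem_nor [Finite G] {V : Subgroup G} {a : G} (h : ∀ v ∈ V, a * v * a⁻¹ ∈ V) :
    a ∈ Subgroup.normalizer (V : Set G) := by
  rw [mem_normalizer_iff_cj]
  refine Subgroup.eq_of_le_of_card_ge ?_ (Nodes.CardSup.card_cj V).ge
  intro v hv
  rw [mem_cj] at hv
  have := h _ hv
  have e : a * (a⁻¹ * v * a) * a⁻¹ = v := by group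
  rwa [e] at this

theorem exists_mul_of_nor {P Q : Subgroup G} (hn : ∀ q ∈ Q, ∀ x ∈ P, q * x * q⁻¹ ∈ P) {x : G} (hx : x ∈ P ⊔ Q) :
    ∃ a ∈ P, ∃ b ∈ Q, x = a * b := by
  let S : Subgroup G :=
    { carrier := {x | ∃ a ∈ P, ∃ b ∈ Q, x = a * b}
      one_mem' := ⟨1, one_mem _, 1, one_mem _, by group⟩
      mul_mem' := by
        rintro _ _ ⟨a, ha, b, hb, rfl⟩ ⟨a', ha', b', hb', rfl⟩
        exact ⟨a * (b * a' * b⁻¹), mul_mem ha (hn b hb a' ha'), b * b', mul_mem hb hb', by group⟩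
      inv_mem' := by
        rintro _ ⟨a, ha, b, hb, rfl⟩
        refine ⟨b⁻¹ * a⁻¹ * b, ?_, b⁻¹, inv_mem hb, by group⟩
        have := hn _ (inv_mem hb) _ (inv_mem ha)
        rwa [inv_inv] at this }
  have h1 : P ⊔ Q ≤ S := sup_le (fun a ha => ⟨a, ha, 1, one_mem _, by group⟩)
    (fun b hb => ⟨1, one_mem _, b, hb, by group⟩)
  exact h1 hx

theorem sup_comm {P Q : Subgroup G} (hP : ∀ a ∈ P, ∀ b ∈ P, a * b = b * a) (hQ : ∀ a ∈ Q, ∀ b ∈ Q, a * b = b * a)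
    (hPQ : ∀ a ∈ P, ∀ b ∈ Q, a * b = b * a) : ∀ u ∈ P ⊔ Q, ∀ v ∈ P ⊔ Q, u * v = v * u := by
  have h1 : P ⊔ Q ≤ Subgroup.centralizer (P : Set G) := sup_le
    (fun a ha => Subgroup.mem_centralizer_iff.2 fun b hb => hP b hb a ha)
    (fun a ha => Subgroup.mem_centralizer_iff.2 fun b hb => hPQ b hb a ha)
  have h2 : P ⊔ Q ≤ Subgroup.centralizer (Q : Set G) := sup_le
    (fun a ha => Subgroup.mem_centralizer_iff.2 fun b hb => (hPQ a ha b hb).symm)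
    (fun a ha => Subgroup.mem_centralizer_iff.2 fun b hb => hQ b hb a ha)
  have h3 : P ⊔ Q ≤ Subgroup.centralizer ((P ⊔ Q : Subgroup G) : Set G) :=
    sup_le (Subgroup.le_centralizer_iff.1 h1) (Subgroup.le_centralizer_iff.1 h2)
  intro u hu v hv
  exact (Subgroup.mem_centralizer_iff.1 (h3 hu) v hv).symm

theorem sup_comm_of {P Q : Subgroup G} {k : G} (hP : ∀ a ∈ P, k * a = a * k) (hQ : ∀ a ∈ Q, k * a = a * k) :
    ∀ u ∈ P ⊔ Q, k * u = u * k := by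
  have h1 : P ⊔ Q ≤ Subgroup.centralizer ({k} : Set G) := sup_le
    (fun a ha => Subgroup.mem_centralizer_iff.2 fun b hb => by rw [Set.mem_singleton_iff.1 hb]; exact hP a ha)
    (fun a ha => Subgroup.mem_centralizer_iff.2 fun b hb => by rw [Set.mem_singleton_iff.1 hb]; exact hQ a ha)
  intro u hu
  exact Subgroup.mem_centralizer_iff.1 (h1 hu) k rfl

end grp

variable {I W Y : Type*} [Fintype I] [DecidableEq I] [Group W] [Fintype W] [Group Y] {M : CoxeterMatrix I}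
  {cs : CoxeterSystem M W} {A : I → I → ℤ} {h : IsCartan M A} {p : ℕ} {T : Subgroup Y} {n : I → Y}
  {X : (I → ℤ) → Subgroup Y} {R : Set (I → ℤ)} {Z : (I → ℤ) → Subgroup Y} {z : (I → ℤ) → Y}
  {C : Cls cs h p T n X R Z z} {F : Set (I → ℤ)}

/-- standing facts on a simply laced chart -/
structure SLC (C : Cls cs h p T n X R Z z) : Prop where
  h4 : ∀ i j, M i j ≠ 4
  h6 : ∀ i j, M i j ≠ 6
  all : ∀ x, IsRoot cs h x → x ∈ R
  ZX : ∀ x, IsRoot cs h x → Z x = X x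
  hT : T ≤ G1 cs h X
  odd : p ≠ 2

namespace SLC

variable (S : SLC C)
include S

/-- `[X x, X y] = 1` if `⟨x, y⟩ ≥ 0` (`x = y` included) -/
theorem cm {x y : I → ℤ} (hx : IsRoot cs h x) (hy : IsRoot cs h y) (h0 : 0 ≤ cpr cs h x y) :
    ∀ a ∈ X x, ∀ b ∈ X y, a * b = b * a := by
  intro a ha b hb
  refine C.cent y (S.all y hy) x hx ?_ a ha b (by rw [S.ZX y hy]; exact hb)
  have p1 := cpr_pos_iff cs h x hy
  have z1 := cpr_zero_iff cs h x hy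
  omega

theorem ne_one {x : I → ℤ} (hx : IsRoot cs h x) : ∃ u ∈ X x, u ≠ 1 := by
  obtain ⟨w, hw⟩ := Subgroup.ne_bot_iff_exists_ne_one.1 (Nodes.Bruhat.X_ne_bot C.rgd hx)
  exact ⟨w, w.2, fun e => hw (Subtype.ext e)⟩

theorem eq_one {x y : I → ℤ} (hx : IsRoot cs h x) (hy : IsRoot cs h y) (h0 : cpr cs h x y = -1) {u : Y}
    (hu : u ∈ X x) (hc : ∀ v ∈ X y, u * v = v * u) : u = 1 := by
  by_contra hu1
  obtain ⟨w, hw, hw1⟩ := S.ne_one (isRoot_add S.h4 S.h6 hx hy h0)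
  obtain ⟨v, hv, e⟩ := nd C.rgd S.h4 S.h6 hx hy h0 hu hu1 hw
  apply hw1
  rw [← e, commutatorElement_eq_one_iff_mul_comm]
  exact hc v hv

/-- `K` centralises `J_r` -/
theorem comm_J {K : Subgroup Y} (hF : MaxF C F) (hc : Cen C F K) {r : I → ℤ} (hr : r ∈ F) :
    ∀ k ∈ K, ∀ j ∈ Z r ⊔ Z (-r), k * j = j * k := by
  intro k hk
  exact sup_comm_of (fun a ha => hc.comm r hr a ha k hk) (fun a ha => hc.comm (-r) (hF.neg r hr) a ha k hk)

/-- the roots `y`, `y - r` -/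
theorem vroots {y r : I → ℤ} (hy : IsRoot cs h y) (hr : IsRoot cs h r) (h1 : cpr cs h y r = 1) :
    IsRoot cs h (y - r) ∧ cpr cs h y (-r) = -1 ∧ cpr cs h (y - r) r = -1 ∧ cpr cs h (y - r) (-r) = 1 ∧
      cpr cs h y (y - r) = 1 ∧ cpr cs h r y = 1 := by
  have h2 := isRoot_sub S.h4 S.h6 hy hr h1
  have h3 : cpr cs h (y - r) r = -1 := by rw [cpr_sub cs h y r hr, h1, cpr_self cs h hr]; ring
  have h4 : cpr cs h r y = 1 := by rw [cpr_symm cs h S.h4 S.h6 hr hy, h1]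
  refine ⟨h2, by rw [cpr_neg_right cs h y hr, h1], h3, by rw [cpr_neg_right cs h _ hr, h3]; ring, ?_, h4⟩
  rw [cpr_symm cs h S.h4 S.h6 hy h2, cpr_sub cs h y r hy, cpr_self cs h hy, h4]
  ring

/-- `J_r` is irreducible on `X y ⊔ X (y - r)`. -/
theorem irr {y r : I → ℤ} (hy : IsRoot cs h y) (hr : IsRoot cs h r) (h1 : cpr cs h y r = 1) (U : Subgroup Y)
    (hU : U ≤ X y ⊔ X (y - r)) (hJ : ∀ j ∈ Z r ⊔ Z (-r), ∀ u ∈ U, j * u * j⁻¹ ∈ U) :
    U = ⊥ ∨ U = X y ⊔ X (y - r) := by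
  obtain ⟨hyr, c1, c2, c3, c4, -⟩ := S.vroots hy hr h1
  have hcm : ∀ u ∈ U, ∀ j ∈ Z r ⊔ Z (-r), ⁅u, j⁆ ∈ U := by
    intro u hu j hj
    have e : ⁅u, j⁆ = u * (j * u⁻¹ * j⁻¹) := by rw [commutatorElement_def]; group
    rw [e]
    exact mul_mem hu (hJ j hj _ (inv_mem hu))
  -- from an element not in `X (y - r)`
  have s1 : ∀ a ∈ X y, ∀ b ∈ X (y - r), a ≠ 1 → a * b ∈ U → X (y - r) ≤ U := by
    intro a ha b hb ha1 hab w hw
    obtain ⟨c, hc, e⟩ := nd C.rgd S.h4 S.h6 hy hr.neg c1 ha ha1 (w := w) (by rwa [← sub_eq_add_neg])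
    have hbc : b * c = c * b := S.cm hyr hr.neg (by omega) b hb c hc
    have e2 : ⁅a * b, c⁆ = w := by
      rw [← e]
      have h5 : ⁅b, c⁆ = 1 := by rw [commutatorElement_eq_one_iff_mul_comm]; exact hbc
      rw [comm_mul_left (by rw [h5]; group), h5, one_mul]
    rw [← e2]
    refine hcm _ hab c ?_
    rw [← S.ZX _ hr.neg] at hc
    exact (le_sup_right : Z (-r) ≤ _) hc
  have s2 : ∀ b ∈ X (y - r), b ≠ 1 → b ∈ U → X y ≤ U := by
    intro b hb hb1 hbU w hw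
    obtain ⟨c, hc, e⟩ := nd C.rgd S.h4 S.h6 hyr hr c2 hb hb1 (w := w) (by
      have : y - r + r = y := by abel
      rwa [this])
    rw [← e]
    refine hcm _ hbU c ?_
    rw [← S.ZX _ hr] at hc
    exact (le_sup_left : Z r ≤ _) hc
  by_cases hbot : U = ⊥
  · exact Or.inl hbot
  right
  obtain ⟨⟨u, hu⟩, hu1⟩ := Subgroup.ne_bot_iff_exists_ne_one.1 hbot
  have hu1' : u ≠ 1 := fun e => hu1 (Subtype.ext e)
  obtain ⟨a, ha, b, hb, e⟩ := Nodes.MuSq.exists_mul_of_sup (S.cm hy hyr (by omega)) (hU hu)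
  have key : ∃ b ∈ X (y - r), b ≠ 1 ∧ b ∈ U := by
    by_cases ha1 : a = 1
    · rw [ha1, one_mul] at e
      exact ⟨b, hb, e ▸ hu1', e ▸ hu⟩
    · have h2 := s1 a ha b hb ha1 (e ▸ hu)
      obtain ⟨b', hb', hb'1⟩ := S.ne_one hyr
      exact ⟨b', hb', hb'1, h2 hb'⟩
  obtain ⟨b', hb', hb'1, hb'U⟩ := key
  have h3 := s2 b' hb' hb'1 hb'U
  obtain ⟨a', ha', ha'1⟩ := S.ne_one hy
  have h4 := s1 a' ha' 1 (one_mem _) ha'1 (by rw [mul_one]; exact h3 ha')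
  exact le_antisymm hU (sup_le h3 h4)

variable [Finite Y]

/-- **`[a, b]` centralises `X y`.** -/
theorem wedd_X {y r : I → ℤ} (hy : IsRoot cs h y) (hr : IsRoot cs h r) (h1 : cpr cs h y r = 1) {a b : Y}
    (haJ : ∀ j ∈ Z r ⊔ Z (-r), a * j = j * a) (hbJ : ∀ j ∈ Z r ⊔ Z (-r), b * j = j * b)
    (haX : ∀ x ∈ X y, a * x * a⁻¹ ∈ X y) (hbX : ∀ x ∈ X y, b * x * b⁻¹ ∈ X y) :
    ∀ v ∈ X y, a * b * v * (a * b)⁻¹ = b * a * v * (b * a)⁻¹ := by
  obtain ⟨hyr, c1, c2, c3, c4, -⟩ := S.vroots hy hr h1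
  have hZ := S.ZX _ hr
  have hZ' := S.ZX _ hr.neg
  -- `a`, `b` normalise `V`
  have hnor : ∀ a : Y, (∀ j ∈ Z r ⊔ Z (-r), a * j = j * a) → (∀ x ∈ X y, a * x * a⁻¹ ∈ X y) →
      a ∈ Subgroup.normalizer ((X y ⊔ X (y - r) : Subgroup Y) : Set Y) := by
    intro a haJ haX
    obtain ⟨x, hx, hx1⟩ := S.ne_one hy
    have h2 : ∀ w ∈ X (y - r), a * w * a⁻¹ ∈ X (y - r) := by
      intro w hw
      obtain ⟨c, hc, e⟩ := nd C.rgd S.h4 S.h6 hy hr.neg c1 hx hx1 (w := w) (by rwa [← sub_eq_add_neg])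
      have hcJ : c ∈ Z r ⊔ Z (-r) := by
        rw [← hZ'] at hc
        exact (le_sup_right : Z (-r) ≤ _) hc
      have h3 : a * c * a⁻¹ = c := by rw [haJ c hcJ]; group
      rw [← e, conj_comm, h3]
      have := comm_mem C.rgd S.h4 S.h6 hy hr.neg c1 (haX x hx) hc
      rwa [← sub_eq_add_neg] at this
    refine mem_nor fun v hv => ?_
    obtain ⟨u, hu, w, hw, rfl⟩ := Nodes.MuSq.exists_mul_of_sup (S.cm hy hyr (by omega)) hv
    have e : a * (u * w) * a⁻¹ = (a * u * a⁻¹) * (a * w * a⁻¹) := by group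
    rw [e]
    exact mul_mem ((le_sup_left : X y ≤ _) (haX u hu)) ((le_sup_right : X (y - r) ≤ _) (h2 w hw))
  have hJ : Z r ⊔ Z (-r) ≤ Subgroup.normalizer ((X y ⊔ X (y - r) : Subgroup Y) : Set Y) := by
    rw [hZ, hZ']
    refine sup_le (fun c hc => mem_nor fun v hv => ?_) (fun c hc => mem_nor fun v hv => ?_)
    · obtain ⟨u, hu, w, hw, rfl⟩ := Nodes.MuSq.exists_mul_of_sup (S.cm hy hyr (by omega)) hv
      have e1 : c * u = u * c := (S.cm hy hr (by omega) u hu c hc).symm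
      have e2 : c * (u * w) * c⁻¹ = u * ⁅w, c⁆⁻¹ * w := by
        rw [commutatorElement_def]
        calc c * (u * w) * c⁻¹ = (c * u) * w * c⁻¹ := by group
          _ = u * (w * c * w⁻¹ * c⁻¹)⁻¹ * w := by rw [e1]; group
      rw [e2]
      have h2 := comm_mem C.rgd S.h4 S.h6 hyr hr c2 hw hc
      have h3 : y - r + r = y := by abel
      rw [h3] at h2
      exact mul_mem (mul_mem ((le_sup_left : X y ≤ _) hu) (inv_mem ((le_sup_left : X y ≤ _) h2)))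
        ((le_sup_right : X (y - r) ≤ _) hw)
    · obtain ⟨u, hu, w, hw, rfl⟩ := Nodes.MuSq.exists_mul_of_sup (S.cm hy hyr (by omega)) hv
      have e1 : c * w = w * c := (S.cm hyr hr.neg (by omega) w hw c hc).symm
      have e2 : c * (u * w) * c⁻¹ = ⁅u, c⁆⁻¹ * u * w := by
        rw [commutatorElement_def]
        calc c * (u * w) * c⁻¹ = c * u * w * c⁻¹ := by group
          _ = c * u * c⁻¹ * (c * w) * c⁻¹ := by group
          _ = (u * c * u⁻¹ * c⁻¹)⁻¹ * u * w := by rw [e1]; group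
      rw [e2]
      have h2 := comm_mem C.rgd S.h4 S.h6 hy hr.neg c1 hu hc
      rw [← sub_eq_add_neg] at h2
      exact mul_mem (mul_mem (inv_mem ((le_sup_right : X (y - r) ≤ _) h2)) ((le_sup_left : X y ≤ _) hu))
        ((le_sup_right : X (y - r) ≤ _) hw)
  have key := wedd_grp (V := X y ⊔ X (y - r)) (J := Z r ⊔ Z (-r))
    (sup_comm (S.cm hy hy (by rw [cpr_self cs h hy]; decide)) (S.cm hyr hyr (by rw [cpr_self cs h hyr]; decide))
      (S.cm hy hyr (by omega))) hJ (fun U hU hUJ => S.irr hy hr h1 U hU hUJ) (hnor a haJ haX) (hnor b hbJ hbX)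
    (fun j hj => (haJ j hj).symm) (fun j hj => (hbJ j hj).symm)
  exact fun v hv => key v ((le_sup_left : X y ≤ _) hv)

theorem triv_ab {y r : I → ℤ} (hy : IsRoot cs h y) (hr : IsRoot cs h r) (h1 : cpr cs h y r = 1) {a b e : Y}
    (hab : a * b = e * (b * a))
    (haJ : ∀ j ∈ Z r ⊔ Z (-r), a * j = j * a) (hbJ : ∀ j ∈ Z r ⊔ Z (-r), b * j = j * b)
    (haX : ∀ x ∈ X y, a * x * a⁻¹ ∈ X y) (hbX : ∀ x ∈ X y, b * x * b⁻¹ ∈ X y) : ∀ v ∈ X y, e * v * e⁻¹ = v := by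
  intro v hv
  have h2 : (b * a)⁻¹ * v * (b * a) ∈ X y := by
    have := conj_mem (inv_mem (mul_mem (mem_nor hbX) (mem_nor haX))) hv
    rwa [inv_inv] at this
  have h3 := S.wedd_X hy hr h1 haJ hbJ haX hbX _ h2
  rw [hab] at h3
  have h4 : e * (b * a) * ((b * a)⁻¹ * v * (b * a)) * (e * (b * a))⁻¹ = e * v * e⁻¹ := by group
  have h5 : b * a * ((b * a)⁻¹ * v * (b * a)) * (b * a)⁻¹ = v := by group
  rw [h4, h5] at h3
  exact h3

variable [Fact p.Prime]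

/-- `|I| ≥ 3` -/
theorem triv_three (hF : MaxF C F) {K : Subgroup Y} {e : Y} (hK : QK K e) (hc : Cen C F K) {y r s t : I → ℤ}
    (hy : IsRoot cs h y) (hr : r ∈ F) (hs : s ∈ F) (ht : t ∈ F) (hrs : r ≠ s) (hrt : r ≠ t) (hst : s ≠ t)
    (h1 : cpr cs h y r = 1) (h2 : cpr cs h y s = 1) (h3 : cpr cs h y t = 1) : ∀ v ∈ X y, e * v * e⁻¹ = v := by
  have hrr := C.root r (hF.sub r hr)
  obtain ⟨a, ha, b, hb, -, -, hab⟩ := hK.com
  have hN := wt_nor C S.hT hF.sub hr ((cpr_pos_iff cs h y hrr).1 (by omega)) hc (X := X)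
  rw [mm_three S.h4 S.h6 hF S.all hy hr hs ht hrs hrt hst h1 h2 h3] at hN
  exact S.triv_ab hy hrr h1 hab (S.comm_J hF hc hr a ha) (S.comm_J hF hc hr b hb)
    (fun x hx => conj_mem (hN ha) hx) (fun x hx => conj_mem (hN hb) hx)

end SLC

end Cfsg.Agent.LOC.SL
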