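import Mathlib
import Cfsg.Agent.Cit.Nil.LO.SLAct

/-!
# Lie odd, simply laced charts: `Q₈` on the weight groups, `|I| = 2` (S1309, (n1), piece (C))

`y` a root, `⟨y, r⟩ = ⟨y, s⟩ = 1`, `r ≠ s` in `F`, `y` orthogonal to the other elements of `F`; `M = X y ⊔ X (r + s - y)`,
`n ∈ J_s` a Weyl element, `β(u, v) = [u, v^n] ∈ X r` : `SLC.triv_two` : `e` centralises `X y`.
-/

set_option autoImplicit false
set_option linter.unusedSectionVars false
set_option linter.dupNamespace false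

namespace Cfsg.Agent.LOC.SL

open CoxeterSystem Cfsg.Agent.ChevalleyStructure.CoxeterGeom Cfsg.Agent.Tits.Roots Cfsg.Agent.Tits.Core
  Cfsg.Agent.Tits.RootComb Cfsg.Agent.Nodes.Comb Cfsg.Agent.Nodes.Reps Cfsg.Agent.Nodes.BNOf
  Cfsg.Agent.Nodes.RGDLib Cfsg.Agent.Nodes.PosPair Cfsg.Agent.Nodes.Chart Cfsg.Agent.Nodes.ClsNorm
  Cfsg.Agent.Nodes.ChartLoc
  Cfsg.Agent.Nodes.Coroot Cfsg.Agent.Nodes.SimplyLaced Cfsg.Agent.Nodes.KindBase Cfsg.Agent.Nodes.OppDec
  Cfsg.Agent.LOC.ChartDefs Cfsg.Agent.LOC.Wt Cfsg.Agent.LOC.FormGrp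
open scoped commutatorElement

variable {I W Y : Type*} [Fintype I] [DecidableEq I] [Group W] [Fintype W] [Group Y] {M : CoxeterMatrix I}
  {cs : CoxeterSystem M W} {A : I → I → ℤ} {h : IsCartan M A} {p : ℕ} {T : Subgroup Y} {n : I → Y}
  {X : (I → ℤ) → Subgroup Y} {R : Set (I → ℤ)} {Z : (I → ℤ) → Subgroup Y} {z : (I → ℤ) → Y}
  {C : Cls cs h p T n X R Z z} {F : Set (I → ℤ)}

theorem ne_of_cpr {x y : I → ℤ} (hy : IsRoot cs h y) (h0 : cpr cs h x y ≠ 2) : x ≠ y := by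
  rintro rfl
  exact h0 (cpr_self cs h hy)

theorem ne_neg_of_cpr {x y : I → ℤ} (hy : IsRoot cs h y) (h0 : cpr cs h x y ≠ -2) : x ≠ -y := by
  rintro rfl
  exact h0 (by rw [cpr_neg cs h y hy, cpr_self cs h hy])

namespace SLC

/-- the root groups have the same order -/
theorem card_eq (S : SLC C) {x y : I → ℤ} (hx : IsRoot cs h x) (hy : IsRoot cs h y) (h1 : cpr cs h x y = 1) :
    Nat.card (X x) = Nat.card (X y) := by
  have hxy := isRoot_sub S.h4 S.h6 hx hy h1
  have h1' : cpr cs h y x = 1 := by rw [cpr_symm cs h S.h4 S.h6 hy hx, h1]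
  have refl : ∀ {u v : I → ℤ}, IsRoot cs h u → IsRoot cs h v →
      Nat.card (X (v - cpr cs h v u • u)) = Nat.card (X v) := by
    intro u v hu hv
    obtain ⟨c, hc, hc1⟩ := S.ne_one hu
    obtain ⟨-, -, -, -, w, hw, -, hr⟩ := Nodes.MuSq.exists_mu' C.rgd hu hc hc1
    rw [← hr v]
    exact Nodes.CardSup.card_X_rep C.rgd w hv
  have e1 := refl hy hx
  rw [h1, one_smul] at e1
  have e2 := refl hx hy
  rw [h1', one_smul] at e2
  have e3 := refl hxy hxy
  rw [cpr_self cs h hxy] at e3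
  have e4 : x - y - (2 : ℤ) • (x - y) = y - x := by module
  rw [e4] at e3
  rw [← e1, ← e3, e2]

variable [Finite Y] [Fact p.Prime] (S : SLC C)
include S

theorem odd_X {x : I → ℤ} (hx : IsRoot cs h x) : Odd (Nat.card (X x)) := by
  have h1 := odd_card_VV C S.odd x
  have h2 : X x ≤ VV cs h X x := RGD.le_Sup (X := X) (S := {y | IsRoot cs h y ∧ 0 < form cs h y x})
    ⟨hx, form_pos cs h hx.ne_zero⟩
  exact h1.of_dvd_nat (Subgroup.card_dvd_of_le h2)

theorem triv_two (hF : MaxF C F) {K : Subgroup Y} {e : Y} (hK : QK K e) (hc : Cen C F K) {y r s : I → ℤ}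
    (hy : IsRoot cs h y) (hr : r ∈ F) (hs : s ∈ F) (hrs : r ≠ s)
    (h1 : cpr cs h y r = 1) (h2 : cpr cs h y s = 1)
    (h0 : ∀ t ∈ F, t ≠ r → t ≠ -r → t ≠ s → t ≠ -s → cpr cs h y t = 0) : ∀ v ∈ X y, e * v * e⁻¹ = v := by
  have hrr := C.root r (hF.sub r hr)
  have hss := C.root s (hF.sub s hs)
  obtain ⟨crs, csr, hst, s1, s2, s3⟩ := star S.h4 S.h6 hF hy hr hs hrs h1 h2
  obtain ⟨hyr, a1, a2, a3, a4, a5⟩ := S.vroots hy hrr h1
  obtain ⟨hys, b1, b2, b3, b4, b5⟩ := S.vroots hy hss h2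
  obtain ⟨hts, t1, t2, t3, t4, t5⟩ := S.vroots hst hss s2
  set ys : I → ℤ := r + s - y with hys_def
  have ets : ys - s = r - y := by rw [hys_def]; abel
  rw [ets] at hts t2 t3 t4
  -- further Cartan numbers
  have sy : cpr cs h y ys = 0 := (cpr_zero_comm cs h hst hy).1 s3
  have c1 : cpr cs h y (r - y) = -1 := by
    rw [cpr_symm cs h S.h4 S.h6 hy hts, cpr_sub cs h r y hy, a5, cpr_self cs h hy]; ring
  have c2 : cpr cs h ys (y - s) = -1 := by
    rw [cpr_symm cs h S.h4 S.h6 hst hys, cpr_sub cs h y s hst, sy, t5]; ring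
  have d1 : cpr cs h (y - s) (r - y) = 0 := by
    rw [cpr_sub cs h y s hts, c1, cpr_symm cs h S.h4 S.h6 hss hts, t2]; ring
  have d2 : cpr cs h (y - s) r = 1 := by rw [cpr_sub cs h y s hrr, h1, csr]; ring
  have d3 : cpr cs h (r - y) r = 1 := by rw [cpr_sub cs h r y hrr, h1, cpr_self cs h hrr]; ring
  have d4 : cpr cs h ys r = 1 := s1
  -- commutations
  have m1 := S.cm hy hst (by omega)
  have m2 := S.cm hy hys (by omega)
  have m3 := S.cm hst hts (by omega)
  have m4 := S.cm hys hts (by omega)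
  have my : ∀ a ∈ X r, ∀ b ∈ X y, a * b = b * a := S.cm hrr hy (by omega)
  have mst : ∀ a ∈ X r, ∀ b ∈ X ys, a * b = b * a :=
    fun a ha b hb => (S.cm hst hrr (by omega) b hb a ha).symm
  have mys : ∀ a ∈ X r, ∀ b ∈ X (y - s), a * b = b * a :=
    fun a ha b hb => (S.cm hys hrr (by omega) b hb a ha).symm
  have mts : ∀ a ∈ X r, ∀ b ∈ X (r - y), a * b = b * a :=
    fun a ha b hb => (S.cm hts hrr (by omega) b hb a ha).symm
  have habM : ∀ u ∈ X y ⊔ X ys, ∀ v ∈ X y ⊔ X ys, u * v = v * u :=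
    sup_comm (S.cm hy hy (by rw [cpr_self cs h hy]; decide)) (S.cm hst hst (by rw [cpr_self cs h hst]; decide)) m1
  -- the Weyl element
  obtain ⟨c, hcX, hc1⟩ := S.ne_one hss
  obtain ⟨u, hu, v, hv, w, hw, hwi, hrep⟩ := Nodes.MuSq.exists_mu' C.rgd hss hcX hc1
  set m : Y := u * c * v with hm
  have hmJ : m ∈ Z s ⊔ Z (-s) := by
    rw [S.ZX _ hss, S.ZX _ hss.neg]
    exact mul_mem (mul_mem ((le_sup_right : X (-s) ≤ _) hu) ((le_sup_left : X s ≤ _) hcX))
      ((le_sup_right : X (-s) ≤ _) hv)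
  have hconj : ∀ {x : I → ℤ}, IsRoot cs h x → ∀ a ∈ X x, m * a * m⁻¹ ∈ X (x - cpr cs h x s • s) := by
    intro x hx a ha
    rw [← hrep x]
    exact C.rgd.conj_mem hw hx ha
  have hconj' : ∀ {x : I → ℤ}, IsRoot cs h x → ∀ a ∈ X x, m⁻¹ * a * m ∈ X (x - cpr cs h x s • s) := by
    intro x hx a ha
    rw [← hrep x]
    have := C.rgd.conj_mem' hw hx ha
    rwa [hwi] at this
  have hcy : ∀ a ∈ X y, m * a * m⁻¹ ∈ X (y - s) := by
    intro a ha
    have := hconj hy a ha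
    rwa [h2, one_smul] at this
  have hcst : ∀ a ∈ X ys, m * a * m⁻¹ ∈ X (r - y) := by
    intro a ha
    have := hconj hst a ha
    rwa [s2, one_smul, ets] at this
  have hcy' : ∀ a ∈ X (y - s), m⁻¹ * a * m ∈ X y := by
    intro a ha
    have := hconj' hys a ha
    rw [b2] at this
    have e1 : y - s - (-1 : ℤ) • s = y := by module
    rwa [e1] at this
  have hcst' : ∀ a ∈ X (r - y), m⁻¹ * a * m ∈ X ys := by
    intro a ha
    have := hconj' hts a ha
    rw [t2] at this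
    have e1 : r - y - (-1 : ℤ) • s = ys := by rw [hys_def]; module
    rwa [e1] at this
  -- `m² = z (y - s) z y` inverts `M`
  have hsq : m * m = z (y - s) * z y := by
    have := Nodes.MuSq.mu_sq C (S.all y hy) hss (fun e => by rw [e, cpr_self cs h hy] at h2; omega)
      (fun e => by rw [e, cpr_neg_right cs h y hy, cpr_self cs h hy] at h2; omega)
      (fun e => by rw [← cpr_zero_iff cs h s hy, b5] at e; omega) hcX hu hv hw hwi hrep
    rwa [hrep y, h2, one_smul] at this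
  have zy_cen : ∀ a ∈ X y, z y * a = a * z y := fun a ha =>
    C.z_cent y (S.all y hy) a (by rw [S.ZX y hy]; exact ha)
  have zy_cen' : ∀ a ∈ X ys, z y * a = a * z y := by
    intro a ha
    have h3 := C.z_mem y (S.all y hy)
    rw [S.ZX _ hy, S.ZX _ hy.neg] at h3
    refine (sup_comm_of (k := a) (fun b hb => ?_) (fun b hb => ?_) _ h3).symm
    · exact (m1 b hb a ha).symm
    · exact S.cm hst hy.neg (by rw [cpr_neg_right cs h _ hy, s3]; decide) a ha b hb
  have hzz : ∀ x ∈ X y ⊔ X ys, m * m * x * (m * m)⁻¹ = x⁻¹ := by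
    have hz1 := C.z_sq _ (S.all _ hys)
    have hzi : (z (y - s))⁻¹ = z (y - s) := inv_eq_of_mul_eq_one_right hz1
    have k1 : ∀ x ∈ X y, m * m * x * (m * m)⁻¹ = x⁻¹ := by
      intro x hx
      have h3 := C.z_inv _ (S.all _ hys) y hy (ne_of_cpr hys (by omega)) (ne_neg_of_cpr hys (by omega))
        (fun e => by rw [← cpr_zero_iff cs h y hys, b4] at e; omega) x hx
      rw [hsq]
      calc z (y - s) * z y * x * (z (y - s) * z y)⁻¹ = z (y - s) * (z y * x) * (z y)⁻¹ * (z (y - s))⁻¹ := by group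
        _ = z (y - s) * x * z (y - s) := by rw [zy_cen x hx, hzi]; group
        _ = x⁻¹ := h3
    have k2 : ∀ x ∈ X ys, m * m * x * (m * m)⁻¹ = x⁻¹ := by
      intro x hx
      have h3 := C.z_inv _ (S.all _ hys) ys hst (ne_of_cpr hys (by omega)) (ne_neg_of_cpr hys (by omega))
        (fun e => by rw [← cpr_zero_iff cs h _ hys, c2] at e; omega) x hx
      rw [hsq]
      calc z (y - s) * z y * x * (z (y - s) * z y)⁻¹ = z (y - s) * (z y * x) * (z y)⁻¹ * (z (y - s))⁻¹ := by group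
        _ = z (y - s) * x * z (y - s) := by rw [zy_cen' x hx, hzi]; group
        _ = x⁻¹ := h3
    intro x hx
    obtain ⟨a, ha, b, hb, rfl⟩ := Nodes.MuSq.exists_mul_of_sup m1 hx
    calc m * m * (a * b) * (m * m)⁻¹ = (m * m * a * (m * m)⁻¹) * (m * m * b * (m * m)⁻¹) := by group
      _ = a⁻¹ * b⁻¹ := by rw [k1 a ha, k2 b hb]
      _ = (a * b)⁻¹ := by rw [mul_inv_rev, m1 a⁻¹ (inv_mem ha) b⁻¹ (inv_mem hb)]
  -- `K` and `m`
  have hKm : ∀ k ∈ K, k * m = m * k := fun k hk => S.comm_J hF hc hs k hk m hmJ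
  have hQm : ∀ a ∈ X r, a * m = m * a := by
    intro a ha
    refine sup_comm_of (k := a) (fun b hb => ?_) (fun b hb => ?_) _ hmJ
    · rw [S.ZX _ hss] at hb
      exact S.cm hrr hss (by omega) a ha b hb
    · rw [S.ZX _ hss.neg] at hb
      exact S.cm hrr hss.neg (by rw [cpr_neg_right cs h _ hss, crs]; decide) a ha b hb
  have hQM : ∀ a ∈ X r, ∀ b ∈ X y ⊔ X ys, a * b = b * a := fun a ha => sup_comm_of (my a ha) (mst a ha)
  -- the form
  have hform : ∀ a ∈ X y, ∀ b ∈ X ys, ∀ a' ∈ X y, ∀ b' ∈ X ys,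
      ⁅a * b, m * (a' * b') * m⁻¹⁆ = ⁅b, m * a' * m⁻¹⁆ * ⁅a, m * b' * m⁻¹⁆ := by
    intro a ha b hb a' ha' b' hb'
    have x1 := hcy a' ha'
    have x2 := hcst b' hb'
    have e1 : m * (a' * b') * m⁻¹ = (m * a' * m⁻¹) * (m * b' * m⁻¹) := by group
    have g1 : ⁅b, m * a' * m⁻¹⁆ ∈ X r := by
      have := comm_mem C.rgd S.h4 S.h6 hst hys c2 hb x1
      have e : ys + (y - s) = r := by rw [hys_def]; abel
      rwa [e] at this
    have g2 : ⁅a, m * b' * m⁻¹⁆ ∈ X r := by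
      have := comm_mem C.rgd S.h4 S.h6 hy hts c1 ha x2
      have e : y + (r - y) = r := by abel
      rwa [e] at this
    have g3 : ⁅a, m * a' * m⁻¹⁆ = 1 := by
      rw [commutatorElement_eq_one_iff_mul_comm]
      exact m2 a ha _ x1
    have g4 : ⁅b, m * b' * m⁻¹⁆ = 1 := by
      rw [commutatorElement_eq_one_iff_mul_comm]
      exact m3 b hb _ x2
    have f1 : ⁅b, m * a' * m⁻¹ * (m * b' * m⁻¹)⁆ = ⁅b, m * a' * m⁻¹⁆ := by
      rw [comm_mul_right (by rw [g4]; group), g4, mul_one]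
    have f2 : ⁅a, m * a' * m⁻¹ * (m * b' * m⁻¹)⁆ = ⁅a, m * b' * m⁻¹⁆ := by
      rw [comm_mul_right (mys _ g2 _ x1), g3, one_mul]
    rw [e1, comm_mul_left (by rw [f1]; exact my _ g1 a ha), f1, f2]
  have hg1 : ∀ b ∈ X ys, ∀ a' ∈ X y, ⁅b, m * a' * m⁻¹⁆ ∈ X r := by
    intro b hb a' ha'
    have := comm_mem C.rgd S.h4 S.h6 hst hys c2 hb (hcy a' ha')
    have e : ys + (y - s) = r := by rw [hys_def]; abel
    rwa [e] at this
  have hg2 : ∀ a ∈ X y, ∀ b' ∈ X ys, ⁅a, m * b' * m⁻¹⁆ ∈ X r := by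
    intro a ha b' hb'
    have := comm_mem C.rgd S.h4 S.h6 hy hts c1 ha (hcst b' hb')
    have e : y + (r - y) = r := by abel
    rwa [e] at this
  have hin : ∀ u ∈ X y ⊔ X ys, ∀ v ∈ X y ⊔ X ys, ⁅u, m * v * m⁻¹⁆ ∈ X r := by
    intro u hu v hv
    obtain ⟨a, ha, b, hb, rfl⟩ := Nodes.MuSq.exists_mul_of_sup m1 hu
    obtain ⟨a', ha', b', hb', rfl⟩ := Nodes.MuSq.exists_mul_of_sup m1 hv
    rw [hform a ha b hb a' ha' b' hb']
    exact mul_mem (hg1 b hb a' ha') (hg2 a ha b' hb')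
  have hmem' : ∀ {x : Y} {P : Subgroup Y}, m⁻¹ * x * m ∈ P → ∃ v ∈ P, m * v * m⁻¹ = x := by
    intro x P hx
    exact ⟨_, hx, by group⟩
  have hcardM : Nat.card (X y ⊔ X ys : Subgroup Y) = Nat.card (X r) * Nat.card (X r) := by
    rw [Nodes.CardSup.card_mul_of_disjoint (A := X y) (B := X ys) le_sup_left le_sup_right
      (fun g hg => Nodes.MuSq.exists_mul_of_sup m1 hg) (X_inf_X C.rgd hy hst (fun e => by
        rw [← e, cpr_self cs h hy] at s3
        omega)), S.card_eq hy hrr h1, S.card_eq hst hrr s1]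
  have hcM : Odd (Nat.card (X y ⊔ X ys : Subgroup Y)) := by
    rw [hcardM]
    exact (S.odd_X hrr).mul (S.odd_X hrr)
  have hN := wt_nor C S.hT hF.sub hr ((cpr_pos_iff cs h y hrr).1 (by omega)) hc (X := X)
  rw [mm_two S.h4 S.h6 hF S.all hy hr hs hrs h1 h2 h0] at hN
  have hneg : ∀ u ∈ X y ⊔ X ys, ∀ v ∈ X y ⊔ X ys, ⁅m * u * m⁻¹, v⁆ ∈ X r := by
    intro u hu v hv
    have := hin v hv u hu
    rw [← commutatorElement_inv] at this
    have h3 := inv_mem this
    rwa [inv_inv] at h3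
  have key := sym_grp (M := X y ⊔ X ys) (Q := X r) (n := m) habM hcM hcardM hin hQM hQm (by
    -- nondegenerate
    intro u hu hu1 q hq
    obtain ⟨a, ha, b, hb, rfl⟩ := Nodes.MuSq.exists_mul_of_sup m1 hu
    by_cases ha1 : a = 1
    · have hb1 : b ≠ 1 := by
        rintro rfl
        exact hu1 (by rw [ha1, one_mul])
      obtain ⟨x, hx, hxe⟩ := nd C.rgd S.h4 S.h6 hst hys c2 hb hb1 (w := q) (by
        have e : ys + (y - s) = r := by rw [hys_def]; abel
        rwa [e])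
      obtain ⟨v, hv, hve⟩ := hmem' (hcy' x hx)
      refine ⟨v, (le_sup_left : X y ≤ _) hv, ?_⟩
      have := hform a ha b hb v hv 1 (one_mem _)
      rw [mul_one, mul_one, mul_inv_cancel, commutatorElement_one_right, mul_one, hve, hxe] at this
      rw [hve, this]
    · obtain ⟨x, hx, hxe⟩ := nd C.rgd S.h4 S.h6 hy hts c1 ha ha1 (w := q) (by
        have e : y + (r - y) = r := by abel
        rwa [e])
      obtain ⟨v, hv, hve⟩ := hmem' (hcst' x hx)
      refine ⟨v, (le_sup_right : X ys ≤ _) hv, ?_⟩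
      have := hform a ha b hb 1 (one_mem _) v hv
      rw [one_mul, mul_one, mul_inv_cancel, commutatorElement_one_right, one_mul, hve, hxe] at this
      rw [hve, this]) (by
    -- symmetric
    intro u hu v hv
    have k1 : m * ⁅u, m * v * m⁻¹⁆ * m⁻¹ = ⁅u, m * v * m⁻¹⁆ := by
      rw [← hQm _ (hin u hu v hv)]; group
    have k2 : m * (m * v * m⁻¹) * m⁻¹ = v⁻¹ := by
      rw [← hzz v hv]; group
    rw [conj_comm, k2, comm_inv_right (hQM _ (hneg u hu v hv) v hv), commutatorElement_inv] at k1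
    exact k1.symm) hK hN hKm (fun k hk a ha => hc.comm r hr a (by rw [S.ZX r hrr]; exact ha) k hk)
  rcases key with key | ⟨k1, k2⟩
  · exact fun v hv => key v ((le_sup_left : X y ≤ _) hv)
  -- `K` normalises `X y`
  exfalso
  obtain ⟨a, ha, b, hb, haa, hbb, hab⟩ := hK.com
  have hnor : ∀ a ∈ K, a * a = e → ∀ x ∈ X y, a * x * a⁻¹ ∈ X y := by
    intro a ha haa x hx
    by_cases hx1 : x = 1
    · rw [hx1, mul_one, mul_inv_cancel]
      exact one_mem _
    have h3 := k2 a ha haa x ((le_sup_left : X y ≤ _) hx)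
    obtain ⟨c1', hc1', d, hd, hcd⟩ := Nodes.MuSq.exists_mul_of_sup m1
      (conj_mem (hN ha) ((le_sup_left : X y ≤ _) hx))
    rw [hcd] at h3 ⊢
    have h4 := hform x hx 1 (one_mem _) c1' hc1' d hd
    rw [mul_one, commutatorElement_one_left, one_mul, h3] at h4
    -- `[x, m d m⁻¹] = 1`
    have h5 : m * d * m⁻¹ = 1 := by
      by_contra hne
      apply hx1
      exfalso
      have hcom : x * (m * d * m⁻¹) = (m * d * m⁻¹) * x := commutatorElement_eq_one_iff_mul_comm.1 h4.symm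
      exact hne (Nodes.MuSq.eq_one_of_comm C.rgd hy hts
        (ne_of_cpr hts (by omega)) (ne_neg_of_cpr hts (by omega))
        (fun w hw => not_btwn S.h4 S.h6 hy.neg hts (fun e => by
          have h7 : r = 0 := by
            have : r = (r - y) - (-y) := by abel
            rw [this, ← e, sub_self]
          exact hrr.ne_zero h7) (by rw [cpr_neg cs h y hts, c1]; decide) w hw)
        (by rw [cpr_symm cs h S.h4 S.h6 hts hy, c1]; decide) hx hx1 (hcst d hd) hcom)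
    have h6 : d = 1 := by
      calc d = m⁻¹ * (m * d * m⁻¹) * m := by group
        _ = 1 := by rw [h5]; group
    rw [h6, mul_one]
    exact hc1'
  have h3 := S.triv_ab hy hrr h1 hab (S.comm_J hF hc hr a ha) (S.comm_J hF hc hr b hb) (hnor a ha haa)
    (hnor b hb hbb)
  obtain ⟨x, hx, hx1⟩ := S.ne_one hy
  have h4 := k1 x ((le_sup_left : X y ≤ _) hx)
  rw [h3 x hx] at h4
  exact hx1 (sq_eq_one (S.odd_X hy) hx (by nth_rw 1 [h4]; exact inv_mul_cancel x))

end SLC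

end Cfsg.Agent.LOC.SL
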