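import Mathlib
import Cfsg.Agent.Cit.Nil.LO.SLTwo

/-!
# Lie odd, simply laced charts: `Q₈` on the weight groups, `|I| = 1` (S1309, (n1), piece (C))

`y` a root, `⟨y, r⟩ = 1`, `y` orthogonal to the elements `≠ ± r` of `F`; `M = X y ⊔ X (r - y) ⊔ X r`, the form is the
commutator `M/X r × M/X r → X r`.

* `AltD M N` : the hypotheses of `FormGrp.alt_grp` on `M`, `N`;
* `SLC.alt_data` : `AltD (MM y) (Z r)`;
* `SLC.triv_one` : `e` centralises `X y` or inverts `X y`.
-/

set_option autoImplicit false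
set_option linter.unusedSectionVars false
set_option linter.dupNamespace false

namespace Cfsg.Agent.LOC.SL

open CoxeterSystem Cfsg.Agent.ChevalleyStructure.CoxeterGeom Cfsg.Agent.Tits.Roots Cfsg.Agent.Tits.Core
  Cfsg.Agent.Tits.RootComb Cfsg.Agent.Nodes.Comb Cfsg.Agent.Nodes.Reps Cfsg.Agent.Nodes.BNOf
  Cfsg.Agent.Nodes.RGDLib Cfsg.Agent.Nodes.PosPair Cfsg.Agent.Nodes.Chart Cfsg.Agent.Nodes.ClsNorm
  Cfsg.Agent.Nodes.ChartLoc
  Cfsg.Agent.Nodes.Coroot Cfsg.Agent.Nodes.SimplyLaced Cfsg.Agent.Nodes.KindBase Cfsg.Agent.Nodes.OppDec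
  Cfsg.Agent.LOC.ChartDefs Cfsg.Agent.LOC.Wt Cfsg.Agent.LOC.FormGrp
open scoped commutatorElement

variable {I W Y : Type*} [Fintype I] [DecidableEq I] [Group W] [Fintype W] [Group Y] {M : CoxeterMatrix I}
  {cs : CoxeterSystem M W} {A : I → I → ℤ} {h : IsCartan M A} {p : ℕ} {T : Subgroup Y} {n : I → Y}
  {X : (I → ℤ) → Subgroup Y} {R : Set (I → ℤ)} {Z : (I → ℤ) → Subgroup Y} {z : (I → ℤ) → Y}
  {C : Cls cs h p T n X R Z z} {F : Set (I → ℤ)}

/-- the hypotheses of `alt_grp` -/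
structure AltD {G : Type*} [Group G] (M N : Subgroup G) : Prop where
  le : N ≤ M
  cen : ∀ c ∈ N, ∀ m ∈ M, c * m = m * c
  comm : ∀ u ∈ M, ∀ v ∈ M, ⁅u, v⁆ ∈ N
  odd : Odd (Nat.card M)
  card : Nat.card M = Nat.card N * Nat.card N * Nat.card N
  nd : ∀ u ∈ M, u ∉ N → ∀ c ∈ N, ∃ v ∈ M, ⁅u, v⁆ = c

namespace SLC

variable [Finite Y] [Fact p.Prime] (S : SLC C)
include S

theorem alt_data' {y r : I → ℤ}
    (hy : IsRoot cs h y) (hrr : IsRoot cs h r) (h1 : cpr cs h y r = 1) :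
    AltD (X y ⊔ X (r - y) ⊔ X r) (X r) := by
  obtain ⟨hyr, a1, a2, a3, a4, a5⟩ := S.vroots hy hrr h1
  have hts : IsRoot cs h (r - y) := by
    have := hyr.neg
    rwa [neg_sub] at this
  have c1 : cpr cs h y (r - y) = -1 := by
    rw [cpr_symm cs h S.h4 S.h6 hy hts, cpr_sub cs h r y hy, a5, cpr_self cs h hy]; ring
  have c1' : cpr cs h (r - y) y = -1 := by rw [cpr_symm cs h S.h4 S.h6 hts hy, c1]
  have d3 : cpr cs h (r - y) r = 1 := by rw [cpr_sub cs h r y hrr, h1, cpr_self cs h hrr]; ring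
  have er : y + (r - y) = r := by abel
  have er' : r - y + y = r := by abel
  -- commutations
  have my : ∀ a ∈ X r, ∀ b ∈ X y, a * b = b * a := S.cm hrr hy (by omega)
  have mts : ∀ a ∈ X r, ∀ b ∈ X (r - y), a * b = b * a :=
    fun a ha b hb => (S.cm hts hrr (by omega) b hb a ha).symm
  have mr : ∀ a ∈ X r, ∀ b ∈ X r, a * b = b * a := S.cm hrr hrr (by rw [cpr_self cs h hrr]; decide)
  have yab := S.cm hy hy (by rw [cpr_self cs h hy]; decide)
  have tab := S.cm hts hts (by rw [cpr_self cs h hts]; decide)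
  have hcen : ∀ c ∈ X r, ∀ m ∈ X y ⊔ X (r - y) ⊔ X r, c * m = m * c := fun c hc =>
    sup_comm_of (sup_comm_of (my c hc) (mts c hc)) (mr c hc)
  have hcen' : ∀ c ∈ X r, ∀ m ∈ X y ⊔ X (r - y) ⊔ X r, m * c = c * m := fun c hc m hm => (hcen c hc m hm).symm
  have hV : X y ⊔ X (r - y) ⊔ X r ≤ VV cs h X r := by
    have key : ∀ {x : I → ℤ}, IsRoot cs h x → 0 < cpr cs h x r → X x ≤ VV cs h X r := fun {x} hx h5 =>
      RGD.le_Sup (X := X) (S := {y | IsRoot cs h y ∧ 0 < form cs h y r}) ⟨hx, (cpr_pos_iff cs h x hrr).1 h5⟩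
    exact sup_le (sup_le (key hy (by omega)) (key hts (by omega))) (key hrr (by rw [cpr_self cs h hrr]; decide))
  have hcomm : ∀ u ∈ X y ⊔ X (r - y) ⊔ X r, ∀ v ∈ X y ⊔ X (r - y) ⊔ X r, ⁅u, v⁆ ∈ X r := by
    intro u hu v hv
    rw [← S.ZX r hrr]
    exact commutator_VV_le C S.odd (S.all r hrr) (Subgroup.commutator_mem_commutator (hV hu) (hV hv))
  have hodd : Odd (Nat.card (X y ⊔ X (r - y) ⊔ X r : Subgroup Y)) :=
    (odd_card_VV C S.odd r).of_dvd_nat (Subgroup.card_dvd_of_le hV)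
  -- elements
  have hel : ∀ m ∈ X y ⊔ X (r - y) ⊔ X r, ∃ a ∈ X y, ∃ c ∈ X r, ∃ b ∈ X (r - y), m = a * c * b := by
    intro m hm
    have e1 : X y ⊔ X (r - y) ⊔ X r = (X y ⊔ X r) ⊔ X (r - y) := by
      rw [sup_assoc, sup_assoc, _root_.sup_comm (X (r - y))]
    rw [e1] at hm
    obtain ⟨g, hg, b, hb, rfl⟩ := exists_mul_of_nor (P := X y ⊔ X r) (Q := X (r - y)) (by
      intro q hq x hx
      obtain ⟨a, ha, c, hc', rfl⟩ := Nodes.MuSq.exists_mul_of_sup (fun a ha b hb => (my b hb a ha).symm) hx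
      have e2 : q * (a * c) * q⁻¹ = ⁅q, a⁆ * a * (q * c * q⁻¹) := by
        rw [commutatorElement_def]; group
      have e3 : q * c * q⁻¹ = c := by rw [← mts c hc' q hq]; group
      rw [e2, e3]
      have h5 := comm_mem C.rgd S.h4 S.h6 hts hy c1' hq ha
      rw [er'] at h5
      exact mul_mem (mul_mem ((le_sup_right : X r ≤ _) h5) ((le_sup_left : X y ≤ _) ha))
        ((le_sup_right : X r ≤ _) hc')) hm
    obtain ⟨a, ha, c, hc', rfl⟩ := Nodes.MuSq.exists_mul_of_sup (fun a ha b hb => (my b hb a ha).symm) hg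
    exact ⟨a, ha, c, hc', b, hb, rfl⟩
  have hcard : Nat.card (X y ⊔ X (r - y) ⊔ X r : Subgroup Y) =
      Nat.card (X r) * Nat.card (X r) * Nat.card (X r) := by
    have k1 : Nat.card (X y ⊔ X r : Subgroup Y) = Nat.card (X y) * Nat.card (X r) :=
      Nodes.CardSup.card_mul_of_disjoint le_sup_left le_sup_right
        (fun g hg => Nodes.MuSq.exists_mul_of_sup (fun a ha b hb => (my b hb a ha).symm) hg)
        (X_inf_X C.rgd hy hrr (ne_of_cpr hrr (by omega)))
    have k2 : Nat.card (X y ⊔ X (r - y) ⊔ X r : Subgroup Y) =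
        Nat.card (X y ⊔ X r : Subgroup Y) * Nat.card (X (r - y)) := by
      refine Nodes.CardSup.card_mul_of_disjoint (sup_le (le_sup_of_le_left le_sup_left) le_sup_right)
        (le_sup_of_le_left le_sup_right) (fun g hg => ?_) ?_
      · obtain ⟨a, ha, c, hc', b, hb, rfl⟩ := hel g hg
        exact ⟨a * c, mul_mem ((le_sup_left : X y ≤ _) ha) ((le_sup_right : X r ≤ _) hc'), b, hb, rfl⟩
      · rw [Subgroup.eq_bot_iff_forall]
        rintro g ⟨hg1, hg2⟩
        obtain ⟨a, ha, c, hc', rfl⟩ := Nodes.MuSq.exists_mul_of_sup (fun a ha b hb => (my b hb a ha).symm) hg1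
        have ha1 : a = 1 := S.eq_one hy hts c1 ha (by
          intro v hv
          have e1 : (a * c) * v = v * (a * c) := tab _ hg2 v hv
          have e2 : c * v = v * c := mts c hc' v hv
          have e3 : a * v * c = v * a * c := by
            calc a * v * c = a * (c * v) := by rw [e2]; group
              _ = v * a * c := by rw [← mul_assoc, e1]; group
          exact mul_right_cancel e3)
        rw [ha1, one_mul] at hg2 ⊢
        have h5 : c ∈ X r ⊓ X (r - y) := ⟨hc', hg2⟩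
        rw [X_inf_X C.rgd hrr hts (ne_of_cpr hts (by
          rw [cpr_symm cs h S.h4 S.h6 hrr hts, d3]; decide)), Subgroup.mem_bot] at h5
        exact h5
    rw [k2, k1, S.card_eq hy hrr h1, S.card_eq hts hrr d3]
  refine ⟨le_sup_right, hcen, hcomm, hodd, hcard, ?_⟩
  intro u hu huN q hq
  obtain ⟨a, ha, c, hc', b, hb, rfl⟩ := hel u hu
  have hc1 : ∀ v, v ∈ X y ⊔ X (r - y) ⊔ X r → ⁅c, v⁆ = 1 := fun v hv => by
    rw [commutatorElement_eq_one_iff_mul_comm]
    exact hcen c hc' v hv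
  by_cases ha1 : a = 1
  · have hb1 : b ≠ 1 := by
      rintro rfl
      exact huN (by rw [ha1, one_mul, mul_one]; exact hc')
    obtain ⟨v, hv, hve⟩ := nd C.rgd S.h4 S.h6 hts hy c1' hb hb1 (w := q) (by rwa [er'])
    have hvM : v ∈ X y ⊔ X (r - y) ⊔ X r := (le_sup_left : X y ⊔ X (r - y) ≤ _) ((le_sup_left : X y ≤ _) hv)
    refine ⟨v, hvM, ?_⟩
    rw [ha1, one_mul, comm_mul_left (by rw [hve]; exact mr q hq c hc'), hve, hc1 v hvM, mul_one]
  · obtain ⟨v, hv, hve⟩ := nd C.rgd S.h4 S.h6 hy hts c1 ha ha1 (w := q) (by rwa [er])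
    have hvM : v ∈ X y ⊔ X (r - y) ⊔ X r :=
      (le_sup_left : X y ⊔ X (r - y) ≤ _) ((le_sup_right : X (r - y) ≤ _) hv)
    refine ⟨v, hvM, ?_⟩
    have hb1 : ⁅b, v⁆ = 1 := by
      rw [commutatorElement_eq_one_iff_mul_comm]
      exact tab b hb v hv
    have e1 : ⁅a * c, v⁆ = q := by
      rw [comm_mul_left (by rw [hc1 v hvM]; group), hc1 v hvM, one_mul, hve]
    rw [comm_mul_left (by rw [hb1]; group), hb1, one_mul, e1]

/-- **The data on the weight group.** -/
theorem alt_data (hF : MaxF C F) {y r : I → ℤ} (hy : IsRoot cs h y) (hr : r ∈ F) (h1 : cpr cs h y r = 1)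
    (h0 : ∀ t ∈ F, t ≠ r → t ≠ -r → cpr cs h y t = 0) : AltD (MM cs h X F y) (Z r) := by
  have hrr := C.root r (hF.sub r hr)
  rw [mm_one S.h4 S.h6 hF S.all hy hr h1 h0, S.ZX r hrr]
  exact S.alt_data' hy hrr h1

theorem triv_one (hF : MaxF C F) {K : Subgroup Y} {e : Y} (hK : QK K e) (hc : Cen C F K) {y r : I → ℤ}
    (hy : IsRoot cs h y) (hr : r ∈ F) (h1 : cpr cs h y r = 1)
    (h0 : ∀ t ∈ F, t ≠ r → t ≠ -r → cpr cs h y t = 0) :
    (∀ v ∈ X y, e * v * e⁻¹ = v) ∨ ∀ v ∈ X y, e * v * e⁻¹ = v⁻¹ := by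
  have hrr := C.root r (hF.sub r hr)
  obtain ⟨hyr, a1, a2, a3, a4, a5⟩ := S.vroots hy hrr h1
  have hts : IsRoot cs h (r - y) := by
    have := hyr.neg
    rwa [neg_sub] at this
  have c1 : cpr cs h y (r - y) = -1 := by
    rw [cpr_symm cs h S.h4 S.h6 hy hts, cpr_sub cs h r y hy, a5, cpr_self cs h hy]; ring
  have c1' : cpr cs h (r - y) y = -1 := by rw [cpr_symm cs h S.h4 S.h6 hts hy, c1]
  have d3 : cpr cs h (r - y) r = 1 := by rw [cpr_sub cs h r y hrr, h1, cpr_self cs h hrr]; ring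
  have er : y + (r - y) = r := by abel
  have er' : r - y + y = r := by abel
  -- commutations
  have my : ∀ a ∈ X r, ∀ b ∈ X y, a * b = b * a := S.cm hrr hy (by omega)
  have mts : ∀ a ∈ X r, ∀ b ∈ X (r - y), a * b = b * a :=
    fun a ha b hb => (S.cm hts hrr (by omega) b hb a ha).symm
  have mr : ∀ a ∈ X r, ∀ b ∈ X r, a * b = b * a := S.cm hrr hrr (by rw [cpr_self cs h hrr]; decide)
  have yab := S.cm hy hy (by rw [cpr_self cs h hy]; decide)
  have tab := S.cm hts hts (by rw [cpr_self cs h hts]; decide)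
  have hN := wt_nor C S.hT hF.sub hr ((cpr_pos_iff cs h y hrr).1 (by omega)) hc (X := X)
  rw [mm_one S.h4 S.h6 hF S.all hy hr h1 h0] at hN
  have heN : ∀ c ∈ X r, e * c = c * e := fun c hc' =>
    hc.comm r hr c (by rw [S.ZX r hrr]; exact hc') e hK.mem
  have hei := hK.inv_e
  have D := S.alt_data' hy hrr h1
  have key := alt_grp D.le D.cen D.comm D.odd D.card D.nd hK.sq (hN hK.mem) heN
  have hyM : X y ≤ X y ⊔ X (r - y) ⊔ X r := le_sup_of_le_left le_sup_left
  rcases key with key | key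
  · left
    intro v hv
    have h5 := key v (hyM hv)
    set c := e * v * e⁻¹ * v⁻¹ with hcd
    have e1 : e * v * e⁻¹ = c * v := by rw [hcd]; group
    have e2 : c * c = 1 := by
      have e3 : e * (e * v * e⁻¹) * e⁻¹ = c * (c * v) := by
        calc e * (e * v * e⁻¹) * e⁻¹ = e * (c * v) * e⁻¹ := by rw [e1]
          _ = (e * c) * v * e⁻¹ := by group
          _ = c * (e * v * e⁻¹) := by rw [heN c h5]; group
          _ = c * (c * v) := by rw [e1]
      have e4 : e * (e * v * e⁻¹) * e⁻¹ = v := by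
        rw [hei]
        calc e * (e * v * e) * e = (e * e) * v * (e * e) := by group
          _ = v := by rw [hK.sq]; group
      rw [e4, ← mul_assoc] at e3
      calc c * c = (c * c * v) * v⁻¹ := by group
        _ = 1 := by rw [← e3]; group
    rw [e1, sq_eq_one (S.odd_X hrr) h5 e2, one_mul]
  · right
    intro v hv
    have h5 := key v (hyM hv)
    set c := e * v * e⁻¹ * v with hcd
    have e1 : e * v * e⁻¹ = c * v⁻¹ := by rw [hcd]; group
    -- the involution `z r`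
    have hzJ : e * z r = z r * e := S.comm_J hF hc hr e hK.mem _ (C.z_mem r (hF.sub r hr))
    have hz2 := C.z_sq r (hF.sub r hr)
    have hzi : (z r)⁻¹ = z r := inv_eq_of_mul_eq_one_right hz2
    have hzv := C.z_inv r (hF.sub r hr) y hy (ne_of_cpr hrr (by omega)) (ne_neg_of_cpr hrr (by omega))
      (fun e => by rw [← cpr_zero_iff cs h y hrr] at e; omega) v hv
    have hzc : z r * c = c * z r := C.z_cent r (hF.sub r hr) c (by rw [S.ZX r hrr]; exact h5)
    have e2 : c * c = 1 := by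
      have e3 : z r * (e * v * e⁻¹) * z r = e * v⁻¹ * e⁻¹ := by
        have e4 : e⁻¹ * z r = z r * e⁻¹ := by rw [hei, hzJ]
        calc z r * (e * v * e⁻¹) * z r = (z r * e) * v * (e⁻¹ * z r) := by group
          _ = e * (z r * v * z r) * e⁻¹ := by rw [← hzJ, e4]; group
          _ = e * v⁻¹ * e⁻¹ := by rw [hzv]
      have e5 : e * v⁻¹ * e⁻¹ = v * c⁻¹ := by
        have : e * v⁻¹ * e⁻¹ = (e * v * e⁻¹)⁻¹ := by group
        rw [this, e1]; group
      have e6 : z r * (c * v⁻¹) * z r = c * v := by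
        have e7 : z r * v⁻¹ * z r = v := by
          have : (z r * v * z r)⁻¹ = (v⁻¹)⁻¹ := by rw [hzv]
          rw [mul_inv_rev, mul_inv_rev, hzi, inv_inv, ← mul_assoc] at this
          exact this
        calc z r * (c * v⁻¹) * z r = (z r * c) * v⁻¹ * z r := by group
          _ = c * (z r * v⁻¹ * z r) := by rw [hzc]; group
          _ = c * v := by rw [e7]
      rw [e1, e6, e5] at e3
      -- `c v = v c⁻¹`
      have e8 : c * v = v * c := my c h5 v hv
      rw [e8] at e3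
      have e9 : c = c⁻¹ := mul_left_cancel e3
      nth_rw 2 [e9]
      exact mul_inv_cancel c
    rw [e1, sq_eq_one (S.odd_X hrr) h5 e2, one_mul]

end SLC

end Cfsg.Agent.LOC.SL
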