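import Mathlib
import Cfsg.Agent.Cit.Nil.LO.SLOne
import Cfsg.Agent.Nodes.TyChart

/-!
# Lie odd sections: the simply laced charts (S1309, (n1), piece (C))

Text: `blueprints/CIT-6b-LieOdd-helper443.md`, section 3.

* `dich` : `e` centralises `X y`, or inverts `X y` and `y` is not orthogonal to only one `± r ∈ F` (`OneF`);
* `conn`, `exists_nb` : the graph of the roots, not orthogonal = joined, of an irreducible system has diameter two;
* `all_or_none` : `e` inverts all `X y` with `OneF y` or none;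
* `out_of`, `out` : **the output** `Out c.cls F` for the charts of type `A n` (`n ≥ 2`), `D n`, `E6`, `E7`, `E8`.
-/

set_option autoImplicit false
set_option linter.unusedSectionVars false
set_option linter.dupNamespace false

namespace Cfsg.Agent.LOC.Simply

open CoxeterSystem Cfsg.Agent.ChevalleyStructure.CoxeterGeom Cfsg.Agent.Tits.Roots Cfsg.Agent.Tits.Core
  Cfsg.Agent.Tits.RootComb Cfsg.Agent.Nodes.Comb Cfsg.Agent.Nodes.Reps Cfsg.Agent.Nodes.BNOf
  Cfsg.Agent.Nodes.RGDLib Cfsg.Agent.Nodes.PosPair Cfsg.Agent.Nodes.Chart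
  Cfsg.Agent.Nodes.Coroot Cfsg.Agent.Nodes.SimplyLaced Cfsg.Agent.Nodes.KindBase Cfsg.Agent.Nodes.OppDec
  Cfsg.Agent.LOC.ChartDefs Cfsg.Agent.LOC.Wt Cfsg.Agent.LOC.FormGrp Cfsg.Agent.LOC.SL
open scoped commutatorElement

variable {I W Y : Type*} [Fintype I] [DecidableEq I] [Group W] [Fintype W] [Group Y] {M : CoxeterMatrix I}
  {cs : CoxeterSystem M W} {A : I → I → ℤ} {h : IsCartan M A}

/-! ### The graph of the roots -/

section graph

/-- a root is not orthogonal to some simple root -/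
theorem exists_sr {v : I → ℤ} (hv : IsRoot cs h v) : ∃ i, cpr cs h v (sr i) ≠ 0 := by
  by_contra hcon
  push Not at hcon
  have h1 : ∀ i, form cs h (sr i) v = 0 := by
    intro i
    rw [form_comm]
    exact (cpr_zero_iff cs h v (isRoot_sr cs h i)).1 (hcon i)
  have h2 : Nodes.CenVV.fh cs h v v = 0 := by
    conv_lhs => rw [eq_sum_sr v]
    rw [map_sum]
    refine Finset.sum_eq_zero fun k _ => ?_
    rw [map_zsmul, Nodes.CenVV.fh_apply]
    have h3 : form cs h (sr k) (∑ k, v k • sr k) = 0 := by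
      rw [← eq_sum_sr v]
      exact h1 k
    rw [h3, smul_zero]
  exact absurd h2 (ne_of_gt (form_pos cs h hv.ne_zero))

variable (h4 : ∀ i j, M i j ≠ 4) (h6 : ∀ i j, M i j ≠ 6)
  (irr : ∀ J : Set I, J.Nonempty → J ≠ Set.univ → ∃ a ∈ J, ∃ b, b ∉ J ∧ M a b ≠ 2)
include h4 h6 irr

/-- two roots have a common neighbour -/
theorem conn {y y' : I → ℤ} (hy : IsRoot cs h y) (hy' : IsRoot cs h y') :
    ∃ x, IsRoot cs h x ∧ cpr cs h x y ≠ 0 ∧ cpr cs h x y' ≠ 0 := by
  have closed : ∀ u v, IsRoot cs h u → IsRoot cs h v → cpr cs h u v ≠ 0 →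
      (∃ x, IsRoot cs h x ∧ cpr cs h x y ≠ 0 ∧ cpr cs h x u ≠ 0) →
      ∃ x, IsRoot cs h x ∧ cpr cs h x y ≠ 0 ∧ cpr cs h x v ≠ 0 := by
    rintro u v hu hv huv ⟨x, hx, h1, h2⟩
    by_cases h3 : cpr cs h u y = 0
    · by_cases h5 : cpr cs h x v = 0
      · refine ⟨x - cpr cs h x u • u, isRoot_refl cs h hx hu, ?_, ?_⟩
        · rw [cpr_sub cs h _ _ hy, cpr_smul cs h _ _ hy, h3, mul_zero, sub_zero]
          exact h1
        · rw [cpr_sub cs h _ _ hv, cpr_smul cs h _ _ hv, h5, zero_sub]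
          exact neg_ne_zero.2 (mul_ne_zero h2 huv)
      · exact ⟨x, hx, h1, h5⟩
    · exact ⟨u, hu, h3, huv⟩
  have hyy : ∃ x, IsRoot cs h x ∧ cpr cs h x y ≠ 0 ∧ cpr cs h x y ≠ 0 :=
    ⟨y, hy, by rw [cpr_self cs h hy]; decide, by rw [cpr_self cs h hy]; decide⟩
  let J : Set I := {i | ∃ x, IsRoot cs h x ∧ cpr cs h x y ≠ 0 ∧ cpr cs h x (sr i) ≠ 0}
  have hJ : J = Set.univ := by
    by_contra hne
    obtain ⟨i, hi⟩ := exists_sr hy
    obtain ⟨a, ha, b, hb, hab⟩ := irr J ⟨i, closed y (sr i) hy (isRoot_sr cs h i) hi hyy⟩ hne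
    apply hb
    refine closed (sr a) (sr b) (isRoot_sr cs h a) (isRoot_sr cs h b) ?_ ha
    rw [cpr_sr, Nodes.ZFam.pairing_sr']
    have hne' : a ≠ b := fun e => hb (e ▸ ha)
    rcases h.rel a b hne' with ⟨e, -⟩ | ⟨-, -, e⟩ | ⟨e, -⟩ | ⟨e, -⟩
    · exact absurd e hab
    · rw [e]; decide
    · exact absurd e (h4 a b)
    · exact absurd e (h6 a b)
  obtain ⟨i, hi⟩ := exists_sr hy'
  have h1 : i ∈ J := by rw [hJ]; trivial
  refine closed (sr i) y' (isRoot_sr cs h i) hy' ?_ h1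
  intro e
  exact hi ((cpr_zero_comm cs h hy' (isRoot_sr cs h i)).2 e)

/-- neighbours (rank at least two) -/
theorem exists_nb (h2 : ∃ i j : I, i ≠ j) {x : I → ℤ} (hx : IsRoot cs h x) :
    ∃ y, IsRoot cs h y ∧ cpr cs h x y = 1 := by
  obtain ⟨i, j, hij⟩ := h2
  have hsr : ∀ i : I, IsRoot cs h (sr i) := fun i => isRoot_sr cs h i
  have hk : ∃ k, sr k ≠ x ∧ sr k ≠ -x := by
    by_contra hcon
    push Not at hcon
    have e1 := hcon i
    have e2 := hcon j
    have hne : (sr i : I → ℤ) ≠ sr j := fun e => by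
      have := congrFun e i
      simp only [sr, Pi.single_eq_same] at this
      rw [Pi.single_eq_of_ne hij] at this
      exact one_ne_zero this
    have hne' : (sr i : I → ℤ) ≠ -sr j := fun e => by
      have := congrFun e i
      simp only [sr, Pi.single_eq_same, Pi.neg_apply] at this
      rw [Pi.single_eq_of_ne hij] at this
      simp at this
    by_cases a1 : sr i = x
    · by_cases a2 : sr j = x
      · exact hne (a1.trans a2.symm)
      · have a3 := e2 a2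
        exact hne' (by rw [a3, neg_neg, a1])
    · have a3 := e1 a1
      by_cases a2 : sr j = x
      · exact hne' (by rw [a3, a2])
      · exact hne (a3.trans (e2 a2).symm)
  obtain ⟨k, k1, k2⟩ := hk
  have key : ∃ y, IsRoot cs h y ∧ x ≠ y ∧ x ≠ -y ∧ cpr cs h x y ≠ 0 := by
    obtain ⟨x', hx', c1, c2⟩ := conn h4 h6 irr hx (hsr k)
    by_cases b1 : x' = x
    · rw [b1] at c2
      exact ⟨sr k, hsr k, k1.symm, fun e => k2 (by rw [e, neg_neg]), c2⟩
    by_cases b2 : x' = -x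
    · rw [b2, cpr_neg cs h x (hsr k)] at c2
      exact ⟨sr k, hsr k, k1.symm, fun e => k2 (by rw [e, neg_neg]), neg_ne_zero.1 c2⟩
    · exact ⟨x', hx', Ne.symm b1, fun e => b2 (by rw [e, neg_neg]),
        fun e => c1 ((cpr_zero_comm cs h hx hx').1 e)⟩
  obtain ⟨y, hy, n1, n2, n3⟩ := key
  have e1 := abs_cpr_le_one cs h h4 h6 hx hy n1 n2
  rw [abs_le] at e1
  by_cases e2 : cpr cs h x y = 1
  · exact ⟨y, hy, e2⟩
  · exact ⟨-y, hy.neg, by rw [cpr_neg_right cs h x hy]; omega⟩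

end graph

/-! ### The signs -/

variable {p : ℕ} {T : Subgroup Y} {n : I → Y}
  {X : (I → ℤ) → Subgroup Y} {R : Set (I → ℤ)} {Z : (I → ℤ) → Subgroup Y} {z : (I → ℤ) → Y}
  {C : Cls cs h p T n X R Z z} {F : Set (I → ℤ)}

/-- `y` is not orthogonal to exactly one `± r` of `F` -/
def OneF (cs : CoxeterSystem M W) (h : IsCartan M A) (F : Set (I → ℤ)) (y : I → ℤ) : Prop :=
  ∃ r ∈ F, cpr cs h y r = 1 ∧ ∀ t ∈ F, t ≠ r → t ≠ -r → cpr cs h y t = 0

/-- a sign for a member of `F` -/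
theorem exists_sign (h4 : ∀ i j, M i j ≠ 4) (h6 : ∀ i j, M i j ≠ 6) (hF : MaxF C F) {y r : I → ℤ}
    (hy : IsRoot cs h y) (hyF : y ∉ F) (hr : r ∈ F) (h0 : cpr cs h y r ≠ 0) :
    ∃ r' ∈ F, (r' = r ∨ r' = -r) ∧ cpr cs h y r' = 1 := by
  have hrr := C.root r (hF.sub r hr)
  have e1 := abs_cpr_le_one cs h h4 h6 hy hrr (fun e => hyF (e ▸ hr)) (fun e => hyF (e ▸ hF.neg r hr))
  rw [abs_le] at e1
  by_cases e2 : cpr cs h y r = 1
  · exact ⟨r, hr, Or.inl rfl, e2⟩
  · exact ⟨-r, hF.neg r hr, Or.inr rfl, by rw [cpr_neg_right cs h y hrr]; omega⟩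

variable [Finite Y] [Fact p.Prime] (S : SLC C)
include S

section one

variable (hF : MaxF C F) {K : Subgroup Y} {e : Y} (hK : QK K e) (hc : Cen C F K)
include hF hK hc

theorem dich {y : I → ℤ} (hy : IsRoot cs h y) : (∀ v ∈ X y, e * v * e⁻¹ = v) ∨
    ((∀ v ∈ X y, e * v * e⁻¹ = v⁻¹) ∧ OneF cs h F y) := by
  by_cases hyF : y ∈ F
  · left
    intro v hv
    rw [hc.comm y hyF v (by rw [S.ZX y hy]; exact hv) e hK.mem]
    group
  obtain ⟨r0, hr0, h0⟩ := hF.max y (S.all y hy)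
  obtain ⟨r, hr, -, hr1⟩ := exists_sign S.h4 S.h6 hF hy hyF hr0
    (fun e => h0 ((cpr_zero_iff cs h y (C.root r0 (hF.sub r0 hr0))).1 e))
  by_cases h1 : ∀ t ∈ F, t ≠ r → t ≠ -r → cpr cs h y t = 0
  · rcases S.triv_one hF hK hc hy hr hr1 h1 with h2 | h2
    · exact Or.inl h2
    · exact Or.inr ⟨h2, r, hr, hr1, h1⟩
  left
  push Not at h1
  obtain ⟨s0, hs0, n1, n2, hs00⟩ := h1
  obtain ⟨s, hs, es, hs1⟩ := exists_sign S.h4 S.h6 hF hy hyF hs0 hs00
  have hsr : s ≠ r ∧ s ≠ -r := by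
    rcases es with rfl | rfl
    · exact ⟨n1, n2⟩
    · exact ⟨fun e => n2 (by rw [← e, neg_neg]), fun e => n1 (neg_injective e)⟩
  by_cases h2 : ∀ t ∈ F, t ≠ r → t ≠ -r → t ≠ s → t ≠ -s → cpr cs h y t = 0
  · exact S.triv_two hF hK hc hy hr hs hsr.1.symm hr1 hs1 h2
  push Not at h2
  obtain ⟨t0, ht0, m1, m2, m3, m4, ht00⟩ := h2
  obtain ⟨t, ht, et, ht1⟩ := exists_sign S.h4 S.h6 hF hy hyF ht0 ht00
  have htr : t ≠ r := by
    rcases et with rfl | rfl
    · exact m1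
    · exact fun e => m2 (by rw [← e, neg_neg])
  have hts : t ≠ s := by
    rcases et with rfl | rfl
    · exact m3
    · exact fun e => m4 (by rw [← e, neg_neg])
  exact S.triv_three hF hK hc hy hr hs ht hsr.1.symm htr.symm hts.symm hr1 hs1 ht1

omit hF hK hc in
theorem not_both {y : I → ℤ} (hy : IsRoot cs h y) (h1 : ∀ v ∈ X y, e * v * e⁻¹ = v) :
    ¬ ∀ v ∈ X y, e * v * e⁻¹ = v⁻¹ := by
  intro h2
  obtain ⟨v, hv, hv1⟩ := S.ne_one hy
  have h3 := h2 v hv
  rw [h1 v hv] at h3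
  exact hv1 (sq_eq_one (S.odd_X hy) hv (by nth_rw 1 [h3]; exact inv_mul_cancel v))

omit hF hK hc in
theorem pp {x y : I → ℤ} (hx : IsRoot cs h x) (hy : IsRoot cs h y) (h0 : cpr cs h x y = -1)
    (h1 : ∀ v ∈ X x, e * v * e⁻¹ = v) (h2 : ∀ v ∈ X y, e * v * e⁻¹ = v) :
    ∀ v ∈ X (x + y), e * v * e⁻¹ = v := by
  intro w hw
  obtain ⟨u, hu, hu1⟩ := S.ne_one hx
  obtain ⟨v, hv, rfl⟩ := nd C.rgd S.h4 S.h6 hx hy h0 hu hu1 hw
  rw [conj_comm, h1 u hu, h2 v hv]

omit hF hK hc in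
theorem pn {x y : I → ℤ} (hx : IsRoot cs h x) (hy : IsRoot cs h y) (h0 : cpr cs h x y = -1)
    (h1 : ∀ v ∈ X x, e * v * e⁻¹ = v) (h2 : ∀ v ∈ X y, e * v * e⁻¹ = v⁻¹) :
    ∀ v ∈ X (x + y), e * v * e⁻¹ = v⁻¹ := by
  intro w hw
  obtain ⟨u, hu, hu1⟩ := S.ne_one hx
  obtain ⟨v, hv, rfl⟩ := nd C.rgd S.h4 S.h6 hx hy h0 hu hu1 hw
  rw [conj_comm, h1 u hu, h2 v hv]
  refine comm_inv_right (S.cm (isRoot_add S.h4 S.h6 hx hy h0) hy ?_ _ hw v hv)
  rw [cpr_add cs h x y hy, h0, cpr_self cs h hy]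
  decide

theorem pos_neg {y : I → ℤ} (hy : IsRoot cs h y) (h1 : ∀ v ∈ X y, e * v * e⁻¹ = v) :
    ∀ v ∈ X (-y), e * v * e⁻¹ = v := by
  have hFp : ∀ r ∈ F, ∀ v ∈ X r, e * v * e⁻¹ = v := by
    intro r hr v hv
    rw [hc.comm r hr v (by rw [S.ZX r (C.root r (hF.sub r hr))]; exact hv) e hK.mem]
    group
  by_cases hyF : y ∈ F
  · exact hFp _ (hF.neg y hyF)
  rcases dich S hF hK hc hy.neg with h2 | ⟨h2, -⟩
  · exact h2
  exfalso
  obtain ⟨r0, hr0, h0⟩ := hF.max y (S.all y hy)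
  obtain ⟨r, hr, -, hr1⟩ := exists_sign S.h4 S.h6 hF hy hyF hr0
    (fun e => h0 ((cpr_zero_iff cs h y (C.root r0 (hF.sub r0 hr0))).1 e))
  have hrr := C.root r (hF.sub r hr)
  obtain ⟨hyr, a1, a2, a3, a4, a5⟩ := S.vroots hy hrr hr1
  have h3 := pp S hy hrr.neg a1 h1 (hFp _ (hF.neg r hr))
  rw [← sub_eq_add_neg] at h3
  have h5 := pn S hyr hy.neg (by
    rw [cpr_neg_right cs h _ hy, cpr_symm cs h S.h4 S.h6 hyr hy, a4]) h3 h2
  have e1 : y - r + -y = -r := by abel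
  rw [e1] at h5
  exact not_both S hrr.neg (hFp _ (hF.neg r hr)) h5

theorem neg_neg' {y : I → ℤ} (hy : IsRoot cs h y) (h1 : ∀ v ∈ X y, e * v * e⁻¹ = v⁻¹) :
    ∀ v ∈ X (-y), e * v * e⁻¹ = v⁻¹ := by
  rcases dich S hF hK hc hy.neg with h2 | ⟨h2, -⟩
  · exfalso
    have h3 := pos_neg S hF hK hc hy.neg h2
    rw [neg_neg] at h3
    exact not_both S hy h3 h1
  · exact h2

/-- an inverted root group is orthogonal to a centralised one with `OneF` -/
theorem orth_one {y y' : I → ℤ} (hy : IsRoot cs h y) (hy' : IsRoot cs h y') (h1 : ∀ v ∈ X y, e * v * e⁻¹ = v)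
    (hone : OneF cs h F y) (h2 : ∀ v ∈ X y', e * v * e⁻¹ = v⁻¹) : cpr cs h y y' = 0 := by
  have key : ∀ y', IsRoot cs h y' → (∀ v ∈ X y', e * v * e⁻¹ = v⁻¹) → cpr cs h y y' ≠ -1 := by
    intro y' hy' h2 h0
    have hyy := isRoot_add S.h4 S.h6 hy hy' h0
    have h3 := pn S hy hy' h0 h1 h2
    have one : ∀ x, IsRoot cs h x → (∀ v ∈ X x, e * v * e⁻¹ = v⁻¹) → OneF cs h F x := by
      intro x hx h5
      rcases dich S hF hK hc hx with h6 | h6
      · exact absurd h5 (not_both S hx h6)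
      · exact h6.2
    obtain ⟨r, hr, e1, e2⟩ := hone
    obtain ⟨r', hr', f1, f2⟩ := one y' hy' h2
    obtain ⟨r'', hr'', g1, g2⟩ := one _ hyy h3
    have hrr := C.root r (hF.sub r hr)
    have hrr' := C.root r' (hF.sub r' hr')
    by_cases b1 : r' = r
    · rw [b1] at f1
      have hsum : cpr cs h (y + y') r = 2 := by rw [cpr_add cs h y y' hrr, e1, f1]; rfl
      by_cases b2 : r = r''
      · rw [b2] at hsum
        omega
      by_cases b3 : r = -r''
      · rw [b3, cpr_neg_right cs h _ (C.root r'' (hF.sub r'' hr''))] at hsum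
        omega
      have := g2 r hr b2 b3
      omega
    by_cases b1' : r' = -r
    · have f1' : cpr cs h y' r = -1 := by
        rw [b1', cpr_neg_right cs h _ hrr] at f1
        omega
      have hsum : ∀ t ∈ F, cpr cs h (y + y') t = 0 := by
        intro t ht
        have htt := C.root t (hF.sub t ht)
        rw [cpr_add cs h y y' htt]
        by_cases c1 : t = r
        · rw [c1, e1, f1']; rfl
        by_cases c2 : t = -r
        · rw [c2, cpr_neg_right cs h _ hrr, cpr_neg_right cs h _ hrr, e1, f1']; rfl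
        rw [e2 t ht c1 c2, f2 t ht (by rw [b1']; exact c2) (by rw [b1', neg_neg]; exact c1)]
        rfl
      have := hsum r'' hr''
      omega
    · have s1 : cpr cs h (y + y') r = 1 := by
        rw [cpr_add cs h y y' hrr, e1, f2 r hr (Ne.symm b1) (fun e => b1' (by rw [e, neg_neg]))]; rfl
      have s2 : cpr cs h (y + y') r' = 1 := by
        rw [cpr_add cs h y y' hrr', f1, e2 r' hr' b1 b1']; rfl
      have hrr'' := C.root r'' (hF.sub r'' hr'')
      have t1 : r = r'' := by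
        by_contra c1
        by_cases c2 : r = -r''
        · rw [c2, cpr_neg_right cs h _ hrr''] at s1
          omega
        · have := g2 r hr c1 c2
          omega
      have t2 : r' = r'' := by
        by_contra c1
        by_cases c2 : r' = -r''
        · rw [c2, cpr_neg_right cs h _ hrr''] at s2
          omega
        · have := g2 r' hr' c1 c2
          omega
      exact b1 (t2.trans t1.symm)
  have n1 : y ≠ y' := fun e0 => not_both S hy' (e0 ▸ h1) h2
  have n2 : y ≠ -y' := by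
    intro e0
    exact not_both S hy h1 (by rw [e0]; exact neg_neg' S hF hK hc hy' h2)
  have a1 := abs_cpr_le_one cs h S.h4 S.h6 hy hy' n1 n2
  rw [abs_le] at a1
  have a2 := key y' hy' h2
  have a3 := key (-y') hy'.neg (neg_neg' S hF hK hc hy' h2)
  rw [cpr_neg_right cs h _ hy'] at a3
  omega

variable (irr : ∀ J : Set I, J.Nonempty → J ≠ Set.univ → ∃ a ∈ J, ∃ b, b ∉ J ∧ M a b ≠ 2)
include irr

/-- **All or none.** -/
theorem all_or_none {y y' : I → ℤ} (hy : IsRoot cs h y) (hy' : IsRoot cs h y')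
    (hone : OneF cs h F y) (h2 : ∀ v ∈ X y', e * v * e⁻¹ = v⁻¹) : ∀ v ∈ X y, e * v * e⁻¹ = v⁻¹ := by
  rcases dich S hF hK hc hy with h1 | ⟨h1, -⟩
  swap
  · exact h1
  exfalso
  have h0 := orth_one S hF hK hc hy hy' h1 hone h2
  have h0' : cpr cs h y' y = 0 := (cpr_zero_comm cs h hy hy').1 h0
  obtain ⟨x, hx, c1, c2⟩ := conn S.h4 S.h6 irr hy hy'
  have hPx : ∀ v ∈ X x, e * v * e⁻¹ = v := by
    rcases dich S hF hK hc hx with h3 | ⟨h3, -⟩
    · exact h3
    · have := orth_one S hF hK hc hy hx h1 hone h3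
      exact absurd ((cpr_zero_comm cs h hy hx).1 this) c1
  have sgn : ∀ {u : I → ℤ}, IsRoot cs h u → ∀ {x : I → ℤ}, IsRoot cs h x → cpr cs h x u ≠ 0 → x ≠ u → x ≠ -u →
      cpr cs h x u = 1 ∨ cpr cs h x (-u) = 1 := by
    intro u hu x hx c1 n1 n2
    have a1 := abs_cpr_le_one cs h S.h4 S.h6 hx hu n1 n2
    rw [abs_le] at a1
    rw [cpr_neg_right cs h _ hu]
    omega
  have n1 : x ≠ y := by
    rintro rfl
    exact c2 h0
  have n1' : x ≠ -y := by
    rintro rfl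
    rw [cpr_neg cs h y hy', h0] at c2
    exact c2 rfl
  have n2 : x ≠ y' := by
    rintro rfl
    exact c1 h0'
  have n2' : x ≠ -y' := by
    rintro rfl
    rw [cpr_neg cs h y' hy, h0'] at c1
    exact c1 rfl
  -- the sign of `y'`
  have key : ∀ y', IsRoot cs h y' → (∀ v ∈ X y', e * v * e⁻¹ = v⁻¹) → cpr cs h y' y = 0 →
      cpr cs h x y' = 1 → False := by
    intro y' hy' h2 h0' h5
    have hxy := isRoot_sub S.h4 S.h6 hx hy' h5
    have h6 := pn S hx hy'.neg (by rw [cpr_neg_right cs h _ hy', h5]) hPx (neg_neg' S hF hK hc hy' h2)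
    rw [← sub_eq_add_neg] at h6
    have h7 := orth_one S hF hK hc hy hxy h1 hone h6
    have h8 := (cpr_zero_comm cs h hy hxy).1 h7
    rw [cpr_sub cs h x y' hy, h0', sub_zero] at h8
    exact c1 h8
  rcases sgn hy' hx c2 n2 n2' with h5 | h5
  · exact key y' hy' h2 h0' h5
  · exact key (-y') hy'.neg (neg_neg' S hF hK hc hy' h2) (by rw [cpr_neg cs h y' hy, h0']; rfl) h5

/-- the action of an element which does not centralise `L` -/
theorem act_of_not_triv (hnt : ¬ Triv C e) {y : I → ℤ} (hy : IsRoot cs h y) :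
    (OneF cs h F y → ∀ v ∈ X y, e * v * e⁻¹ = v⁻¹) ∧ (¬ OneF cs h F y → ∀ v ∈ X y, e * v * e⁻¹ = v) := by
  constructor
  · intro hone
    by_contra hcon
    apply hnt
    have hall : ∀ y', IsRoot cs h y' → ∀ v ∈ X y', e * v = v * e := by
      intro y' hy' v hv
      rcases dich S hF hK hc hy' with h1 | ⟨h1, -⟩
      · calc e * v = (e * v * e⁻¹) * e := by group
          _ = v * e := by rw [h1 v hv]
      · exact absurd (all_or_none S hF hK hc irr hy hy' hone h1) hcon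
    have h1 : G1 cs h X ≤ Subgroup.centralizer ({e} : Set Y) := by
      refine RGD.Sup_le fun x hx a ha => Subgroup.mem_centralizer_iff.2 fun b hb => ?_
      rw [Set.mem_singleton_iff.1 hb]
      exact hall x hx a ha
    intro l hl
    exact Subgroup.mem_centralizer_iff.1 (h1 hl) e rfl
  · intro hone
    rcases dich S hF hK hc hy with h1 | ⟨-, h1⟩
    · exact h1
    · exact absurd h1 hone

end one

/-- **The output.** -/
theorem out_cls (hF : MaxF C F)
    (irr : ∀ J : Set I, J.Nonempty → J ≠ Set.univ → ∃ a ∈ J, ∃ b, b ∉ J ∧ M a b ≠ 2) : Out C F := by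
  intro K K' e e' hK hK' hc hc' hnt hnt'
  have hall : ∀ y, IsRoot cs h y → ∀ v ∈ X y, e * e' * v = v * (e * e') := by
    intro y hy v hv
    obtain ⟨a1, a2⟩ := act_of_not_triv S hF hK hc irr hnt hy
    obtain ⟨b1, b2⟩ := act_of_not_triv S hF hK' hc' irr hnt' hy
    have key : e * e' * v * (e * e')⁻¹ = v := by
      have e1 : e * e' * v * (e * e')⁻¹ = e * (e' * v * e'⁻¹) * e⁻¹ := by group
      rw [e1]
      by_cases hone : OneF cs h F y
      · rw [b1 hone v hv, a1 hone _ (inv_mem hv), inv_inv]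
      · rw [b2 hone v hv, a2 hone v hv]
    calc e * e' * v = (e * e' * v * (e * e')⁻¹) * (e * e') := by group
      _ = v * (e * e') := by rw [key]
  have h1 : G1 cs h X ≤ Subgroup.centralizer ({e * e'} : Set Y) := by
    refine RGD.Sup_le fun x hx a ha => Subgroup.mem_centralizer_iff.2 fun b hb => ?_
    rw [Set.mem_singleton_iff.1 hb]
    exact hall x hx a ha
  intro l hl
  exact Subgroup.mem_centralizer_iff.1 (h1 hl) _ rfl

omit S in
/-- the standing facts -/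
theorem slc (C : Cls cs h p T n X R Z z) (h4 : ∀ i j, M i j ≠ 4) (h6 : ∀ i j, M i j ≠ 6) (hp2 : p ≠ 2)
    (irr : ∀ J : Set I, J.Nonempty → J ≠ Set.univ → ∃ a ∈ J, ∃ b, b ∉ J ∧ M a b ≠ 2)
    (h2 : ∃ i j : I, i ≠ j) (hsr : ∀ i, sr i ∈ R) (hT : T ≤ G1 cs h X) : SLC C := by
  have hall : ∀ x, IsRoot cs h x → x ∈ R := by
    rintro x ⟨w, i, rfl⟩
    exact C.act _ (hsr i) w
  refine ⟨h4, h6, hall, fun x hx => ?_, hT, hp2⟩
  obtain ⟨y, hy, h1⟩ := exists_nb (cs := cs) (h := h) h4 h6 irr h2 hx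
  exact Z_eq_X C h4 h6 hp2 (hall x hx) hy h1

/-! ### Charts -/

section chart

open Cfsg.Agent.Nodes.Chart

variable {G : Type*} [Group G] [Finite G] {Om : Set (Subgroup G)} {q : ℕ} {L : Subgroup G}

omit S in
theorem out_of (c : Chart Om q L) (h4 : ∀ i j, c.M i j ≠ 4) (h6 : ∀ i j, c.M i j ≠ 6)
    (h2 : ∃ i j : c.I, i ≠ j) (hsr : ∀ i, sr i ∈ c.R) (F : Set (c.I → ℤ)) (hF : MaxF c.cls F) : Out c.cls F := by
  have : Fact q.Prime := ⟨c.prime⟩
  refine out_cls (slc c.cls h4 h6 c.odd c.irr h2 hsr ?_) hF c.irr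
  rw [c.gen]
  exact c.T_le

/-- the simply laced types of rank at least two -/
def Simply : Ty → Prop
  | .A n => 2 ≤ n
  | .D _ => True
  | .E6 => True
  | .E7 => True
  | .E8 => True
  | _ => False

omit S in
theorem simply_facts : (τ : Ty) → Simply τ → (∀ i, τ.len i = 1) ∧ (∀ i, τ.long i) ∧ 2 ≤ τ.rk
  | .A _, h => ⟨fun _ => rfl, fun _ => trivial, h⟩
  | .D n, _ => ⟨fun _ => rfl, fun _ => trivial, Nat.le_add_left 2 (n - 2)⟩
  | .E6, _ => ⟨fun _ => rfl, fun _ => trivial, by decide⟩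
  | .E7, _ => ⟨fun _ => rfl, fun _ => trivial, by decide⟩
  | .E8, _ => ⟨fun _ => rfl, fun _ => trivial, by decide⟩

omit S in
/-- the standing facts for the simply laced types -/
theorem slc_of (c : Chart Om q L) {τ : Ty} (hτ : c.IsTy τ) (hs : Simply τ) : SLC c.cls := by
  obtain ⟨f1, f2, f3⟩ := simply_facts τ hs
  obtain ⟨e, he, hR⟩ := hτ
  have : Fact q.Prime := ⟨c.prime⟩
  have hsym : ∀ i j, c.A i j = c.A j i := by
    intro i j
    have := τ.len_rel (e i) (e j)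
    rw [f1, f1, mul_one, mul_one] at this
    rw [he, he, this]
  have hne : ∀ {i j : c.I} {m : ℕ}, m ≠ 1 → c.M i j = m → i ≠ j := by
    rintro i j m hm h0 rfl
    exact hm (h0.symm.trans (c.M.diagonal i))
  refine slc c.cls (fun i j h0 => ?_) (fun i j h0 => ?_) c.odd c.irr ?_ (fun i => (hR i).2 (f2 _)) ?_
  · have h1 := hsym i j
    rcases c.h.rel i j (hne (by decide) h0) with ⟨a, -⟩ | ⟨a, -⟩ | ⟨-, ⟨a, b⟩ | ⟨a, b⟩⟩ | ⟨a, -⟩ <;> omega
  · have h1 := hsym i j
    rcases c.h.rel i j (hne (by decide) h0) with ⟨a, -⟩ | ⟨a, -⟩ | ⟨a, -⟩ | ⟨-, ⟨a, b⟩ | ⟨a, b⟩⟩ <;> omega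
  · refine ⟨e.symm ⟨0, by omega⟩, e.symm ⟨1, by omega⟩, fun h0 => ?_⟩
    have := e.symm.injective h0
    simp at this
  · rw [c.gen]
    exact c.T_le

omit S in
/-- **The simply laced types.** -/
theorem out (c : Chart Om q L) {τ : Ty} (hτ : c.IsTy τ) (hs : Simply τ) (F : Set (c.I → ℤ))
    (hF : MaxF c.cls F) : Out c.cls F := by
  have : Fact q.Prime := ⟨c.prime⟩
  exact out_cls (slc_of c hτ hs) hF c.irr

end chart

end Cfsg.Agent.LOC.Simply
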