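import Mathlib
import Cfsg.Agent.Cit.Nil.LO.ChartDefs
import Cfsg.Agent.Nodes.MuSq
import Cfsg.Agent.Nodes.ExactLift

/-!
# Lie odd sections, the chart part: the roots `y` with `[X y, e] = 1` (S1309, (n1), piece (C)); all types

* `Fx e y` : `e` centralises `X y`;
* `Fx.refl` : `Fx e w`, `Fx e (-w)`, `Fx e y` ⟹ `Fx e (s_w y)`;
* `diam` : in an irreducible root system any two roots have a common non-orthogonal root;
* `triv_of_ne` : `Fx e y` for all roots `y` not orthogonal to one fixed root `r` ⟹ `e` centralises `L`;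
* `eq_of_stab` : an element `g`, `g² = 1`, normalising a `p`-group `M`, `p` odd, and trivial on `Z ≤ M` and modulo
  `Z` centralises `M`.
-/

set_option autoImplicit false
set_option linter.unusedSectionVars false
set_option linter.dupNamespace false

namespace Cfsg.Agent.LOC.Phi

open CoxeterSystem Cfsg.Agent.ChevalleyStructure.CoxeterGeom Cfsg.Agent.Tits.Roots Cfsg.Agent.Tits.Core
  Cfsg.Agent.Tits.RootComb Cfsg.Agent.Nodes.Comb Cfsg.Agent.Nodes.SubComb Cfsg.Agent.Nodes.Reps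
  Cfsg.Agent.Nodes.Coroot Cfsg.Agent.Nodes.PosPair Cfsg.Agent.Nodes.BNOf Cfsg.Agent.Nodes.RGDLib
  Cfsg.Agent.Nodes.Chart Cfsg.Agent.Nodes.ClsNorm Cfsg.Agent.Nodes.ChartLoc Cfsg.Agent.Nodes.ChartFrame
  Cfsg.Agent.Nodes.Slope Cfsg.Agent.Nodes.Bruhat Cfsg.Agent.LOC.ChartDefs
open scoped commutatorElement

variable {I W Y : Type*} [Fintype I] [DecidableEq I] [Group W] [Fintype W] [Group Y] {M : CoxeterMatrix I}
  {cs : CoxeterSystem M W} {A : I → I → ℤ} {h : IsCartan M A} {p : ℕ} {T : Subgroup Y} {n : I → Y}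
  {X : (I → ℤ) → Subgroup Y} {R : Set (I → ℤ)} {Z : (I → ℤ) → Subgroup Y} {z : (I → ℤ) → Y}

/-- `e` centralises `X y` -/
def Fx (X : (I → ℤ) → Subgroup Y) (e : Y) (y : I → ℤ) : Prop := ∀ a ∈ X y, e * a = a * e

theorem triv_of_fx (C : Cls cs h p T n X R Z z) {e : Y} (H : ∀ y, IsRoot cs h y → Fx X e y) : Triv C e := by
  intro l hl
  have h1 : G1 cs h X ≤ Subgroup.centralizer {e} := by
    unfold G1
    refine iSup_le ?_
    rintro ⟨y, hy⟩ a ha
    rw [Subgroup.mem_centralizer_singleton_iff]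
    exact (H y hy a ha).symm
  exact (Subgroup.mem_centralizer_singleton_iff.1 (h1 hl)).symm

theorem Fx.refl (C : Cls cs h p T n X R Z z) {e : Y} {w y : I → ℤ} (hw : IsRoot cs h w) (hy : IsRoot cs h y)
    (h1 : Fx X e w) (h2 : Fx X e (-w)) (h3 : Fx X e y) : Fx X e (y - cpr cs h y w • w) := by
  obtain ⟨a, ha, ha1⟩ : ∃ a ∈ X w, a ≠ 1 := by
    by_contra hcon
    push Not at hcon
    exact Nodes.StdConn.X_ne_bot C hw ((Subgroup.eq_bot_iff_forall _).2 hcon)
  obtain ⟨u, hu, v, hv, s, hs, -, e1⟩ := Nodes.MuSq.exists_mu' C.rgd hw ha ha1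
  have hm : ∀ {b c : Y}, e * b = b * e → e * c = c * e → e * (b * c) = b * c * e := by
    intro b c hb hc
    rw [← mul_assoc, hb, mul_assoc, hc, mul_assoc]
  have hme : e * (u * a * v) = u * a * v * e := hm (hm (h2 u hu) (h1 a ha)) (h2 v hv)
  set m := u * a * v
  intro b hb
  rw [← e1 y, ← C.rgd.conj_rp hs hy, mem_cj] at hb
  have h4 := h3 _ hb
  have h5 : e * m⁻¹ = m⁻¹ * e := by
    calc e * m⁻¹ = m⁻¹ * (m * e) * m⁻¹ := by group
      _ = m⁻¹ * (e * m) * m⁻¹ := by rw [hme]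
      _ = m⁻¹ * e := by group
  calc e * b = e * (m * (m⁻¹ * b * m) * m⁻¹) := by group
    _ = (e * m) * (m⁻¹ * b * m) * m⁻¹ := by group
    _ = m * (e * (m⁻¹ * b * m)) * m⁻¹ := by rw [hme]; group
    _ = m * (m⁻¹ * b * m) * (e * m⁻¹) := by rw [h4]; group
    _ = b * e := by rw [h5]; group

/-! ### Irreducible root systems -/

section Diam

variable (hirr : ∀ J : Set I, J.Nonempty → J ≠ Set.univ → ∃ a ∈ J, ∃ b, b ∉ J ∧ M a b ≠ 2)

include hirr

omit [Fintype W] in
/-- **Any two roots have a common non-orthogonal root.** -/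
theorem diam [Fintype W] {r y : I → ℤ} (hr : IsRoot cs h r) (hy : IsRoot cs h y) :
    ∃ w, IsRoot cs h w ∧ form cs h w r ≠ 0 ∧ form cs h w y ≠ 0 := by
  by_contra hcon
  push Not at hcon
  let B : Set (I → ℤ) := {b | IsRoot cs h b ∧ ∀ w, IsRoot cs h w → form cs h w r ≠ 0 → form cs h w b = 0}
  have hyB : y ∈ B := ⟨hy, hcon⟩
  have key : ∀ x, IsRoot cs h x → x ∉ B → ∀ b ∈ B, form cs h x b = 0 := by
    intro x hx hxB b hb
    by_cases h0 : form cs h x r = 0
    · have : ∃ w, IsRoot cs h w ∧ form cs h w r ≠ 0 ∧ form cs h w x ≠ 0 := by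
        by_contra hc
        push Not at hc
        exact hxB ⟨hx, hc⟩
      obtain ⟨w, hw, h1, h2⟩ := this
      have h3 : form cs h (w - cpr cs h w x • x) b = 0 := by
        refine hb.2 _ (isRoot_refl cs h hw hx) ?_
        rw [form_sub_left, form_smul_left, h0, mul_zero, sub_zero]
        exact h1
      rw [form_sub_left, form_smul_left, hb.2 w hw h1, zero_sub, neg_eq_zero, mul_eq_zero] at h3
      refine h3.resolve_left fun h4 => h2 ?_
      exact (cpr_zero_iff cs h w hx).1 h4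
    · exact hb.2 x hx h0
  have hne : {i : I | sr i ∈ B} ≠ Set.univ := by
    intro h0
    have h1 : ∀ i, form cs h r (sr i) = 0 := fun i => by
      have : i ∈ {i : I | sr i ∈ B} := by rw [h0]; trivial
      exact this.2 r hr (form_pos cs h hr.ne_zero).ne'
    have h2 := form_pos cs h hr.ne_zero
    have h3 : form cs h r r = 0 := by
      rw [form_eq_sum]
      exact Finset.sum_eq_zero fun k _ => by rw [h1, mul_zero]
    omega
  have hnonempty : {i : I | sr i ∈ B}.Nonempty := by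
    by_contra hemp
    rw [Set.not_nonempty_iff_eq_empty] at hemp
    have h1 : ∀ i, form cs h y (sr i) = 0 := by
      intro i
      rw [form_comm]
      refine key (sr i) (isRoot_sr cs h i) (fun h2 => ?_) y hyB
      have : i ∈ (∅ : Set I) := by rw [← hemp]; exact h2
      exact this
    have h2 := form_pos cs h hy.ne_zero
    have h3 : form cs h y y = 0 := by
      rw [form_eq_sum]
      exact Finset.sum_eq_zero fun k _ => by rw [h1, mul_zero]
    omega
  obtain ⟨a, ha, b, hb, hm⟩ := hirr _ hnonempty hne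
  have hab : a ≠ b := by
    rintro rfl
    exact hb ha
  refine Nodes.ExactLift.form_sr_ne_zero (cs := cs) (h := h) hab hm ?_
  rw [form_comm]
  exact key (sr b) (isRoot_sr cs h b) hb (sr a) ha

/-- **`e` centralises `L` if it centralises the `X y`, `y` not orthogonal to one root `r`.** -/
theorem triv_of_ne (C : Cls cs h p T n X R Z z) {e : Y} {r : I → ℤ} (hr : IsRoot cs h r)
    (H : ∀ y, IsRoot cs h y → form cs h y r ≠ 0 → Fx X e y) : Triv C e := by
  refine triv_of_fx C fun y hy => ?_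
  by_cases h0 : form cs h y r = 0
  · obtain ⟨w, hw, h1, h2⟩ := diam (cs := cs) (h := h) hirr hr hy
    have h3 : form cs h (y - cpr cs h y w • w) r ≠ 0 := by
      rw [form_sub_left, form_smul_left, h0, zero_sub, neg_ne_zero]
      refine mul_ne_zero (fun h4 => h2 ?_) h1
      rw [form_comm]
      exact (cpr_zero_iff cs h y hw).1 h4
    have hy' := isRoot_refl cs h hy hw
    have h5 := Fx.refl C hw hy' (H w hw h1) (H (-w) hw.neg (by rw [form_neg_left]; exact neg_ne_zero.2 h1))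
      (H _ hy' h3)
    have e1 : y - cpr cs h y w • w - cpr cs h (y - cpr cs h y w • w) w • w = y := by
      have h6 : cpr cs h (y - cpr cs h y w • w) w = -cpr cs h y w := by
        apply cpr_eq_of_form cs h hw
        rw [form_sub_left, form_smul_left]
        have := two_form_cpr cs h y hw
        linarith
      rw [h6, neg_smul, sub_neg_eq_add, sub_add_cancel]
    rwa [e1] at h5
  · exact H y hy h0

end Diam

/-! ### Stabilisers of chains -/

section Stab

variable {G : Type*} [Group G]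

/-- `g² = 1`, `g` acts trivially on the central subgroup `Z` of odd exponent and on `M / Z`: then `g` centralises
`M`. -/
theorem cent_of_stab {M Z : Subgroup G} {g : G} (hg : g * g = 1)
    (hodd : ∀ u ∈ Z, Odd (orderOf u)) (hgZ : ∀ u ∈ Z, g * u = u * g) (hgM : ∀ a ∈ M, g * a * g⁻¹ * a⁻¹ ∈ Z) {a : G}
    (ha : a ∈ M) : g * a = a * g := by
  set u := g * a * g⁻¹ * a⁻¹ with hu
  have huZ := hgM a ha
  have h1 : g * a * g⁻¹ = u * a := by rw [hu]; group
  have h2 : g * (g * a * g⁻¹) * g⁻¹ = u * (u * a) := by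
    rw [h1]
    calc g * (u * a) * g⁻¹ = (g * u) * a * g⁻¹ := by group
      _ = (u * g) * a * g⁻¹ := by rw [hgZ u huZ]
      _ = u * (g * a * g⁻¹) := by group
      _ = u * (u * a) := by rw [h1]
  have h3 : g * (g * a * g⁻¹) * g⁻¹ = a := by
    calc g * (g * a * g⁻¹) * g⁻¹ = (g * g) * a * (g * g)⁻¹ := by group
      _ = a := by rw [hg]; group
  rw [h3] at h2
  have h4 : u * u = 1 := by
    have : a * a⁻¹ = u * (u * a) * a⁻¹ := by rw [← h2]
    rw [mul_inv_cancel] at this
    rw [this]; group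
  have h5 : u = 1 := by
    obtain ⟨k, hk⟩ := hodd u huZ
    have h6 : u ^ orderOf u = 1 := pow_orderOf_eq_one u
    rw [hk, pow_succ, pow_mul, pow_two, h4, one_pow, one_mul] at h6
    exact h6
  rw [h5, one_mul] at h1
  calc g * a = g * a * g⁻¹ * g := by group
    _ = a * g := by rw [h1]

/-- **`e` acts as `z`** on `M` if both invert `M` modulo the central subgroup `Z` and centralise `Z`. -/
theorem act_eq {M Z : Subgroup G} {e z : G} (he : e * e = 1) (hz : z * z = 1) (hez : e * z = z * e)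
    (hodd : ∀ u ∈ Z, Odd (orderOf u)) (heZ : ∀ u ∈ Z, e * u = u * e) (hzZ : ∀ u ∈ Z, z * u = u * z)
    (hZM : ∀ u ∈ Z, ∀ a ∈ M, u * a = a * u)
    (heM : ∀ a ∈ M, e * a * e⁻¹ * a ∈ Z) (hzM : ∀ a ∈ M, z * a * z⁻¹ ∈ M ∧ z * a * z⁻¹ * a ∈ Z) {a : G}
    (ha : a ∈ M) : e * a * e⁻¹ = z * a * z⁻¹ := by
  have h1 : (e * z) * (e * z) = 1 := by
    calc (e * z) * (e * z) = e * (z * e) * z := by group
      _ = e * (e * z) * z := by rw [hez]
      _ = (e * e) * (z * z) := by group
      _ = 1 := by rw [he, hz, one_mul]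
  have h2 : ∀ u ∈ Z, (e * z) * u = u * (e * z) := by
    intro u hu
    rw [mul_assoc, hzZ u hu, ← mul_assoc, heZ u hu, mul_assoc]
  have h3 : (e * z) * a = a * (e * z) := by
    refine cent_of_stab (M := M) (Z := Z) h1 hodd h2 (fun b hb => ?_) ha
    obtain ⟨m1, m2⟩ := hzM b hb
    have m3 := heM _ m1
    -- `e (z b z⁻¹) e⁻¹ = v (z b z⁻¹)⁻¹`, `z b z⁻¹ = w b⁻¹`
    have e1 : (e * z) * b * (e * z)⁻¹ * b⁻¹ = (e * (z * b * z⁻¹) * e⁻¹ * (z * b * z⁻¹)) *
        (b * (z * b * z⁻¹ * b) * b⁻¹)⁻¹ := by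
      group
    have e2 : b * (z * b * z⁻¹ * b) * b⁻¹ = z * b * z⁻¹ * b := by
      rw [← hZM _ m2 b hb]; group
    rw [e1, e2]
    exact mul_mem m3 (inv_mem m2)
  have h4 : (e * z) * a * (e * z)⁻¹ = a := by rw [h3]; group
  have hzi : z⁻¹ = z := inv_eq_of_mul_eq_one_right hz
  have hei : e⁻¹ = e := inv_eq_of_mul_eq_one_right he
  calc e * a * e⁻¹ = e * ((e * z) * a * (e * z)⁻¹) * e⁻¹ := by rw [h4]
    _ = (e * e) * (z * a * z⁻¹) * (e * e)⁻¹ := by group
    _ = z * a * z⁻¹ := by rw [he]; group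

end Stab

end Cfsg.Agent.LOC.Phi
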