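import Mathlib
import Cfsg.Agent.Cit.Nil.LO.ChartDefs
import Cfsg.Agent.Cit.Nil.LO.Phi

/-!
# S1309, section 7 of LieOdd, the chart part: interface

`Sev C F` : `K`, `e` as in `Out`, `e` nontrivial on `L`; an element `g` of odd order normalising `L`, commuting with `K` and
with all elements of the root groups which commute with `e`, centralises `L`.
-/

set_option autoImplicit false
set_option linter.unusedSectionVars false
set_option linter.dupNamespace false

namespace Cfsg.Agent.LOC.SevDef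

open CoxeterSystem Cfsg.Agent.ChevalleyStructure.CoxeterGeom Cfsg.Agent.Tits.Roots Cfsg.Agent.Tits.Core
  Cfsg.Agent.Tits.RootComb Cfsg.Agent.Nodes.Comb Cfsg.Agent.Nodes.Reps Cfsg.Agent.Nodes.RGDLib
  Cfsg.Agent.Nodes.Chart Cfsg.Agent.LOC.ChartDefs Cfsg.Agent.LOC.Phi

variable {I W Y : Type*} [Fintype I] [DecidableEq I] [Group W] [Fintype W] [Group Y] {M : CoxeterMatrix I}
  {cs : CoxeterSystem M W} {A : I → I → ℤ} {h : IsCartan M A} {p : ℕ} {T : Subgroup Y} {n : I → Y}
  {X : (I → ℤ) → Subgroup Y} {R : Set (I → ℤ)} {Z : (I → ℤ) → Subgroup Y} {z : (I → ℤ) → Y}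

/-- **The output of section 7 for a type.** -/
def Sev (C : Cls cs h p T n X R Z z) (F : Set (I → ℤ)) : Prop :=
  ∀ (K : Subgroup Y) (e g : Y), QK K e → Cen C F K → Odd (orderOf g) → g ∈ Subgroup.normalizer (G1 cs h X : Set Y) →
    (∀ k ∈ K, g * k = k * g) → (∀ y, IsRoot cs h y → ∀ a ∈ X y, e * a = a * e → g * a = a * g) →
    ¬ Triv C e → Triv C g

theorem Sev.of_triv {C : Cls cs h p T n X R Z z} {F : Set (I → ℤ)}
    (H : ∀ (K : Subgroup Y) (e : Y), QK K e → Cen C F K → Triv C e) : Sev C F :=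
  fun K e _ hK hc _ _ _ _ h1 => absurd (H K e hK hc) h1

end Cfsg.Agent.LOC.SevDef
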