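import Mathlib
import Cfsg.Agent.Cit.Nil.LO.ChartDefs
import Cfsg.Agent.Nodes.MuSq

/-!
# Lie odd sections, the chart part: the torus of `⟨Z r, Z (-r)⟩` on the root groups `X y`, `(y, r) > 0`

* `tor_trans` : `|X y| = |Z r|` : the group `T ⊓ ⟨Z r, Z (-r)⟩` is transitive on `X y - 1`.
-/

set_option autoImplicit false
set_option linter.unusedSectionVars false
set_option linter.dupNamespace false

namespace Cfsg.Agent.LOC.Tor

open CoxeterSystem Cfsg.Agent.ChevalleyStructure.CoxeterGeom Cfsg.Agent.Tits.Roots Cfsg.Agent.Tits.Core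
  Cfsg.Agent.Tits.RootComb Cfsg.Agent.Nodes.Comb Cfsg.Agent.Nodes.SubComb Cfsg.Agent.Nodes.Reps
  Cfsg.Agent.Nodes.Coroot Cfsg.Agent.Nodes.PosPair Cfsg.Agent.Nodes.BNOf Cfsg.Agent.Nodes.RGDLib
  Cfsg.Agent.Nodes.Chart Cfsg.Agent.Nodes.ClsNorm Cfsg.Agent.Nodes.ChartLoc Cfsg.Agent.Nodes.ChartFrame
  Cfsg.Agent.Nodes.Slope Cfsg.Agent.Nodes.Bruhat Cfsg.Agent.LOC.ChartDefs
open scoped commutatorElement

variable {I W Y : Type*} [Fintype I] [DecidableEq I] [Group W] [Fintype W] [Group Y] {M : CoxeterMatrix I}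
  {cs : CoxeterSystem M W} {A : I → I → ℤ} {h : IsCartan M A} {p : ℕ} {T : Subgroup Y} {n : I → Y}
  {X : (I → ℤ) → Subgroup Y} {R : Set (I → ℤ)} {Z : (I → ℤ) → Subgroup Y} {z : (I → ℤ) → Y}

/-- the hypotheses: `2 (y, r) = (r, r)`, no root of positive level between `-r` and `y`, none of negative level
between `r` and `y - r` (i.e. no `G₂`), `X (± r) = Z (± r)`. -/
structure TH (C : Cls cs h p T n X R Z z) (r y : I → ℤ) : Prop where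
  hr : r ∈ R
  hy : IsRoot cs h y
  one : 2 * form cs h y r = form cs h r r
  len : form cs h r r < 4 * form cs h y y
  btw : ∀ w, Btwn cs h (-r) y w → form cs h w r ≤ 0
  btw' : ∀ w, Btwn cs h r (y - r) w → 0 ≤ form cs h w r
  XZ : X r = Z r
  XZ' : X (-r) = Z (-r)

variable {C : Cls cs h p T n X R Z z} {r y : I → ℤ}

theorem TH.of_lg (L : Nodes.CenVV.Lg cs h r) (hr : r ∈ R) (hy : IsRoot cs h y) (h0 : 0 < form cs h y r) (hne : y ≠ r)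
    (XZ : X r = Z r) (XZ' : X (-r) = Z (-r)) : TH C r y := by
  obtain ⟨h1, h2⟩ := L.len hy h0 hne
  have hp := L.pos
  have k1 : ∀ w, Btwn cs h (-r) y w → ∃ i j : ℤ, w = i • r + j • y ∧ ((i = -1 ∧ j = 1) ∨
      (i = -1 ∧ j = 2 )) := by
    intro w hw
    have hw' : Btwn cs h ((-1 : ℤ) • r + (0 : ℤ) • y) ((0 : ℤ) • r + (1 : ℤ) • y) w := by
      convert hw using 1 <;> simp
    rcases h2 with h2 | h2
    · obtain ⟨m, a, b, i, j, hm, ha, hb, e0, e1, e2, hij⟩ := Nodes.CenVV.btw_a L hy h1 h2 hw'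
      refine ⟨i, j, e0, ?_⟩
      rcases hij with ⟨rfl, rfl⟩ | ⟨rfl, rfl⟩ | ⟨rfl, rfl⟩ | ⟨rfl, rfl⟩ | ⟨rfl, rfl⟩ | ⟨rfl, rfl⟩ <;> omega
    · obtain ⟨m, a, b, i, j, hm, ha, hb, e0, e1, e2, hij⟩ := Nodes.CenVV.btw_b L hy h1 h2 hw'
      refine ⟨i, j, e0, ?_⟩
      rcases hij with ⟨rfl, rfl⟩ | ⟨rfl, rfl⟩ | ⟨rfl, rfl⟩ | ⟨rfl, rfl⟩ | ⟨rfl, rfl⟩ | ⟨rfl, rfl⟩ | ⟨rfl, rfl⟩ |
        ⟨rfl, rfl⟩ <;> omega
  have k2 : ∀ w, Btwn cs h r (y - r) w → ∃ i j : ℤ, w = i • r + j • y ∧ ((i = 0 ∧ j = 1) ∨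
      (i = -1 ∧ j = 2 )) := by
    intro w hw
    have hw' : Btwn cs h ((1 : ℤ) • r + (0 : ℤ) • y) ((-1 : ℤ) • r + (1 : ℤ) • y) w := by
      convert hw using 1
      · simp
      · rw [one_smul, neg_smul, one_smul]; abel
    rcases h2 with h2 | h2
    · obtain ⟨m, a, b, i, j, hm, ha, hb, e0, e1, e2, hij⟩ := Nodes.CenVV.btw_a L hy h1 h2 hw'
      refine ⟨i, j, e0, ?_⟩
      rcases hij with ⟨rfl, rfl⟩ | ⟨rfl, rfl⟩ | ⟨rfl, rfl⟩ | ⟨rfl, rfl⟩ | ⟨rfl, rfl⟩ | ⟨rfl, rfl⟩ <;> omega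
    · obtain ⟨m, a, b, i, j, hm, ha, hb, e0, e1, e2, hij⟩ := Nodes.CenVV.btw_b L hy h1 h2 hw'
      refine ⟨i, j, e0, ?_⟩
      rcases hij with ⟨rfl, rfl⟩ | ⟨rfl, rfl⟩ | ⟨rfl, rfl⟩ | ⟨rfl, rfl⟩ | ⟨rfl, rfl⟩ | ⟨rfl, rfl⟩ | ⟨rfl, rfl⟩ |
        ⟨rfl, rfl⟩ <;> omega
  refine ⟨hr, hy, h1, by omega, fun w hw => ?_, fun w hw => ?_, XZ, XZ'⟩
  · obtain ⟨i, j, rfl, hij⟩ := k1 w hw
    rw [form_add_left, form_smul_left, form_smul_left]
    rcases hij with ⟨rfl, rfl⟩ | ⟨rfl, rfl⟩ <;> omega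
  · obtain ⟨i, j, rfl, hij⟩ := k2 w hw
    rw [form_add_left, form_smul_left, form_smul_left]
    rcases hij with ⟨rfl, rfl⟩ | ⟨rfl, rfl⟩ <;> omega

/-- a `μ`-element of `b ∈ Z (-r)` -/
structure MuB (C : Cls cs h p T n X R Z z) (r : I → ℤ) (b : Y) (a a' : Y) (w : W) : Prop where
  ha : a ∈ Z r
  ha' : a' ∈ Z r
  rp : Rp cs C.rgd.nsys w (a * b * a')
  rep : ∀ x, rep cs h w x = x - cpr cs h x r • r

theorem TH.exists_mu (H : TH C r y) {b : Y} (hb : b ∈ Z (-r)) (h1 : b ≠ 1) : ∃ a a' w, MuB C r b a a' w := by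
  have hr' := C.root r H.hr
  obtain ⟨a, ha, a', ha', w, hw, -, e⟩ := Nodes.MuSq.exists_mu' C.rgd hr'.neg (by rw [H.XZ']; exact hb) h1
  rw [neg_neg, H.XZ] at ha ha'
  refine ⟨a, a', w, ha, ha', hw, fun x => ?_⟩
  rw [e, cpr_neg_right cs h x hr', neg_smul, smul_neg, neg_neg]

theorem TH.cpr (H : TH C r y) : cpr cs h y r = 1 :=
  cpr_eq_of_form cs h (C.root r H.hr) (by rw [H.one, one_mul])

theorem TH.pos (H : TH C r y) : 0 < form cs h r r := form_pos cs h (C.root r H.hr).ne_zero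

theorem TH.sub_root (H : TH C r y) : IsRoot cs h (y - r) := by
  have := isRoot_refl cs h H.hy (C.root r H.hr)
  rwa [H.cpr, one_smul] at this

theorem TH.ne (H : TH C r y) : y ≠ r := by
  rintro rfl
  have h1 := H.pos
  have h2 := H.one
  linarith

theorem TH.ne' (H : TH C r y) : y ≠ -r := by
  rintro rfl
  have h1 := H.pos
  have h2 := H.one
  rw [form_neg_left] at h2
  linarith

theorem TH.cx (H : TH C r y) {a x : Y} (ha : a ∈ Z r) (hx : x ∈ X y) : a * x = x * a := by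
  have h1 := H.pos
  have h2 := H.one
  exact (C.cent r H.hr y H.hy (by linarith) x hx a ha).symm

theorem TH.conj_mem (H : TH C r y) {b a a' : Y} {w : W} (m : MuB C r b a a' w) {x : Y} (hx : x ∈ X y) :
    a * b * a' * x * (a * b * a')⁻¹ ∈ X (y - r) := by
  have h1 := C.rgd.conj_mem m.rp H.hy hx
  rwa [m.rep, H.cpr, one_smul] at h1

/-- `a b x b⁻¹ a⁻¹` -/
theorem TH.conj_eq (H : TH C r y) {b a a' : Y} {w : W} (m : MuB C r b a a' w) {x : Y} (hx : x ∈ X y) :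
    a * b * a' * x * (a * b * a')⁻¹ = a * (b * x * b⁻¹) * a⁻¹ := by
  have h1 := H.cx m.ha' hx
  calc a * b * a' * x * (a * b * a')⁻¹ = a * b * (a' * x) * (a'⁻¹ * b⁻¹ * a⁻¹) := by group
    _ = a * b * (x * a') * (a'⁻¹ * b⁻¹ * a⁻¹) := by rw [h1]
    _ = a * (b * x * b⁻¹) * a⁻¹ := by group

/-- `Q` : the group of level `≤ 0` between `-r` and `y` -/
theorem TH.comm_left (H : TH C r y) {b b' x : Y} (hb : b ∈ Z (-r)) (hb' : b' ∈ Z (-r)) (hx : x ∈ X y) :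
    b' * ⁅b, x⁆ = ⁅b, x⁆ * b' := by
  have hr' := C.root r H.hr
  have h1 : ⁅b, x⁆ ∈ Subgroup.centralizer (Z (-r) : Set Y) := by
    refine Nodes.CenVV.comm_mem_of_btwn C.rgd hr'.neg H.hy (fun e => H.ne' e.symm)
      (fun e => H.ne (neg_injective e.symm)) (fun w hw c hc => ?_) (by rw [H.XZ']; exact hb) hx
    rw [Subgroup.mem_centralizer_iff]
    intro d hd
    refine (C.cent (-r) (neg_mem C H.hr) w hw.1 ?_ c hc d hd).symm
    rw [form_neg_right]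
    have := H.btw w hw
    omega
  exact Subgroup.mem_centralizer_iff.1 h1 b' hb'

/-- the commutators `[a, v]`, `v ∈ X (y - r)` -/
theorem TH.comm_right (H : TH C r y) {a v : Y} (ha : a ∈ Z r) (hv : v ∈ X (y - r)) :
    ⁅a, v⁆ ∈ RGD.Sup X {w | IsRoot cs h w ∧ 0 ≤ form cs h w r ∧ 0 < form cs h w ((2 : ℤ) • y - r)} := by
  have hr' := C.root r H.hr
  have e1 : form cs h r ((2 : ℤ) • y - r) = 0 := by
    rw [form_comm, form_sub_left, form_smul_left]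
    have := H.one
    omega
  have e2 : 0 < form cs h (y - r) ((2 : ℤ) • y - r) := by
    rw [form_sub_left, e1, form_comm, form_sub_left, form_smul_left, form_comm cs h r y]
    have := H.one
    have := H.len
    omega
  refine Nodes.CenVV.comm_mem_of_btwn C.rgd hr' H.sub_root ?_ ?_ (fun w hw => RGD.le_Sup
    (S := {w | IsRoot cs h w ∧ 0 ≤ form cs h w r ∧ 0 < form cs h w ((2 : ℤ) • y - r)})
    ⟨hw.1, H.btw' w hw, ?_⟩) (C.le r H.hr ha) hv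
  · intro e
    have h1 := congrArg (fun t => form cs h t ((2 : ℤ) • y - r)) e
    simp only [e1] at h1
    omega
  · intro e
    have h1 := congrArg (fun t => form cs h t ((2 : ℤ) • y - r)) e
    simp only [form_neg_left, e1] at h1
    omega
  · obtain ⟨-, m, a, b, hm, ha, hb, e⟩ := hw
    have h1 : m * form cs h w ((2 : ℤ) • y - r) = b * form cs h (y - r) ((2 : ℤ) • y - r) := by
      rw [← form_smul_left, e, form_add_left, form_smul_left, form_smul_left, e1]; ring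
    have h2 := mul_pos hb e2
    rw [← h1] at h2
    exact (pos_iff_pos_of_mul_pos h2).1 hm

/-- **Injectivity.** -/
theorem TH.inj (H : TH C r y) {x : Y} (hx : x ∈ X y) (hx1 : x ≠ 1) {b₁ b₂ a₁ a₁' a₂ a₂' : Y} {w₁ w₂ : W}
    (hb₁ : b₁ ∈ Z (-r)) (hb₂ : b₂ ∈ Z (-r)) (m₁ : MuB C r b₁ a₁ a₁' w₁) (m₂ : MuB C r b₂ a₂ a₂' w₂)
    (e : a₁ * b₁ * a₁' * x * (a₁ * b₁ * a₁')⁻¹ = a₂ * b₂ * a₂' * x * (a₂ * b₂ * a₂')⁻¹) : b₁ = b₂ := by
  by_contra hne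
  set v := a₁ * b₁ * a₁' * x * (a₁ * b₁ * a₁')⁻¹ with hv
  have hvX : v ∈ X (y - r) := H.conj_mem m₁ hx
  have e1 : b₁ * x * b₁⁻¹ = a₁⁻¹ * v * a₁ := by
    rw [hv, H.conj_eq m₁ hx]; group
  have e2 : b₂ * x * b₂⁻¹ = a₂⁻¹ * v * a₂ := by
    rw [e, H.conj_eq m₂ hx]; group
  set b := b₂⁻¹ * b₁ with hbd
  have hb : b ∈ Z (-r) := mul_mem (inv_mem hb₂) hb₁
  have hb1 : b ≠ 1 := fun h0 => hne (by
    have : b₂ * (b₂⁻¹ * b₁) = b₂ * 1 := by rw [← hbd, h0]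
    rw [mul_one, mul_inv_cancel_left] at this
    exact this)
  have c1 := H.comm_left hb₁ hb₂ hx
  have c2 := H.comm_left hb₂ hb₂ hx
  have e3 : ⁅b, x⁆ = ⁅a₁⁻¹, v⁆ * ⁅a₂⁻¹, v⁆⁻¹ := by
    have f1 : ⁅b, x⁆ = ⁅b₁, x⁆ * ⁅b₂, x⁆⁻¹ := by
      rw [commutatorElement_def, commutatorElement_def, commutatorElement_def] at *
      have g1 : b * x * b⁻¹ * x⁻¹ = b₂⁻¹ * (b₁ * x * b₁⁻¹ * x⁻¹) * (x * b₂ * x⁻¹) := by rw [hbd]; group
      have g2 : b₂⁻¹ * (b₁ * x * b₁⁻¹ * x⁻¹) = (b₁ * x * b₁⁻¹ * x⁻¹) * b₂⁻¹ := by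
        calc b₂⁻¹ * (b₁ * x * b₁⁻¹ * x⁻¹) = b₂⁻¹ * ((b₁ * x * b₁⁻¹ * x⁻¹) * b₂) * b₂⁻¹ := by group
          _ = b₂⁻¹ * (b₂ * (b₁ * x * b₁⁻¹ * x⁻¹)) * b₂⁻¹ := by rw [c1]
          _ = _ := by group
      have g3 : b₂⁻¹ * (b₂ * x * b₂⁻¹ * x⁻¹)⁻¹ * b₂ = (b₂ * x * b₂⁻¹ * x⁻¹)⁻¹ := by
        have : (b₂ * x * b₂⁻¹ * x⁻¹)⁻¹ * b₂ = b₂ * (b₂ * x * b₂⁻¹ * x⁻¹)⁻¹ := by
          calc (b₂ * x * b₂⁻¹ * x⁻¹)⁻¹ * b₂ = (b₂ * x * b₂⁻¹ * x⁻¹)⁻¹ * (b₂ * (b₂ * x * b₂⁻¹ * x⁻¹)) *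
              (b₂ * x * b₂⁻¹ * x⁻¹)⁻¹ := by group
            _ = (b₂ * x * b₂⁻¹ * x⁻¹)⁻¹ * ((b₂ * x * b₂⁻¹ * x⁻¹) * b₂) * (b₂ * x * b₂⁻¹ * x⁻¹)⁻¹ := by rw [c2]
            _ = _ := by group
        rw [mul_assoc, this]; group
      rw [g1, g2, ← g3]
      group
    rw [f1]
    have f2 : ⁅b₁, x⁆ = ⁅a₁⁻¹, v⁆ * (v * x⁻¹) := by
      rw [commutatorElement_def, commutatorElement_def, e1]; group
    have f3 : ⁅b₂, x⁆ = ⁅a₂⁻¹, v⁆ * (v * x⁻¹) := by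
      rw [commutatorElement_def, commutatorElement_def, e2]; group
    rw [f2, f3]; group
  have hS : ⁅b, x⁆ ∈ RGD.Sup X {w | IsRoot cs h w ∧ 0 ≤ form cs h w r ∧ 0 < form cs h w ((2 : ℤ) • y - r)} := by
    rw [e3]
    exact mul_mem (H.comm_right (inv_mem m₁.ha) hvX) (inv_mem (H.comm_right (inv_mem m₂.ha) hvX))
  obtain ⟨a, a', w, m⟩ := H.exists_mu hb hb1
  have hx' : x ∈ RGD.Sup X {w | IsRoot cs h w ∧ 0 ≤ form cs h w r ∧ 0 < form cs h w ((2 : ℤ) • y - r)} := by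
    refine RGD.le_Sup (S := {w | IsRoot cs h w ∧ 0 ≤ form cs h w r ∧ 0 < form cs h w ((2 : ℤ) • y - r)})
      ⟨H.hy, ?_, ?_⟩ hx
    · have := H.pos
      have := H.one
      omega
    · rw [form_comm, form_sub_left, form_smul_left, form_comm cs h r y]
      have := H.pos
      have := H.one
      have := H.len
      omega
  have hcen : ∀ g ∈ RGD.Sup X {w | IsRoot cs h w ∧ 0 ≤ form cs h w r ∧ 0 < form cs h w ((2 : ℤ) • y - r)},
      a * g = g * a := by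
    intro g hg
    have h1 : RGD.Sup X {w | IsRoot cs h w ∧ 0 ≤ form cs h w r ∧ 0 < form cs h w ((2 : ℤ) • y - r)} ≤
        Subgroup.centralizer (Z r : Set Y) := by
      refine RGD.Sup_le fun w hw c hc => ?_
      rw [Subgroup.mem_centralizer_iff]
      intro d hd
      exact (C.cent r H.hr w hw.1 hw.2.1 c hc d hd).symm
    exact Subgroup.mem_centralizer_iff.1 (h1 hg) a m.ha
  have e4 : b * x * b⁻¹ = ⁅b, x⁆ * x := by rw [commutatorElement_def]; group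
  have hmem : b * x * b⁻¹ ∈ RGD.Sup X {w | IsRoot cs h w ∧ 0 ≤ form cs h w r ∧
      0 < form cs h w ((2 : ℤ) • y - r)} := by rw [e4]; exact mul_mem hS hx'
  have e5 : a * b * a' * x * (a * b * a')⁻¹ = b * x * b⁻¹ := by
    rw [H.conj_eq m hx, hcen _ hmem]; group
  have h6 := H.conj_mem m hx
  rw [e5] at h6
  have h7 : b * x * b⁻¹ = 1 := by
    refine sup_inf_sup' C.rgd (Nodes.CenVV.fh cs h (-r)) (Nodes.CenVV.fh cs h ((2 : ℤ) • y - r)) ?_ ?_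
    · refine RGD.le_Sup (S := {x | IsRoot cs h x ∧ 0 < Nodes.CenVV.fh cs h (-r) x}) ⟨H.sub_root, ?_⟩ h6
      rw [Nodes.CenVV.fh_apply, form_neg_right, form_sub_left]
      have := H.pos
      have := H.one
      omega
    · refine RGD.Sup_mono ?_ hmem
      rintro u ⟨h1, h2, h3⟩
      refine ⟨h1, ?_, h3⟩
      rw [Nodes.CenVV.fh_apply, form_neg_right]
      omega
  apply hx1
  have : x = b⁻¹ * (b * x * b⁻¹) * b := by group
  rw [this, h7]; group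

/-- **Transitivity of the torus of `⟨Z r, Z (-r)⟩` on `X y - 1`.** -/
theorem TH.trans [Finite Y] (H : TH C r y) (hcard : Nat.card (X y) = Nat.card (Z r)) {x x' : Y} (hx : x ∈ X y)
    (hx1 : x ≠ 1) (hx' : x' ∈ X y) (hx1' : x' ≠ 1) : ∃ t ∈ T ⊓ (Z r ⊔ Z (-r)), t * x * t⁻¹ = x' := by
  classical
  have hr' := C.root r H.hr
  -- the element `b'`
  obtain ⟨b', hb', hb1'⟩ : ∃ b ∈ Z (-r), b ≠ 1 := by
    by_contra hcon
    push Not at hcon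
    exact C.ne_bot _ (neg_mem C H.hr) ((Subgroup.eq_bot_iff_forall _).2 hcon)
  have hmu : ∀ b : {b : Z (-r) // b ≠ 1}, ∃ m : Y, ∃ a a' w, MuB C r (b.1 : Y) a a' w ∧ m = a * b.1 * a' := by
    rintro ⟨⟨b, hb⟩, hb1⟩
    obtain ⟨a, a', w, m⟩ := H.exists_mu hb (fun h0 => hb1 (Subtype.ext h0))
    exact ⟨_, a, a', w, m, rfl⟩
  choose mu hmu using hmu
  have hmem : ∀ b, mu b * x * (mu b)⁻¹ ∈ X (y - r) := by
    intro b
    obtain ⟨a, a', w, m, e⟩ := hmu b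
    rw [e]
    exact H.conj_mem m hx
  have hne : ∀ b, mu b * x * (mu b)⁻¹ ≠ 1 := by
    intro b h0
    apply hx1
    have : x = (mu b)⁻¹ * (mu b * x * (mu b)⁻¹) * mu b := by group
    rw [this, h0]; group
  let f : {b : Z (-r) // b ≠ 1} → {v : X (y - r) // v ≠ 1} := fun b =>
    ⟨⟨mu b * x * (mu b)⁻¹, hmem b⟩, fun h0 => hne b (congrArg Subtype.val h0)⟩
  have hf : Function.Injective f := by
    intro b₁ b₂ h0
    obtain ⟨a₁, a₁', w₁, m₁, e₁⟩ := hmu b₁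
    obtain ⟨a₂, a₂', w₂, m₂, e₂⟩ := hmu b₂
    have h1 : mu b₁ * x * (mu b₁)⁻¹ = mu b₂ * x * (mu b₂)⁻¹ := congrArg (fun v => ((v.1 : X (y - r)) : Y)) h0
    rw [e₁, e₂] at h1
    have h2 := H.inj hx hx1 b₁.1.2 b₂.1.2 m₁ m₂ h1
    exact Subtype.ext (Subtype.ext h2)
  -- cardinalities
  obtain ⟨a, a', w, m⟩ := H.exists_mu hb' hb1'
  have hwr : rep cs h w r = -r := by
    rw [m.rep, cpr_self cs h hr']
    funext k
    simp only [Pi.sub_apply, Pi.smul_apply, smul_eq_mul, Pi.neg_apply]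
    ring
  have c1 : Nat.card (Z (-r)) = Nat.card (Z r) := by
    have h1 := conj_Z C m.rp H.hr
    rw [hwr] at h1
    rw [← h1]
    exact Nodes.FreeTorus.card_cj _ _
  have c2 : Nat.card (X (y - r)) = Nat.card (X y) := by
    have h1 : cj (a * b' * a') (X y) = X (rep cs h w y) := C.rgd.conj_rp m.rp H.hy
    rw [m.rep, H.cpr, one_smul] at h1
    rw [← h1]
    exact Nodes.FreeTorus.card_cj _ _
  have hsurj : Function.Surjective f := by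
    have h1 : Nat.card {b : Z (-r) // b ≠ 1} = Nat.card {v : X (y - r) // v ≠ 1} := by
      have k1 : ∀ (P : Subgroup Y), Nat.card {b : P // b ≠ 1} = Nat.card P - 1 := by
        intro P
        have : Fintype P := Fintype.ofFinite _
        rw [Nat.card_eq_fintype_card, Nat.card_eq_fintype_card, Fintype.card_subtype_compl,
          Fintype.card_subtype_eq]
      rw [k1, k1, c1, c2, hcard]
    exact ((Nat.bijective_iff_injective_and_card f).2 ⟨hf, h1⟩).2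
  -- the torus element
  set m' := a * b' * a' with hm'
  have hv : m' * x' * m'⁻¹ ∈ X (y - r) := H.conj_mem m hx'
  have hv1 : m' * x' * m'⁻¹ ≠ 1 := by
    intro h0
    apply hx1'
    have : x' = m'⁻¹ * (m' * x' * m'⁻¹) * m' := by group
    rw [this, h0]; group
  obtain ⟨b, hb⟩ := hsurj ⟨⟨_, hv⟩, fun h0 => hv1 (congrArg Subtype.val h0)⟩
  have hb2 : mu b * x * (mu b)⁻¹ = m' * x' * m'⁻¹ := congrArg (fun v => ((v.1 : X (y - r)) : Y)) hb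
  obtain ⟨a₂, a₂', w₂, m₂, e₂⟩ := hmu b
  have hww : w = w₂ := by
    apply rep_injective cs h
    apply LinearMap.ext
    intro u
    rw [m.rep, m₂.rep]
  subst hww
  have hJ : ∀ {b a a' : Y}, b ∈ Z (-r) → a ∈ Z r → a' ∈ Z r → a * b * a' ∈ Z r ⊔ Z (-r) := by
    intro b a a' hb ha ha'
    exact mul_mem (mul_mem ((le_sup_left : Z r ≤ _) ha) ((le_sup_right : Z (-r) ≤ _) hb))
      ((le_sup_left : Z r ≤ _) ha')
  have hm'J : m' ∈ Z r ⊔ Z (-r) := hJ hb' m.ha m.ha'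
  refine ⟨m'⁻¹ * mu b, Subgroup.mem_inf.2 ⟨?_, mul_mem (inv_mem hm'J) ?_⟩, ?_⟩
  · have h1 := m.rp.inv.mul m₂.rp
    rw [inv_mul_cancel] at h1
    rw [e₂]
    exact h1.mem_of_one
  · rw [e₂]
    exact hJ b.1.2 m₂.ha m₂.ha'
  · calc m'⁻¹ * mu b * x * (m'⁻¹ * mu b)⁻¹ = m'⁻¹ * (mu b * x * (mu b)⁻¹) * m' := by group
      _ = m'⁻¹ * (m' * x' * m'⁻¹) * m' := by rw [hb2]
      _ = x' := by group

end Cfsg.Agent.LOC.Tor
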