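import Mathlib
import Cfsg.Agent.Cit.Nil.LO.ChartSimply
import Cfsg.Agent.Cit.Nil.LO.SevDef
import Cfsg.Agent.Cit.Nil.LO.Tor
import Cfsg.Agent.Cit.Nil.LO.AltX

/-!
# Lie odd, simply laced charts: section 7 (S1309, (n2)), the chart part

`alt_data` : `y` a root, `⟨y, r⟩ = 1`, `y` orthogonal to the elements `≠ ± r` of `F`, `M = X y ⊔ X (r - y) ⊔ X r`: the
hypotheses of `alt_grp`, `alt_cent` for `M`, `N = X r`;
`sev_cls`, `sev` : the output `Sev` of section 7.
-/

set_option autoImplicit false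
set_option linter.unusedSectionVars false
set_option linter.dupNamespace false

namespace Cfsg.Agent.LOC.SevA

open CoxeterSystem Cfsg.Agent.ChevalleyStructure.CoxeterGeom Cfsg.Agent.Tits.Roots Cfsg.Agent.Tits.Core
  Cfsg.Agent.Tits.RootComb Cfsg.Agent.Nodes.Comb Cfsg.Agent.Nodes.Reps Cfsg.Agent.Nodes.BNOf
  Cfsg.Agent.Nodes.RGDLib Cfsg.Agent.Nodes.PosPair Cfsg.Agent.Nodes.Chart Cfsg.Agent.Nodes.ClsNorm
  Cfsg.Agent.Nodes.ChartLoc
  Cfsg.Agent.Nodes.Coroot Cfsg.Agent.Nodes.SimplyLaced Cfsg.Agent.Nodes.KindBase Cfsg.Agent.Nodes.OppDec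
  Cfsg.Agent.LOC.ChartDefs Cfsg.Agent.LOC.Wt Cfsg.Agent.LOC.FormGrp
open Cfsg.Agent.LOC.SL Cfsg.Agent.LOC.Simply Cfsg.Agent.LOC.SevDef Cfsg.Agent.LOC.Phi
open scoped commutatorElement

variable {I W Y : Type*} [Fintype I] [DecidableEq I] [Group W] [Fintype W] [Group Y] {M : CoxeterMatrix I}
  {cs : CoxeterSystem M W} {A : I → I → ℤ} {h : IsCartan M A} {p : ℕ} {T : Subgroup Y} {n : I → Y}
  {X : (I → ℤ) → Subgroup Y} {R : Set (I → ℤ)} {Z : (I → ℤ) → Subgroup Y} {z : (I → ℤ) → Y}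
  {C : Cls cs h p T n X R Z z} {F : Set (I → ℤ)}


variable [Finite Y] [Fact p.Prime] (S : SLC C)
include S

/-- the hypotheses of `alt_grp` -/
structure AD {G : Type*} [Group G] (M N : Subgroup G) : Prop where
  le : N ≤ M
  cen : ∀ c ∈ N, ∀ m ∈ M, c * m = m * c
  comm : ∀ u ∈ M, ∀ v ∈ M, ⁅u, v⁆ ∈ N
  odd : Odd (Nat.card M)
  card : Nat.card M = Nat.card N * Nat.card N * Nat.card N
  nd : ∀ u ∈ M, u ∉ N → ∀ c ∈ N, ∃ v ∈ M, ⁅u, v⁆ = c

theorem alt_data (hF : MaxF C F) {y r : I → ℤ}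
    (hy : IsRoot cs h y) (hr : r ∈ F) (h1 : cpr cs h y r = 1) :
    AD (X y ⊔ X (r - y) ⊔ X r) (X r) := by
  have hrr := C.root r (hF.sub r hr)
  obtain ⟨hyr, a1, a2, a3, a4, a5⟩ := S.vroots hy hrr h1
  have hts : IsRoot cs h (r - y) := by
    have := hyr.neg
    rwa [neg_sub] at this
  have c1 : cpr cs h y (r - y) = -1 := by
    rw [cpr_symm cs h S.h4 S.h6 hy hts, cpr_sub cs h r y hy, a5, cpr_self cs h hy]; ring
  have c1' : cpr cs h (r - y) y = -1 := by rw [cpr_symm cs h S.h4 S.h6 hts hy, c1]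
  have d3 : cpr cs h (r - y) r = 1 := by rw [cpr_sub cs h r y hrr, h1, cpr_self cs h hrr]; ring
  have er : y + (r - y) = r := by abel
  have er' : r - y + y = r := by abel
  -- commutations
  have my : ∀ a ∈ X r, ∀ b ∈ X y, a * b = b * a := S.cm hrr hy (by omega)
  have mts : ∀ a ∈ X r, ∀ b ∈ X (r - y), a * b = b * a :=
    fun a ha b hb => (S.cm hts hrr (by omega) b hb a ha).symm
  have mr : ∀ a ∈ X r, ∀ b ∈ X r, a * b = b * a := S.cm hrr hrr (by rw [cpr_self cs h hrr]; decide)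
  have yab := S.cm hy hy (by rw [cpr_self cs h hy]; decide)
  have tab := S.cm hts hts (by rw [cpr_self cs h hts]; decide)
  have hcen : ∀ c ∈ X r, ∀ m ∈ X y ⊔ X (r - y) ⊔ X r, c * m = m * c := fun c hc =>
    sup_comm_of (sup_comm_of (my c hc) (mts c hc)) (mr c hc)
  have hcen' : ∀ c ∈ X r, ∀ m ∈ X y ⊔ X (r - y) ⊔ X r, m * c = c * m := fun c hc m hm => (hcen c hc m hm).symm
  have hV : X y ⊔ X (r - y) ⊔ X r ≤ VV cs h X r := by
    have key : ∀ {x : I → ℤ}, IsRoot cs h x → 0 < cpr cs h x r → X x ≤ VV cs h X r := fun {x} hx h5 =>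
      RGD.le_Sup (X := X) (S := {y | IsRoot cs h y ∧ 0 < form cs h y r}) ⟨hx, (cpr_pos_iff cs h x hrr).1 h5⟩
    exact sup_le (sup_le (key hy (by omega)) (key hts (by omega))) (key hrr (by rw [cpr_self cs h hrr]; decide))
  have hcomm : ∀ u ∈ X y ⊔ X (r - y) ⊔ X r, ∀ v ∈ X y ⊔ X (r - y) ⊔ X r, ⁅u, v⁆ ∈ X r := by
    intro u hu v hv
    rw [← S.ZX r hrr]
    exact commutator_VV_le C S.odd (S.all r hrr) (Subgroup.commutator_mem_commutator (hV hu) (hV hv))
  have hodd : Odd (Nat.card (X y ⊔ X (r - y) ⊔ X r : Subgroup Y)) :=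
    (odd_card_VV C S.odd r).of_dvd_nat (Subgroup.card_dvd_of_le hV)
  -- elements
  have hel : ∀ m ∈ X y ⊔ X (r - y) ⊔ X r, ∃ a ∈ X y, ∃ c ∈ X r, ∃ b ∈ X (r - y), m = a * c * b := by
    intro m hm
    have e1 : X y ⊔ X (r - y) ⊔ X r = (X y ⊔ X r) ⊔ X (r - y) := by
      rw [sup_assoc, sup_assoc, _root_.sup_comm (X (r - y))]
    rw [e1] at hm
    obtain ⟨g, hg, b, hb, rfl⟩ := exists_mul_of_nor (P := X y ⊔ X r) (Q := X (r - y)) (by
      intro q hq x hx
      obtain ⟨a, ha, c, hc', rfl⟩ := Nodes.MuSq.exists_mul_of_sup (fun a ha b hb => (my b hb a ha).symm) hx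
      have e2 : q * (a * c) * q⁻¹ = ⁅q, a⁆ * a * (q * c * q⁻¹) := by
        rw [commutatorElement_def]; group
      have e3 : q * c * q⁻¹ = c := by rw [← mts c hc' q hq]; group
      rw [e2, e3]
      have h5 := comm_mem C.rgd S.h4 S.h6 hts hy c1' hq ha
      rw [er'] at h5
      exact mul_mem (mul_mem ((le_sup_right : X r ≤ _) h5) ((le_sup_left : X y ≤ _) ha))
        ((le_sup_right : X r ≤ _) hc')) hm
    obtain ⟨a, ha, c, hc', rfl⟩ := Nodes.MuSq.exists_mul_of_sup (fun a ha b hb => (my b hb a ha).symm) hg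
    exact ⟨a, ha, c, hc', b, hb, rfl⟩
  have hcard : Nat.card (X y ⊔ X (r - y) ⊔ X r : Subgroup Y) =
      Nat.card (X r) * Nat.card (X r) * Nat.card (X r) := by
    have k1 : Nat.card (X y ⊔ X r : Subgroup Y) = Nat.card (X y) * Nat.card (X r) :=
      Nodes.CardSup.card_mul_of_disjoint le_sup_left le_sup_right
        (fun g hg => Nodes.MuSq.exists_mul_of_sup (fun a ha b hb => (my b hb a ha).symm) hg)
        (X_inf_X C.rgd hy hrr (ne_of_cpr hrr (by omega)))
    have k2 : Nat.card (X y ⊔ X (r - y) ⊔ X r : Subgroup Y) =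
        Nat.card (X y ⊔ X r : Subgroup Y) * Nat.card (X (r - y)) := by
      refine Nodes.CardSup.card_mul_of_disjoint (sup_le (le_sup_of_le_left le_sup_left) le_sup_right)
        (le_sup_of_le_left le_sup_right) (fun g hg => ?_) ?_
      · obtain ⟨a, ha, c, hc', b, hb, rfl⟩ := hel g hg
        exact ⟨a * c, mul_mem ((le_sup_left : X y ≤ _) ha) ((le_sup_right : X r ≤ _) hc'), b, hb, rfl⟩
      · rw [Subgroup.eq_bot_iff_forall]
        rintro g ⟨hg1, hg2⟩
        obtain ⟨a, ha, c, hc', rfl⟩ := Nodes.MuSq.exists_mul_of_sup (fun a ha b hb => (my b hb a ha).symm) hg1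
        have ha1 : a = 1 := S.eq_one hy hts c1 ha (by
          intro v hv
          have e1 : (a * c) * v = v * (a * c) := tab _ hg2 v hv
          have e2 : c * v = v * c := mts c hc' v hv
          have e3 : a * v * c = v * a * c := by
            calc a * v * c = a * (c * v) := by rw [e2]; group
              _ = v * a * c := by rw [← mul_assoc, e1]; group
          exact mul_right_cancel e3)
        rw [ha1, one_mul] at hg2 ⊢
        have h5 : c ∈ X r ⊓ X (r - y) := ⟨hc', hg2⟩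
        rw [X_inf_X C.rgd hrr hts (ne_of_cpr hts (by
          rw [cpr_symm cs h S.h4 S.h6 hrr hts, d3]; decide)), Subgroup.mem_bot] at h5
        exact h5
    rw [k2, k1, S.card_eq hy hrr h1, S.card_eq hts hrr d3]
  refine ⟨le_sup_right, hcen, hcomm, hodd, hcard, ?_⟩
  intro u hu huN q hq
  obtain ⟨a, ha, c, hc', b, hb, rfl⟩ := hel u hu
  have hc1 : ∀ v, v ∈ X y ⊔ X (r - y) ⊔ X r → ⁅c, v⁆ = 1 := fun v hv => by
    rw [commutatorElement_eq_one_iff_mul_comm]
    exact hcen c hc' v hv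
  by_cases ha1 : a = 1
  · have hb1 : b ≠ 1 := by
      rintro rfl
      exact huN (by rw [ha1, one_mul, mul_one]; exact hc')
    obtain ⟨v, hv, hve⟩ := nd C.rgd S.h4 S.h6 hts hy c1' hb hb1 (w := q) (by rwa [er'])
    have hvM : v ∈ X y ⊔ X (r - y) ⊔ X r := (le_sup_left : X y ⊔ X (r - y) ≤ _) ((le_sup_left : X y ≤ _) hv)
    refine ⟨v, hvM, ?_⟩
    rw [ha1, one_mul, comm_mul_left (by rw [hve]; exact mr q hq c hc'), hve, hc1 v hvM, mul_one]
  · obtain ⟨v, hv, hve⟩ := nd C.rgd S.h4 S.h6 hy hts c1 ha ha1 (w := q) (by rwa [er])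
    have hvM : v ∈ X y ⊔ X (r - y) ⊔ X r :=
      (le_sup_left : X y ⊔ X (r - y) ≤ _) ((le_sup_right : X (r - y) ≤ _) hv)
    refine ⟨v, hvM, ?_⟩
    have hb1 : ⁅b, v⁆ = 1 := by
      rw [commutatorElement_eq_one_iff_mul_comm]
      exact tab b hb v hv
    have e1 : ⁅a * c, v⁆ = q := by
      rw [comm_mul_left (by rw [hc1 v hvM]; group), hc1 v hvM, one_mul, hve]
    rw [comm_mul_left (by rw [hb1]; group), hb1, one_mul, e1]

/-! ### The exponent -/

theorem exists_p {y r : I → ℤ} (hy : IsRoot cs h y) (hrr : IsRoot cs h r) (h1 : cpr cs h y r = 1) :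
    ∀ c ∈ X y, c ^ p = 1 := by
  have hyr := two_form_cpr cs h y hrr
  rw [h1, one_mul] at hyr
  have hee := form_self_eq cs h S.h4 S.h6 hy hrr (by rw [h1]; decide)
  have hpos := form_pos cs h hrr.ne_zero
  have e1 : y ≠ r := by
    rintro rfl
    rw [cpr_self cs h hy] at h1
    exact absurd h1 (by decide)
  have e2 : y ≠ -r := by
    rintro rfl
    rw [cpr_neg cs h r hrr, cpr_self cs h hrr] at h1
    exact absurd h1 (by decide)
  have hrsub := isRoot_sub S.h4 S.h6 hy hrr h1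
  have H : Tor.TH C r y := by
    refine ⟨S.all r hrr, hy, hyr, by omega, fun w hw => ?_, fun w hw => ?_, (S.ZX r hrr).symm,
      (S.ZX _ hrr.neg).symm⟩
    · have h3 := (btwn_cases S.h4 S.h6 hrr.neg hy (fun e => e2 e.symm) (fun e => e1 (neg_injective e.symm)) hw).2
      rw [h3, form_add_left, form_neg_left]
      omega
    · have h3 := (btwn_cases S.h4 S.h6 hrr hrsub (fun e => ?_) (fun e => ?_) hw).2
      · rw [h3, form_add_left, form_sub_left]
        omega
      · have := congrArg (fun t => form cs h t r) e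
        simp only [form_sub_left] at this
        omega
      · have := congrArg (fun t => form cs h t r) e
        simp only [form_neg_left, form_sub_left] at this
        omega
  have hcard : Nat.card (X y) = Nat.card (Z r) := by
    rw [S.ZX r hrr]
    exact S.card_eq hy hrr h1
  -- an element of order `p`
  obtain ⟨w, hw⟩ := Subgroup.ne_bot_iff_exists_ne_one.1 (Nodes.Bruhat.X_ne_bot C.rgd hy)
  have hpg : IsPGroup p (X y) := C.rgd.pgrp' hy
  have hdvd : p ∣ Nat.card (X y) := by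
    have hnt : Nontrivial (X y) := ⟨⟨w, 1, hw⟩⟩
    obtain ⟨k, hk, hk'⟩ := (hpg.nontrivial_iff_card).1 hnt
    rw [hk']
    exact dvd_pow_self p hk.ne'
  obtain ⟨x, hx⟩ := exists_prime_orderOf_dvd_card' p hdvd
  have hx1 : (x : Y) ≠ 1 := by
    intro e
    have : x = 1 := Subtype.ext e
    rw [this, orderOf_one] at hx
    exact (Fact.out : p.Prime).one_lt.ne hx
  have hxp : (x : Y) ^ p = 1 := by
    have := pow_orderOf_eq_one x
    rw [hx] at this
    exact congrArg Subtype.val this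
  intro c hc
  by_cases hc1 : c = 1
  · rw [hc1, one_pow]
  obtain ⟨t, -, rfl⟩ := H.trans hcard x.2 hx1 hc hc1
  rw [conj_pow, hxp]
  group

/-! ### Section 7 -/

theorem sev_cls (hF : MaxF C F)
    (irr : ∀ J : Set I, J.Nonempty → J ≠ Set.univ → ∃ a ∈ J, ∃ b, b ∉ J ∧ M a b ≠ 2)
    (nb : ∀ x, IsRoot cs h x → ∃ y, IsRoot cs h y ∧ cpr cs h x y = 1) : Sev C F := by
  intro K e g hK hc hgo hgn hgK hgX hnt
  refine triv_of_fx C fun y hy => ?_
  obtain ⟨a1, a2⟩ := act_of_not_triv S hF hK hc irr hnt hy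
  by_cases hone : OneF cs h F y
  swap
  · intro v hv
    refine hgX y hy v hv ?_
    have := a2 hone v hv
    calc e * v = e * v * e⁻¹ * e := by group
      _ = v * e := by rw [this]
  obtain ⟨r, hr, hr1, hr0⟩ := hone
  have hrr := C.root r (hF.sub r hr)
  have hD := alt_data S hF hy hr hr1
  have hgr : ∀ s ∈ F, ∀ a ∈ Z s, g * a = a * g := by
    intro s hs a ha
    have hss := C.root s (hF.sub s hs)
    exact hgX s hss a (by rw [← S.ZX s hss]; exact ha) (hc.comm s hs a ha e hK.mem)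
  have hcg : Cen C F (Subgroup.zpowers g) := by
    refine ⟨fun s hs a ha k hk => ?_, fun k hk => ?_⟩
    · have h1 : Subgroup.zpowers g ≤ Subgroup.centralizer {a} := by
        rw [Subgroup.zpowers_le, Subgroup.mem_centralizer_singleton_iff]
        exact hgr s hs a ha
      exact Subgroup.mem_centralizer_singleton_iff.1 (h1 hk)
    · exact (Subgroup.zpowers_le.2 hgn) hk
  have hM := mm_one S.h4 S.h6 hF S.all hy hr hr1 hr0 (X := X)
  have hN := wt_nor C S.hT hF.sub hr ((cpr_pos_iff cs h y hrr).1 (by omega)) hc (X := X)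
  have hN' := wt_nor C S.hT hF.sub hr ((cpr_pos_iff cs h y hrr).1 (by omega)) hcg (X := X)
  rw [hM] at hN hN'
  -- `e` inverts `M / X r`
  have hyr := isRoot_sub S.h4 S.h6 hy hrr hr1
  have hts : IsRoot cs h (r - y) := by
    have := hyr.neg
    rwa [neg_sub] at this
  have hone' : OneF cs h F (r - y) := by
    refine ⟨r, hr, ?_, fun t ht n1 n2 => ?_⟩
    · rw [cpr_sub cs h r y hrr, cpr_self cs h hrr, hr1]; ring
    · have htt := C.root t (hF.sub t ht)
      rw [cpr_sub cs h r y htt, hr0 t ht n1 n2, sub_zero]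
      exact (cpr_zero_iff cs h r htt).2 (hF.orth r hr t ht n1 n2)
  have hi1 := a1 ⟨r, hr, hr1, hr0⟩
  have hi2 := (act_of_not_triv S hF hK hc irr hnt hts).1 hone'
  have hcenr : ∀ c ∈ X r, e * c = c * e := fun c hc' => hc.comm r hr c (by rw [S.ZX r hrr]; exact hc') e hK.mem
  have hinv : ∀ m ∈ X y ⊔ X (r - y) ⊔ X r, e * m * e⁻¹ * m ∈ X r := by
    -- the set of these elements is a subgroup
    let Q : Subgroup Y :=
      { carrier := {m | m ∈ X y ⊔ X (r - y) ⊔ X r ∧ e * m * e⁻¹ * m ∈ X r}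
        one_mem' := ⟨one_mem _, by rw [mul_one, mul_one, mul_inv_cancel]; exact one_mem _⟩
        mul_mem' := by
          rintro m m' ⟨hm, h1⟩ ⟨hm', h1'⟩
          refine ⟨mul_mem hm hm', ?_⟩
          have hem : e * m * e⁻¹ ∈ X y ⊔ X (r - y) ⊔ X r := conj_mem (hN hK.mem) hm
          have hem' : e * m' * e⁻¹ ∈ X y ⊔ X (r - y) ⊔ X r := conj_mem (hN hK.mem) hm'
          -- `e m m' e⁻¹ m m' = (e m e⁻¹) (e m' e⁻¹) m m'`
          have e1 : e * (m * m') * e⁻¹ * (m * m') =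
              (e * m * e⁻¹ * m) * (m⁻¹ * (⁅e * m' * e⁻¹, m⁆ * m * (e * m' * e⁻¹ * m'))) := by
            rw [commutatorElement_def]; group
          have e2 : m⁻¹ * (⁅e * m' * e⁻¹, m⁆ * m * (e * m' * e⁻¹ * m')) =
              ⁅e * m' * e⁻¹, m⁆ * (e * m' * e⁻¹ * m') := by
            have h2 := hD.comm _ hem' m hm
            rw [hD.cen _ h2 m hm]; group
          rw [e1, e2]
          exact mul_mem h1 (mul_mem (hD.comm _ hem' m hm) h1')
        inv_mem' := by
          rintro m ⟨hm, h1⟩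
          refine ⟨inv_mem hm, ?_⟩
          have hem : e * m * e⁻¹ ∈ X y ⊔ X (r - y) ⊔ X r := conj_mem (hN hK.mem) hm
          have e1 : e * m⁻¹ * e⁻¹ * m⁻¹ = (m * (e * m * e⁻¹ * m) * m⁻¹)⁻¹ := by group
          rw [e1]
          refine inv_mem ?_
          rw [← hD.cen _ h1 m hm, mul_inv_cancel_right]
          exact h1 }
    have hle : X y ⊔ X (r - y) ⊔ X r ≤ Q := by
      refine sup_le (sup_le ?_ ?_) ?_
      · intro m hm
        refine ⟨(le_sup_of_le_left le_sup_left : X y ≤ X y ⊔ X (r - y) ⊔ X r) hm, ?_⟩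
        rw [hi1 m hm, inv_mul_cancel]
        exact one_mem _
      · intro m hm
        refine ⟨(le_sup_of_le_left le_sup_right : X (r - y) ≤ X y ⊔ X (r - y) ⊔ X r) hm, ?_⟩
        rw [hi2 m hm, inv_mul_cancel]
        exact one_mem _
      · intro m hm
        refine ⟨(le_sup_right : X r ≤ X y ⊔ X (r - y) ⊔ X r) hm, ?_⟩
        rw [hcenr m hm, mul_inv_cancel_right]
        exact mul_mem hm hm
    intro m hm
    exact (hle hm).2
  obtain ⟨y', hy', hy1'⟩ := nb r hrr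
  have key := AltX.alt_cent S.odd (exists_p S hrr hy' hy1') hD.le hD.cen hD.comm hD.odd hD.card hD.nd hK hN
    (fun k hk c hc' => hc.comm r hr c (by rw [S.ZX r hrr]; exact hc') k hk) hinv hgo
    (hN' (Subgroup.mem_zpowers g)) (fun c hc' => hgr r hr c (by rw [S.ZX r hrr]; exact hc')) hgK
  intro v hv
  exact key v ((le_sup_of_le_left le_sup_left : X y ≤ X y ⊔ X (r - y) ⊔ X r) hv)

/-! ### Charts -/

section chart

variable {G : Type*} [Group G] [Finite G] {Om : Set (Subgroup G)} {q : ℕ} {L : Subgroup G}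

omit S in
/-- **Section 7 for the simply laced types.** -/
theorem sev (c : Chart Om q L) {τ : Ty} (hτ : c.IsTy τ) (hs : Simply τ) (F : Set (c.I → ℤ))
    (hF : MaxF c.cls F) : Sev c.cls F := by
  have : Fact q.Prime := ⟨c.prime⟩
  obtain ⟨f1, f2, f3⟩ := simply_facts τ hs
  obtain ⟨e, he, hR⟩ := hτ
  have hsym : ∀ i j, c.A i j = c.A j i := by
    intro i j
    have := τ.len_rel (e i) (e j)
    rw [f1, f1, mul_one, mul_one] at this
    rw [he, he, this]
  have hne : ∀ {i j : c.I} {m : ℕ}, m ≠ 1 → c.M i j = m → i ≠ j := by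
    rintro i j m hm h0 rfl
    exact hm (h0.symm.trans (c.M.diagonal i))
  have h4 : ∀ i j, c.M i j ≠ 4 := by
    intro i j h0
    have h1 := hsym i j
    rcases c.h.rel i j (hne (by decide) h0) with ⟨a, -⟩ | ⟨a, -⟩ | ⟨-, ⟨a, b⟩ | ⟨a, b⟩⟩ | ⟨a, -⟩ <;> omega
  have h6 : ∀ i j, c.M i j ≠ 6 := by
    intro i j h0
    have h1 := hsym i j
    rcases c.h.rel i j (hne (by decide) h0) with ⟨a, -⟩ | ⟨a, -⟩ | ⟨a, -⟩ | ⟨-, ⟨a, b⟩ | ⟨a, b⟩⟩ <;> omega
  have h2 : ∃ i j : c.I, i ≠ j := by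
    refine ⟨e.symm ⟨0, by omega⟩, e.symm ⟨1, by omega⟩, fun h0 => ?_⟩
    have := e.symm.injective h0
    simp at this
  refine sev_cls (slc c.cls h4 h6 c.odd c.irr h2 (fun i => (hR i).2 (f2 _)) ?_) hF c.irr
    fun x hx => exists_nb h4 h6 c.irr h2 hx
  rw [c.gen]
  exact c.T_le

end chart

end Cfsg.Agent.LOC.SevA
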