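import Cfsg.Agent.Cit.TwoB.Members

/-!
# The centraliser of a member in `Aut(PSL₃(q))`, `Aut(PSU₃(q))`, `Aut(M₁₁)`

`SFact L K0` : an automorphism of odd order trivial on `K0`, commuting with two non-commuting automorphisms trivial on
`K0`, is trivial. For `L = PSL₃(q)`, `PSU₃(q)` and the standard `K0 = SL₂(q)` the automorphisms trivial on `K0` are the
`diag(s, s, μ)` and an involutory coset of elements inverting these.
-/

set_option autoImplicit false
set_option linter.unusedSectionVars false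
set_option linter.style.haveILetI false

namespace Cfsg.Agent.LOC.SevFact

/-- odd automorphisms commuting with a nonabelian group of automorphisms trivial on `K0` -/
def SFact (L : Type*) [Group L] (K0 : Subgroup L) : Prop :=
  ∀ a b g : MulAut L, (∀ x ∈ K0, a x = x) → (∀ x ∈ K0, b x = x) → (∀ x ∈ K0, g x = x) → a * b ≠ b * a →
    Odd (orderOf g) → g * a = a * g → g * b = b * g → g = 1

open Subgroup

theorem eq_one_of_odd_four {Γ : Type*} [Group Γ] {g : Γ} (ho : Odd (orderOf g)) (h : g ^ 4 = 1) : g = 1 := by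
  have h1 : orderOf g ∣ 2 ^ 2 := orderOf_dvd_of_pow_eq_one h
  have h3 : Nat.Coprime (orderOf g) (2 ^ 2) := (Nat.coprime_two_right.2 ho).pow_right 2
  exact orderOf_eq_one_iff.1 (h3.eq_one_of_dvd h1)

/-- the dihedral argument -/
theorem dih_kill {Γ : Type*} [Group Γ] {T1 T2 : Γ → Prop} (h11 : ∀ a b, T1 a → T1 b → a * b = b * a)
    (h21 : ∀ a t, T2 a → T1 t → a * t = t⁻¹ * a) (hsq : ∀ g, T2 g → T1 (g * g)) {a b g : Γ}
    (ha : T1 a ∨ T2 a) (hb : T1 b ∨ T2 b) (hg : T1 g ∨ T2 g) (hab : a * b ≠ b * a) (ho : Odd (orderOf g))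
    (hga : g * a = a * g) (hgb : g * b = b * g) : g = 1 := by
  rcases hg with hg | hg
  · have key : ∀ c, T2 c → g * c = c * g → g = 1 := by
      intro c hc h1
      have h2 := h21 c g hc hg
      rw [← h1] at h2
      have h3 : g = g⁻¹ := mul_right_cancel h2
      refine eq_one_of_odd_four ho ?_
      have h4 : g * g = 1 := by
        nth_rw 1 [h3]
        exact inv_mul_cancel g
      rw [show (4 : ℕ) = 2 * 2 from rfl, pow_mul, pow_two g, h4, one_pow]
    rcases ha with ha | ha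
    · rcases hb with hb | hb
      · exact absurd (h11 a b ha hb) hab
      · exact key b hb hgb
    · exact key a ha hga
  · have h1 := h21 g (g * g) hg (hsq g hg)
    refine eq_one_of_odd_four ho ?_
    have h2 : g * (g * g) = (g * g)⁻¹ * g := h1
    have h3 : g * g = (g * g)⁻¹ := by
      rw [← mul_assoc] at h2
      exact mul_right_cancel h2
    have h4 : (g * g) * (g * g) = 1 := by
      nth_rw 1 [h3]
      exact inv_mul_cancel _
    rw [show (4 : ℕ) = 2 * 2 from rfl, pow_mul, pow_two g, pow_two, h4]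

theorem dg3 {F : Type*} [Zero F] (a b c : F) :
    (Matrix.diagonal ![a, b, c] : Matrix (Fin 3) (Fin 3) F) = !![a, 0, 0; 0, b, 0; 0, 0, c] := by
  ext i j
  fin_cases i <;> fin_cases j <;> simp

/-- transport -/
theorem of_equiv {L L' : Type*} [Group L] [Group L'] {K0 : Subgroup L} {K : Subgroup L'} (f : L ≃* L')
    (hK : K0.map f.toMonoidHom = K) (h : SFact L' K) : SFact L K0 := by
  intro a b g ha hb hg hab ho hga hgb
  have hfix : ∀ c : MulAut L, (∀ x ∈ K0, c x = x) → ∀ y ∈ K, MulAut.congr f c y = y := by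
    intro c hc y hy
    rw [← hK] at hy
    obtain ⟨x, hx, rfl⟩ := hy
    show f (c (f.symm (f x))) = f x
    rw [f.symm_apply_apply, hc x hx]
  have h1 := h (MulAut.congr f a) (MulAut.congr f b) (MulAut.congr f g) (hfix a ha) (hfix b hb) (hfix g hg)
    (fun h2 => hab ((MulAut.congr f).injective (by rw [map_mul, map_mul]; exact h2)))
    (by rw [MulEquiv.orderOf_eq]; exact ho) (by rw [← map_mul, ← map_mul, hga]) (by rw [← map_mul, ← map_mul, hgb])
  exact (map_eq_one_iff _ (MulAut.congr f).injective).1 h1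

/-! ### `PSL₃` -/

section SL

open Matrix Cfsg Cfsg.Agent.Cit.TwoB Cfsg.Agent.CitLFactSL
open Cfsg.Agent.Cit.LongQuot (D1 z0)
open Cfsg.Agent.Cit.LongInst (slRep ee)
open Cfsg.Agent.ClassicalGeometry.AutPSL.Root Cfsg.Agent.ClassicalGeometry.AutPSL.Auto
open Cfsg.Agent.ClassicalGeometry.AutPSL.Main

variable {F : Type*} [Field F]

/-- `diag(s,s,μ)` -/
def T1 (a : MulAut (ProjectiveSpecialLinearGroup (Fin 3) F)) : Prop :=
  ∃ (A : GL (Fin 3) F) (s μ : F), A.1 = diagonal ![s, s, μ] ∧ a = lift (cj A)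

/-- `diag(s,s,μ)` times the involutory element -/
def T2 (a : MulAut (ProjectiveSpecialLinearGroup (Fin 3) F)) : Prop :=
  ∃ (A : GL (Fin 3) F) (s μ : F), A.1 = !![0, s, 0; -s, 0, 0; 0, 0, μ] ∧ a = lift (cj A * itr)

theorem sl_dich [Fintype F] (p : ℕ) [Fact p.Prime] [CharP F p]
    (a : MulAut (ProjectiveSpecialLinearGroup (Fin 3) F)) (hfix : ∀ x ∈ D1 (slRep F 1), a x = x) : T1 a ∨ T2 a := by
  have f1 : ∀ t : F, a (pr (tv h01 t)) = pr (tv h01 t) := fun t =>
    hfix _ ⟨_, tv_mem_E1 t, rfl⟩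
  have f2 : ∀ t : F, a (pr (tv h10 t)) = pr (tv h10 t) := fun t =>
    hfix _ ⟨_, tv_mem_E1' t, rfl⟩
  rcases surj_three p (le_refl 3) a with ⟨A, σ, rfl⟩ | ⟨A, σ, rfl⟩
  · obtain ⟨s, μ, hs, hμ, hA, rfl⟩ := fix_one f1 f2
    left
    rw [fld_refl, mul_one]
    exact ⟨A, s, μ, hA, rfl⟩
  · right
    have e1 : cj A * fld σ * itr * (cj (JJ F) * itr)⁻¹ = cj (A * (JJ F)⁻¹) * fld σ := by
      rw [_root_.mul_inv_rev, mul_assoc (cj A * fld σ), mul_inv_cancel_left, mul_assoc, ← map_inv,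
        fld_cj_JJ, ← mul_assoc, ← map_mul]
    have key : ∀ x : SpecialLinearGroup (Fin 3) F, (cj (JJ F) * itr : MulAut (SpecialLinearGroup (Fin 3) F)) x = x →
        lift (cj A * fld σ * itr) (pr x) = pr x → lift (cj (A * (JJ F)⁻¹) * fld σ) (pr x) = pr x := by
      intro x h3 h4
      have h5 : (cj (JJ F) * itr : MulAut (SpecialLinearGroup (Fin 3) F))⁻¹ x = x := by
        conv_lhs => rw [← h3]
        exact (cj (JJ F) * itr : MulAut (SpecialLinearGroup (Fin 3) F)).symm_apply_apply x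
      rw [← e1, lift_pr, MulAut.mul_apply, h5]
      exact h4
    obtain ⟨s, μ, hs, hμ, hA, rfl⟩ := fix_one (fun t => key _ (jj_fix t) (f1 t)) (fun t => key _ (jj_fix' t) (f2 t))
    have hA' : (A : Matrix (Fin 3) (Fin 3) F) = !![0, s, 0; -s, 0, 0; 0, 0, μ] := by
      have h3 : A = A * (JJ F)⁻¹ * JJ F := by rw [inv_mul_cancel_right]
      rw [h3, Units.val_mul, hA, JJ_val]
      ext i j
      fin_cases i <;> fin_cases j <;> simp [Matrix.mul_apply, Fin.sum_univ_three]
    rw [fld_refl, mul_one]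
    exact ⟨A, s, μ, hA', rfl⟩

theorem diag_ne {A : GL (Fin 3) F} {s μ : F} (hA : A.1 = diagonal ![s, s, μ]) : s ≠ 0 ∧ μ ≠ 0 := by
  have hdet := gl_det_ne A
  rw [hA, det_diagonal, Fin.prod_univ_three] at hdet
  simp at hdet
  exact hdet

theorem anti_ne {A : GL (Fin 3) F} {s μ : F} (hA : A.1 = !![0, s, 0; -s, 0, 0; 0, 0, μ]) : s ≠ 0 ∧ μ ≠ 0 := by
  have hdet := gl_det_ne A
  rw [hA, det_fin_three] at hdet
  simp at hdet
  exact hdet

theorem gtr_val {A : GL (Fin 3) F} {B : Matrix (Fin 3) (Fin 3) F} (h : A.1 * Bᵀ = 1) : (gtr A).1 = B := by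
  show ((A⁻¹ : GL (Fin 3) F).1)ᵀ = B
  have h1 : (A⁻¹ : GL (Fin 3) F).1 = Bᵀ := by
    have h2 : (A⁻¹ : GL (Fin 3) F).1 * A.1 = 1 := by rw [← Units.val_mul, inv_mul_cancel, Units.val_one]
    calc (A⁻¹ : GL (Fin 3) F).1 = (A⁻¹ : GL (Fin 3) F).1 * (A.1 * Bᵀ) := by rw [h, mul_one]
      _ = Bᵀ := by rw [← mul_assoc, h2, one_mul]
  rw [h1, transpose_transpose]

theorem sl_comm {a b : MulAut (ProjectiveSpecialLinearGroup (Fin 3) F)} (ha : T1 a) (hb : T1 b) : a * b = b * a := by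
  obtain ⟨A, s, μ, hA, rfl⟩ := ha
  obtain ⟨B, s', μ', hB, rfl⟩ := hb
  rw [← map_mul, ← map_mul, ← map_mul, ← map_mul]
  congr 2
  apply Units.ext
  rw [Units.val_mul, Units.val_mul, hA, hB, diagonal_mul_diagonal, diagonal_mul_diagonal]
  congr 1
  ext i
  rw [mul_comm]

theorem sl_inv {a t : MulAut (ProjectiveSpecialLinearGroup (Fin 3) F)} (ha : T2 a) (ht : T1 t) : a * t = t⁻¹ * a := by
  obtain ⟨A, s, μ, hA, rfl⟩ := ha
  obtain ⟨B, s', μ', hB, rfl⟩ := ht
  obtain ⟨hs', hμ'⟩ := diag_ne hB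
  rw [← map_mul, ← map_inv, ← map_mul]
  congr 1
  rw [mul_assoc, itr_cj, ← mul_assoc, ← map_mul, ← map_inv, ← mul_assoc, ← map_mul]
  congr 2
  rw [eq_inv_mul_iff_mul_eq]
  have hg : (gtr B).1 = diagonal ![s'⁻¹, s'⁻¹, μ'⁻¹] := by
    apply gtr_val
    rw [hB, diagonal_transpose, diagonal_mul_diagonal, ← diagonal_one]
    congr 1
    ext i
    fin_cases i
    · simp [hs']
    · simp [hs']
    · simp [hμ']
  apply Units.ext
  rw [Units.val_mul, Units.val_mul, hg, hA, hB, dg3, dg3]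
  ext i j
  fin_cases i <;> fin_cases j <;> simp [Matrix.mul_apply, Fin.sum_univ_three] <;> field_simp

theorem sl_sq {g : MulAut (ProjectiveSpecialLinearGroup (Fin 3) F)} (hg : T2 g) : T1 (g * g) := by
  obtain ⟨A, s, μ, hA, rfl⟩ := hg
  obtain ⟨hs, hμ⟩ := anti_ne hA
  refine ⟨A * gtr A, -1, 1, ?_, ?_⟩
  · have h1 : (gtr A).1 = !![0, s⁻¹, 0; -s⁻¹, 0, 0; 0, 0, μ⁻¹] := by
      apply gtr_val
      rw [hA]
      ext i j
      fin_cases i <;> fin_cases j <;> simp [Matrix.mul_apply, Fin.sum_univ_three, hs, hμ]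
    rw [Units.val_mul, h1, hA]
    ext i j
    fin_cases i <;> fin_cases j <;> simp [Matrix.mul_apply, Fin.sum_univ_three, hs, hμ]
  · rw [← map_mul]
    congr 1
    rw [mul_assoc, ← mul_assoc itr, itr_cj, mul_assoc (cj (gtr A)), itr_mul_itr, mul_one, ← map_mul]

theorem sfact_sl [Fintype F] (hF : Odd (Fintype.card F)) :
    SFact (ProjectiveSpecialLinearGroup (Fin 3) F) (D1 (slRep F 1)) := by
  obtain ⟨p, hp⟩ := CharP.exists F
  have hpp : Fact p.Prime := ⟨CharP.char_is_prime F p⟩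
  intro a b g ha hb hg hab ho hga hgb
  exact dih_kill (T1 := T1) (T2 := T2) (fun _ _ => sl_comm) (fun _ _ => sl_inv) (fun _ => sl_sq) (sl_dich p a ha)
    (sl_dich p b hb) (sl_dich p g hg) hab ho hga hgb

end SL

/-! ### `PSU₃` -/

section SU

open Matrix Cfsg Cfsg.Agent.Cit.TwoB Cfsg.Agent.CitLFactSU
open Cfsg.Agent.Cit.LongQuot (D1 z0)
open Cfsg.Agent.Cit.LongInst (suRep ee su_t su_cond)
open Cfsg.Agent.LieClassical.HermBasic Cfsg.Agent.LieClassical.HermSiegel
open Cfsg.Agent.ClassicalGeometry.PSUAutCount (gm semiConj toAut gm_mul gm_one gm_mul_inv gm_inv_mul eq_of_toAut_eq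
  sc gm_sc_mul toAut_sc_mul herm_gm act_semiConj herm_semi gm_inj)
open Cfsg.Agent.ClassicalGeometry.UnitAutBasic (pr pr_surjective)
open Cfsg.Agent.Schreier.PSU (f₁ f₂ toAut_eq mapGU conj_field f₁_eq_conj toAut_pr')

variable {F : Type*} [Field F] [Fintype F] {q : ℕ}

/-- a field automorphism fixing all elements of norm one -/
theorem field_one (hF : Fintype.card F = q ^ 2) {ρ : F ≃+* F} (h : ∀ t : F, t * t ^ q = 1 → ρ t = t) (x : F) :
    ρ x = x := by
  have hq := q_pos hF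
  -- `ρ x / x` is fixed by `q`
  have h1 : ∀ x : F, x ≠ 0 → (ρ x / x) ^ q = ρ x / x := by
    intro x hx
    have hxq : x ^ q ≠ 0 := pow_ne_zero _ hx
    have hρ : ρ x ≠ 0 := (map_ne_zero ρ).2 hx
    have h2 : (x ^ q / x) * (x ^ q / x) ^ q = 1 := by
      rw [div_pow, pow_q_pow_q hF]
      field_simp
    have h3 := h _ h2
    rw [map_div₀, map_pow] at h3
    rw [div_pow]
    field_simp at h3 ⊢
    linear_combination h3
  obtain ⟨θ, hθ⟩ := exists_not_fixed hF
  have key : ∀ θ : F, θ ^ q ≠ θ → ρ θ = θ := by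
    intro θ hθ
    have hθ0 : θ ≠ 0 := by
      rintro rfl
      exact hθ (zero_pow_q hF)
    have hθ1 : θ + 1 ≠ 0 := by
      intro h2
      apply hθ
      have h3 : θ = -1 := eq_neg_of_add_eq_zero_left h2
      rw [h3, neg_pow_q hF, one_pow]
    obtain ⟨l, hl⟩ : ∃ l, l = ρ θ / θ := ⟨_, rfl⟩
    obtain ⟨m, hm⟩ : ∃ m, m = ρ (θ + 1) / (θ + 1) := ⟨_, rfl⟩
    have hlq : l ^ q = l := by rw [hl]; exact h1 θ hθ0
    have hmq : m ^ q = m := by rw [hm]; exact h1 _ hθ1
    have e1 : ρ θ = l * θ := by rw [hl, div_mul_cancel₀ _ hθ0]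
    have e2 : ρ (θ + 1) = m * (θ + 1) := by rw [hm, div_mul_cancel₀ _ hθ1]
    rw [map_add, map_one, e1] at e2
    -- `(l - m) θ = m - 1`
    have e3 : (l - m) * θ = m - 1 := by linear_combination e2
    have e4 : (l - m) * θ ^ q = m - 1 := by
      have h2 : ((l - m) * θ) ^ q = (m - 1) ^ q := by rw [e3]
      rw [mul_pow, sub_pow_q hF, sub_pow_q hF, one_pow, hlq, hmq] at h2
      exact h2
    have e5 : (l - m) * (θ ^ q - θ) = 0 := by linear_combination e4 - e3
    have e6 : l - m = 0 := (mul_eq_zero.1 e5).resolve_right (sub_ne_zero.2 hθ)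
    rw [e6, zero_mul] at e3
    have e7 : m = 1 := (sub_eq_zero.1 e3.symm)
    have e8 : l = 1 := by rw [← e7]; exact sub_eq_zero.1 e6
    rw [e1, e8, one_mul]
  by_cases hx : x ^ q = x
  · have h2 : (x + θ) ^ q ≠ x + θ := by
      intro h3
      rw [add_pow_q hF, hx] at h3
      exact hθ (add_left_cancel h3)
    have h3 := key _ h2
    rw [map_add, key θ hθ] at h3
    exact add_right_cancel h3
  · exact key x hx

/-- `diag(s,s,μ)` -/
def U1 (a : MulAut (PSU 3 F q)) : Prop :=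
  ∃ (A : GU 3 F q) (s μ : F), gm A = diagonal ![s, s, μ] ∧ a = f₁ A

/-- `diag(s,s,μ)` times the involutory element -/
def U2 (hF : Fintype.card F = q ^ 2) (a : MulAut (PSU 3 F q)) : Prop :=
  ∃ (A : GU 3 F q) (s μ : F), gm A = !![0, s, 0; -s, 0, 0; 0, 0, μ] ∧ a = f₁ A * f₂ (conj hF)

theorem su_dich (hF : Fintype.card F = q ^ 2) (h2 : (2 : F) ≠ 0) (a : MulAut (PSU 3 F q))
    (hfix : ∀ x ∈ D1 (suRep hF 1 le_rfl), a x = x) : U1 a ∨ U2 hF a := by
  have hq2 : ¬ ((3 : ℕ) = 3 ∧ q = 2) := by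
    rintro ⟨-, rfl⟩
    apply h2
    have h3 : ((Fintype.card F : ℕ) : F) = 0 := Nat.cast_card_eq_zero F
    rw [hF] at h3
    have h4 : (2 : F) ^ 2 = 0 := by
      rw [← h3]; norm_num
    exact (pow_eq_zero_iff two_ne_zero).1 h4
  obtain ⟨A, ρ, rfl⟩ := ClassicalGeometry.PSUAutMain.exists_toAut hF (n := 3) le_rfl hq2 a
  obtain ⟨h02, h12, h20, h21⟩ := comm_zu hF h2 (hfix _ ⟨zu hF, mem_E1 hF rfl rfl rfl rfl rfl, rfl⟩)
  have hbl : ∀ (a b : F) (h : a * a ^ q + b * b ^ q = 1),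
      gm A * (mat (bl hF a b h)).map ρ = mat (bl hF a b h) * gm A :=
    fun a b h => fix_bl hF h02 h12 h20 h21 h (hfix _ ⟨_, bl_mem_E1 hF a b h, rfl⟩)
  have hw := hbl 0 1 (by rw [zero_mul, zero_add, one_pow, one_mul])
  rw [mat_bl] at hw
  have w00 := congrFun (congrFun hw 0) 0
  have w01 := congrFun (congrFun hw 0) 1
  rw [Matrix.mul_apply, Matrix.mul_apply, Fin.sum_univ_three, Fin.sum_univ_three] at w00 w01
  simp [zero_pow_q hF] at w00 w01
  obtain ⟨t0, ht0, ht0'⟩ := exists_norm_one_ne hF h2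
  have d00 : ∀ t : F, t * t ^ q = 1 → gm A 0 0 * ρ t = t * gm A 0 0 := by
    intro t ht
    have hd := hbl t 0 (by rw [zero_mul, add_zero, ht])
    rw [mat_bl] at hd
    have d00 := congrFun (congrFun hd 0) 0
    rw [Matrix.mul_apply, Matrix.mul_apply, Fin.sum_univ_three, Fin.sum_univ_three] at d00
    simp [zero_pow_q hF] at d00
    exact d00
  have d01 : ∀ t : F, t * t ^ q = 1 → gm A 0 1 * ρ (t ^ q) = t * gm A 0 1 := by
    intro t ht
    have hd := hbl t 0 (by rw [zero_mul, add_zero, ht])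
    rw [mat_bl] at hd
    have d01 := congrFun (congrFun hd 0) 1
    rw [Matrix.mul_apply, Matrix.mul_apply, Fin.sum_univ_three, Fin.sum_univ_three] at d01
    simp [zero_pow_q hF] at d01
    rw [map_pow]
    exact d01
  by_cases h00 : gm A 0 0 = 0
  · right
    have h11 : gm A 1 1 = 0 := by rw [← w01]; exact h00
    have h01 : gm A 0 1 ≠ 0 := by
      intro h
      apply gm_det_ne A
      rw [det_fin_three, h00, h, h02]
      ring
    have hρ : ρ = conj hF := by
      have h3 : ∀ x, (conj hF).trans ρ x = x := by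
        refine field_one hF fun t ht => ?_
        show ρ (t ^ q) = t
        have h4 := d01 t ht
        rw [mul_comm t] at h4
        exact mul_left_cancel₀ h01 h4
      apply RingEquiv.ext
      intro x
      have h4 := h3 (x ^ q)
      show ρ x = x ^ q
      have h5 : (conj hF).trans ρ (x ^ q) = ρ ((x ^ q) ^ q) := rfl
      rw [h5, pow_q_pow_q hF] at h4
      exact h4
    subst hρ
    refine ⟨A, gm A 0 1, gm A 2 2, ?_, toAut_eq A _⟩
    have h10 : gm A 1 0 = -gm A 0 1 := by linear_combination w00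
    ext i j
    fin_cases i <;> fin_cases j <;> simp [h00, h02, h10, h11, h12, h20, h21]
  · left
    have hρ : ρ = 1 := by
      apply RingEquiv.ext
      intro x
      refine field_one hF (fun t ht => ?_) x
      have h4 := d00 t ht
      rw [mul_comm t] at h4
      exact mul_left_cancel₀ h00 h4
    subst hρ
    have h01 : gm A 0 1 = 0 := by
      have h4 := d01 t0 ht0
      have h5 : (1 : F ≃+* F) (t0 ^ q) = t0 ^ q := rfl
      rw [h5] at h4
      have h3 : gm A 0 1 * (t0 ^ q - t0) = 0 := by linear_combination h4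
      exact (mul_eq_zero.1 h3).resolve_right (sub_ne_zero.2 ht0'.symm)
    have h10 : gm A 1 0 = 0 := by
      rw [h01] at w00
      exact neg_eq_zero.1 w00.symm
    have h11 : gm A 1 1 = gm A 0 0 := w01.symm
    refine ⟨A, gm A 0 0, gm A 2 2, ?_, rfl⟩
    ext i j
    fin_cases i <;> fin_cases j <;> simp [h01, h02, h10, h12, h20, h21, h11]

theorem su_comm {a b : MulAut (PSU 3 F q)} (ha : U1 a) (hb : U1 b) : a * b = b * a := by
  obtain ⟨A, s, μ, hA, rfl⟩ := ha
  obtain ⟨B, s', μ', hB, rfl⟩ := hb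
  rw [← map_mul, ← map_mul]
  congr 1
  apply gm_inj
  rw [gm_mul, gm_mul, hA, hB, diagonal_mul_diagonal, diagonal_mul_diagonal]
  congr 1
  ext i
  rw [mul_comm]

theorem f₂_mul (hF : Fintype.card F = q ^ 2) (A : GU 3 F q) :
    (f₂ (conj hF) : MulAut (PSU 3 F q)) * f₁ A = f₁ (mapGU (conj hF) A) * f₂ (conj hF) := by
  rw [← conj_field]
  group

theorem su_inv (hF : Fintype.card F = q ^ 2) {a t : MulAut (PSU 3 F q)} (ha : U2 hF a) (ht : U1 t) :
    a * t = t⁻¹ * a := by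
  obtain ⟨A, s, μ, hA, rfl⟩ := ha
  obtain ⟨B, s', μ', hB, rfl⟩ := ht
  have hn := Cfsg.Agent.Cit.FourU.mat_of_gm hF B
  have n0 := congrFun (congrFun hn 0) 0
  have n2 := congrFun (congrFun hn 2) 2
  rw [hB, diagonal_transpose, Matrix.diagonal_map (map_zero _), diagonal_mul_diagonal] at n0 n2
  simp [conj_apply] at n0 n2
  rw [mul_assoc, f₂_mul, ← mul_assoc, ← map_mul, ← map_inv, ← mul_assoc, ← map_mul]
  congr 2
  rw [eq_inv_mul_iff_mul_eq]
  apply gm_inj
  have hm : gm (mapGU (conj hF) B) = diagonal ![s' ^ q, s' ^ q, μ' ^ q] := by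
    show (gm B).map (conj hF) = _
    rw [hB, Matrix.diagonal_map (map_zero _)]
    congr 1
    ext i
    fin_cases i <;> rfl
  rw [gm_mul, gm_mul, hm, hA, hB, dg3, dg3]
  ext i j
  fin_cases i <;> fin_cases j <;> simp [Matrix.mul_apply, Fin.sum_univ_three]
  · linear_combination s * n0
  · linear_combination s * n0
  · linear_combination μ * n2

theorem su_sq (hF : Fintype.card F = q ^ 2) {g : MulAut (PSU 3 F q)} (hg : U2 hF g) : U1 (g * g) := by
  obtain ⟨A, s, μ, hA, rfl⟩ := hg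
  have hcc : conj hF * conj hF = 1 := by
    apply RingEquiv.ext
    intro x
    exact pow_q_pow_q hF x
  refine ⟨A * mapGU (conj hF) A, -(s * s ^ q), μ * μ ^ q, ?_, ?_⟩
  · have hm : gm (mapGU (conj hF) A) = !![0, s ^ q, 0; -s ^ q, 0, 0; 0, 0, μ ^ q] := by
      show (gm A).map (conj hF) = _
      rw [hA]
      have hq0 := zero_pow_q (F := F) hF
      ext i j
      fin_cases i <;> fin_cases j <;> simp [conj_apply, hq0, neg_pow_q hF]
    rw [gm_mul, hm, hA]
    ext i j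
    fin_cases i <;> fin_cases j <;> simp [Matrix.mul_apply, Fin.sum_univ_three]
  · rw [mul_assoc, ← mul_assoc (f₂ (conj hF)), f₂_mul, mul_assoc (f₁ (mapGU (conj hF) A)), ← map_mul, hcc, map_one, mul_one,
      ← map_mul]

theorem sfact_su (hF : Fintype.card F = q ^ 2) (ho : Odd (Fintype.card F)) :
    SFact (PSU 3 F q) (D1 (suRep hF 1 le_rfl)) := by
  have h2 : (2 : F) ≠ 0 := Cfsg.Agent.SignalizersComponents.SLQuasisimple.two_ne_zero_of_odd ho
  intro a b g ha hb hg hab ho hga hgb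
  exact dih_kill (T1 := U1) (T2 := U2 hF) (fun _ _ => su_comm) (fun _ _ => su_inv hF) (fun _ => su_sq hF)
    (su_dich hF h2 a ha) (su_dich hF h2 b hb) (su_dich hF h2 g hg) hab ho hga hgb

end SU

end Cfsg.Agent.LOC.SevFact
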