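import Cfsg.Agent.Cit.Nil.LO.TypeC1
import Cfsg.Agent.Cit.Nil.LO.SevFact
import Cfsg.Agent.Cit.Nil.LO.SevDef

/-!
# S1309, (n2), section 7: charts of rank one (type `C 1`)

* `sfact_member` : `SFact` for the members of `L₃(q)`, `U₃(q)`, `M₁₁`;
* `sev_core` : group level form of `Sev`;
* `sev_of_card_one` : `Sev c.cls R` for `|c.I| = 1`, `L` not `G₂(q)`, `³D₄(q)`.
-/

set_option autoImplicit false
set_option linter.dupNamespace false
set_option linter.unusedSectionVars false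

open Subgroup Cfsg
open Cfsg.Agent.LOC.ChartDefs (MaxF Out QK Triv)
open Cfsg.Agent.LOC.SevDef (Sev)
open Cfsg.Agent.LOC.SevFact (SFact of_equiv sfact_sl sfact_su)
open Cfsg.Agent.OddHalf.NI.FTwo (SL)

namespace Cfsg.Agent.Cit.Nil.LO.SevC1

universe u

open Nodes.Chart TypeC1

section core

variable {H : Type*} [Group H] {L : Subgroup H} {K0 : Subgroup ↥L} {K : Subgroup H} {e g : H}

/-- **group level form** -/
theorem sev_core (hS : SFact ↥L K0) (hK : QK K e) (hKL : ∀ k ∈ K, k ∈ normalizer (L : Set H))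
    (hgL : g ∈ normalizer (L : Set H)) (hKc : ∀ k ∈ K, ∀ a ∈ K0, k * (a : H) = a * k) (hgc : ∀ a ∈ K0, g * (a : H) = a * g)
    (hg : Odd (orderOf g)) (hgK : ∀ k ∈ K, g * k = k * g) (he : ¬ ∀ l ∈ L, e * l = l * e) : ∀ l ∈ L, g * l = l * g := by
  obtain ⟨ψ, hψ⟩ : ∃ ψ : normalizer (L : Set H) →* MulAut L, ∀ (x : normalizer (L : Set H)) (l : L),
      ((ψ x l : L) : H) = x * l * (x : H)⁻¹ := ⟨L.normalizerMonoidHom, fun x l => rfl⟩
  have back : ∀ x : normalizer (L : Set H), ψ x = 1 → ∀ l ∈ L, (x : H) * l = l * x := by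
    intro x hx l hl
    have h1 := hψ x ⟨l, hl⟩
    rw [hx, MulAut.one_apply] at h1
    exact (mul_inv_eq_iff_eq_mul.1 h1.symm)
  have fix : ∀ (x : H) (hx : x ∈ normalizer (L : Set H)), (∀ a ∈ K0, x * (a : H) = a * x) → ∀ a ∈ K0,
      ψ ⟨x, hx⟩ a = a := by
    intro x hx h a ha
    apply Subtype.ext
    rw [hψ, h a ha]
    group
  obtain ⟨a, ha, b, hb, haa, -, hab⟩ := hK.com
  have hN := hKL
  have h1 : ψ ⟨g, hgL⟩ = 1 := by
    refine hS (ψ ⟨a, hN a ha⟩) (ψ ⟨b, hN b hb⟩) _ (fix a _ (hKc a ha)) (fix b _ (hKc b hb)) (fix g _ hgc) ?_ ?_ ?_ ?_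
    · intro h
      apply he
      have h2 : ψ ⟨e, hN e hK.mem⟩ = 1 := by
        have h3 : ψ (⟨a, hN a ha⟩ * ⟨b, hN b hb⟩) = ψ ⟨e, hN e hK.mem⟩ * ψ (⟨b, hN b hb⟩ * ⟨a, hN a ha⟩) := by
          rw [← map_mul]
          congr 1
          exact Subtype.ext hab
        rw [map_mul, map_mul, h] at h3
        exact (mul_eq_right.1 h3.symm)
      exact back _ h2
    · have h2 : orderOf (ψ ⟨g, hgL⟩) ∣ orderOf g := by
        have h3 := orderOf_map_dvd ψ (⟨g, hgL⟩ : normalizer (L : Set H))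
        rwa [← Subgroup.orderOf_coe] at h3
      exact Odd.of_dvd_nat hg h2
    · rw [← map_mul, ← map_mul]
      congr 1
      exact Subtype.ext (hgK a ha)
    · rw [← map_mul, ← map_mul]
      congr 1
      exact Subtype.ext (hgK b hb)
  exact back _ h1

end core

section member

open Cfsg.Agent.Cit.TwoB Cfsg.Agent.Cit.TwoB.Members Cfsg.Agent.Cit.CoreOne
open Cfsg.Agent.Cit.LongAbs Cfsg.Agent.Cit.LongBlock Cfsg.Agent.Cit.LongQuot
  Cfsg.Agent.Cit.LongMain Cfsg.Agent.Cit.LongModel Cfsg.Agent.Cit.LongInst Cfsg.Agent.Cit.LongConj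

variable {X : Type u} [Group X] [Finite X] {Om : Set (Subgroup X)} {K : Subgroup X}

/-- the members of `L₃(q)`, `U₃(q)`, `M₁₁` -/
theorem sfact_member (h : Hyp Om) (hT : ∀ K ∈ Om, Ty K) (hO : ∀ K ∈ Om, OO K = ⊥)
    (hX : L3 X ∨ U3 X ∨ Spor.IsoM11 X) (hK : K ∈ Om) : SFact X K := by
  have hty : IsType K := (hT K hK).isType
  have hOK := hO K hK
  rcases hX with ⟨F, _, _, ho, ⟨e⟩⟩ | ⟨F, _, _, q, hF, hq, ⟨e⟩⟩ | hM
  · have hf := CitLFactSL.lfact (F := F) ho
    obtain ⟨f, -, h2⟩ := exists_std (sl_good1 ho) sl_swap1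
      (fun z hz hz1 => hf.one z (z0 (slRep F 1)) hz hz1 hf.sq hf.ne) h hK hty hOK e
    exact of_equiv f h2 (sfact_sl ho)
  · have ho : Odd (Fintype.card F) := by rw [hF]; exact hq.pow
    have hf := CitLFactSU.lfact hF ho
    obtain ⟨f, -, h2⟩ := exists_std (su_good1 hF ho) (su_swap1 hF)
      (fun z hz hz1 => hf.one z (z0 (suRep hF 1 le_rfl)) hz hz1 hf.sq hf.ne) h hK hty hOK e
    exact of_equiv f h2 (sfact_su hF ho)
  · have hz2 := h.zz_mul hK
    have hz1 := h.zz_ne hK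
    have hS := eq_SS hM h hK hty
    have key : ∀ a : MulAut X, (∀ x ∈ K, a x = x) → a = 1 ∨ a = MulAut.conj (zz K) := fun a ha =>
      ElevenFact.aut_eq_SS hM hz2 hz1 a fun x hx' => ha x (by rw [hS]; exact hx')
    intro a b g ha hb _ hab _ _ _
    exfalso
    apply hab
    rcases key a ha with rfl | rfl
    · rw [one_mul, mul_one]
    · rcases key b hb with rfl | rfl
      · rw [one_mul, mul_one]
      · rfl

end member

section

variable {H : Type u} [Group H] [Finite H] {L : Subgroup H} {F : Type} [Field F] [Fintype F] {t : H}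
  {J : Subgroup H} {p : ℕ}

/-- the members of `L` for a chart of rank one -/
theorem sfact_of_card_one (hI : CoreOne.IdentStmt.{u}) (f : Front L F t J) (hs : IsSimpleGroup ↥L)
    (hG : ¬ CoreOne.G2D4 ↥L) (c : Chart (cls J) p L) (h1 : Fintype.card c.I = 1) :
    ∀ K ∈ restr (cls J) L, SFact ↥L K := by
  have hone := one_of_card_one f c h1
  have hT : ∀ K ∈ restr (cls J) L, Ty K := Ty.restr f.ty L
  have hO : ∀ K ∈ restr (cls J) L, OO K = ⊥ := by
    intro K hK
    have h2 : SL F ↥(K.map L.subtype) := f.sl_mem hK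
    exact oo_of_sl (h2.congr (K.equivMapOfInjective _ L.subtype_injective).symm)
  have hne : (restr (cls J) L).Nonempty := ⟨_, subgroupOf_mem_restr (self_mem_cls J) f.J_le⟩
  obtain ⟨S⟩ : Nonempty (Sylow 2 ↥L) := inferInstance
  obtain ⟨K, hK⟩ := id hne
  have hid := hI ↥L _ hone hne hT S (CoreOne.sylow_type hone hne (fun K hK => (hT K hK).isType.tyTwo)
    (CoreOneFull.s1173Stmt ↥L (CoreOne.oddCore_eq_bot (CoreOne.two_dvd_card hone.hyp hK))) S)
  intro M hM
  refine sfact_member hone.hyp hT hO ?_ hM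
  rcases hid with h | h | h | h
  · exact Or.inl h
  · exact Or.inr (Or.inl h)
  · exact Or.inr (Or.inr h)
  · exact absurd h hG

/-- **`Sev` for charts of rank one** -/
theorem sev_of_card_one (hI : CoreOne.IdentStmt.{u}) (f : Front L F t J) (hs : IsSimpleGroup ↥L)
    (hG : ¬ CoreOne.G2D4 ↥L) (c : Chart (cls J) p L) (h1 : Fintype.card c.I = 1) {R : Set (c.I → ℤ)}
    (hM : MaxF c.cls R) : Sev c.cls R := by
  obtain ⟨x, hx⟩ := c.Rne
  obtain ⟨r, hr, -⟩ := hM.max x hx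
  have hrR := hM.sub r hr
  have hr' := hM.neg r hr
  have hrR' := hM.sub _ hr'
  set N : Subgroup H := c.Z r ⊔ c.Z (-r) with hN
  have hNO : N ∈ cls J := c.om r hrR
  have hNL : N ≤ L := f.le N hNO
  have hS := sfact_of_card_one hI f hs hG c h1 _ (subgroupOf_mem_restr hNO hNL)
  intro K e g hK hc hg hgL hgK hge he
  have hcN : ∀ x : H, (∀ a ∈ c.Z r, x * a = a * x) → (∀ a ∈ c.Z (-r), x * a = a * x) → ∀ a ∈ N, x * a = a * x := by
    intro x h2 h3 a ha
    have h4 : N ≤ centralizer {x} := sup_le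
      (fun a ha => mem_centralizer_singleton_iff.2 (h2 a ha).symm)
      (fun a ha => mem_centralizer_singleton_iff.2 (h3 a ha).symm)
    exact (mem_centralizer_singleton_iff.1 (h4 ha)).symm
  have hgZ : ∀ s ∈ R, ∀ a ∈ c.Z s, g * a = a * g := fun s hs a ha =>
    hge s (c.cls.root s (hM.sub s hs)) a (c.cls.le s (hM.sub s hs) ha) (hc.comm s hs a ha e hK.mem)
  have h2 := sev_core (L := L) (K0 := N.subgroupOf L) hS hK (fun k hk => by rw [← c.gen]; exact hc.nor k hk)
    (by rw [← c.gen]; exact hgL)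
    (fun k hk a ha => hcN k (fun a ha => hc.comm r hr a ha k hk) (fun a ha => hc.comm _ hr' a ha k hk) a
      (mem_subgroupOf.1 ha))
    (fun a ha => hcN g (hgZ r hr) (hgZ _ hr') a (mem_subgroupOf.1 ha)) hg hgK (fun h3 => he fun l hl => h3 l (by
      rw [← c.gen]; exact hl))
  intro l hl
  exact h2 l (by rw [← c.gen]; exact hl)

end

end Cfsg.Agent.Cit.Nil.LO.SevC1
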