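import Mathlib
import Cfsg.Agent.Cit.Nil.LO.ChartDefs

/-!
# LEMMA LA: a quaternion group acting on a small orthogonal space over `𝔽_q` (S1309, (n1), piece (C))

Text: `blueprints/CIT-6b-LieOdd-helper443.md`, section 4; proof without fields: R18 (helper197).

`M` an abelian group of odd order, `β : M × M → Z` symmetric, biadditive, nondegenerate, `K = Q8` acts on `M` preserving
`β`, `e` its involution, `M_e = {u ∈ M : u ^ e = u⁻¹}`.  If `M_e ≠ 1` there is `w ∈ M_e` with `β w w ≠ 1`; the four conjugates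
`w, w ^ a, w ^ b, w ^ (ab)` are pairwise orthogonal, and `v ↦ (β u_i v)` maps `M_e` onto `Z ^ 4` (`hsc`: scaling).

* `main` : `e` centralises `M`, or `|Z| ^ 4 ≤ |M|` with `M = M_e` in case of equality;
* `hsc_of` : the supply of the scaling hypothesis by two tori;
* `same` : two commuting tori with the same action;
* `line` : `e` centralises a line which is normalised by the elements of order 4 of `K`;
* `triv` : the final form.
-/

set_option autoImplicit false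
set_option linter.unusedSectionVars false
set_option linter.dupNamespace false

namespace Cfsg.Agent.LOC.LA

open Cfsg.Agent.LOC.ChartDefs

variable {Y : Type*} [Group Y]

/-- a nondegenerate symmetric biadditive form `β : M × M → Z`, `M` and `Z` abelian without involutions -/
structure Frm (M Z : Subgroup Y) (β : Y → Y → Y) : Prop where
  commM : ∀ u ∈ M, ∀ v ∈ M, u * v = v * u
  commZ : ∀ u ∈ Z, ∀ v ∈ Z, u * v = v * u
  oddM : ∀ u ∈ M, u * u = 1 → u = 1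
  oddZ : ∀ u ∈ Z, u * u = 1 → u = 1
  mem : ∀ u ∈ M, ∀ v ∈ M, β u v ∈ Z
  mul_left : ∀ u ∈ M, ∀ u' ∈ M, ∀ v ∈ M, β (u * u') v = β u v * β u' v
  mul_right : ∀ u ∈ M, ∀ v ∈ M, ∀ v' ∈ M, β u (v * v') = β u v * β u v'
  symm : ∀ u ∈ M, ∀ v ∈ M, β u v = β v u
  nd : ∀ u ∈ M, (∀ v ∈ M, β u v = 1) → u = 1

section Basic

variable {M Z : Subgroup Y} {β : Y → Y → Y} (f : Frm M Z β)
include f

theorem Frm.one_left {v : Y} (hv : v ∈ M) : β 1 v = 1 := by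
  have h1 := f.mul_left 1 M.one_mem 1 M.one_mem v hv
  rw [one_mul] at h1
  exact mul_left_cancel (a := β 1 v) (by rw [mul_one]; exact h1.symm)

theorem Frm.one_right {u : Y} (hu : u ∈ M) : β u 1 = 1 := by
  rw [f.symm u hu 1 M.one_mem, f.one_left hu]

theorem Frm.inv_left {u v : Y} (hu : u ∈ M) (hv : v ∈ M) : β u⁻¹ v = (β u v)⁻¹ := by
  have h1 := f.mul_left u hu u⁻¹ (inv_mem hu) v hv
  rw [mul_inv_cancel, f.one_left hv] at h1
  exact (inv_eq_of_mul_eq_one_right h1.symm).symm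

theorem Frm.inv_right {u v : Y} (hu : u ∈ M) (hv : v ∈ M) : β u v⁻¹ = (β u v)⁻¹ := by
  rw [f.symm u hu _ (inv_mem hv), f.inv_left hv hu, f.symm u hu v hv]

/-- polarisation: `β` vanishes on a subgroup of isotropic elements -/
theorem Frm.polar {N : Subgroup Y} (hN : N ≤ M) (hi : ∀ w ∈ N, β w w = 1) {u v : Y} (hu : u ∈ N) (hv : v ∈ N) :
    β u v = 1 := by
  have h1 := hi (u * v) (mul_mem hu hv)
  rw [f.mul_left u (hN hu) v (hN hv) _ (mul_mem (hN hu) (hN hv)), f.mul_right u (hN hu) u (hN hu) v (hN hv),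
    f.mul_right v (hN hv) u (hN hu) v (hN hv), hi u hu, hi v hv, one_mul, mul_one, f.symm v (hN hv) u (hN hu)] at h1
  exact f.oddZ _ (f.mem u (hN hu) v (hN hv)) h1

end Basic

/-- `M_e` -/
def Me (M : Subgroup Y) (e : Y) (hM : ∀ u ∈ M, ∀ v ∈ M, u * v = v * u) : Subgroup Y where
  carrier := {u | u ∈ M ∧ e * u * e⁻¹ = u⁻¹}
  one_mem' := ⟨M.one_mem, by group⟩
  mul_mem' := by
    rintro u v ⟨hu, h1⟩ ⟨hv, h2⟩
    refine ⟨mul_mem hu hv, ?_⟩
    have h3 : e * (u * v) * e⁻¹ = (e * u * e⁻¹) * (e * v * e⁻¹) := by group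
    rw [h3, h1, h2, ← mul_inv_rev, hM v hv u hu]
  inv_mem' := by
    rintro u ⟨hu, h1⟩
    refine ⟨inv_mem hu, ?_⟩
    have h3 : e * u⁻¹ * e⁻¹ = (e * u * e⁻¹)⁻¹ := by group
    rw [h3, h1]

theorem mem_Me {M : Subgroup Y} {e : Y} {hM : ∀ u ∈ M, ∀ v ∈ M, u * v = v * u} {u : Y} :
    u ∈ Me M e hM ↔ u ∈ M ∧ e * u * e⁻¹ = u⁻¹ := Iff.rfl

theorem Me_le {M : Subgroup Y} {e : Y} {hM : ∀ u ∈ M, ∀ v ∈ M, u * v = v * u} : Me M e hM ≤ M := fun _ hu => hu.1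

section Main

variable {M Z K : Subgroup Y} {β : Y → Y → Y} {e : Y}

/-- `β u (u ^ k) = 1` for `u ∈ M_e`, `k² = e` -/
theorem orth (f : Frm M Z β) (hKM : ∀ k ∈ K, ∀ u ∈ M, k * u * k⁻¹ ∈ M)
    (hinv : ∀ k ∈ K, ∀ u ∈ M, ∀ v ∈ M, β (k * u * k⁻¹) (k * v * k⁻¹) = β u v) {u k : Y} (hu : u ∈ Me M e f.commM)
    (hk : k ∈ K) (hkk : k * k = e) : β u (k * u * k⁻¹) = 1 := by
  have hu' := hu.1
  have hku := hKM k hk u hu'
  have h1 := hinv k hk u hu' _ hku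
  have h2 : k * (k * u * k⁻¹) * k⁻¹ = u⁻¹ := by
    have : k * (k * u * k⁻¹) * k⁻¹ = (k * k) * u * (k * k)⁻¹ := by group
    rw [this, hkk, hu.2]
  rw [h2, f.inv_right hku hu', f.symm _ hku u hu'] at h1
  have h3 : β u (k * u * k⁻¹) * β u (k * u * k⁻¹) = 1 := by
    nth_rw 1 [← h1]
    group
  exact f.oddZ _ (f.mem u hu' _ hku) h3

/-- the elements of `K` of order 4 -/
theorem quad (hK : QK K e) : ∃ a ∈ K, ∃ b ∈ K, a * a = e ∧ b * b = e ∧ (a * b) * (a * b) = e ∧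
    (a⁻¹ * b) * (a⁻¹ * b) = e ∧ (b⁻¹ * (a * b)) * (b⁻¹ * (a * b)) = e := by
  obtain ⟨a, ha, b, hb, h1, h2, h3⟩ := hK.com
  have hea := hK.cen a ha
  have heb := hK.cen b hb
  have hei := hK.inv_e
  have h4 : (a * b) * (a * b) = e := by
    calc (a * b) * (a * b) = e * (b * a) * (a * b) := by rw [← h3]
      _ = e * b * (a * a) * b := by group
      _ = e * (b * e) * b := by rw [h1]; group
      _ = (e * e) * (b * b) := by rw [heb]; group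
      _ = e := by rw [hK.sq, one_mul, h2]
  have hai : a⁻¹ = e * a := by
    rw [inv_eq_iff_mul_eq_one, hea.symm, ← mul_assoc, h1, hK.sq]
  have hbi : b⁻¹ = e * b := by
    rw [inv_eq_iff_mul_eq_one, heb.symm, ← mul_assoc, h2, hK.sq]
  refine ⟨a, ha, b, hb, h1, h2, h4, ?_, ?_⟩
  · have hab : (a * b) * e = e * (a * b) := hK.cen _ (mul_mem ha hb)
    rw [hai]
    calc e * a * b * (e * a * b) = e * ((a * b) * e) * (a * b) := by group
      _ = (e * e) * ((a * b) * (a * b)) := by rw [hab]; group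
      _ = e := by rw [hK.sq, one_mul, h4]
  · calc b⁻¹ * (a * b) * (b⁻¹ * (a * b)) = b⁻¹ * (a * a) * b := by group
      _ = b⁻¹ * (e * b) := by rw [h1]; group
      _ = e := by rw [← heb]; group

variable [Finite Y]

/-- **LEMMA LA.** -/
theorem main (hK : QK K e) (f : Frm M Z β) (hKM : ∀ k ∈ K, ∀ u ∈ M, k * u * k⁻¹ ∈ M)
    (hinv : ∀ k ∈ K, ∀ u ∈ M, ∀ v ∈ M, β (k * u * k⁻¹) (k * v * k⁻¹) = β u v)
    (hsc : ∀ u ∈ M, β u u ≠ 1 → ∀ z ∈ Z, ∃ u' ∈ M, β u u' = z ∧ (∀ v ∈ M, β u v = 1 → β u' v = 1) ∧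
      (e * u * e⁻¹ = u⁻¹ → e * u' * e⁻¹ = u'⁻¹)) :
    (∀ u ∈ M, e * u = u * e) ∨ (Nat.card Z ^ 4 ≤ Nat.card M ∧
      (Nat.card M = Nat.card Z ^ 4 → ∀ u ∈ M, e * u * e⁻¹ = u⁻¹)) := by
  classical
  have hee : e * e = 1 := hK.sq
  have hei : e⁻¹ = e := hK.inv_e
  by_cases htriv : ∀ w ∈ Me M e f.commM, β w w = 1
  · -- `M_e` is totally isotropic: `M_e = 1`
    left
    have h0 : ∀ w ∈ Me M e f.commM, w = 1 := by
      intro w hw
      refine f.nd w hw.1 fun v hv => ?_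
      have hev := hKM e hK.mem v hv
      -- `v * v = (v * v^e) * (v * (v^e)⁻¹)`
      set v' := e * v * e⁻¹ with hv'
      have hvv : e * v' * e⁻¹ = v := by
        rw [hv']
        have : e * (e * v * e⁻¹) * e⁻¹ = (e * e) * v * (e * e)⁻¹ := by group
        rw [this, hee]; group
      have hp : v * v' ∈ M := mul_mem hv hev
      have hm : v * v'⁻¹ ∈ M := mul_mem hv (inv_mem hev)
      have hpe : e * (v * v') * e⁻¹ = v * v' := by
        have : e * (v * v') * e⁻¹ = (e * v * e⁻¹) * (e * v' * e⁻¹) := by group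
        rw [this, ← hv', hvv, f.commM v' hev v hv]
      have hme : v * v'⁻¹ ∈ Me M e f.commM := by
        refine ⟨hm, ?_⟩
        have : e * (v * v'⁻¹) * e⁻¹ = (e * v * e⁻¹) * (e * v' * e⁻¹)⁻¹ := by group
        rw [this, ← hv', hvv]
        group
      have h1 : β w (v * v'⁻¹) = 1 := f.polar Me_le htriv hw hme
      have h2 : β w (v * v') = 1 := by
        have h3 := hinv e hK.mem w hw.1 _ hp
        rw [hw.2, hpe, f.inv_left hw.1 hp] at h3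
        refine f.oddZ _ (f.mem w hw.1 _ hp) ?_
        nth_rw 1 [← h3]
        group
      have h3 : β w (v * v) = 1 := by
        have h4 : v * v = (v * v') * (v * v'⁻¹) := by
          calc v * v = v * (v' * v'⁻¹) * v := by group
            _ = v * v' * (v'⁻¹ * v) := by group
            _ = v * v' * (v * v'⁻¹) := by rw [f.commM _ (inv_mem hev) v hv]
        rw [h4, f.mul_right w hw.1 _ hp _ hm, h1, h2, one_mul]
      rw [f.mul_right w hw.1 v hv v hv] at h3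
      exact f.oddZ _ (f.mem w hw.1 v hv) h3
    intro u hu
    have hw : u⁻¹ * (e * u * e⁻¹) ∈ Me M e f.commM := by
      have heu := hKM e hK.mem u hu
      refine ⟨mul_mem (inv_mem hu) heu, ?_⟩
      have h1 : e * (e * u * e⁻¹) * e⁻¹ = u := by
        have : e * (e * u * e⁻¹) * e⁻¹ = (e * e) * u * (e * e)⁻¹ := by group
        rw [this, hee]; group
      have h2 : e * (u⁻¹ * (e * u * e⁻¹)) * e⁻¹ = (e * u * e⁻¹)⁻¹ * (e * (e * u * e⁻¹) * e⁻¹) := by group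
      rw [h2, h1]
      group
    have h1 := h0 _ hw
    have h2 : e * u * e⁻¹ = u := by
      rw [inv_mul_eq_one] at h1
      exact h1.symm
    calc e * u = (e * u * e⁻¹) * e := by group
      _ = u * e := by rw [h2]
  · right
    push Not at htriv
    obtain ⟨w, hw, hww⟩ := htriv
    obtain ⟨a, ha, b, hb, h1, h2, h3, h4, h5⟩ := quad hK
    have hwM := hw.1
    -- conjugates
    have hcj : ∀ k ∈ K, k * w * k⁻¹ ∈ Me M e f.commM := by
      intro k hk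
      refine ⟨hKM k hk w hwM, ?_⟩
      have hke := hK.cen k hk
      calc e * (k * w * k⁻¹) * e⁻¹ = (e * k) * w * (e * k)⁻¹ := by group
        _ = (k * e) * w * (k * e)⁻¹ := by rw [hke]
        _ = k * (e * w * e⁻¹) * k⁻¹ := by group
        _ = (k * w * k⁻¹)⁻¹ := by rw [hw.2]; group
    have hn : ∀ k ∈ K, β (k * w * k⁻¹) (k * w * k⁻¹) ≠ 1 := by
      intro k hk
      rw [hinv k hk w hwM w hwM]
      exact hww
    have ho : ∀ k ∈ K, ∀ l ∈ K, (k⁻¹ * l) * (k⁻¹ * l) = e → β (k * w * k⁻¹) (l * w * l⁻¹) = 1 := by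
      intro k hk l hl hkl
      have h6 := orth f hKM hinv hw (mul_mem (inv_mem hk) hl) hkl
      rw [← hinv k hk w hwM _ (hKM _ (mul_mem (inv_mem hk) hl) w hwM)] at h6
      have h7 : k * (k⁻¹ * l * w * (k⁻¹ * l)⁻¹) * k⁻¹ = l * w * l⁻¹ := by group
      rwa [h7] at h6
    set u1 := (1 : Y) * w * (1 : Y)⁻¹ with hu1
    set u2 := a * w * a⁻¹ with hu2
    set u3 := b * w * b⁻¹ with hu3
    set u4 := (a * b) * w * (a * b)⁻¹ with hu4
    have m1 : u1 ∈ Me M e f.commM := hcj 1 K.one_mem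
    have m2 : u2 ∈ Me M e f.commM := hcj a ha
    have m3 : u3 ∈ Me M e f.commM := hcj b hb
    have m4 : u4 ∈ Me M e f.commM := hcj _ (mul_mem ha hb)
    have o12 : β u1 u2 = 1 := ho 1 K.one_mem a ha (by rw [inv_one, one_mul, h1])
    have o13 : β u1 u3 = 1 := ho 1 K.one_mem b hb (by rw [inv_one, one_mul, h2])
    have o14 : β u1 u4 = 1 := ho 1 K.one_mem _ (mul_mem ha hb) (by rw [inv_one, one_mul, h3])
    have o23 : β u2 u3 = 1 := ho a ha b hb h4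
    have o24 : β u2 u4 = 1 := ho a ha _ (mul_mem ha hb) (by
      have : a⁻¹ * (a * b) = b := by group
      rw [this, h2])
    have o34 : β u3 u4 = 1 := ho b hb _ (mul_mem ha hb) h5
    have n1 : β u1 u1 ≠ 1 := hn 1 K.one_mem
    have n2 : β u2 u2 ≠ 1 := hn a ha
    have n3 : β u3 u3 ≠ 1 := hn b hb
    have n4 : β u4 u4 ≠ 1 := hn _ (mul_mem ha hb)
    -- scaling functions
    have sc : ∀ u ∈ Me M e f.commM, β u u ≠ 1 → ∃ φ : Z → Y, ∀ z : Z, φ z ∈ Me M e f.commM ∧ β u (φ z) = z ∧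
        ∀ v ∈ M, β u v = 1 → β (φ z) v = 1 := by
      intro u hu hun
      choose φ hφ using fun z : Z => hsc u hu.1 hun z z.2
      exact ⟨φ, fun z => ⟨⟨(hφ z).1, (hφ z).2.2.2 hu.2⟩, (hφ z).2.1, (hφ z).2.2.1⟩⟩
    obtain ⟨φ1, p1⟩ := sc u1 m1 n1
    obtain ⟨φ2, p2⟩ := sc u2 m2 n2
    obtain ⟨φ3, p3⟩ := sc u3 m3 n3
    obtain ⟨φ4, p4⟩ := sc u4 m4 n4
    -- the map `Z ^ 4 → M_e`
    let Φ : Z × Z × Z × Z → Me M e f.commM := fun t =>
      ⟨φ1 t.1 * φ2 t.2.1 * φ3 t.2.2.1 * φ4 t.2.2.2,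
        mul_mem (mul_mem (mul_mem (p1 _).1 (p2 _).1) (p3 _).1) (p4 _).1⟩
    have ev : ∀ u ∈ Me M e f.commM, ∀ t : Z × Z × Z × Z, β u (Φ t) =
        β u (φ1 t.1) * β u (φ2 t.2.1) * β u (φ3 t.2.2.1) * β u (φ4 t.2.2.2) := by
      intro u hu t
      change β u (φ1 t.1 * φ2 t.2.1 * φ3 t.2.2.1 * φ4 t.2.2.2) = _
      rw [f.mul_right u hu.1 _ (mul_mem (mul_mem (p1 _).1.1 (p2 _).1.1) (p3 _).1.1) _ (p4 _).1.1,
        f.mul_right u hu.1 _ (mul_mem (p1 _).1.1 (p2 _).1.1) _ (p3 _).1.1,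
        f.mul_right u hu.1 _ (p1 _).1.1 _ (p2 _).1.1]
    have sw : ∀ u ∈ Me M e f.commM, ∀ v ∈ Me M e f.commM, ∀ (φ : Z → Y),
        (∀ z : Z, φ z ∈ Me M e f.commM ∧ β u (φ z) = z ∧ ∀ v ∈ M, β u v = 1 → β (φ z) v = 1) → β u v = 1 →
        ∀ z, β v (φ z) = 1 := by
      intro u hu v hv φ hφ huv z
      rw [f.symm v hv.1 _ (hφ z).1.1]
      exact (hφ z).2.2 v hv.1 huv
    have hinj : Function.Injective Φ := by
      intro t t' htt
      have hg : ∀ u ∈ Me M e f.commM, β u (Φ t) = β u (Φ t') := fun u _ => by rw [htt]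
      have g1 := hg u1 m1
      have g2 := hg u2 m2
      have g3 := hg u3 m3
      have g4 := hg u4 m4
      have o21 : β u2 u1 = 1 := by rw [f.symm u2 m2.1 u1 m1.1, o12]
      have o31 : β u3 u1 = 1 := by rw [f.symm u3 m3.1 u1 m1.1, o13]
      have o41 : β u4 u1 = 1 := by rw [f.symm u4 m4.1 u1 m1.1, o14]
      have o32 : β u3 u2 = 1 := by rw [f.symm u3 m3.1 u2 m2.1, o23]
      have o42 : β u4 u2 = 1 := by rw [f.symm u4 m4.1 u2 m2.1, o24]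
      have o43 : β u4 u3 = 1 := by rw [f.symm u4 m4.1 u3 m3.1, o34]
      rw [ev u1 m1, ev u1 m1, sw u2 m2 u1 m1 φ2 p2 o21, sw u3 m3 u1 m1 φ3 p3 o31, sw u4 m4 u1 m1 φ4 p4 o41,
        sw u2 m2 u1 m1 φ2 p2 o21, sw u3 m3 u1 m1 φ3 p3 o31, sw u4 m4 u1 m1 φ4 p4 o41, (p1 _).2.1, (p1 _).2.1] at g1
      rw [ev u2 m2, ev u2 m2, sw u1 m1 u2 m2 φ1 p1 o12, sw u3 m3 u2 m2 φ3 p3 o32, sw u4 m4 u2 m2 φ4 p4 o42,
        sw u1 m1 u2 m2 φ1 p1 o12, sw u3 m3 u2 m2 φ3 p3 o32, sw u4 m4 u2 m2 φ4 p4 o42, (p2 _).2.1, (p2 _).2.1] at g2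
      rw [ev u3 m3, ev u3 m3, sw u1 m1 u3 m3 φ1 p1 o13, sw u2 m2 u3 m3 φ2 p2 o23, sw u4 m4 u3 m3 φ4 p4 o43,
        sw u1 m1 u3 m3 φ1 p1 o13, sw u2 m2 u3 m3 φ2 p2 o23, sw u4 m4 u3 m3 φ4 p4 o43, (p3 _).2.1, (p3 _).2.1] at g3
      rw [ev u4 m4, ev u4 m4, sw u1 m1 u4 m4 φ1 p1 o14, sw u2 m2 u4 m4 φ2 p2 o24, sw u3 m3 u4 m4 φ3 p3 o34,
        sw u1 m1 u4 m4 φ1 p1 o14, sw u2 m2 u4 m4 φ2 p2 o24, sw u3 m3 u4 m4 φ3 p3 o34, (p4 _).2.1, (p4 _).2.1] at g4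
      simp only [mul_one, one_mul] at g1 g2 g3 g4
      obtain ⟨t1, t2, t3, t4⟩ := t
      obtain ⟨s1, s2, s3, s4⟩ := t'
      simp only at g1 g2 g3 g4
      rw [Subtype.ext g1, Subtype.ext g2, Subtype.ext g3, Subtype.ext g4]
    have hcard : Nat.card Z ^ 4 ≤ Nat.card (Me M e f.commM) := by
      have h6 := Nat.card_le_card_of_injective Φ hinj
      simp only [Nat.card_prod] at h6
      calc Nat.card Z ^ 4 = Nat.card Z * (Nat.card Z * (Nat.card Z * Nat.card Z)) := by ring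
        _ ≤ _ := h6
    have hle : Nat.card (Me M e f.commM) ≤ Nat.card M := Subgroup.card_le_of_le Me_le
    refine ⟨hcard.trans hle, fun hM u hu => ?_⟩
    have h6 : Me M e f.commM = M := Subgroup.eq_of_le_of_card_ge Me_le (by rw [hM]; exact hcard)
    rw [← h6] at hu
    exact hu.2

end Main

/-! ### The supply of the scaling hypothesis -/

section Supply

variable {M Z : Subgroup Y} {β : Y → Y → Y} {e : Y} {Tr Ts : Subgroup Y}

/-- **Supply of `hsc`**: `Tr` acts diagonally, `Ts` is self-adjoint, both induce the same automorphisms on `M`, and `Z` is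
generated by each nontrivial `Tr`-orbit. -/
theorem hsc_of (f : Frm M Z β) (hr : ∀ h ∈ Tr, ∀ u ∈ M, h * u * h⁻¹ ∈ M)
    (hβ : ∀ h ∈ Tr, ∀ u ∈ M, ∀ v ∈ M, β (h * u * h⁻¹) (h * v * h⁻¹) = h * β u v * h⁻¹)
    (hs : ∀ g ∈ Ts, ∀ u ∈ M, ∀ v ∈ M, β (g * u * g⁻¹) v = β u (g * v * g⁻¹))
    (hsame : ∀ h ∈ Tr, ∃ g ∈ Ts, ∀ u ∈ M, g * u * g⁻¹ = h * u * h⁻¹)
    (her : ∀ h ∈ Tr, e * h = h * e)
    (hgen : ∀ s ∈ Z, s ≠ 1 → Z ≤ Subgroup.closure {x | ∃ h ∈ Tr, x = h * s * h⁻¹}) :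
    ∀ u ∈ M, β u u ≠ 1 → ∀ z ∈ Z, ∃ u' ∈ M, β u u' = z ∧ (∀ v ∈ M, β u v = 1 → β u' v = 1) ∧
      (e * u * e⁻¹ = u⁻¹ → e * u' * e⁻¹ = u'⁻¹) := by
  intro u hu hne z hz
  have hz' := hgen _ (f.mem u hu u hu) hne hz
  -- the scaled vector
  have key : ∀ h ∈ Tr, ∃ u' ∈ M, (∀ v ∈ M, β u' v = h * β u v * h⁻¹) ∧
      (e * u * e⁻¹ = u⁻¹ → e * u' * e⁻¹ = u'⁻¹) := by
    intro h hh
    obtain ⟨g, hg, hgh⟩ := hsame h hh
    have m1 := hr h hh u hu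
    have m2 := hr h hh _ m1
    refine ⟨h * (h * u * h⁻¹) * h⁻¹, m2, fun v hv => ?_, fun h1 => ?_⟩
    · have hv' : h⁻¹ * v * h ∈ M := by
        have := hr h⁻¹ (inv_mem hh) v hv
        rwa [inv_inv] at this
      have e1 : v = h * (h⁻¹ * v * h) * h⁻¹ := by group
      have e2 : β (h * (h * u * h⁻¹) * h⁻¹) v = h * β (h * u * h⁻¹) (h⁻¹ * v * h) * h⁻¹ := by
        nth_rw 1 [e1]
        exact hβ h hh _ m1 _ hv'
      rw [e2, ← hgh u hu, hs g hg u hu _ hv', hgh _ hv', ← e1]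
    · have h2 := her h hh
      have h3 : e * (h * h) = (h * h) * e := by
        rw [← mul_assoc, h2, mul_assoc, h2, mul_assoc]
      calc e * (h * (h * u * h⁻¹) * h⁻¹) * e⁻¹ = (e * (h * h)) * u * (e * (h * h))⁻¹ := by group
        _ = ((h * h) * e) * u * ((h * h) * e)⁻¹ := by rw [h3]
        _ = (h * h) * (e * u * e⁻¹) * (h * h)⁻¹ := by group
        _ = (h * (h * u * h⁻¹) * h⁻¹)⁻¹ := by rw [h1]; simp only [mul_inv_rev, inv_inv, mul_assoc]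
  induction hz' using Subgroup.closure_induction with
  | mem x hx =>
    obtain ⟨h, hh, rfl⟩ := hx
    obtain ⟨u', hu', h1, h2⟩ := key h hh
    refine ⟨u', hu', ?_, fun v hv hv1 => ?_, h2⟩
    · rw [f.symm u hu u' hu', h1 u hu]
    · rw [h1 v hv, hv1]; group
  | one =>
    exact ⟨1, M.one_mem, f.one_right hu, fun v hv _ => f.one_left hv, fun _ => by group⟩
  | mul x y hx hy ihx ihy =>
    have hcl : ∀ w ∈ Subgroup.closure {x | ∃ h ∈ Tr, x = h * β u u * h⁻¹}, w ∈ Z := by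
      intro w hw
      refine (Subgroup.closure_le Z).2 ?_ hw
      rintro _ ⟨h, hh, rfl⟩
      rw [← hβ h hh u hu u hu]
      exact f.mem _ (hr h hh u hu) _ (hr h hh u hu)
    obtain ⟨x', hx', a1, a2, a3⟩ := ihx (hcl x hx)
    obtain ⟨y', hy', b1, b2, b3⟩ := ihy (hcl y hy)
    refine ⟨x' * y', mul_mem hx' hy', ?_, fun v hv hv1 => ?_, fun h1 => ?_⟩
    · rw [f.mul_right u hu x' hx' y' hy', a1, b1]
    · rw [f.mul_left x' hx' y' hy' v hv, a2 v hv hv1, b2 v hv hv1, one_mul]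
    · have e1 : e * (x' * y') * e⁻¹ = (e * x' * e⁻¹) * (e * y' * e⁻¹) := by group
      rw [e1, a3 h1, b3 h1, ← mul_inv_rev, f.commM y' hy' x' hx']
  | inv x hx ihx =>
    have hcl : ∀ w ∈ Subgroup.closure {x | ∃ h ∈ Tr, x = h * β u u * h⁻¹}, w ∈ Z := by
      intro w hw
      refine (Subgroup.closure_le Z).2 ?_ hw
      rintro _ ⟨h, hh, rfl⟩
      rw [← hβ h hh u hu u hu]
      exact f.mem _ (hr h hh u hu) _ (hr h hh u hu)
    obtain ⟨x', hx', a1, a2, a3⟩ := ihx (hcl x hx)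
    refine ⟨x'⁻¹, inv_mem hx', ?_, fun v hv hv1 => ?_, fun h1 => ?_⟩
    · rw [f.inv_right hu hx', a1]
    · rw [f.inv_left hx' hv, a2 v hv hv1, inv_one]
    · have e1 : e * x'⁻¹ * e⁻¹ = (e * x' * e⁻¹)⁻¹ := by group
      rw [e1, a3 h1]

/-- **Two commuting tori, both transitive on a line `W`, induce the same automorphisms** on the subgroup generated by the
conjugates of `W` under a group commuting with both. -/
theorem same {W D M : Subgroup Y} (hab : ∀ h ∈ Tr, ∀ h' ∈ Tr, h * h' = h' * h) (hc : ∀ h ∈ Tr, ∀ g ∈ Ts, h * g = g * h)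
    (hW : ∀ h ∈ Tr, ∀ w ∈ W, h * w * h⁻¹ ∈ W)
    (trr : ∀ x ∈ W, x ≠ 1 → ∀ x' ∈ W, x' ≠ 1 → ∃ t ∈ Tr, t * x * t⁻¹ = x')
    (trs : ∀ x ∈ W, x ≠ 1 → ∀ x' ∈ W, x' ≠ 1 → ∃ t ∈ Ts, t * x * t⁻¹ = x')
    (hDr : ∀ d ∈ D, ∀ h ∈ Tr, d * h = h * d) (hDs : ∀ d ∈ D, ∀ g ∈ Ts, d * g = g * d)
    (hgen : M ≤ Subgroup.closure {x | ∃ d ∈ D, ∃ w ∈ W, x = d * w * d⁻¹}) :
    ∀ h ∈ Tr, ∃ g ∈ Ts, ∀ u ∈ M, g * u * g⁻¹ = h * u * h⁻¹ := by
  intro h hh
  have key : ∃ g ∈ Ts, ∀ w ∈ W, g * w * g⁻¹ = h * w * h⁻¹ := by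
    by_cases hw : ∃ w ∈ W, w ≠ 1
    · obtain ⟨w, hw, hw1⟩ := hw
      have hne : h * w * h⁻¹ ≠ 1 := fun h0 => hw1 (by
        have : w = h⁻¹ * (h * w * h⁻¹) * h := by group
        rw [this, h0]; group)
      obtain ⟨g, hg, hgw⟩ := trs w hw hw1 _ (hW h hh w hw) hne
      refine ⟨g, hg, fun x hx => ?_⟩
      by_cases hx1 : x = 1
      · subst hx1; group
      obtain ⟨t, ht, rfl⟩ := trr w hw hw1 x hx hx1
      calc g * (t * w * t⁻¹) * g⁻¹ = (g * t) * w * (g * t)⁻¹ := by group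
        _ = (t * g) * w * (t * g)⁻¹ := by rw [hc t ht g hg]
        _ = t * (g * w * g⁻¹) * t⁻¹ := by group
        _ = (t * h) * w * (t * h)⁻¹ := by rw [hgw]; group
        _ = (h * t) * w * (h * t)⁻¹ := by rw [hab t ht h hh]
        _ = h * (t * w * t⁻¹) * h⁻¹ := by group
    · push Not at hw
      obtain ⟨g, hg⟩ : ∃ g, g ∈ Ts := ⟨1, Ts.one_mem⟩
      exact ⟨g, hg, fun w hw' => by rw [hw w hw']; group⟩
  obtain ⟨g, hg, hgw⟩ := key
  refine ⟨g, hg, fun u hu => ?_⟩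
  have hu' := hgen hu
  clear hu
  induction hu' using Subgroup.closure_induction with
  | mem x hx =>
    obtain ⟨d, hd, w, hw, rfl⟩ := hx
    calc g * (d * w * d⁻¹) * g⁻¹ = (g * d) * w * (g * d)⁻¹ := by group
      _ = (d * g) * w * (d * g)⁻¹ := by rw [hDs d hd g hg]
      _ = d * (g * w * g⁻¹) * d⁻¹ := by group
      _ = (d * h) * w * (d * h)⁻¹ := by rw [hgw w hw]; group
      _ = (h * d) * w * (h * d)⁻¹ := by rw [hDr d hd h hh]
      _ = h * (d * w * d⁻¹) * h⁻¹ := by group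
  | one => group
  | mul x y _ _ ihx ihy =>
    calc g * (x * y) * g⁻¹ = (g * x * g⁻¹) * (g * y * g⁻¹) := by group
      _ = (h * x * h⁻¹) * (h * y * h⁻¹) := by rw [ihx, ihy]
      _ = h * (x * y) * h⁻¹ := by group
  | inv x _ ihx =>
    calc g * x⁻¹ * g⁻¹ = (g * x * g⁻¹)⁻¹ := by group
      _ = (h * x * h⁻¹)⁻¹ := by rw [ihx]
      _ = h * x⁻¹ * h⁻¹ := by group

end Supply

/-- **The line lemma**: if the elements of order 4 of `K` map `w ∈ W` into `W`, and an abelian group commuting with `K` is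
transitive on the nontrivial elements of `W`, then `e` centralises `w`. -/
theorem line {K W H : Subgroup Y} {e : Y} (hK : QK K e) (hab : ∀ h ∈ H, ∀ h' ∈ H, h * h' = h' * h)
    (hHK : ∀ h ∈ H, ∀ k ∈ K, h * k = k * h)
    (tr : ∀ x ∈ W, x ≠ 1 → ∀ x' ∈ W, x' ≠ 1 → ∃ t ∈ H, t * x * t⁻¹ = x')
    {w : Y} (hw : w ∈ W) (hk : ∀ k ∈ K, k * k = e → k * w * k⁻¹ ∈ W) : e * w = w * e := by
  by_cases hw1 : w = 1
  · rw [hw1, one_mul, mul_one]
  obtain ⟨a, ha, b, hb, h1, h2, h3⟩ := hK.com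
  have hne : ∀ k : Y, k * w * k⁻¹ ≠ 1 := fun k h0 => hw1 (by
    have : w = k⁻¹ * (k * w * k⁻¹) * k := by group
    rw [this, h0]; group)
  obtain ⟨s, hs, hs1⟩ := tr w hw hw1 _ (hk a ha h1) (hne a)
  obtain ⟨t, ht, ht1⟩ := tr w hw hw1 _ (hk b hb h2) (hne b)
  have e1 : (a * b) * w * (a * b)⁻¹ = (t * s) * w * (t * s)⁻¹ := by
    calc (a * b) * w * (a * b)⁻¹ = a * (b * w * b⁻¹) * a⁻¹ := by group
      _ = (a * t) * w * (a * t)⁻¹ := by rw [← ht1]; group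
      _ = (t * a) * w * (t * a)⁻¹ := by rw [hHK t ht a ha]
      _ = t * (a * w * a⁻¹) * t⁻¹ := by group
      _ = (t * s) * w * (t * s)⁻¹ := by rw [← hs1]; group
  have e2 : (b * a) * w * (b * a)⁻¹ = (t * s) * w * (t * s)⁻¹ := by
    calc (b * a) * w * (b * a)⁻¹ = b * (a * w * a⁻¹) * b⁻¹ := by group
      _ = (b * s) * w * (b * s)⁻¹ := by rw [← hs1]; group
      _ = (s * b) * w * (s * b)⁻¹ := by rw [hHK s hs b hb]
      _ = s * (b * w * b⁻¹) * s⁻¹ := by group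
      _ = (s * t) * w * (s * t)⁻¹ := by rw [← ht1]; group
      _ = (t * s) * w * (t * s)⁻¹ := by rw [hab s hs t ht]
  have hce : (b * a) * e = e * (b * a) := hK.cen _ (mul_mem hb ha)
  have e3 : e * ((b * a) * w * (b * a)⁻¹) * e⁻¹ = (b * a) * w * (b * a)⁻¹ := by
    rw [h3] at e1
    calc e * ((b * a) * w * (b * a)⁻¹) * e⁻¹ = e * (b * a) * w * (e * (b * a))⁻¹ := by group
      _ = _ := by rw [e1, e2]
  have e4 : e * w * e⁻¹ = w := by
    calc e * w * e⁻¹ = (b * a)⁻¹ * ((b * a) * e) * w * (((b * a) * e))⁻¹ * (b * a) := by group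
      _ = (b * a)⁻¹ * (e * ((b * a) * w * (b * a)⁻¹) * e⁻¹) * (b * a) := by rw [hce]; group
      _ = w := by rw [e3]; group
  calc e * w = (e * w * e⁻¹) * e := by group
    _ = w * e := by rw [e4]

/-- **LEMMA LA, final form**: `K = Q8` preserves `β` on `M`, `|M| < |Z|⁴` or `|M| = |Z|⁴` and there is a line `W` with
`w⊥ ∩ {isotropic} = W` for `1 ≠ w ∈ W`: then `e` centralises `M`. -/
theorem triv [Finite Y] {M Z K H : Subgroup Y} {β : Y → Y → Y} {e : Y} (hK : QK K e) (f : Frm M Z β)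
    (hKM : ∀ k ∈ K, ∀ u ∈ M, k * u * k⁻¹ ∈ M)
    (hinv : ∀ k ∈ K, ∀ u ∈ M, ∀ v ∈ M, β (k * u * k⁻¹) (k * v * k⁻¹) = β u v)
    (hsc : ∀ u ∈ M, β u u ≠ 1 → ∀ z ∈ Z, ∃ u' ∈ M, β u u' = z ∧ (∀ v ∈ M, β u v = 1 → β u' v = 1) ∧
      (e * u * e⁻¹ = u⁻¹ → e * u' * e⁻¹ = u'⁻¹))
    (hab : ∀ h ∈ H, ∀ h' ∈ H, h * h' = h' * h) (hHK : ∀ h ∈ H, ∀ k ∈ K, h * k = k * h)
    (hcase : Nat.card M < Nat.card Z ^ 4 ∨ (Nat.card M = Nat.card Z ^ 4 ∧ ∃ W ≤ M, (∃ w ∈ W, w ≠ 1) ∧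
      (∀ w ∈ W, β w w = 1) ∧ (∀ w ∈ W, w ≠ 1 → ∀ x ∈ M, β w x = 1 → β x x = 1 → x ∈ W) ∧
      ∀ x ∈ W, x ≠ 1 → ∀ x' ∈ W, x' ≠ 1 → ∃ t ∈ H, t * x * t⁻¹ = x')) : ∀ u ∈ M, e * u = u * e := by
  rcases main hK f hKM hinv hsc with h1 | ⟨h1, h2⟩
  · exact h1
  rcases hcase with h3 | ⟨h3, W, hWM, ⟨w, hw, hw1⟩, hi, hwitt, tr⟩
  · omega
  exfalso
  have h4 := h2 h3
  have hwM := hWM hw
  have h5 : e * w = w * e := by
    refine line hK hab hHK tr hw fun k hk hkk => ?_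
    refine hwitt w hw hw1 _ (hKM k hk w hwM) ?_ ?_
    · exact orth f hKM hinv (u := w) ⟨hwM, h4 w hwM⟩ hk hkk
    · rw [hinv k hk w hwM w hwM]
      exact hi w hw
  have h6 := h4 w hwM
  rw [h5] at h6
  have h7 : w = w⁻¹ := by
    rw [← h6]; group
  exact hw1 (f.oddM w hwM (by nth_rw 1 [h7]; group))

end Cfsg.Agent.LOC.LA
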