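import Mathlib
import Cfsg.Agent.Cit.Nil.LO.Wt
import Cfsg.Agent.Cit.Nil.LO.LA

/-!
# Lie odd sections, the chart part: the form `β` on the weight groups with `I(y) = {r, s}` (all types)

`r, s ∈ F` orthogonal, `(y, r) > 0`, `(y, s) > 0`, `(y, t) = 0` for the other `t ∈ F`; `M = MM y`; `m ∈ ⟨Z s, Z (-s)⟩`
interchanges `Z s`, `Z (-s)`, `m ^ 2 = z s`;  `β u v = [u, m v m⁻¹] ∈ Z r`.

* `frm` : `Frm M (Z r) β` : bimultiplicative, symmetric, nondegenerate;
* `conj_mem` : an element of `GG` normalising the `Z (± t)`, `t ∈ F`, normalises `M`;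
* `inv_of_comm` : invariance.
-/

set_option autoImplicit false
set_option linter.unusedSectionVars false
set_option linter.dupNamespace false
set_option linter.unusedVariables false

namespace Cfsg.Agent.LOC.Beta

open CoxeterSystem Cfsg.Agent.ChevalleyStructure.CoxeterGeom Cfsg.Agent.Tits.Roots Cfsg.Agent.Tits.Core
  Cfsg.Agent.Tits.RootComb Cfsg.Agent.Nodes.Comb Cfsg.Agent.Nodes.SubComb Cfsg.Agent.Nodes.Reps
  Cfsg.Agent.Nodes.Coroot Cfsg.Agent.Nodes.PosPair Cfsg.Agent.Nodes.BNOf Cfsg.Agent.Nodes.RGDLib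
  Cfsg.Agent.Nodes.Chart Cfsg.Agent.Nodes.ClsNorm Cfsg.Agent.Nodes.ChartLoc Cfsg.Agent.Nodes.ChartFrame
  Cfsg.Agent.Nodes.Slope Cfsg.Agent.Nodes.Bruhat Cfsg.Agent.LOC.ChartDefs Cfsg.Agent.LOC.Wt Cfsg.Agent.LOC.LA
open scoped commutatorElement

variable {I W Y : Type*} [Fintype I] [DecidableEq I] [Group W] [Fintype W] [Group Y] {M : CoxeterMatrix I}
  {cs : CoxeterSystem M W} {A : I → I → ℤ} {h : IsCartan M A} {p : ℕ} {T : Subgroup Y} {n : I → Y}
  {X : (I → ℤ) → Subgroup Y} {R : Set (I → ℤ)} {Z : (I → ℤ) → Subgroup Y} {z : (I → ℤ) → Y}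

/-- the situation `I(y) = {r, s}` -/
structure Two (cs : CoxeterSystem M W) (h : IsCartan M A) (R F : Set (I → ℤ)) (r s y : I → ℤ) : Prop where
  sub : ∀ t ∈ F, t ∈ R
  neg : ∀ t ∈ F, -t ∈ F
  orth : ∀ t ∈ F, ∀ t' ∈ F, t' ≠ t → t' ≠ -t → form cs h t t' = 0
  hr : r ∈ F
  hs : s ∈ F
  hy : IsRoot cs h y
  yr : 0 < form cs h y r
  ys : 0 < form cs h y s
  rs : form cs h r s = 0
  oth : ∀ t ∈ F, t ≠ r → t ≠ -r → t ≠ s → t ≠ -s → form cs h y t = 0

/-- `m ∈ ⟨Z s, Z (-s)⟩` interchanges the two groups, `m² = z s` -/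
structure Sw (Z : (I → ℤ) → Subgroup Y) (z : (I → ℤ) → Y) (s : I → ℤ) (m : Y) : Prop where
  mem : m ∈ Z s ⊔ Z (-s)
  sw : cj m (Z s) = Z (-s)
  sw' : cj m (Z (-s)) = Z s
  sq : m * m = z s

variable {C : Cls cs h p T n X R Z z} {F : Set (I → ℤ)} {r s y : I → ℤ}

theorem Two.swap (t : Two cs h R F r s y) : Two cs h R F s r y :=
  ⟨t.sub, t.neg, t.orth, t.hs, t.hr, t.hy, t.ys, t.yr, by rw [form_comm]; exact t.rs,
    fun u hu h1 h2 h3 h4 => t.oth u hu h3 h4 h1 h2⟩

section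

variable (C) (t : Two cs h R F r s y)
include t

theorem Two.rR : r ∈ R := t.sub r t.hr
theorem Two.sR : s ∈ R := t.sub s t.hs

include C

/-- the elements of `⟨Z s, Z (-s)⟩` commute with `Z u`, `u ⟂ s` -/
theorem comm_J {u v : I → ℤ} (hu : u ∈ R) (hv : v ∈ R) (h0 : form cs h u v = 0) {g : Y} (hg : g ∈ Z v ⊔ Z (-v))
    {a : Y} (ha : a ∈ Z u) : g * a = a * g := by
  have h1 : Z v ⊔ Z (-v) ≤ Subgroup.centralizer (Z u : Set Y) := by
    refine sup_le (fun b hb => ?_) (fun b hb => ?_)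
    · rw [Subgroup.mem_centralizer_iff]
      intro c hc
      exact (C.cent u hu v (C.root v hv) (by rw [form_comm]; omega) b (C.le v hv hb) c hc).symm
    · rw [Subgroup.mem_centralizer_iff]
      intro c hc
      have hv' := neg_mem C hv
      exact (C.cent u hu (-v) (C.root _ hv') (by rw [form_neg_left, form_comm]; omega) b (C.le _ hv' hb) c hc).symm
  exact (Subgroup.mem_centralizer_iff.1 (h1 hg) a ha).symm

/-- two groups `⟨Z u, Z (-u)⟩`, `⟨Z v, Z (-v)⟩`, `u ⟂ v`, commute -/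
theorem comm_JJ {u v : I → ℤ} (hu : u ∈ R) (hv : v ∈ R) (h0 : form cs h u v = 0) {g : Y} (hg : g ∈ Z v ⊔ Z (-v))
    {a : Y} (ha : a ∈ Z u ⊔ Z (-u)) : g * a = a * g := by
  have h1 : Z u ⊔ Z (-u) ≤ Subgroup.centralizer {g} := by
    refine sup_le (fun b hb => ?_) (fun b hb => ?_)
    · rw [Subgroup.mem_centralizer_singleton_iff]
      exact (comm_J C t hu hv h0 hg hb).symm
    · rw [Subgroup.mem_centralizer_singleton_iff]
      exact (comm_J C t (neg_mem C hu) hv (by rw [form_neg_left]; omega) hg hb).symm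
  have h2 := h1 ha
  rw [Subgroup.mem_centralizer_singleton_iff] at h2
  exact h2.symm

/-- `⟨Z s, Z (-s)⟩` normalises `VV u`, `u ⟂ s` -/
theorem J_le_normalizer {u v : I → ℤ} (hv : v ∈ R) (h0 : form cs h u v = 0) :
    Z v ⊔ Z (-v) ≤ Subgroup.normalizer (VV cs h X u : Set Y) := by
  refine sup_le ((C.le v hv).trans ?_) ((C.le _ (neg_mem C hv)).trans ?_)
  · exact Nodes.CenVV.X_le_normalizer_VV C (C.root v hv) (by rw [form_comm]; exact h0)
  · exact Nodes.CenVV.X_le_normalizer_VV C (C.root _ (neg_mem C hv)) (by rw [form_neg_left, form_comm, h0, neg_zero])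

theorem cj_VV_of_J {u v : I → ℤ} (hv : v ∈ R) (h0 : form cs h u v = 0) {g : Y} (hg : g ∈ Z v ⊔ Z (-v)) :
    cj g (VV cs h X u) = VV cs h X u :=
  mem_normalizer_iff_cj.1 (J_le_normalizer C t hv h0 hg)

/-- an element of `GG` which maps `Z s` to `Z (-s)` maps `VV s` to `VV (-s)` -/
theorem cj_VV_neg {v : I → ℤ} (hv : v ∈ R) {g : Y} (hg : g ∈ GG cs h T X) (h1 : cj g (Z v) = Z (-v)) :
    cj g (VV cs h X v) = VV cs h X (-v) := by
  obtain ⟨w, i, rfl⟩ := C.root v hv
  obtain ⟨k, hk⟩ := exists_rp cs C.rgd.nsys (w * cs.simple i * w⁻¹)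
  have h2 : rep cs h (w * cs.simple i * w⁻¹) (rep cs h w (sr i)) = -rep cs h w (sr i) := by
    rw [rep_mul_apply, rep_mul_apply, rep_inv_apply, rep_simple_sr, map_neg]
  have h3 := conj_Z C hk hv
  have h4 := cj_VV C hk (rep cs h w (sr i))
  rw [h2] at h3 h4
  have hkG : k ∈ GG cs h T X := NN_le_GG C.rgd ⟨_, hk⟩
  have h5 : k⁻¹ * g ∈ Subgroup.normalizer (Z (rep cs h w (sr i)) : Set Y) := by
    rw [mem_normalizer_iff_cj, cj_mul, h1, ← h3, cj_inv_cj]
  have h6 := Nodes.MuSq.mem_normalizer_VV C hv (mul_mem (inv_mem hkG) hg) h5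
  rw [mem_normalizer_iff_cj, cj_mul] at h6
  rw [← h4]
  have h7 := congrArg (cj k) h6
  rwa [cj_cj_inv] at h7

variable [Finite Y]

/-- `M = MM y` by its elements -/
theorem mem_M {u : Y} : u ∈ MM cs h X F y ↔ u ∈ VV cs h X r ∧ u ∈ VV cs h X s ∧
    ∀ v ∈ F, 0 ≤ form cs h y v → ∀ a ∈ Z v, u * a = a * u := by
  rw [mem_MM_iff C t.sub t.hr t.yr]
  constructor
  · rintro ⟨h1, h2⟩
    exact ⟨h1 r t.hr t.yr, h1 s t.hs t.ys, h2⟩
  · rintro ⟨h1, h2, h3⟩
    refine ⟨fun v hv h0 => ?_, h3⟩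
    by_cases e1 : v = r
    · rw [e1]; exact h1
    by_cases e2 : v = s
    · rw [e2]; exact h2
    exfalso
    by_cases e3 : v = -r
    · have := t.yr
      rw [e3, form_neg_right] at h0
      omega
    by_cases e4 : v = -s
    · have := t.ys
      rw [e4, form_neg_right] at h0
      omega
    have := t.oth v hv e1 e3 e2 e4
    omega

theorem M_le_VV : MM cs h X F y ≤ VV cs h X r := fun _ hu => ((mem_M C t).1 hu).1

theorem M_le_VV' : MM cs h X F y ≤ VV cs h X s := fun _ hu => ((mem_M C t).1 hu).2.1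

/-- `Z r ⊓ Z s = 1` -/
theorem eq_one_of_ZZ {a : Y} (h1 : a ∈ Z r) (h2 : a ∈ VV cs h X s) : a = 1 := by
  refine Nodes.CenVV.eq_one_of_normalizes C t.sR h2 ?_
  refine Nodes.ClsNorm.centralizer_le_normalizer' (Z (-s)) ?_
  rw [Subgroup.mem_centralizer_iff]
  intro b hb
  have h3 : form cs h (-s) r = 0 := by
    rw [form_neg_left, form_comm, t.rs, neg_zero]
  exact comm_J C t t.rR (neg_mem C t.sR) (by rw [form_comm]; exact h3)
    (Subgroup.mem_sup_left hb) h1

variable [Fact p.Prime] (hp2 : p ≠ 2)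
include hp2

theorem comm_M {u v : Y} (hu : u ∈ MM cs h X F y) (hv : v ∈ MM cs h X F y) : u * v = v * u := by
  have h1 : ⁅u, v⁆ ∈ Z r := commutator_VV_le C hp2 t.rR
    (Subgroup.commutator_mem_commutator (M_le_VV C t hu) (M_le_VV C t hv))
  have h2 : ⁅u, v⁆ ∈ Z s := commutator_VV_le C hp2 t.sR
    (Subgroup.commutator_mem_commutator (M_le_VV' C t hu) (M_le_VV' C t hv))
  exact commutatorElement_eq_one_iff_mul_comm.1 (eq_one_of_ZZ C t h1 (Z_le_VV C t.sR h2))

omit t in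
theorem eq_one_of_sq_VV {v : I → ℤ} {u : Y} (hu : u ∈ VV cs h X v) (h2 : u * u = 1) : u = 1 := by
  have h3 := odd_card_VV C hp2 v
  have h4 : orderOf (⟨u, hu⟩ : VV cs h X v) ∣ 2 := orderOf_dvd_of_pow_eq_one (by
    apply Subtype.ext
    rw [pow_two]
    exact h2)
  have h5 : orderOf (⟨u, hu⟩ : VV cs h X v) ∣ Nat.card (VV cs h X v) := orderOf_dvd_natCard _
  have h6 : orderOf (⟨u, hu⟩ : VV cs h X v) = 1 := by
    have h7 := Nat.dvd_gcd h4 h5
    rwa [Nat.Coprime.gcd_eq_one (Nat.coprime_two_left.2 h3), Nat.dvd_one] at h7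
  have h8 := orderOf_eq_one_iff.1 h6
  exact congrArg Subtype.val h8

/-- `β u v ∈ Z r` -/
theorem beta_mem {m : Y} (hm : Sw Z z s m) {u v : Y} (hu : u ∈ MM cs h X F y) (hv : v ∈ MM cs h X F y) :
    ⁅u, m * v * m⁻¹⁆ ∈ Z r := by
  refine commutator_VV_le C hp2 t.rR (Subgroup.commutator_mem_commutator (M_le_VV C t hu) ?_)
  have h1 := cj_VV_of_J C t t.sR t.rs hm.mem
  rw [← h1]
  exact conj_mem_cj.2 (M_le_VV C t hv)

omit [Finite Y] [Fact p.Prime] hp2 in
theorem conj_VV {m : Y} (hm : Sw Z z s m) {v : Y} (hv : v ∈ VV cs h X r) : m * v * m⁻¹ ∈ VV cs h X r := by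
  have h1 := cj_VV_of_J C t t.sR t.rs hm.mem
  rw [← h1]
  exact conj_mem_cj.2 hv

omit [Fact p.Prime] hp2 in
/-- `z s` inverts `M` -/
theorem z_inv_M (hcomm : ∀ u ∈ MM cs h X F y, ∀ v ∈ MM cs h X F y, u * v = v * u) {u : Y}
    (hu : u ∈ MM cs h X F y) : z s * u * z s = u⁻¹ := by
  have hz := C.z_sq s t.sR
  have h1 : MM cs h X F y ≤ Me (MM cs h X F y) (z s) hcomm := by
    refine RGD.Sup_le fun x hx a ha => ⟨X_le_MM hx ha, ?_⟩
    have hxs : 0 < form cs h x s := (hx.2 s t.hs).1 t.ys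
    have hxr : 0 < form cs h x r := (hx.2 r t.hr).1 t.yr
    have e1 : x ≠ s := by
      rintro rfl
      have := t.rs
      rw [form_comm] at this
      omega
    have e2 : x ≠ -s := by
      rintro rfl
      have := t.rs
      rw [form_neg_left, form_comm] at hxr
      omega
    have h2 := C.z_inv s t.sR x hx.1 e1 e2 hxs.ne' a ha
    rw [inv_eq_of_mul_eq_one_right hz]
    exact h2
  have h2 := (h1 hu).2
  rwa [inv_eq_of_mul_eq_one_right hz] at h2

/-- symmetry -/
theorem beta_symm {m : Y} (hm : Sw Z z s m) {u v : Y} (hu : u ∈ MM cs h X F y) (hv : v ∈ MM cs h X F y) :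
    ⁅u, m * v * m⁻¹⁆ = ⁅v, m * u * m⁻¹⁆ := by
  have h1 := beta_mem C t hp2 hm hu hv
  have h2 := comm_J C t t.rR t.sR t.rs hm.mem h1
  have h3 : m * ⁅u, m * v * m⁻¹⁆ * m⁻¹ = ⁅u, m * v * m⁻¹⁆ := by rw [h2]; group
  have hz := C.z_sq s t.sR
  have hzi : (z s)⁻¹ = z s := inv_eq_of_mul_eq_one_right hz
  have h4 : m * (m * v * m⁻¹) * m⁻¹ = v⁻¹ := by
    have e1 : m * (m * v * m⁻¹) * m⁻¹ = (m * m) * v * (m * m)⁻¹ := by group
    rw [e1, hm.sq, hzi]
    exact z_inv_M C t (fun a ha b hb => comm_M C t hp2 ha hb) hv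
  have h5 : m * ⁅u, m * v * m⁻¹⁆ * m⁻¹ = ⁅m * u * m⁻¹, v⁻¹⁆ := by
    have e1 : m * ⁅u, m * v * m⁻¹⁆ * m⁻¹ = ⁅m * u * m⁻¹, m * (m * v * m⁻¹) * m⁻¹⁆ := by
      rw [commutatorElement_def, commutatorElement_def]; group
    rw [e1, h4]
  -- `⁅m u m⁻¹, v⁻¹⁆ = ⁅m u m⁻¹, v⁆⁻¹`
  have hmu := conj_VV C t hm (M_le_VV C t hu)
  have h6 : ⁅m * u * m⁻¹, v⁆ ∈ Z r := commutator_VV_le C hp2 t.rR
    (Subgroup.commutator_mem_commutator hmu (M_le_VV C t hv))
  have h7 := VV_comm C t.rR h6 (M_le_VV C t hv)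
  have h8 : ⁅m * u * m⁻¹, v⁻¹⁆ = ⁅m * u * m⁻¹, v⁆⁻¹ := by
    have e1 : ⁅m * u * m⁻¹, v⁻¹⁆ = v⁻¹ * ⁅m * u * m⁻¹, v⁆⁻¹ * v := by
      rw [commutatorElement_def, commutatorElement_def]; group
    rw [e1]
    have e2 : ⁅m * u * m⁻¹, v⁆⁻¹ * v = v * ⁅m * u * m⁻¹, v⁆⁻¹ := by
      rw [inv_mul_eq_iff_eq_mul, ← mul_assoc, h7, mul_assoc, mul_inv_cancel, mul_one]
    rw [mul_assoc, e2, ← mul_assoc, inv_mul_cancel, one_mul]
  rw [← h3, h5, h8, commutatorElement_inv]

omit t in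
/-- two root groups of `VV r` commute if `r` is not between the roots -/
theorem comm_of_not' {r x y : I → ℤ} (hr : r ∈ R) (hx : IsRoot cs h x) (hx0 : 0 < form cs h x r)
    (hy : IsRoot cs h y) (hy0 : 0 < form cs h y r) (hxy : x ≠ y) (hb : ¬ Btwn cs h x y r) {a b : Y}
    (ha : a ∈ X x) (hb' : b ∈ X y) : a * b = b * a := by
  obtain ⟨w, hw⟩ := exists_dominant (cs := cs) (h := h) r
  obtain ⟨k, hk⟩ := exists_rp cs C.rgd.nsys w
  have h1 := Nodes.CenVV.comm_of_not C hp2 (C.act r hr w) hw (hx.act w) (by rw [form_rep]; exact hx0) (hy.act w)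
    (by rw [form_rep]; exact hy0) (fun e => hxy (by
      have := congrArg (rep cs h w⁻¹) e
      rwa [rep_inv_apply, rep_inv_apply] at this)) (fun hB => hb ((btwn_act_iff w).1 hB))
    (C.rgd.conj_mem hk hx ha) (C.rgd.conj_mem hk hy hb')
  have h2 : k * (a * b) * k⁻¹ = k * (b * a) * k⁻¹ := by
    have e1 : k * (a * b) * k⁻¹ = k * a * k⁻¹ * (k * b * k⁻¹) := by group
    have e2 : k * (b * a) * k⁻¹ = k * b * k⁻¹ * (k * a * k⁻¹) := by group
    rw [e1, e2, h1]
  exact mul_left_cancel (mul_right_cancel h2)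

/-- multiplicativity on the left -/
theorem beta_mul_left {m : Y} (hm : Sw Z z s m) {u u' v : Y} (hu : u ∈ MM cs h X F y) (hu' : u' ∈ MM cs h X F y)
    (hv : v ∈ MM cs h X F y) : ⁅u * u', m * v * m⁻¹⁆ = ⁅u, m * v * m⁻¹⁆ * ⁅u', m * v * m⁻¹⁆ := by
  have h1 := beta_mem C t hp2 hm hu hv
  have h2 := beta_mem C t hp2 hm hu' hv
  have h3 := VV_comm C t.rR h2 (M_le_VV C t hu)
  have h4 : ⁅u * u', m * v * m⁻¹⁆ = u * ⁅u', m * v * m⁻¹⁆ * u⁻¹ * ⁅u, m * v * m⁻¹⁆ := by
    rw [commutatorElement_def, commutatorElement_def, commutatorElement_def]; group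
  have h5 : ⁅u', m * v * m⁻¹⁆ * ⁅u, m * v * m⁻¹⁆ = ⁅u, m * v * m⁻¹⁆ * ⁅u', m * v * m⁻¹⁆ :=
    VV_comm C t.rR h2 (Z_le_VV C t.rR h1)
  rw [h4, ← h3, mul_assoc _ u, mul_inv_cancel, mul_one, h5]

/-- multiplicativity on the right -/
theorem beta_mul_right {m : Y} (hm : Sw Z z s m) {u v v' : Y} (hu : u ∈ MM cs h X F y) (hv : v ∈ MM cs h X F y)
    (hv' : v' ∈ MM cs h X F y) : ⁅u, m * (v * v') * m⁻¹⁆ = ⁅u, m * v * m⁻¹⁆ * ⁅u, m * v' * m⁻¹⁆ := by
  have h2 := beta_mem C t hp2 hm hu hv'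
  have h3 := VV_comm C t.rR h2 (conj_VV C t hm (M_le_VV C t hv))
  have h4 : ⁅u, m * (v * v') * m⁻¹⁆ =
      ⁅u, m * v * m⁻¹⁆ * ((m * v * m⁻¹) * ⁅u, m * v' * m⁻¹⁆ * (m * v * m⁻¹)⁻¹) := by
    rw [commutatorElement_def, commutatorElement_def, commutatorElement_def]; group
  rw [h4, ← h3, mul_assoc _ (m * v * m⁻¹), mul_inv_cancel, mul_one]

/-- nondegeneracy -/
theorem beta_nd (L : Nodes.CenVV.Lg cs h r) {m : Y} (hm : Sw Z z s m) {u : Y} (hu : u ∈ MM cs h X F y)
    (hn : ∀ v ∈ MM cs h X F y, ⁅u, m * v * m⁻¹⁆ = 1) : u = 1 := by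
  have hmG : m ∈ GG cs h T X := sup_le_GG C t.sR hm.mem
  -- `u` commutes with `VV r`
  have h1 : VV cs h X r ≤ Subgroup.centralizer {u} := by
    refine RGD.Sup_le fun x hx b hb => ?_
    rw [Subgroup.mem_centralizer_singleton_iff]
    by_cases hcase : ∃ x' ∈ Lam cs h F y, Btwn cs h x' x r
    · obtain ⟨x', hx', hB⟩ := hcase
      have hxs' : 0 < form cs h x' s := (hx'.2 s t.hs).1 t.ys
      have hxr' : 0 < form cs h x' r := (hx'.2 r t.hr).1 t.yr
      have hsr : form cs h s r = 0 := by rw [form_comm]; exact t.rs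
      have e1 : x' ≠ r := by
        rintro rfl
        rw [t.rs] at hxs'
        exact lt_irrefl _ hxs'
      have e2 : x ≠ r := by
        rintro rfl
        obtain ⟨-, k, i, j, hk, hi, hj, e⟩ := hB
        have h3 := congrArg (fun v => form cs h v s) e
        simp only [form_add_left, form_smul_left, t.rs, mul_zero, add_zero] at h3
        have := mul_pos hi hxs'
        omega
      have h3 := L.opp hx'.1 hxr' e1 hx.1 hx.2 e2 hB
      have hxs : form cs h x s = -form cs h x' s := by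
        have := congrArg (fun v => form cs h v s) h3
        simp only [form_add_left, t.rs] at this
        omega
      -- `b ∈ m M m⁻¹`
      have h4 : m⁻¹ * b * m ∈ MM cs h X F y := by
        have hbr : b ∈ VV cs h X r := RGD.le_Sup (S := {y | IsRoot cs h y ∧ 0 < form cs h y r}) ⟨hx.1, hx.2⟩ hb
        have hbs : b ∈ VV cs h X (-s) := RGD.le_Sup (S := {y | IsRoot cs h y ∧ 0 < form cs h y (-s)})
          ⟨hx.1, by rw [form_neg_right]; omega⟩ hb
        rw [mem_M C t]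
        refine ⟨?_, ?_, fun v hv h0 a ha => ?_⟩
        · have h5 := cj_VV_of_J C t t.sR t.rs hm.mem
          rw [← h5, mem_cj] at hbr
          exact hbr
        · have h5 := cj_VV_neg C t t.sR hmG hm.sw
          rw [← h5, mem_cj] at hbs
          exact hbs
        · -- commute with `Z v`
          have key : b * (m * a * m⁻¹) = m * a * m⁻¹ * b := by
            by_cases e3 : v = r
            · subst e3
              have h5 := comm_J C t t.rR t.sR t.rs hm.mem ha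
              rw [h5, mul_inv_cancel_right]
              exact (VV_comm C t.rR ha hbr).symm
            by_cases e4 : v = s
            · subst e4
              have h5 : m * a * m⁻¹ ∈ Z (-v) := by
                rw [← hm.sw]; exact conj_mem_cj.2 ha
              exact (VV_comm C (neg_mem C t.sR) h5 hbs).symm
            by_cases e5 : v = -r
            · have := t.yr
              rw [e5, form_neg_right] at h0
              omega
            by_cases e6 : v = -s
            · have := t.ys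
              rw [e6, form_neg_right] at h0
              omega
            have h6 := t.oth v hv e3 e5 e4 e6
            have h7 : form cs h x' v = 0 := by
              have h8 := (hx'.2 v hv).2 h0
              have h9 := (hx'.2 (-v) (t.neg v hv)).2 (by rw [form_neg_right]; omega)
              rw [form_neg_right] at h9
              omega
            have h8 : form cs h r v = 0 := t.orth r t.hr v hv e3 e5
            have h9 : form cs h x v = 0 := by
              have := congrArg (fun u => form cs h u v) h3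
              simp only [form_add_left, h8, h7] at this
              omega
            have h10 : form cs h s v = 0 := t.orth s t.hs v hv e4 e6
            have h11 := comm_J C t (t.sub v hv) t.sR (by rw [form_comm]; exact h10) hm.mem ha
            rw [h11, mul_inv_cancel_right]
            exact C.cent v (t.sub v hv) x hx.1 (by omega) b hb a ha
          calc m⁻¹ * b * m * a = m⁻¹ * (b * (m * a * m⁻¹)) * m := by group
            _ = m⁻¹ * (m * a * m⁻¹ * b) * m := by rw [key]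
            _ = a * (m⁻¹ * b * m) := by group
      have h5 := hn _ h4
      have h6 : m * (m⁻¹ * b * m) * m⁻¹ = b := by group
      rw [h6] at h5
      exact (commutatorElement_eq_one_iff_mul_comm.1 h5).symm
    · push Not at hcase
      have h3 : MM cs h X F y ≤ Subgroup.centralizer {b} := by
        refine RGD.Sup_le fun x' hx' a ha => ?_
        rw [Subgroup.mem_centralizer_singleton_iff]
        have hxr' : 0 < form cs h x' r := (hx'.2 r t.hr).1 t.yr
        by_cases e1 : x' = x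
        · subst e1
          have e2 : x' ≠ r := by
            rintro rfl
            have := (hx'.2 s t.hs).1 t.ys
            rw [t.rs] at this
            exact lt_irrefl _ this
          have e3 : x' ≠ -r := by
            rintro rfl
            rw [form_neg_left] at hxr'
            have := form_pos cs h (C.root r t.rR).ne_zero
            omega
          exact Nodes.CenVV.X_comm C t.rR hx'.1 e2 e3 hxr'.ne' ha hb
        · exact comm_of_not' C hp2 t.rR hx'.1 hxr' hx.1 hx.2 e1 (hcase x' hx') ha hb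
      have h4 := h3 hu
      rw [Subgroup.mem_centralizer_singleton_iff] at h4
      exact h4.symm
  have h2 : u ∈ X r := by
    refine Nodes.CenVV.mem_X C hp2 L t.rR (M_le_VV C t hu) fun v hv => ?_
    have h3 := h1 hv
    rw [Subgroup.mem_centralizer_singleton_iff] at h3
    exact h3.symm
  refine Nodes.CenVV.eq_one_of_normalizes C t.sR (M_le_VV' C t hu) ?_
  refine Nodes.ClsNorm.centralizer_le_normalizer' (Z (-s)) ?_
  rw [Subgroup.mem_centralizer_iff]
  intro b hb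
  exact (C.cent (-s) (neg_mem C t.sR) r (C.root r t.rR) (by rw [form_neg_right, t.rs]; simp) u h2 b hb).symm

/-- **the form** -/
theorem frm (L : Nodes.CenVV.Lg cs h r) {m : Y} (hm : Sw Z z s m) :
    Frm (MM cs h X F y) (Z r) (fun u v => ⁅u, m * v * m⁻¹⁆) where
  commM u hu v hv := comm_M C t hp2 hu hv
  commZ u hu v hv := VV_comm C t.rR hu (Z_le_VV C t.rR hv)
  oddM u hu h2 := eq_one_of_sq_VV C hp2 (M_le_VV C t hu) h2
  oddZ u hu h2 := eq_one_of_sq_VV C hp2 (Z_le_VV C t.rR hu) h2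
  mem u hu v hv := beta_mem C t hp2 hm hu hv
  mul_left u hu u' hu' v hv := beta_mul_left C t hp2 hm hu hu' hv
  mul_right u hu v hv v' hv' := beta_mul_right C t hp2 hm hu hv hv'
  symm u hu v hv := beta_symm C t hp2 hm hu hv
  nd u hu hn := beta_nd C t hp2 L hm hu hn

end

/-! ### Equivariance -/

section Equi

/-- an element commuting with `m` acts diagonally -/
theorem beta_conj {g m u v : Y} (hg : g * m = m * g) :
    ⁅g * u * g⁻¹, m * (g * v * g⁻¹) * m⁻¹⁆ = g * ⁅u, m * v * m⁻¹⁆ * g⁻¹ := by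
  have h1 : m * (g * v * g⁻¹) * m⁻¹ = g * (m * v * m⁻¹) * g⁻¹ := by
    calc m * (g * v * g⁻¹) * m⁻¹ = (m * g) * v * (m * g)⁻¹ := by group
      _ = (g * m) * v * (g * m)⁻¹ := by rw [hg]
      _ = _ := by group
  rw [h1, commutatorElement_def, commutatorElement_def]
  group

/-- an element inverted by `m` is self-adjoint, if it centralises the values -/
theorem beta_adj {g m u v : Y} (hg : m * g = g⁻¹ * m) (hc : g * ⁅u, m * (g * v * g⁻¹) * m⁻¹⁆ =
    ⁅u, m * (g * v * g⁻¹) * m⁻¹⁆ * g) : ⁅g * u * g⁻¹, m * v * m⁻¹⁆ = ⁅u, m * (g * v * g⁻¹) * m⁻¹⁆ := by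
  have h1 : m * (g * v * g⁻¹) * m⁻¹ = g⁻¹ * (m * v * m⁻¹) * g := by
    calc m * (g * v * g⁻¹) * m⁻¹ = (m * g) * v * (m * g)⁻¹ := by group
      _ = (g⁻¹ * m) * v * (g⁻¹ * m)⁻¹ := by rw [hg]
      _ = _ := by group
  have h2 : ⁅g * u * g⁻¹, m * v * m⁻¹⁆ = g * ⁅u, m * (g * v * g⁻¹) * m⁻¹⁆ * g⁻¹ := by
    rw [h1, commutatorElement_def, commutatorElement_def]
    group
  rw [h2, hc, mul_inv_cancel_right]

/-- elements normalising the `Z v`, `v ∈ F`, and the `VV r`, `VV s` normalise `M` -/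
theorem conj_mem [Finite Y] (C : Cls cs h p T n X R Z z) (t : Two cs h R F r s y) {g : Y}
    (hg : ∀ v ∈ F, cj g (Z v) = Z v) (hr : cj g (VV cs h X r) = VV cs h X r)
    (hs : cj g (VV cs h X s) = VV cs h X s) {u : Y} (hu : u ∈ MM cs h X F y) :
    g * u * g⁻¹ ∈ MM cs h X F y := by
  rw [mem_M C t] at hu ⊢
  obtain ⟨h1, h2, h3⟩ := hu
  refine ⟨?_, ?_, fun v hv h0 a ha => ?_⟩
  · rw [← hr]; exact conj_mem_cj.2 h1
  · rw [← hs]; exact conj_mem_cj.2 h2
  · have h4 : g⁻¹ * a * g ∈ Z v := by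
      rw [← hg v hv, mem_cj] at ha
      exact ha
    have h5 := h3 v hv h0 _ h4
    calc g * u * g⁻¹ * a = g * (u * (g⁻¹ * a * g)) * g⁻¹ := by group
      _ = g * (g⁻¹ * a * g * u) * g⁻¹ := by rw [h5]
      _ = a * (g * u * g⁻¹) := by group

end Equi

end Cfsg.Agent.LOC.Beta
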