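import Mathlib
import Cfsg.Agent.Cit.Nil.LO.Beta
import Cfsg.Agent.Cit.Nil.LO.Tor
import Cfsg.Agent.Cit.ParabSL2Opp
import Cfsg.Agent.Nodes.StdConn
import Cfsg.Agent.Nodes.FreeTorus

/-!
# Lie odd sections, the chart part: `I(y) = {r, s}`, the tori, and the final form (all types)

`⟨Z r, Z (-r)⟩ ≅ SL(2, 𝔽)`, coordinates `e` with `root e = Z r`, `rootOp e = Z (-r)`; `TT e` the image of the diagonal
matrices, `mm e` the image of `wm 1`.

* `exists_crd` : coordinates;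
* `Crd.sw` : `Sw Z z s (mm e)`;
* `Crd.gen` : `Z r` is generated by each nontrivial `TT`-orbit;
* `TT_le_T` : `TT e = T ⊓ ⟨Z r, Z (-r)⟩` if there is a line;
* `same_MM` : `TT er`, `TT es` induce the same group on `M`;
* `triv_MM` : LEMMA LA in a chart.
-/

set_option autoImplicit false
set_option linter.unusedSectionVars false
set_option linter.dupNamespace false
set_option linter.unusedVariables false

namespace Cfsg.Agent.LOC.BetaTor

open CoxeterSystem Cfsg.Agent.ChevalleyStructure.CoxeterGeom Cfsg.Agent.Tits.Roots Cfsg.Agent.Tits.Core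
  Cfsg.Agent.Tits.RootComb Cfsg.Agent.Nodes.Comb Cfsg.Agent.Nodes.SubComb Cfsg.Agent.Nodes.Reps
  Cfsg.Agent.Nodes.Coroot Cfsg.Agent.Nodes.PosPair Cfsg.Agent.Nodes.BNOf Cfsg.Agent.Nodes.RGDLib
  Cfsg.Agent.Nodes.Chart Cfsg.Agent.Nodes.ClsNorm Cfsg.Agent.Nodes.ChartLoc Cfsg.Agent.Nodes.ChartFrame
  Cfsg.Agent.Nodes.Slope Cfsg.Agent.Nodes.Bruhat Cfsg.Agent.LOC.ChartDefs Cfsg.Agent.LOC.Wt Cfsg.Agent.LOC.LA
  Cfsg.Agent.LOC.Beta
open Cfsg.Agent.Cit.ParabSL2 Cfsg.Agent.Lib.SL2Mat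
open scoped commutatorElement

/-! ### `SL(2, 𝔽)` -/

section SL

variable {G : Type*} [Group G] {F : Type*} [Field F] {K : Subgroup G}

/-- the torus -/
def TT (e : Matrix.SpecialLinearGroup (Fin 2) F ≃* K) : Subgroup G where
  carrier := {x | ∃ (l : F) (hl : l ≠ 0), (e (dg l hl) : G) = x}
  one_mem' := ⟨1, one_ne_zero, by
    have h1 : dg (1 : F) one_ne_zero = 1 := ext_ent rfl rfl rfl (by rw [dg_11, ent_one_11, inv_one])
    rw [h1, map_one]; rfl⟩
  mul_mem' := by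
    rintro _ _ ⟨l, hl, rfl⟩ ⟨m, hm, rfl⟩
    refine ⟨l * m, mul_ne_zero hl hm, ?_⟩
    rw [← Subgroup.coe_mul, ← map_mul]
    congr 2
    refine ext_ent ?_ ?_ ?_ ?_ <;> simp only [ent_mul, dg_00, dg_01, dg_10, dg_11] <;> field_simp <;> ring
  inv_mem' := by
    rintro _ ⟨l, hl, rfl⟩
    refine ⟨l⁻¹, inv_ne_zero hl, ?_⟩
    rw [← Subgroup.coe_inv, ← map_inv]
    congr 2
    refine ext_ent ?_ ?_ ?_ ?_ <;> simp [ent_inv]

theorem mem_TT {e : Matrix.SpecialLinearGroup (Fin 2) F ≃* K} {x : G} :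
    x ∈ TT e ↔ ∃ (l : F) (hl : l ≠ 0), (e (dg l hl) : G) = x := Iff.rfl

theorem TT_le (e : Matrix.SpecialLinearGroup (Fin 2) F ≃* K) : TT e ≤ K := by
  rintro _ ⟨l, hl, rfl⟩
  exact (e _).2

theorem TT_comm {e : Matrix.SpecialLinearGroup (Fin 2) F ≃* K} {x y : G} (hx : x ∈ TT e) (hy : y ∈ TT e) :
    x * y = y * x := by
  obtain ⟨l, hl, rfl⟩ := hx
  obtain ⟨m, hm, rfl⟩ := hy
  rw [← Subgroup.coe_mul, ← map_mul, ← Subgroup.coe_mul, ← map_mul]
  congr 2
  refine ext_ent ?_ ?_ ?_ ?_ <;> simp only [ent_mul, dg_00, dg_01, dg_10, dg_11] <;> ring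

/-- the Weyl element -/
def mm (e : Matrix.SpecialLinearGroup (Fin 2) F ≃* K) : G := (e (wm 1 one_ne_zero) : G)

theorem mm_mem (e : Matrix.SpecialLinearGroup (Fin 2) F ≃* K) : mm e ∈ K := (e _).2

theorem mm_inv {e : Matrix.SpecialLinearGroup (Fin 2) F ≃* K} {x : G} (hx : x ∈ TT e) :
    mm e * x = x⁻¹ * mm e := by
  obtain ⟨l, hl, rfl⟩ := hx
  rw [eq_inv_mul_iff_mul_eq]
  unfold mm
  rw [← Subgroup.coe_mul, ← map_mul, ← Subgroup.coe_mul, ← map_mul]
  congr 2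
  refine ext_ent ?_ ?_ ?_ ?_ <;>
    simp only [ent_mul, dg_00, dg_01, dg_10, dg_11, wm_00, wm_01, wm_10, wm_11] <;> field_simp <;> ring

theorem mm_sq (e : Matrix.SpecialLinearGroup (Fin 2) F ≃* K) : mm e * mm e = (e (-1) : G) := by
  unfold mm
  rw [← Subgroup.coe_mul, ← map_mul]
  congr 2
  have e0 : ent (-1 : Matrix.SpecialLinearGroup (Fin 2) F) 0 0 = -1 := by simp [ent]
  have e1 : ent (-1 : Matrix.SpecialLinearGroup (Fin 2) F) 0 1 = 0 := by simp [ent]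
  have e2 : ent (-1 : Matrix.SpecialLinearGroup (Fin 2) F) 1 0 = 0 := by simp [ent]
  have e3 : ent (-1 : Matrix.SpecialLinearGroup (Fin 2) F) 1 1 = -1 := by simp [ent]
  refine ext_ent ?_ ?_ ?_ ?_
  · rw [ent_mul, e0, wm_00, wm_01, wm_10]; simp
  · rw [ent_mul, e1, wm_00, wm_01, wm_11]; simp
  · rw [ent_mul, e2, wm_10, wm_11, wm_00]; simp
  · rw [ent_mul, e3, wm_10, wm_11, wm_01]; simp

theorem cj_mm_root (e : Matrix.SpecialLinearGroup (Fin 2) F ≃* K) : cj (mm e) (root e) = rootOp e := rfl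

theorem cj_mm_rootOp (e : Matrix.SpecialLinearGroup (Fin 2) F ≃* K) : cj (mm e) (rootOp e) = root e := by
  rw [← cj_mm_root, ← cj_mul, mm_sq]
  ext x
  rw [mem_cj]
  have hc : ∀ k : K, (e (-1) : G) * (k : G) = (k : G) * (e (-1) : G) := by
    intro k
    obtain ⟨M, rfl⟩ := e.surjective k
    rw [← Subgroup.coe_mul, ← Subgroup.coe_mul, ← map_mul, ← map_mul, neg_one_mul, mul_neg_one]
  constructor
  · intro hx
    have h1 := hc ⟨_, root_le e hx⟩
    have h2 : x = (e (-1) : G) * ((e (-1) : G)⁻¹ * x * (e (-1) : G)) * (e (-1) : G)⁻¹ := by group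
    rw [h2]
    change (e (-1) : G) * ((e (-1) : G)⁻¹ * x * (e (-1) : G)) = ((e (-1) : G)⁻¹ * x * (e (-1) : G)) * (e (-1) : G) at h1
    rw [h1, mul_inv_cancel_right]
    exact hx
  · intro hx
    have h1 := hc ⟨_, root_le e hx⟩
    change (e (-1) : G) * x = x * (e (-1) : G) at h1
    have h2 : (e (-1) : G)⁻¹ * x * (e (-1) : G) = x := by
      rw [mul_assoc, ← h1]; group
    rw [h2]
    exact hx

theorem TT_root {e : Matrix.SpecialLinearGroup (Fin 2) F ≃* K} {x : G} (hx : x ∈ TT e) :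
    cj x (root e) = root e := by
  have key : ∀ x ∈ TT e, cj x (root e) ≤ root e := by
    rintro _ ⟨l, hl, rfl⟩ a ha
    rw [mem_cj] at ha
    obtain ⟨b, hb⟩ := mem_root.1 ha
    refine mem_root.2 ⟨l ^ 2 * b, ?_⟩
    have h1 : a = (e (dg l hl) : G) * (e (up b) : G) * (e (dg l hl) : G)⁻¹ := by rw [hb]; group
    rw [h1, eq_mul_inv_iff_mul_eq, ← Subgroup.coe_mul, ← map_mul, ← Subgroup.coe_mul, ← map_mul, dg_up]
  refine le_antisymm (key x hx) ?_
  have h1 := cj_mono x (key x⁻¹ (inv_mem hx))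
  rwa [cj_cj_inv] at h1

theorem TT_rootOp {e : Matrix.SpecialLinearGroup (Fin 2) F ≃* K} {x : G} (hx : x ∈ TT e) :
    cj x (rootOp e) = rootOp e := by
  rw [← cj_mm_root, ← cj_mul]
  have h1 := mm_inv (inv_mem hx)
  rw [inv_inv] at h1
  rw [← h1, cj_mul, TT_root (inv_mem hx)]

/-- `root e` is generated by each nontrivial orbit of the torus -/
theorem root_le_closure (h2 : (2 : F) ≠ 0) (e : Matrix.SpecialLinearGroup (Fin 2) F ≃* K) {s : G} (hs : s ∈ root e)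
    (hs1 : s ≠ 1) : root e ≤ Subgroup.closure {x | ∃ t ∈ TT e, x = t * s * t⁻¹} := by
  obtain ⟨c, rfl⟩ := mem_root.1 hs
  have hc : c ≠ 0 := by
    rintro rfl
    apply hs1
    rw [up_zero, map_one]; rfl
  set P := Subgroup.closure {x : G | ∃ t ∈ TT e, x = t * (e (up c) : G) * t⁻¹} with hP
  have h1 : ∀ a : F, (e (up (a ^ 2 * c)) : G) ∈ P := by
    intro a
    by_cases ha : a = 0
    · subst ha
      have : up ((0 : F) ^ 2 * c) = 1 := by rw [zero_pow two_ne_zero, zero_mul, up_zero]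
      rw [this, map_one]
      exact one_mem _
    · refine Subgroup.subset_closure ⟨(e (dg a ha) : G), ⟨a, ha, rfl⟩, ?_⟩
      rw [eq_mul_inv_iff_mul_eq, ← Subgroup.coe_mul, ← map_mul, ← Subgroup.coe_mul, ← map_mul, dg_up]
  intro x hx
  obtain ⟨b, rfl⟩ := mem_root.1 hx
  have h4 : (4 : F) ≠ 0 := by
    have : (4 : F) = 2 * 2 := by norm_num
    rw [this]; exact mul_ne_zero h2 h2
  set d := b / (4 * c) with hd
  have h3 := mul_mem (h1 (d + 1)) (inv_mem (h1 (d - 1)))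
  have h5 : (e (up ((d + 1) ^ 2 * c)) : G) * (e (up ((d - 1) ^ 2 * c)) : G)⁻¹ = (e (up b) : G) := by
    rw [mul_inv_eq_iff_eq_mul, ← Subgroup.coe_mul, ← map_mul, up_mul]
    congr 3
    rw [hd]; field_simp; ring
  rwa [h5] at h3

/-- the elements normalising `root e` and `rootOp e` -/
theorem mem_TT_of {e : Matrix.SpecialLinearGroup (Fin 2) F ≃* K} {x : G} (hx : x ∈ K) (h1 : cj x (root e) = root e)
    (h2 : cj x (rootOp e) = rootOp e) : x ∈ TT e := by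
  obtain ⟨g, hg⟩ : ∃ g, (e g : G) = x := ⟨e.symm ⟨x, hx⟩, by rw [MulEquiv.apply_symm_apply]⟩
  subst hg
  have k1 : (e g : G) * (e (up 1) : G) * (e g : G)⁻¹ ∈ root e := by
    rw [← h1]; exact conj_mem_cj.2 (mem_root.2 ⟨1, rfl⟩)
  have k2 : (e g : G) * (e (lo 1) : G) * (e g : G)⁻¹ ∈ rootOp e := by
    rw [← h2]; exact conj_mem_cj.2 (mem_rootOp.2 ⟨1, rfl⟩)
  obtain ⟨b, hb⟩ := mem_root.1 k1
  obtain ⟨c, hc⟩ := mem_rootOp.1 k2
  rw [eq_mul_inv_iff_mul_eq, ← Subgroup.coe_mul, ← Subgroup.coe_mul, ← map_mul, ← map_mul] at hb hc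
  have l1 := e.injective (Subtype.ext hb)
  have l2 := e.injective (Subtype.ext hc)
  have l3 := congrArg (fun x => ent x 1 1) l1
  have l4 := congrArg (fun x => ent x 0 0) l2
  simp only [ent_mul, up_00, up_01, up_10, up_11, lo_00, lo_01, lo_10, lo_11] at l3 l4
  have m10 : ent g 1 0 = 0 := by linear_combination -l3
  have m01 : ent g 0 1 = 0 := by linear_combination -l4
  have hd := det_eq g
  rw [m10, mul_zero, sub_zero] at hd
  have h00 : ent g 0 0 ≠ 0 := left_ne_zero_of_mul_eq_one hd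
  refine ⟨ent g 0 0, h00, ?_⟩
  congr 2
  refine ext_ent ?_ ?_ ?_ ?_
  · rw [dg_00]
  · rw [dg_01, m01]
  · rw [dg_10, m10]
  · rw [dg_11]
    exact (eq_inv_of_mul_eq_one_right hd).symm

theorem card_TT [Finite F] (e : Matrix.SpecialLinearGroup (Fin 2) F ≃* K) : Nat.card (TT e) = Nat.card F - 1 := by
  have h1 : Nat.card (TT e) = Nat.card Fˣ := by
    refine (Nat.card_congr (Equiv.ofBijective (fun l : Fˣ => (⟨_, ⟨(l : F), l.ne_zero, rfl⟩⟩ : TT e)) ⟨?_, ?_⟩)).symm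
    · intro l m hlm
      have h3 : (e (dg (l : F) l.ne_zero) : G) = (e (dg (m : F) m.ne_zero) : G) := congrArg (fun x : TT e => (x : G)) hlm
      have h2 := e.injective (Subtype.ext h3)
      exact Units.ext (congrArg (fun x => ent x 0 0) h2)
    · rintro ⟨_, l, hl, rfl⟩
      exact ⟨Units.mk0 l hl, rfl⟩
  rw [h1, Nat.card_units]

end SL

/-! ### Coordinates in a chart -/

variable {I W Y : Type*} [Fintype I] [DecidableEq I] [Group W] [Fintype W] [Group Y] {M : CoxeterMatrix I}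
  {cs : CoxeterSystem M W} {A : I → I → ℤ} {h : IsCartan M A} {p : ℕ} {T : Subgroup Y} {n : I → Y}
  {X : (I → ℤ) → Subgroup Y} {R : Set (I → ℤ)} {Z : (I → ℤ) → Subgroup Y} {z : (I → ℤ) → Y}

/-- coordinates of `⟨Z r, Z (-r)⟩` -/
structure Crd {F : Type*} [Field F] (Z : (I → ℤ) → Subgroup Y) (r : I → ℤ)
    (e : Matrix.SpecialLinearGroup (Fin 2) F ≃* ↥(Z r ⊔ Z (-r))) : Prop where
  rt : root e = Z r
  ro : rootOp e = Z (-r)

section Coord

variable {𝔽 : Type*} [Field 𝔽] [Fintype 𝔽] (C : Cls cs h p T n X R Z z) {r : I → ℤ}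
include C

theorem card_neg (hr : r ∈ R) : Nat.card (Z (-r)) = Nat.card (Z r) := by
  obtain ⟨w, i, rfl⟩ := C.root r hr
  obtain ⟨k, hk⟩ := exists_rp cs C.rgd.nsys (w * cs.simple i * w⁻¹)
  have h2 : rep cs h (w * cs.simple i * w⁻¹) (rep cs h w (sr i)) = -rep cs h w (sr i) := by
    rw [rep_mul_apply, rep_mul_apply, rep_inv_apply, rep_simple_sr, map_neg]
  have h3 := conj_Z C hk hr
  rw [h2] at h3
  rw [← h3]
  exact Nodes.FreeTorus.card_cj _ _

theorem exists_crd [Fact p.Prime] [Finite Y] [CharP 𝔽 p] (hp2 : p ≠ 2) (hr : r ∈ R)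
    (e : Matrix.SpecialLinearGroup (Fin 2) 𝔽 ≃* ↥(Z r ⊔ Z (-r))) :
    ∃ e' : Matrix.SpecialLinearGroup (Fin 2) 𝔽 ≃* ↥(Z r ⊔ Z (-r)), Crd Z r e' := by
  have h1 := card_Z C hp2 hr e
  have hne : Z (-r) ≠ Z r := by
    intro h0
    have h2 := Z_injective C (neg_mem C hr) hr h0
    have h3 := form_pos cs h (C.root r hr).ne_zero
    have h4 : form cs h (-r) r = form cs h r r := by rw [h2]
    rw [form_neg_left] at h4
    omega
  obtain ⟨e', h2, h3⟩ := exists_equiv_pair e (le_sup_left : Z r ≤ _) h1 (le_sup_right : Z (-r) ≤ _)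
    (by rw [card_neg C hr, h1]) hne
  exact ⟨e', h2, h3⟩

/-- the Weyl element interchanges `Z r`, `Z (-r)`, and its square is `z r` -/
theorem Crd.sw (hodd : Odd (Fintype.card 𝔽)) (hp : p.Prime) (hp2 : p ≠ 2) {y : I → ℤ} (hr : r ∈ R) (hy : IsRoot cs h y)
    (h1 : y ≠ r) (h1' : y ≠ -r) (h3 : form cs h y r ≠ 0)
    {e : Matrix.SpecialLinearGroup (Fin 2) 𝔽 ≃* ↥(Z r ⊔ Z (-r))} (c : Crd Z r e) : Sw Z z r (mm e) where
  mem := mm_mem e
  sw := by
    have h4 := cj_mm_root e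
    rwa [c.rt, c.ro] at h4
  sw' := by
    have h4 := cj_mm_rootOp e
    rwa [c.rt, c.ro] at h4
  sq := by
    rw [mm_sq]
    have hz1 := Nodes.StdConn.z_ne_one C hp hp2 hr hy h1 h1' h3
    have hzz := C.z_sq r hr
    set g := e.symm ⟨z r, C.z_mem r hr⟩ with hg
    have hgz : (e g : Y) = z r := by rw [hg, MulEquiv.apply_symm_apply]
    have h4 : g ≠ 1 := by
      intro h0
      apply hz1
      rw [← hgz, h0, map_one]; rfl
    have h5 : g * g = 1 := by
      apply e.injective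
      apply Subtype.ext
      rw [map_mul, map_one, Subgroup.coe_mul, hgz, hzz]; rfl
    have h6 : orderOf g = 2 := by
      apply orderOf_eq_prime
      · rw [pow_two, h5]
      · exact h4
    have h7 := Cfsg.Agent.TwoFusion.QuatCoverSL.eq_neg_one_of_orderOf_two hodd g h6
    rw [← h7, hgz]

/-- an element of `⟨Z r, Z (-r)⟩` normalising `Z r` normalises `VV r` -/
theorem TT_VV {e : Matrix.SpecialLinearGroup (Fin 2) 𝔽 ≃* ↥(Z r ⊔ Z (-r))} (hr : r ∈ R) (c : Crd Z r e) {g : Y}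
    (hg : g ∈ TT e) : cj g (VV cs h X r) = VV cs h X r := by
  have h1 := TT_root hg
  rw [c.rt] at h1
  exact mem_normalizer_iff_cj.1 (Nodes.MuSq.mem_normalizer_VV C hr (sup_le_GG C hr (TT_le e hg))
    (mem_normalizer_iff_cj.2 h1))

end Coord

/-! ### The tori of a pair -/

section Pair

variable {𝔽 𝔽' : Type*} [Field 𝔽] [Fintype 𝔽] [Field 𝔽'] [Fintype 𝔽'] (C : Cls cs h p T n X R Z z)
  {F : Set (I → ℤ)} {r s y : I → ℤ} (t : Two cs h R F r s y)
  {er : Matrix.SpecialLinearGroup (Fin 2) 𝔽 ≃* ↥(Z r ⊔ Z (-r))}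
  {es : Matrix.SpecialLinearGroup (Fin 2) 𝔽' ≃* ↥(Z s ⊔ Z (-s))}
include C t

/-- the torus of `r` normalises `M` -/
theorem TT_conj_mem [Finite Y] (cr : Crd Z r er) {g : Y} (hg : g ∈ TT er) {u : Y} (hu : u ∈ MM cs h X F y) :
    g * u * g⁻¹ ∈ MM cs h X F y := by
  have hgJ := TT_le er hg
  refine conj_mem C t (fun v hv => ?_) (TT_VV C t.rR cr hg)
    (cj_VV_of_J C t t.rR (by rw [form_comm]; exact t.rs) hgJ) hu
  by_cases h1 : v = r
  · subst h1
    have := TT_root hg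
    rwa [cr.rt] at this
  by_cases h2 : v = -r
  · subst h2
    have := TT_rootOp hg
    rwa [cr.ro] at this
  have h3 : form cs h v r = 0 := by
    rw [form_comm]; exact t.orth r t.hr v hv h1 h2
  have h4 : g ∈ Subgroup.centralizer (Z v : Set Y) := by
    rw [Subgroup.mem_centralizer_iff]
    intro a ha
    exact (comm_J C t (t.sub v hv) t.rR h3 hgJ ha).symm
  exact mem_normalizer_iff_cj.1 (Nodes.ClsNorm.centralizer_le_normalizer' (Z v) h4)

/-- the torus of `s` normalises `M` -/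
theorem TT_conj_mem' [Finite Y] (cs' : Crd Z s es) {g : Y} (hg : g ∈ TT es) {u : Y} (hu : u ∈ MM cs h X F y) :
    g * u * g⁻¹ ∈ MM cs h X F y := TT_conj_mem C t.swap cs' hg hu

/-- **the scaling hypothesis** -/
theorem hsc [Finite Y] [Fact p.Prime] (hp2 : p ≠ 2) (hodd : Odd (Fintype.card 𝔽))
    (hodd' : Odd (Fintype.card 𝔽')) (L : Nodes.CenVV.Lg cs h r) (cr : Crd Z r er) (cs' : Crd Z s es) {e : Y}
    (he : ∀ a ∈ Z r ⊔ Z (-r), e * a = a * e)
    (hsame : ∀ g ∈ TT er, ∃ g' ∈ TT es, ∀ u ∈ MM cs h X F y, g' * u * g'⁻¹ = g * u * g⁻¹) :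
    ∀ u ∈ MM cs h X F y, ⁅u, mm es * u * (mm es)⁻¹⁆ ≠ 1 → ∀ a ∈ Z r, ∃ u' ∈ MM cs h X F y,
      ⁅u, mm es * u' * (mm es)⁻¹⁆ = a ∧
      (∀ v ∈ MM cs h X F y, ⁅u, mm es * v * (mm es)⁻¹⁆ = 1 → ⁅u', mm es * v * (mm es)⁻¹⁆ = 1) ∧
      (e * u * e⁻¹ = u⁻¹ → e * u' * e⁻¹ = u'⁻¹) := by
  have hsR := t.sR
  have hrR := t.rR
  have hne : y ≠ s := by
    rintro rfl
    have := t.yr
    rw [form_comm, t.rs] at this
    exact lt_irrefl _ this
  have hne' : y ≠ -s := by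
    rintro rfl
    have := t.yr
    rw [form_neg_left, form_comm, t.rs] at this
    simp at this
  have hm : Sw Z z s (mm es) := Crd.sw C hodd' Fact.out hp2 hsR t.hy hne hne' t.ys.ne' cs'
  have f := frm C t hp2 L hm
  refine hsc_of (Tr := TT er) (Ts := TT es) f (fun g hg u hu => TT_conj_mem C t cr hg hu) ?_ ?_ hsame ?_ ?_
  · intro g hg u hu v hv
    refine beta_conj ?_
    exact comm_JJ C t hsR hrR (by rw [form_comm]; exact t.rs) (TT_le er hg) hm.mem
  · intro g hg u hu v hv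
    refine beta_adj (mm_inv hg) ?_
    exact comm_J C t hrR hsR t.rs (TT_le es hg) (beta_mem C t hp2 hm hu (TT_conj_mem' C t cs' hg hv))
  · intro g hg
    exact he g (TT_le er hg)
  · intro a ha ha1
    have h3 := root_le_closure (Cfsg.Agent.TwoFusion.QuatCoverSL.two_ne_zero_of_odd hodd) er
      (by rw [cr.rt]; exact ha) ha1
    rwa [cr.rt] at h3

end Pair

end Cfsg.Agent.LOC.BetaTor
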