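import Mathlib
import Cfsg.Agent.Cit.Nil.LO.Wt
import Cfsg.Agent.Nodes.CenVV

/-!
# Lie odd sections, the chart part: short roots `y = (r + s) / 2` (S1309, (n1), piece (C))

* `triv_of_form` : a `Q₈` acting on an abelian `p`-group with an invariant symmetric anisotropic form with values in an
  abelian `p`-group: its involution acts trivially (no fields, no dimensions);
* `Pl cs h R r y` : the plane of type `B₂` of a long root `r ∈ R` and a short root `y`, `(y, r) > 0`; `q = r - 2 y`;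
* `Pl.conj` : `u x u⁻¹ = x c d`, `c ∈ X (r - y)`, `d = k x k⁻¹ ∈ X r`, for `1 ≠ u ∈ X y`, `x ∈ X q`;
* `Pl.ne` : here `c ≠ 1` if `x ≠ 1`;
* `Pl.form` : `(u, v) ↦ ⁅u, ⁅a⁻¹, v⁆⁆` is a symmetric anisotropic form on `X y` with values in `Z r`, for `1 ≠ a ∈ Z q`;
* `Pl.triv` : the involution of a `Q₈` which normalises `X y` and centralises `Z r`, `Z q` centralises `X y`.
-/

set_option autoImplicit false
set_option linter.unusedSectionVars false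
set_option linter.dupNamespace false

namespace Cfsg.Agent.LOC.LemS

open CoxeterSystem Cfsg.Agent.ChevalleyStructure.CoxeterGeom Cfsg.Agent.Tits.Roots Cfsg.Agent.Tits.Core
  Cfsg.Agent.Tits.RootComb Cfsg.Agent.Nodes.Comb Cfsg.Agent.Nodes.SubComb Cfsg.Agent.Nodes.Reps
  Cfsg.Agent.Nodes.Coroot Cfsg.Agent.Nodes.PosPair Cfsg.Agent.Nodes.BNOf Cfsg.Agent.Nodes.RGDLib
  Cfsg.Agent.Nodes.Chart Cfsg.Agent.Nodes.ClsNorm Cfsg.Agent.Nodes.ChartLoc Cfsg.Agent.Nodes.ChartFrame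
  Cfsg.Agent.Nodes.Bruhat Cfsg.Agent.Nodes.CenVV Cfsg.Agent.LOC.ChartDefs
open scoped commutatorElement

/-! ### A `Q₈` acting on an anisotropic form -/

section form

variable {Y : Type*} [Group Y] {K : Subgroup Y} {e : Y} {p : ℕ}

theorem eq_one_of_sq [Fact p.Prime] (hp2 : p ≠ 2) {S : Subgroup Y} (hS : IsPGroup p S) {a : Y} (ha : a ∈ S)
    (h2 : a * a = 1) : a = 1 := by
  obtain ⟨k, hk⟩ := hS ⟨a, ha⟩
  have hk' : a ^ p ^ k = 1 := by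
    have := congrArg Subtype.val hk
    simpa using this
  have ho : Odd (orderOf a) := (((Fact.out : p.Prime).odd_of_ne_two hp2).pow (n := k)).of_dvd_nat
    (orderOf_dvd_of_pow_eq_one hk')
  have h3 : orderOf a ∣ 2 := orderOf_dvd_of_pow_eq_one (by rw [pow_two, h2])
  have h4 : orderOf a ∣ 1 := by
    rw [← Nat.Coprime.gcd_eq_one (Nat.coprime_two_left.2 ho)]
    exact Nat.dvd_gcd h3 dvd_rfl
  exact orderOf_eq_one_iff.1 (Nat.dvd_one.1 h4)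

theorem exists_ab (hK : QK K e) : ∃ a ∈ K, ∃ b ∈ K, a * a = e ∧ b * b = e ∧ a⁻¹ * b * (a⁻¹ * b) = e := by
  obtain ⟨a, ha, b, hb, h1, h2, h3⟩ := hK.com
  refine ⟨a, ha, b, hb, h1, h2, ?_⟩
  have hk : a⁻¹ * b ∈ K := mul_mem (inv_mem ha) hb
  rcases hK.pow _ hk with h4 | h4
  · exfalso
    rcases hK.one _ hk h4 with h5 | h5
    · have h6 : a = b := inv_mul_eq_one.1 h5
      rw [← h6, h1, hK.sq] at h3
      exact hK.ne h3
    · have h6 : b = a * e := inv_mul_eq_iff_eq_mul.1 h5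
      have h7 : a * (a * e) = 1 := by rw [← mul_assoc, h1, hK.sq]
      have h8 : e * (a * e * a) = e := by
        rw [mul_assoc a e a, ← hK.cen a ha, ← mul_assoc a a e, h1, hK.sq, mul_one]
      rw [h6, h7, h8] at h3
      exact hK.ne h3.symm
  · exact h4

theorem triv_of_form [Fact p.Prime] (hp2 : p ≠ 2) (hK : QK K e) {U A : Subgroup Y}
    (hU : IsPGroup p U) (hA : IsPGroup p A)
    (hn : ∀ k ∈ K, ∀ u ∈ U, k * u * k⁻¹ ∈ U) {b : Y → Y → Y} (hb : ∀ u ∈ U, ∀ v ∈ U, b u v ∈ A)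
    (hadd : ∀ u ∈ U, ∀ v ∈ U, ∀ w ∈ U, b (u * v) w = b u w * b v w)
    (hsymm : ∀ u ∈ U, ∀ v ∈ U, b u v = b v u)
    (hinv : ∀ k ∈ K, ∀ u ∈ U, ∀ v ∈ U, b (k * u * k⁻¹) (k * v * k⁻¹) = b u v)
    (han : ∀ u ∈ U, b u u = 1 → u = 1) : ∀ u ∈ U, e * u = u * e := by
  have hei := hK.inv_e
  by_contra hcon
  push Not at hcon
  obtain ⟨u₀, hu₀, hne⟩ := hcon
  -- an element of order `p` inverted by `e`
  obtain ⟨u, hu, hu1, hup, hue⟩ : ∃ u ∈ U, u ≠ 1 ∧ u ^ p = 1 ∧ e * u * e⁻¹ = u⁻¹ := by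
    set v := e * u₀ * e⁻¹ * u₀⁻¹ with hv
    have hvU : v ∈ U := mul_mem (hn e hK.mem u₀ hu₀) (inv_mem hu₀)
    have hv1 : v ≠ 1 := by
      intro h0
      apply hne
      rw [hv, mul_inv_eq_one, mul_inv_eq_iff_eq_mul] at h0
      exact h0
    have hve : e * v * e⁻¹ = v⁻¹ := by
      have h1 : e * (e * u₀ * e⁻¹ * u₀⁻¹) * e⁻¹ = (e * e) * u₀ * (e * e)⁻¹ * (e * u₀ * e⁻¹)⁻¹ := by group
      rw [hv, h1, hK.sq]
      group
    obtain ⟨m, hm⟩ := hU ⟨v, hvU⟩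
    have hm' : ∃ m, v ^ p ^ m = 1 := ⟨m, congrArg Subtype.val hm⟩
    classical
    have h2 := Nat.find_spec hm'
    have h3 : Nat.find hm' ≠ 0 := by
      intro h0
      rw [h0, pow_zero, pow_one] at h2
      exact hv1 h2
    obtain ⟨k, hk⟩ := Nat.exists_eq_succ_of_ne_zero h3
    refine ⟨v ^ p ^ k, pow_mem hvU _, Nat.find_min hm' (by omega), ?_, ?_⟩
    · rw [← pow_mul, ← pow_succ, ← Nat.succ_eq_add_one, ← hk]
      exact h2
    · rw [← conj_pow, hve, inv_pow]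
  -- rules
  have b1 : ∀ w ∈ U, b 1 w = 1 := by
    intro w hw
    have h1 := hadd 1 (one_mem _) 1 (one_mem _) w hw
    rw [mul_one] at h1
    exact left_eq_mul.1 h1
  have bpow : ∀ u ∈ U, ∀ w ∈ U, ∀ m : ℕ, b (u ^ m) w = b u w ^ m := by
    intro u hu w hw m
    induction m with
    | zero => rw [pow_zero, pow_zero, b1 w hw]
    | succ m ih => rw [pow_succ, hadd _ (pow_mem hu m) _ hu _ hw, ih, pow_succ]
  have binv : ∀ u ∈ U, ∀ w ∈ U, b u⁻¹ w = (b u w)⁻¹ := by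
    intro u hu w hw
    have h1 := hadd u⁻¹ (inv_mem hu) u hu w hw
    rw [inv_mul_cancel, b1 w hw] at h1
    exact eq_inv_of_mul_eq_one_left h1.symm
  -- orthogonality
  have orth : ∀ k ∈ K, k * k = e → b u (k * u * k⁻¹) = 1 := by
    intro k hk hkk
    have hku := hn k hk u hu
    have h1 := hinv k hk u hu _ hku
    have h2 : k * (k * u * k⁻¹) * k⁻¹ = u⁻¹ := by
      rw [← hue, ← hkk]; group
    rw [h2, hsymm _ hku _ (inv_mem hu), binv u hu _ hku] at h1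
    have h3 : b u (k * u * k⁻¹) * b u (k * u * k⁻¹) = 1 := by
      rw [inv_eq_iff_mul_eq_one] at h1
      exact h1
    exact eq_one_of_sq hp2 hA (hb _ hu _ hku) h3
  obtain ⟨a, ha, c, hc, haa, hcc, hac⟩ := exists_ab hK
  have hua := hn a ha u hu
  have huc := hn c hc u hu
  set ua := a * u * a⁻¹ with hua'
  set uc := c * u * c⁻¹ with huc'
  have o1 : b u ua = 1 := orth a ha haa
  have o2 : b u uc = 1 := orth c hc hcc
  have o3 : b ua uc = 1 := by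
    have h1 := hinv a⁻¹ (inv_mem ha) ua hua uc huc
    have h2 : a⁻¹ * ua * a⁻¹⁻¹ = u := by rw [hua']; group
    have h3 : a⁻¹ * uc * a⁻¹⁻¹ = (a⁻¹ * c) * u * (a⁻¹ * c)⁻¹ := by rw [huc']; group
    rw [h2, h3] at h1
    rw [← h1]
    exact orth _ (mul_mem (inv_mem ha) hc) hac
  have n1 : b ua ua = b u u := hinv a ha u hu u hu
  have n2 : b uc uc = b u u := hinv c hc u hu u hu
  set ν := b u u with hν
  have hνp : ν ^ p = 1 := by rw [hν, ← bpow u hu u hu, hup, b1 u hu]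
  -- `1 + x² + y² = 0`
  obtain ⟨x, y, hxy⟩ : ∃ x y : ℕ, p ∣ 1 + x * x + y * y := by
    obtain ⟨x, y, hxy⟩ := ZMod.sq_add_sq p (-1)
    refine ⟨x.val, y.val, ?_⟩
    rw [← ZMod.natCast_eq_zero_iff]
    push_cast
    rw [ZMod.natCast_zmod_val, ZMod.natCast_zmod_val]
    linear_combination hxy
  set v := u * ua ^ x * uc ^ y with hv
  have hux : u * ua ^ x ∈ U := mul_mem hu (pow_mem hua x)
  have hvU : v ∈ U := mul_mem hux (pow_mem huc y)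
  have bv : ∀ w ∈ U, b v w = b u w * b ua w ^ x * b uc w ^ y := by
    intro w hw
    rw [hv, hadd _ hux _ (pow_mem huc y) _ hw, hadd _ hu _ (pow_mem hua x) _ hw, bpow _ hua _ hw, bpow _ huc _ hw]
  have v1 : b v u = ν := by
    rw [bv u hu, hsymm ua hua u hu, o1, hsymm uc huc u hu, o2, one_pow, one_pow, mul_one, mul_one]
  have v2 : b v ua = ν ^ x := by
    rw [bv ua hua, o1, n1, hsymm uc huc ua hua, o3, one_pow, mul_one, one_mul]
  have v3 : b v uc = ν ^ y := by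
    rw [bv uc huc, o2, o3, n2, one_pow, one_mul, one_mul]
  have v4 : b v v = 1 := by
    rw [bv v hvU, hsymm u hu v hvU, hsymm ua hua v hvU, hsymm uc huc v hvU, v1, v2, v3, ← pow_mul, ← pow_mul]
    obtain ⟨m, hm⟩ := hxy
    have h1 : ν * ν ^ (x * x) * ν ^ (y * y) = ν ^ (1 + x * x + y * y) := by
      rw [pow_add, pow_add, pow_one]
    rw [h1, hm, pow_mul, hνp, one_pow]
  have v5 := han v hvU v4
  rw [v5, b1 u hu] at v1
  exact hu1 (han u hu v1.symm)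

end form

/-! ### The plane -/

section plane

variable {I W Y : Type*} [Fintype I] [DecidableEq I] [Group W] [Fintype W] [Group Y] {M : CoxeterMatrix I}
  {cs : CoxeterSystem M W} {A : I → I → ℤ} {h : IsCartan M A} {p : ℕ} {T : Subgroup Y} {n : I → Y}
  {X : (I → ℤ) → Subgroup Y} {R : Set (I → ℤ)} {Z : (I → ℤ) → Subgroup Y} {z : (I → ℤ) → Y}

/-- a long root `r ∈ R` and a short root `y` with `(y, r) > 0` -/
structure Pl (cs : CoxeterSystem M W) (h : IsCartan M A) (R : Set (I → ℤ)) (r y : I → ℤ) : Prop where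
  L : Lg cs h r
  mem : r ∈ R
  root : IsRoot cs h y
  h1 : 2 * form cs h y r = form cs h r r
  h2 : 2 * form cs h y y = form cs h r r

namespace Pl

variable {r y : I → ℤ} (P : Pl cs h R r y)

include P

theorem pos : 0 < form cs h y y := form_pos cs h P.root.ne_zero

theorem fyr : form cs h y r = form cs h y y := by
  have h1 := P.h1
  have h2 := P.h2
  omega

theorem fry : form cs h r y = form cs h y y := by rw [form_comm]; exact P.fyr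

theorem frr : form cs h r r = 2 * form cs h y y := P.h2.symm

theorem cry : cpr cs h r y = 2 := by
  apply cpr_eq_of_form cs h P.root
  rw [P.fry]

theorem rootw : IsRoot cs h (r - y) := P.L.sub_root P.root P.h1

theorem rootq : IsRoot cs h (r - (2 : ℤ) • y) := by
  obtain ⟨s, hs⟩ := Nodes.KindBase.exists_refl cs h P.root
  have := P.L.root.act s
  rwa [hs, P.cry] at this

/-- forms in coordinates -/
theorem form_pt (i j i' j' : ℤ) : form cs h (i • r + j • y) (i' • r + j' • y) =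
    (2 * i * i' + i * j' + j * i' + j * j') * form cs h y y := by
  simp only [form_add_left, form_add_right, form_smul_left, form_smul_right, P.frr, P.fry, P.fyr]
  ring

theorem inj {i j i' j' : ℤ} (e : i • r + j • y = i' • r + j' • y) : i = i' ∧ j = j' := by
  have h1 := P.form_pt i j 1 0
  have h2 := P.form_pt i j 0 1
  rw [e, P.form_pt] at h1 h2
  have h0 := P.pos.ne'
  have h3 := mul_right_cancel₀ h0 h1
  have h4 := mul_right_cancel₀ h0 h2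
  constructor <;> linarith

theorem ne {x x' : I → ℤ} (i j i' j' : ℤ) (hx : x = i • r + j • y) (hx' : x' = i' • r + j' • y)
    (h0 : i ≠ i' ∨ j ≠ j') : x ≠ x' := by
  rintro rfl
  rw [hx'] at hx
  obtain ⟨h1, h2⟩ := P.inj hx
  omega

theorem btw {x x' w : I → ℤ} (i j i' j' : ℤ) (hx : x = i • r + j • y) (hx' : x' = i' • r + j' • y)
    (hb : Btwn cs h x x' w) : ∃ m a b k l : ℤ, 0 < m ∧ 0 < a ∧ 0 < b ∧ w = k • r + l • y ∧ m * k = a * i + b * i' ∧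
      m * l = a * j + b * j' ∧ ((k = 1 ∧ l = 0) ∨ (k = 0 ∧ l = 1) ∨ (k = 1 ∧ l = -1) ∨ (k = 1 ∧ l = -2) ∨
        (k = -1 ∧ l = 0) ∨ (k = 0 ∧ l = -1) ∨ (k = -1 ∧ l = 1) ∨ (k = -1 ∧ l = 2)) := by
  subst hx hx'
  exact btw_b P.L P.root P.h1 P.h2 hb

/-- commuting root groups in the plane -/
theorem cm (Rd : RGD cs h p T n X) {x x' : I → ℤ} (i j i' j' : ℤ) (hx : x = i • r + j • y)
    (hx' : x' = i' • r + j' • y) (h0 : i ≠ i' ∨ j ≠ j') (h0' : i ≠ -i' ∨ j ≠ -j') (hxr : IsRoot cs h x)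
    (hxr' : IsRoot cs h x') (hb : ∀ w, ¬ Btwn cs h x x' w) {a b : Y} (ha : a ∈ X x) (hb' : b ∈ X x') :
    a * b = b * a :=
  comm_of_btwn Rd hxr hxr' (P.ne i j i' j' hx hx' h0)
    (P.ne i j (-i') (-j') hx (by rw [hx']; module) h0') hb ha hb'

theorem bqy {w : I → ℤ} (hw : Btwn cs h (r - (2 : ℤ) • y) y w) : w = r - y ∨ w = r := by
  obtain ⟨m, a, b, i, j, hm, ha, hb, e0, e1, e2, hij⟩ := P.btw 1 (-2) 0 1 (by module) (by module) hw
  rcases hij with ⟨rfl, rfl⟩ | ⟨rfl, rfl⟩ | ⟨rfl, rfl⟩ | ⟨rfl, rfl⟩ | ⟨rfl, rfl⟩ | ⟨rfl, rfl⟩ | ⟨rfl, rfl⟩ |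
      ⟨rfl, rfl⟩
  all_goals first | omega | (left; rw [e0]; module) | (right; rw [e0]; module)

theorem brny {w : I → ℤ} (hw : Btwn cs h r (-y) w) : w = r - y ∨ w = r - (2 : ℤ) • y := by
  obtain ⟨m, a, b, i, j, hm, ha, hb, e0, e1, e2, hij⟩ := P.btw 1 0 0 (-1) (by module) (by module) hw
  rcases hij with ⟨rfl, rfl⟩ | ⟨rfl, rfl⟩ | ⟨rfl, rfl⟩ | ⟨rfl, rfl⟩ | ⟨rfl, rfl⟩ | ⟨rfl, rfl⟩ | ⟨rfl, rfl⟩ |
      ⟨rfl, rfl⟩
  all_goals first | omega | (left; rw [e0]; module) | (right; rw [e0]; module)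

theorem brq {w : I → ℤ} (hw : Btwn cs h r (r - (2 : ℤ) • y) w) : w = r - y := by
  obtain ⟨m, a, b, i, j, hm, ha, hb, e0, e1, e2, hij⟩ := P.btw 1 0 1 (-2) (by module) (by module) hw
  rcases hij with ⟨rfl, rfl⟩ | ⟨rfl, rfl⟩ | ⟨rfl, rfl⟩ | ⟨rfl, rfl⟩ | ⟨rfl, rfl⟩ | ⟨rfl, rfl⟩ | ⟨rfl, rfl⟩ |
      ⟨rfl, rfl⟩
  all_goals first | omega | (rw [e0]; module)

theorem bwnq {w : I → ℤ} (hw : Btwn cs h (r - y) (-(r - (2 : ℤ) • y)) w) : w = y ∨ w = r := by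
  obtain ⟨m, a, b, i, j, hm, ha, hb, e0, e1, e2, hij⟩ := P.btw 1 (-1) (-1) 2 (by module) (by module) hw
  rcases hij with ⟨rfl, rfl⟩ | ⟨rfl, rfl⟩ | ⟨rfl, rfl⟩ | ⟨rfl, rfl⟩ | ⟨rfl, rfl⟩ | ⟨rfl, rfl⟩ | ⟨rfl, rfl⟩ |
      ⟨rfl, rfl⟩
  all_goals first | omega | (left; rw [e0]; module) | (right; rw [e0]; module)

theorem bwr {w : I → ℤ} (hw : Btwn cs h (r - y) r w) : False := by
  obtain ⟨m, a, b, i, j, hm, ha, hb, e0, e1, e2, hij⟩ := P.btw 1 (-1) 1 0 (by module) (by module) hw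
  rcases hij with ⟨rfl, rfl⟩ | ⟨rfl, rfl⟩ | ⟨rfl, rfl⟩ | ⟨rfl, rfl⟩ | ⟨rfl, rfl⟩ | ⟨rfl, rfl⟩ | ⟨rfl, rfl⟩ |
      ⟨rfl, rfl⟩ <;> omega

theorem bwq {w : I → ℤ} (hw : Btwn cs h (r - y) (r - (2 : ℤ) • y) w) : False := by
  obtain ⟨m, a, b, i, j, hm, ha, hb, e0, e1, e2, hij⟩ := P.btw 1 (-1) 1 (-2) (by module) (by module) hw
  rcases hij with ⟨rfl, rfl⟩ | ⟨rfl, rfl⟩ | ⟨rfl, rfl⟩ | ⟨rfl, rfl⟩ | ⟨rfl, rfl⟩ | ⟨rfl, rfl⟩ | ⟨rfl, rfl⟩ |
      ⟨rfl, rfl⟩ <;> omega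

theorem byr {w : I → ℤ} (hw : Btwn cs h y r w) : False := by
  obtain ⟨m, a, b, i, j, hm, ha, hb, e0, e1, e2, hij⟩ := P.btw 0 1 1 0 (by module) (by module) hw
  rcases hij with ⟨rfl, rfl⟩ | ⟨rfl, rfl⟩ | ⟨rfl, rfl⟩ | ⟨rfl, rfl⟩ | ⟨rfl, rfl⟩ | ⟨rfl, rfl⟩ | ⟨rfl, rfl⟩ |
      ⟨rfl, rfl⟩ <;> omega

theorem bnyq {w : I → ℤ} (hw : Btwn cs h (-y) (r - (2 : ℤ) • y) w) : False := by
  obtain ⟨m, a, b, i, j, hm, ha, hb, e0, e1, e2, hij⟩ := P.btw 0 (-1) 1 (-2) (by module) (by module) hw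
  rcases hij with ⟨rfl, rfl⟩ | ⟨rfl, rfl⟩ | ⟨rfl, rfl⟩ | ⟨rfl, rfl⟩ | ⟨rfl, rfl⟩ | ⟨rfl, rfl⟩ | ⟨rfl, rfl⟩ |
      ⟨rfl, rfl⟩ <;> omega

theorem bynq {w : I → ℤ} (hw : Btwn cs h y (-(r - (2 : ℤ) • y)) w) : False := by
  obtain ⟨m, a, b, i, j, hm, ha, hb, e0, e1, e2, hij⟩ := P.btw 0 1 (-1) 2 (by module) (by module) hw
  rcases hij with ⟨rfl, rfl⟩ | ⟨rfl, rfl⟩ | ⟨rfl, rfl⟩ | ⟨rfl, rfl⟩ | ⟨rfl, rfl⟩ | ⟨rfl, rfl⟩ | ⟨rfl, rfl⟩ |
      ⟨rfl, rfl⟩ <;> omega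

section comm

variable (Rd : RGD cs h p T n X)

include Rd

theorem cwr {a b : Y} (ha : a ∈ X (r - y)) (hb : b ∈ X r) : a * b = b * a :=
  P.cm Rd 1 (-1) 1 0 (by module) (by module) (by omega) (by omega) P.rootw P.L.root (fun _ => P.bwr) ha hb

theorem cwq {a b : Y} (ha : a ∈ X (r - y)) (hb : b ∈ X (r - (2 : ℤ) • y)) : a * b = b * a :=
  P.cm Rd 1 (-1) 1 (-2) (by module) (by module) (by omega) (by omega) P.rootw P.rootq (fun _ => P.bwq) ha hb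

theorem cyr {a b : Y} (ha : a ∈ X y) (hb : b ∈ X r) : a * b = b * a :=
  P.cm Rd 0 1 1 0 (by module) (by module) (by omega) (by omega) P.root P.L.root (fun _ => P.byr) ha hb

theorem cnyq {a b : Y} (ha : a ∈ X (-y)) (hb : b ∈ X (r - (2 : ℤ) • y)) : a * b = b * a :=
  P.cm Rd 0 (-1) 1 (-2) (by module) (by module) (by omega) (by omega) P.root.neg P.rootq (fun _ => P.bnyq) ha hb

theorem cynq {a b : Y} (ha : a ∈ X y) (hb : b ∈ X (-(r - (2 : ℤ) • y))) : a * b = b * a :=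
  P.cm Rd 0 1 (-1) 2 (by module) (by module) (by omega) (by omega) P.root P.rootq.neg (fun _ => P.bynq) ha hb

/-- `⁅X q, X y⁆ ≤ X (r - y) X r` -/
theorem mqy {a b : Y} (ha : a ∈ X (r - (2 : ℤ) • y)) (hb : b ∈ X y) :
    ∃ c ∈ X (r - y), ∃ d ∈ X r, ⁅a, b⁆ = c * d := by
  refine Nodes.ShortSum.mem_sup_of_cm (fun a ha b hb => P.cwr Rd ha hb) ?_
  refine comm_mem_of_btwn Rd P.rootq P.root (P.ne 1 (-2) 0 1 (by module) (by module) (by omega))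
    (P.ne 1 (-2) 0 (-1) (by module) (by module) (by omega)) (fun w hw => ?_) ha hb
  rcases P.bqy hw with rfl | rfl
  · exact le_sup_left
  · exact le_sup_right

/-- `⁅X r, X (-y)⁆ ≤ X (r - y) X q` -/
theorem mrny {a b : Y} (ha : a ∈ X r) (hb : b ∈ X (-y)) :
    ∃ c ∈ X (r - y), ∃ d ∈ X (r - (2 : ℤ) • y), ⁅a, b⁆ = c * d := by
  refine Nodes.ShortSum.mem_sup_of_cm (fun a ha b hb => P.cwq Rd ha hb) ?_
  refine comm_mem_of_btwn Rd P.L.root P.root.neg (P.ne 1 0 0 (-1) (by module) (by module) (by omega))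
    (P.ne 1 0 0 1 (by module) (by module) (by omega)) (fun w hw => ?_) ha hb
  rcases P.brny hw with rfl | rfl
  · exact le_sup_left
  · exact le_sup_right

/-- `⁅X r, X q⁆ ≤ X (r - y)` -/
theorem mrq {a b : Y} (ha : a ∈ X r) (hb : b ∈ X (r - (2 : ℤ) • y)) : ⁅a, b⁆ ∈ X (r - y) := by
  refine comm_mem_of_btwn Rd P.L.root P.rootq (P.ne 1 0 1 (-2) (by module) (by module) (by omega))
    (P.ne 1 0 (-1) 2 (by module) (by module) (by omega)) (fun w hw => ?_) ha hb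
  rw [P.brq hw]

/-- `⁅X (r - y), X (-q)⁆ ≤ ⟨X y, X r⟩` -/
theorem mwnq {a b : Y} (ha : a ∈ X (r - y)) (hb : b ∈ X (-(r - (2 : ℤ) • y))) : ⁅a, b⁆ ∈ X y ⊔ X r := by
  refine comm_mem_of_btwn Rd P.rootw P.rootq.neg (P.ne 1 (-1) (-1) 2 (by module) (by module) (by omega))
    (P.ne 1 (-1) 1 (-2) (by module) (by module) (by omega)) (fun w hw => ?_) ha hb
  rcases P.bwnq hw with rfl | rfl
  · exact le_sup_left
  · exact le_sup_right

/-- separation of `X r` and `X (r - y) X q` -/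
theorem sep_r {g : Y} (hg : g ∈ X r) (hg' : g ∈ X (r - y) ⊔ X (r - (2 : ℤ) • y)) : g = 1 := by
  refine eq_one_of_sep Rd P.L.root (S := {r - y, r - (2 : ℤ) • y}) ?_ ((3 : ℤ) • y - r) ?_ ?_ hg ?_
  · intro w hw
    rcases hw with rfl | hw
    · exact P.rootw
    · rw [Set.mem_singleton_iff.1 hw]; exact P.rootq
  · have h1 := P.form_pt 1 0 (-1) 3
    have h2 := P.pos
    have e1 : (1 : ℤ) • r + (0 : ℤ) • y = r := by module
    have e2 : (-1 : ℤ) • r + (3 : ℤ) • y = (3 : ℤ) • y - r := by module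
    rw [e1, e2] at h1
    rw [h1]; linarith
  · intro w hw
    have h2 := P.pos
    have e2 : (-1 : ℤ) • r + (3 : ℤ) • y = (3 : ℤ) • y - r := by module
    rcases hw with rfl | hw
    · have h1 := P.form_pt 1 (-1) (-1) 3
      have e1 : (1 : ℤ) • r + (-1 : ℤ) • y = r - y := by module
      rw [e1, e2] at h1
      rw [h1]; linarith
    · rw [Set.mem_singleton_iff.1 hw]
      have h1 := P.form_pt 1 (-2) (-1) 3
      have e1 : (1 : ℤ) • r + (-2 : ℤ) • y = r - (2 : ℤ) • y := by module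
      rw [e1, e2] at h1
      rw [h1]; linarith
  · have h8 : X (r - y) ⊔ X (r - (2 : ℤ) • y) ≤ RGD.Sup X {r - y, r - (2 : ℤ) • y} :=
      sup_le (RGD.le_Sup (by simp)) (RGD.le_Sup (by simp))
    exact h8 hg'

/-- separation of `X (r - y)` and `⟨X y, X r⟩` -/
theorem sep_w {g : Y} (hg : g ∈ X (r - y)) (hg' : g ∈ X y ⊔ X r) : g = 1 := by
  refine eq_one_of_sep Rd P.rootw (S := {y, r}) ?_ (r - (3 : ℤ) • y) ?_ ?_ hg ?_
  · intro w hw
    rcases hw with rfl | hw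
    · exact P.root
    · rw [Set.mem_singleton_iff.1 hw]; exact P.L.root
  · have h1 := P.form_pt 1 (-1) 1 (-3)
    have h2 := P.pos
    have e1 : (1 : ℤ) • r + (-1 : ℤ) • y = r - y := by module
    have e2 : (1 : ℤ) • r + (-3 : ℤ) • y = r - (3 : ℤ) • y := by module
    rw [e1, e2] at h1
    rw [h1]; linarith
  · intro w hw
    have h2 := P.pos
    have e2 : (1 : ℤ) • r + (-3 : ℤ) • y = r - (3 : ℤ) • y := by module
    rcases hw with rfl | hw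
    · have h1 := P.form_pt 0 1 1 (-3)
      have e1 : (0 : ℤ) • r + (1 : ℤ) • w = w := by module
      rw [e1, e2] at h1
      rw [h1]; linarith
    · rw [Set.mem_singleton_iff.1 hw]
      have h1 := P.form_pt 1 0 1 (-3)
      have e1 : (1 : ℤ) • r + (0 : ℤ) • y = r := by module
      rw [e1, e2] at h1
      rw [h1]; linarith
  · have h8 : X y ⊔ X r ≤ RGD.Sup X {y, r} :=
      sup_le (RGD.le_Sup (by simp)) (RGD.le_Sup (by simp))
    exact h8 hg'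

end comm

section cls

variable (C : Cls cs h p T n X R Z z)

include C

theorem memq : r - (2 : ℤ) • y ∈ R := by
  have := refl_memR C P.mem P.root
  rwa [P.cry] at this

/-- the plane seen from `q = r - 2 y` -/
theorem swap : Pl cs h R (r - (2 : ℤ) • y) (-y) where
  L := by
    obtain ⟨s, hs⟩ := Nodes.KindBase.exists_refl cs h P.root
    have := P.L.act s
    rwa [hs, P.cry] at this
  mem := P.memq C
  root := P.root.neg
  h1 := by
    have h1 := P.form_pt 0 (-1) 1 (-2)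
    have h2 := P.form_pt 1 (-2) 1 (-2)
    have e1 : (0 : ℤ) • r + (-1 : ℤ) • y = -y := by module
    have e2 : (1 : ℤ) • r + (-2 : ℤ) • y = r - (2 : ℤ) • y := by module
    rw [e1, e2] at h1
    rw [e2] at h2
    rw [h1, h2]; ring
  h2 := by
    have h1 := P.form_pt 0 (-1) 0 (-1)
    have h2 := P.form_pt 1 (-2) 1 (-2)
    have e1 : (0 : ℤ) • r + (-1 : ℤ) • y = -y := by module
    have e2 : (1 : ℤ) • r + (-2 : ℤ) • y = r - (2 : ℤ) • y := by module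
    rw [e1] at h1
    rw [e2] at h2
    rw [h1, h2]; ring

omit C in
theorem frq : form cs h r (r - (2 : ℤ) • y) = 0 := by
  have h1 := P.form_pt 1 0 1 (-2)
  have e1 : (1 : ℤ) • r + (0 : ℤ) • y = r := by module
  have e2 : (1 : ℤ) • r + (-2 : ℤ) • y = r - (2 : ℤ) • y := by module
  rw [e1, e2] at h1
  rw [h1]; ring

omit C in
theorem fyq : form cs h y (r - (2 : ℤ) • y) = -form cs h y y := by
  have h1 := P.form_pt 0 1 1 (-2)
  have e1 : (0 : ℤ) • r + (1 : ℤ) • y = y := by module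
  have e2 : (1 : ℤ) • r + (-2 : ℤ) • y = r - (2 : ℤ) • y := by module
  rw [e1, e2] at h1
  rw [h1]; ring

omit C in
theorem fwr : form cs h (r - y) r = form cs h y y := by
  rw [form_sub_left, P.frr, P.fyr]; ring

omit C in
theorem fwq : form cs h (r - y) (r - (2 : ℤ) • y) = form cs h y y := by
  rw [form_sub_left, P.frq, P.fyq]; ring

/-- `Z r` commutes with `X q` -/
theorem czrq {a b : Y} (ha : a ∈ Z r) (hb : b ∈ X (r - (2 : ℤ) • y)) : a * b = b * a :=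
  (C.cent r P.mem _ P.rootq (by rw [form_comm, P.frq]) b hb a ha).symm

/-- the Weyl element of `u` moves `X q` to `X r` and `Z q` to `Z r` -/
theorem rep_q {w : W} (hw : ∀ x, rep cs h w x = x - cpr cs h x y • y) : rep cs h w (r - (2 : ℤ) • y) = r := by
  have h1 : cpr cs h (r - (2 : ℤ) • y) y = -2 := by
    apply cpr_eq_of_form cs h P.root
    rw [form_comm, P.fyq]; ring
  rw [hw, h1]; module

/-- **The action of `X y` on `X q`.** -/
theorem conj {u : Y} (hu : u ∈ X y) (hu1 : u ≠ 1) : ∃ (w : W) (k : Y), Rp cs C.rgd.nsys w k ∧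
    (∀ x, rep cs h w x = x - cpr cs h x y • y) ∧ ∀ x ∈ X (r - (2 : ℤ) • y), k * x * k⁻¹ ∈ X r ∧
      ∃ c ∈ X (r - y), u * x * u⁻¹ = x * c * (k * x * k⁻¹) := by
  obtain ⟨α, hα, β, hβ, w, k, hk, hw, ev⟩ := exists_mu C.rgd P.root hu hu1
  refine ⟨w, k, hk, hw, fun x hx => ?_⟩
  have hd : k * x * k⁻¹ ∈ X r := by
    have h1 := C.rgd.conj_mem hk P.rootq hx
    rwa [P.rep_q C hw] at h1
  refine ⟨hd, ?_⟩
  set d := k * x * k⁻¹ with hdd
  have e1 : u * x * u⁻¹ = d * ⁅d⁻¹, α⁆ := by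
    have h1 := P.cnyq C.rgd hβ hx
    rw [commutatorElement_def, ev, hdd]
    calc α * k * β * x * (α * k * β)⁻¹ = α * k * (β * x) * β⁻¹ * k⁻¹ * α⁻¹ := by group
      _ = α * k * (x * β) * β⁻¹ * k⁻¹ * α⁻¹ := by rw [h1]
      _ = _ := by group
  obtain ⟨c', hc', x', hx', e2⟩ := P.mrny C.rgd (inv_mem hd) hα
  obtain ⟨c, hc, d', hd', e3⟩ := P.mqy C.rgd (inv_mem hx) hu
  have e4 : u * x * u⁻¹ = x * (c * d') := by
    rw [← e3, commutatorElement_def]; group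
  have hg := P.mrq C.rgd (inv_mem hd) (inv_mem hx')
  set g := ⁅d⁻¹, x'⁻¹⁆ with hgd
  -- `x c d' = x' (g c') d`
  have e5 : x * (c * d') = x' * (g * c') * d := by
    have q1 := P.cwq C.rgd hc' hx'
    have q2 := P.cwr C.rgd (mul_mem hg hc') hd
    rw [← e4, e1, e2]
    calc d * (c' * x') = d * (x' * c') := by rw [q1]
      _ = x' * (d * g) * c' := by rw [hgd, commutatorElement_def]; group
      _ = x' * (d * (g * c')) := by group
      _ = x' * ((g * c') * d) := by rw [q2]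
      _ = x' * (g * c') * d := by group
  have e6 : d * d'⁻¹ = 1 := by
    refine P.sep_r C.rgd (mul_mem hd (inv_mem hd')) ?_
    have : d * d'⁻¹ = (g * c')⁻¹ * (x'⁻¹ * x) * c := by
      have h1 : d = (g * c')⁻¹ * x'⁻¹ * (x * (c * d')) := by rw [e5]; group
      rw [h1]; group
    rw [this]
    exact mul_mem (mul_mem (Subgroup.mem_sup_left (inv_mem (mul_mem hg hc')))
      (Subgroup.mem_sup_right (mul_mem (inv_mem hx') hx))) (Subgroup.mem_sup_left hc)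
  refine ⟨c, hc, ?_⟩
  rw [e4, mul_inv_eq_one.1 e6, mul_assoc]

/-- `c ≠ 1` in `Pl.conj` -/
theorem ne_one {u x d : Y} (hu : u ∈ X y) (hx : x ∈ X (r - (2 : ℤ) • y)) (hx1 : x ≠ 1) (hd : d ∈ X r)
    (e : u * x * u⁻¹ = x * d) : u = 1 := by
  obtain ⟨α, hα, β, hβ, w, k, hk, hw, ev⟩ := exists_mu C.rgd P.rootq hx hx1
  have e1 : rep cs h w⁻¹ y = r - y := by
    have h1 : cpr cs h (r - y) (r - (2 : ℤ) • y) = 1 := by
      apply cpr_eq_of_form cs h P.rootq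
      have h2 := P.form_pt 1 (-2) 1 (-2)
      have e2 : (1 : ℤ) • r + (-2 : ℤ) • y = r - (2 : ℤ) • y := by module
      rw [e2] at h2
      rw [P.fwq, h2]; ring
    have h2 : rep cs h w (r - y) = y := by rw [hw, h1]; module
    rw [← h2, rep_inv_apply, h2]
  have hu' : k⁻¹ * u * k ∈ X (r - y) := by
    have h1 := C.rgd.conj_mem' hk P.root hu
    rwa [e1] at h1
  set u' := k⁻¹ * u * k with hu'd
  have h1 : x⁻¹ * u * x = d * u := by
    have : x⁻¹ * (u * x * u⁻¹) * u = x⁻¹ * u * x := by group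
    rw [← this, e]; group
  have h2 : x⁻¹ * u * x = u' * ⁅u'⁻¹, β⁻¹⁆ := by
    have q1 := P.cynq C.rgd hu hα
    rw [commutatorElement_def, ev, hu'd]
    calc (α * k * β)⁻¹ * u * (α * k * β) = β⁻¹ * k⁻¹ * α⁻¹ * (u * α) * k * β := by group
      _ = β⁻¹ * k⁻¹ * α⁻¹ * (α * u) * k * β := by rw [q1]
      _ = _ := by group
  have h3 := P.mwnq C.rgd (inv_mem hu') (inv_mem hβ)
  have h4 : u' = 1 := by
    refine P.sep_w C.rgd hu' ?_
    have : u' = d * u * ⁅u'⁻¹, β⁻¹⁆⁻¹ := by rw [← h1, h2]; group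
    rw [this]
    exact mul_mem (mul_mem (Subgroup.mem_sup_right hd) (Subgroup.mem_sup_left hu)) (inv_mem h3)
  have h5 : u = k * u' * k⁻¹ := by rw [hu'd]; group
  rw [h5, h4]; group

/-! ### The form -/

theorem gam {a v : Y} (ha : a ∈ Z (r - (2 : ℤ) • y)) (hv : v ∈ X y) : ∃ c ∈ X (r - y), ∃ d ∈ Z r,
    ⁅a⁻¹, v⁆ = c * d ∧ (v ≠ 1 → a ≠ 1 → d ≠ 1) := by
  by_cases hv1 : v = 1
  · refine ⟨1, one_mem _, 1, one_mem _, ?_, fun h0 => absurd hv1 h0⟩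
    rw [hv1, commutatorElement_one_right, one_mul]
  · obtain ⟨w, k, hk, hw, h1⟩ := P.conj C hv hv1
    obtain ⟨h2, c, hc, e⟩ := h1 a (C.le _ (P.memq C) ha)
    refine ⟨c, hc, k * a * k⁻¹, ?_, ?_, fun _ ha1 h0 => ha1 ?_⟩
    · have h3 := Nodes.ClsNorm.conj_Z C hk (P.memq C)
      rw [P.rep_q C hw] at h3
      rw [← h3]
      exact conj_mem_cj.2 ha
    · rw [commutatorElement_def]
      calc a⁻¹ * v * a⁻¹⁻¹ * v⁻¹ = a⁻¹ * (v * a * v⁻¹) := by group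
        _ = c * (k * a * k⁻¹) := by rw [e]; group
    · have : a = k⁻¹ * (k * a * k⁻¹) * k := by group
      rw [this, h0]; group

/-- `X y`, `X (r - y)` are abelian -/
theorem aby {a b : Y} (ha : a ∈ X y) (hb : b ∈ X y) : a * b = b * a :=
  X_comm C P.mem P.root (P.ne 0 1 1 0 (by module) (by module) (by omega))
    (P.ne 0 1 (-1) 0 (by module) (by module) (by omega)) (by rw [P.fyr]; exact P.pos.ne') ha hb

theorem abw {a b : Y} (ha : a ∈ X (r - y)) (hb : b ∈ X (r - y)) : a * b = b * a :=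
  X_comm C P.mem P.rootw (P.ne 1 (-1) 1 0 (by module) (by module) (by omega))
    (P.ne 1 (-1) (-1) 0 (by module) (by module) (by omega)) (by rw [P.fwr]; exact P.pos.ne') ha hb

omit C in
theorem X_y_le : X y ≤ VV cs h X r :=
  RGD.le_Sup (S := {y | IsRoot cs h y ∧ 0 < form cs h y r}) ⟨P.root, by rw [P.fyr]; exact P.pos⟩

omit C in
theorem X_w_le : X (r - y) ≤ VV cs h X r :=
  RGD.le_Sup (S := {y | IsRoot cs h y ∧ 0 < form cs h y r}) ⟨P.rootw, by rw [P.fwr]; exact P.pos⟩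

omit C in
theorem X_r_le : X r ≤ VV cs h X r :=
  RGD.le_Sup (S := {y | IsRoot cs h y ∧ 0 < form cs h y r}) ⟨P.L.root, P.L.pos⟩

variable (hp2 : p ≠ 2) [Fact p.Prime]

include hp2

/-- anisotropy -/
theorem aniso {a u : Y} (ha : a ∈ Z (r - (2 : ℤ) • y)) (ha1 : a ≠ 1) (hu : u ∈ X y)
    (h0 : ⁅u, ⁅a⁻¹, u⁆⁆ = 1) : u = 1 := by
  by_contra hu1
  obtain ⟨c, hc, d, hd, e, hd1⟩ := P.gam C ha hu
  have hq := P.memq C
  set ζ := z (r - (2 : ℤ) • y) with hζ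
  have hζ2 : ζ * ζ = 1 := C.z_sq _ hq
  have nyq := P.ne (x := y) (x' := r - (2 : ℤ) • y) 0 1 1 (-2) (by module) (by module) (by omega)
  have nynq := P.ne (x := y) (x' := -(r - (2 : ℤ) • y)) 0 1 (-1) 2 (by module) (by module) (by omega)
  have nwq := P.ne (x := r - y) (x' := r - (2 : ℤ) • y) 1 (-1) 1 (-2) (by module) (by module) (by omega)
  have nwnq := P.ne (x := r - y) (x' := -(r - (2 : ℤ) • y)) 1 (-1) (-1) 2 (by module) (by module) (by omega)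
  have hpos := P.pos
  have z1 : ζ * a * ζ = a := by rw [C.z_cent _ hq a ha, mul_assoc, hζ2, mul_one]
  have z2 : ζ * u * ζ = u⁻¹ := C.z_inv _ hq y P.root nyq nynq (by rw [P.fyq]; omega) u hu
  have z3 : ζ * c * ζ = c⁻¹ := C.z_inv _ hq _ P.rootw nwq nwnq (by rw [P.fwq]; omega) c hc
  have z4 : ζ * d * ζ = d := by
    have := Nodes.ZRel.z_cent_of_orth C hq P.L.root P.frq (C.le _ P.mem hd)
    rw [← this, mul_assoc, hζ2, mul_one]
  have e1 : u * a * u⁻¹ = a * c * d := by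
    have : u * a * u⁻¹ = a * ⁅a⁻¹, u⁆ := by rw [commutatorElement_def]; group
    rw [this, e]; group
  have e2 : u⁻¹ * a * u = a * c⁻¹ * d := by
    have z2' : ζ * u⁻¹ * ζ = u := by
      have h4 : ζ⁻¹ = ζ := inv_eq_of_mul_eq_one_left hζ2
      have h3 : (ζ * u * ζ)⁻¹ = ζ * u⁻¹ * ζ := by rw [mul_inv_rev, mul_inv_rev, h4, mul_assoc]
      rw [← h3, z2, inv_inv]
    have h3 : ζ * (u * a * u⁻¹) * ζ = u⁻¹ * a * u := by
      calc ζ * (u * a * u⁻¹) * ζ = (ζ * u * ζ) * (ζ * ζ)⁻¹ * (ζ * a * ζ) * (ζ * ζ)⁻¹ * (ζ * u⁻¹ * ζ) := by group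
        _ = u⁻¹ * a * u := by rw [z2', z1, z2, hζ2]; group
    have h4 : ζ * (a * c * d) * ζ = a * c⁻¹ * d := by
      calc ζ * (a * c * d) * ζ = (ζ * a * ζ) * (ζ * ζ)⁻¹ * (ζ * c * ζ) * (ζ * ζ)⁻¹ * (ζ * d * ζ) := by group
        _ = a * c⁻¹ * d := by rw [z1, z3, z4, hζ2]; group
    rw [← h3, e1, h4]
  have hcr : c * d = d * c := P.cwr C.rgd hc (C.le _ P.mem hd)
  have hur : u * d = d * u := P.cyr C.rgd hu (C.le _ P.mem hd)
  have huc : u * (c * d) = c * d * u := by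
    rw [e] at h0
    exact commutatorElement_eq_one_iff_mul_comm.1 h0
  -- `a = u⁻¹ (a c d) u = a c⁻¹ d c d`
  have e3 : d * d = 1 := by
    have h1 : u⁻¹ * (c * d) * u = c * d := by rw [mul_assoc, ← huc]; group
    have h2 : a = a * (d * d) := by
      calc a = u⁻¹ * (u * a * u⁻¹) * u := by group
        _ = u⁻¹ * (a * (c * d)) * u := by rw [e1]; group
        _ = (u⁻¹ * a * u) * (u⁻¹ * (c * d) * u) := by group
        _ = a * c⁻¹ * d * (c * d) := by rw [e2, h1]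
        _ = a * c⁻¹ * (d * c) * d := by group
        _ = a * c⁻¹ * (c * d) * d := by rw [hcr]
        _ = a * (d * d) := by group
    exact left_eq_mul.1 h2
  exact hd1 hu1 ha1 (eq_one_of_sq hp2 (C.rgd.pgrp' P.L.root) (C.le _ P.mem hd) e3)

variable [Finite Y]

theorem form_mem {a u v : Y} (ha : a ∈ Z (r - (2 : ℤ) • y)) (hu : u ∈ X y) (hv : v ∈ X y) :
    ⁅u, ⁅a⁻¹, v⁆⁆ ∈ Z r := by
  obtain ⟨c, hc, d, hd, e, -⟩ := P.gam C ha hv
  rw [e]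
  exact commutator_VV_le C hp2 P.mem (Subgroup.commutator_mem_commutator (P.X_y_le hu)
    (mul_mem (P.X_w_le hc) (P.X_r_le (C.le _ P.mem hd))))

theorem form_cent {a u v x : Y} (ha : a ∈ Z (r - (2 : ℤ) • y)) (hu : u ∈ X y) (hv : v ∈ X y) (hx : x ∈ X y) :
    x * ⁅u, ⁅a⁻¹, v⁆⁆ = ⁅u, ⁅a⁻¹, v⁆⁆ * x :=
  P.cyr C.rgd hx (C.le _ P.mem (P.form_mem C hp2 ha hu hv))

theorem form_add {a u v x : Y} (ha : a ∈ Z (r - (2 : ℤ) • y)) (hu : u ∈ X y) (hv : v ∈ X y) (hx : x ∈ X y) :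
    ⁅u * v, ⁅a⁻¹, x⁆⁆ = ⁅u, ⁅a⁻¹, x⁆⁆ * ⁅v, ⁅a⁻¹, x⁆⁆ := by
  have h1 := P.form_cent C hp2 ha hv hx hu
  have h2 : ⁅u, ⁅a⁻¹, x⁆⁆ * ⁅v, ⁅a⁻¹, x⁆⁆ = ⁅v, ⁅a⁻¹, x⁆⁆ * ⁅u, ⁅a⁻¹, x⁆⁆ := by
    have h3 := P.form_mem C hp2 ha hu hx
    have h4 := P.form_mem C hp2 ha hv hx
    exact C.cent r P.mem r P.L.root P.L.pos.le _ (C.le _ P.mem h3) _ h4
  rw [h2]
  set g := ⁅a⁻¹, x⁆
  calc ⁅u * v, g⁆ = u * ⁅v, g⁆ * u⁻¹ * ⁅u, g⁆ := by simp only [commutatorElement_def]; group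
    _ = ⁅v, g⁆ * ⁅u, g⁆ := by rw [h1]; group

theorem form_symm {a u v : Y} (ha : a ∈ Z (r - (2 : ℤ) • y)) (hu : u ∈ X y) (hv : v ∈ X y) :
    ⁅u, ⁅a⁻¹, v⁆⁆ = ⁅v, ⁅a⁻¹, u⁆⁆ := by
  -- `⁅a⁻¹, u v⁆ = ⁅a⁻¹, u⁆ ⁅u, ⁅a⁻¹, v⁆⁆ ⁅a⁻¹, v⁆`
  have key : ∀ u v : Y, ⁅a⁻¹, u * v⁆ = ⁅a⁻¹, u⁆ * ⁅u, ⁅a⁻¹, v⁆⁆ * ⁅a⁻¹, v⁆ := by
    intro u v
    simp only [commutatorElement_def]; group
  have h1 := key u v
  have h2 := key v u
  rw [P.aby C hu hv, h2] at h1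
  obtain ⟨c, hc, d, hd, e, -⟩ := P.gam C ha hu
  obtain ⟨c', hc', d', hd', e', -⟩ := P.gam C ha hv
  have m1 := P.form_mem C hp2 ha hu hv
  have m2 := P.form_mem C hp2 ha hv hu
  have hdr := C.le _ P.mem hd
  have hdr' := C.le _ P.mem hd'
  have rr : ∀ {a b : Y}, a ∈ Z r → b ∈ Z r → a * b = b * a := fun ha hb =>
    C.cent r P.mem r P.L.root P.L.pos.le _ (C.le _ P.mem ha) _ hb
  have cr : ∀ {a b : Y}, a ∈ X (r - y) → b ∈ Z r → a * b = b * a := fun ha hb => P.cwr C.rgd ha (C.le _ P.mem hb)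
  -- everything commutes
  have s1 : ⁅a⁻¹, u⁆ * ⁅a⁻¹, v⁆ = ⁅a⁻¹, v⁆ * ⁅a⁻¹, u⁆ := by
    rw [e, e']
    calc c * d * (c' * d') = c * (d * c') * d' := by group
      _ = (c * c') * (d * d') := by rw [← cr hc' hd]; group
      _ = (c' * c) * (d' * d) := by rw [P.abw C hc hc', rr hd hd']
      _ = c' * (c * d') * d := by group
      _ = c' * d' * (c * d) := by rw [cr hc hd']; group
  have s2 : ∀ g ∈ Z r, ∀ c ∈ X (r - y), ∀ d ∈ Z r, g * (c * d) = c * d * g := by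
    intro g hg c hc d hd
    calc g * (c * d) = (g * c) * d := by group
      _ = c * (g * d) := by rw [← cr hc hg]; group
      _ = c * d * g := by rw [rr hg hd]; group
  have t1 : ⁅a⁻¹, v⁆ * ⁅v, ⁅a⁻¹, u⁆⁆ * ⁅a⁻¹, u⁆ = ⁅v, ⁅a⁻¹, u⁆⁆ * (⁅a⁻¹, v⁆ * ⁅a⁻¹, u⁆) := by
    have := s2 _ m2 c' hc' d' hd'
    rw [e', ← this]; group
  have t2 : ⁅a⁻¹, u⁆ * ⁅u, ⁅a⁻¹, v⁆⁆ * ⁅a⁻¹, v⁆ = ⁅u, ⁅a⁻¹, v⁆⁆ * (⁅a⁻¹, u⁆ * ⁅a⁻¹, v⁆) := by
    have := s2 _ m1 c hc d hd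
    rw [e, ← this]; group
  rw [t1, t2, s1] at h1
  exact (mul_right_cancel h1).symm

/-- **LEMMA S.** -/
theorem triv {K : Subgroup Y} {e : Y} (hK : QK K e) (hr : ∀ a ∈ Z r, ∀ k ∈ K, k * a = a * k)
    (hq : ∀ a ∈ Z (r - (2 : ℤ) • y), ∀ k ∈ K, k * a = a * k) (hn : ∀ k ∈ K, ∀ u ∈ X y, k * u * k⁻¹ ∈ X y) :
    ∀ u ∈ X y, e * u = u * e := by
  obtain ⟨a, ha, ha1⟩ : ∃ a ∈ Z (r - (2 : ℤ) • y), a ≠ 1 := by
    by_contra hcon
    push Not at hcon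
    exact C.ne_bot _ (P.memq C) ((Subgroup.eq_bot_iff_forall _).2 hcon)
  refine triv_of_form hp2 hK (U := X y) (A := Z r) (C.rgd.pgrp' P.root)
    ((C.rgd.pgrp' P.L.root).to_le (C.le _ P.mem)) hn (b := fun u v => ⁅u, ⁅a⁻¹, v⁆⁆)
    (fun u hu v hv => P.form_mem C hp2 ha hu hv) (fun u hu v hv w hw => P.form_add C hp2 ha hu hv hw)
    (fun u hu v hv => P.form_symm C hp2 ha hu hv) (fun k hk u hu v hv => ?_)
    (fun u hu h0 => P.aniso C hp2 ha ha1 hu h0)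
  have h1 := hq a ha k hk
  have h2 := hr _ (P.form_mem C hp2 ha hu hv) k hk
  have h3 : k * a⁻¹ * k⁻¹ = a⁻¹ := by
    have : k * a⁻¹ * k⁻¹ = (k * a * k⁻¹)⁻¹ := by group
    rw [this, h1]; group
  have h4 : ⁅k * u * k⁻¹, ⁅a⁻¹, k * v * k⁻¹⁆⁆ = k * ⁅u, ⁅a⁻¹, v⁆⁆ * k⁻¹ := by
    calc ⁅k * u * k⁻¹, ⁅a⁻¹, k * v * k⁻¹⁆⁆ = ⁅k * u * k⁻¹, ⁅k * a⁻¹ * k⁻¹, k * v * k⁻¹⁆⁆ := by rw [h3]
      _ = _ := by simp only [commutatorElement_def]; group
  change ⁅k * u * k⁻¹, ⁅a⁻¹, k * v * k⁻¹⁆⁆ = ⁅u, ⁅a⁻¹, v⁆⁆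
  rw [h4, h2]; group

end cls

end Pl

end plane

end Cfsg.Agent.LOC.LemS
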