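import Mathlib
import Cfsg.Agent.Cit.Nil.LO.LemS
import Cfsg.Agent.Nodes.CardSup
import Cfsg.Agent.Cit.DWarn

/-!
# Lie odd sections, the chart part: `B₂`-planes with non-abelian long root groups (S1309, (n1), piece (C), `SU_{2n+1}`)

* `card_le` : an anisotropic form on a `p`-group `P` modulo `N` with values in an abelian group `A` modulo `B`:
  `|P| |B|² ≤ |A|² |N|`;
* `UK` : an element `1 ≠ u ∈ X y`, the Weyl element `k`: `u x u⁻¹ = x (cc u k x) (k x k⁻¹)` for `x ∈ X q`;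
* `nd` : **nondegeneracy**: if `x ∈ X q`, `x ∉ Z q`, `x' ∈ X r` commute, then `x' ∈ Z r`.
-/

set_option autoImplicit false
set_option linter.unusedSectionVars false
set_option linter.dupNamespace false

namespace Cfsg.Agent.LOC.CnNd

open CoxeterSystem Cfsg.Agent.ChevalleyStructure.CoxeterGeom Cfsg.Agent.Tits.Roots Cfsg.Agent.Tits.Core
  Cfsg.Agent.Tits.RootComb Cfsg.Agent.Nodes.Comb Cfsg.Agent.Nodes.SubComb Cfsg.Agent.Nodes.Reps
  Cfsg.Agent.Nodes.Coroot Cfsg.Agent.Nodes.PosPair Cfsg.Agent.Nodes.BNOf Cfsg.Agent.Nodes.RGDLib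
  Cfsg.Agent.Nodes.Chart Cfsg.Agent.Nodes.ClsNorm Cfsg.Agent.Nodes.ChartLoc Cfsg.Agent.Nodes.ChartFrame
  Cfsg.Agent.Nodes.Bruhat Cfsg.Agent.Nodes.CenVV Cfsg.Agent.LOC.ChartDefs Cfsg.Agent.LOC.LemS
open scoped commutatorElement

/-! ### Counting -/

section count

variable {Y : Type*} [Group Y] [Finite Y] {p : ℕ}

/-- an anisotropic form modulo subgroups -/
theorem card_le [Fact p.Prime] {P N A B : Subgroup Y} (hNP : N ≤ P) (hBA : B ≤ A)
    (hPN : ∀ x ∈ P, ∀ y ∈ P, (x * y)⁻¹ * (y * x) ∈ N) (hNc : ∀ n ∈ N, ∀ x ∈ P, x * n * x⁻¹ ∈ N)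
    (hP : ∀ x ∈ P, x ^ p ∈ N)
    (hA : ∀ a ∈ A, ∀ b ∈ A, a * b = b * a) (hAp : ∀ a ∈ A, a ^ p ∈ B) (b : Y → Y → Y)
    (hb : ∀ x ∈ P, ∀ y ∈ P, b x y ∈ A) (h1 : ∀ x ∈ P, ∀ y ∈ P, ∀ z ∈ P, b (x * y) z = b x z * b y z)
    (h2 : ∀ x ∈ P, ∀ y ∈ P, ∀ z ∈ P, b x (y * z) = b x y * b x z)
    (hN1 : ∀ x ∈ N, ∀ y ∈ P, b x y = 1) (hN2 : ∀ x ∈ P, ∀ y ∈ N, b x y = 1)
    (han : ∀ x ∈ P, b x x ∈ B → x ∈ N) : Nat.card P * Nat.card B ^ 2 ≤ Nat.card A ^ 2 * Nat.card N := by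
  -- the quotient of `P`
  let N' : Subgroup P := N.subgroupOf P
  have hN'n : N'.Normal := ⟨fun n hn g => by
    rw [Subgroup.mem_subgroupOf] at hn ⊢
    exact hNc _ hn _ g.2⟩
  let iA : CommGroup A := { (inferInstance : Group A) with
    mul_comm := fun a b => Subtype.ext (hA a.1 a.2 b.1 b.2) }
  let B' : Subgroup A := B.subgroupOf A
  let iP : CommGroup (P ⧸ N') := { (inferInstance : Group (P ⧸ N')) with
    mul_comm := by
      intro a b
      obtain ⟨a, rfl⟩ := QuotientGroup.mk_surjective a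
      obtain ⟨b, rfl⟩ := QuotientGroup.mk_surjective b
      rw [← QuotientGroup.mk_mul, ← QuotientGroup.mk_mul, QuotientGroup.eq, Subgroup.mem_subgroupOf]
      exact hPN _ a.2 _ b.2 }
  have key : ∀ x ∈ P, ∀ y ∈ P, ∀ x' ∈ P, ∀ y' ∈ P, x⁻¹ * x' ∈ N → y⁻¹ * y' ∈ N → b x y = b x' y' := by
    intro x hx y hy x' hx' y' hy' h3 h4
    have e1 : x' = x * (x⁻¹ * x') := by group
    have e2 : y' = y * (y⁻¹ * y') := by group
    rw [e1, e2, h1 _ hx _ (hNP h3) _ (mul_mem hy (hNP h4)), h2 _ hx _ hy _ (hNP h4), hN2 _ hx _ h4,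
      hN1 _ h3 _ (mul_mem hy (hNP h4)), mul_one, mul_one]
  let f : P ⧸ N' → P ⧸ N' → A ⧸ B' := fun x y =>
    ((⟨b (x.out : P).1 (y.out : P).1, hb _ (x.out : P).2 _ (y.out : P).2⟩ : A) : A ⧸ B')
  have hf : ∀ x y : P, f (x : P ⧸ N') (y : P ⧸ N') = ((⟨b x.1 y.1, hb _ x.2 _ y.2⟩ : A) : A ⧸ B') := by
    intro x y
    have h3 : ((x : P ⧸ N').out : P)⁻¹ * x ∈ N' := by
      rw [← QuotientGroup.eq, QuotientGroup.out_eq']
    have h4 : ((y : P ⧸ N').out : P)⁻¹ * y ∈ N' := by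
      rw [← QuotientGroup.eq, QuotientGroup.out_eq']
    have h5 := key _ ((x : P ⧸ N').out : P).2 _ ((y : P ⧸ N').out : P).2 _ x.2 _ y.2
      (Subgroup.mem_subgroupOf.1 h3) (Subgroup.mem_subgroupOf.1 h4)
    show ((⟨b ((x : P ⧸ N').out : P).1 ((y : P ⧸ N').out : P).1, _⟩ : A) : A ⧸ B') = _
    congr 1
    exact Subtype.ext h5
  have hcard := Cit.DWarn.card_le_sq (p := p) (P := P ⧸ N') (A := A ⧸ B') (fun x => by
      obtain ⟨x, rfl⟩ := QuotientGroup.mk_surjective x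
      have h3 : ((x ^ p : P) : P ⧸ N') = 1 := by
        rw [QuotientGroup.eq_one_iff, Subgroup.mem_subgroupOf]
        exact hP _ x.2
      exact h3) (fun x => by
      obtain ⟨x, rfl⟩ := QuotientGroup.mk_surjective x
      have h3 : ((x ^ p : A) : A ⧸ B') = 1 := by
        rw [QuotientGroup.eq_one_iff, Subgroup.mem_subgroupOf]
        exact hAp _ x.2
      exact h3) f (fun x y z => by
      obtain ⟨x, rfl⟩ := QuotientGroup.mk_surjective x
      obtain ⟨y, rfl⟩ := QuotientGroup.mk_surjective y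
      obtain ⟨z, rfl⟩ := QuotientGroup.mk_surjective z
      have e1 : f ((x : P ⧸ N') * (y : P ⧸ N')) (z : P ⧸ N') = f ((x * y : P) : P ⧸ N') (z : P ⧸ N') := rfl
      rw [e1, hf, hf, hf]
      have h3 : (⟨b (x * y : P).1 z.1, hb _ (x * y).2 _ z.2⟩ : A) =
          ⟨b x.1 z.1, hb _ x.2 _ z.2⟩ * ⟨b y.1 z.1, hb _ y.2 _ z.2⟩ := Subtype.ext (h1 _ x.2 _ y.2 _ z.2)
      rw [h3]; rfl) (fun x y z => by
      obtain ⟨x, rfl⟩ := QuotientGroup.mk_surjective x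
      obtain ⟨y, rfl⟩ := QuotientGroup.mk_surjective y
      obtain ⟨z, rfl⟩ := QuotientGroup.mk_surjective z
      have e1 : f (x : P ⧸ N') ((y : P ⧸ N') * (z : P ⧸ N')) = f (x : P ⧸ N') ((y * z : P) : P ⧸ N') := rfl
      rw [e1, hf, hf, hf]
      have h3 : (⟨b x.1 (y * z : P).1, hb _ x.2 _ (y * z).2⟩ : A) =
          ⟨b x.1 y.1, hb _ x.2 _ y.2⟩ * ⟨b x.1 z.1, hb _ x.2 _ z.2⟩ := Subtype.ext (h2 _ x.2 _ y.2 _ z.2)
      rw [h3]; rfl) (fun x hx => by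
      obtain ⟨x, rfl⟩ := QuotientGroup.mk_surjective x
      rw [hf] at hx
      have h3 : (⟨b x.1 x.1, hb _ x.2 _ x.2⟩ : A) ∈ B' := (QuotientGroup.eq_one_iff _).1 hx
      have h4 : x ∈ N' := Subgroup.mem_subgroupOf.2 (han _ x.2 (Subgroup.mem_subgroupOf.1 h3))
      exact (QuotientGroup.eq_one_iff x).2 h4)
  have c1 : Nat.card P = Nat.card (P ⧸ N') * Nat.card N := by
    rw [Subgroup.card_eq_card_quotient_mul_card_subgroup N']
    congr 1
    exact Nat.card_congr (Subgroup.subgroupOfEquivOfLe hNP).toEquiv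
  have c2 : Nat.card A = Nat.card (A ⧸ B') * Nat.card B := by
    rw [Subgroup.card_eq_card_quotient_mul_card_subgroup B']
    congr 1
    exact Nat.card_congr (Subgroup.subgroupOfEquivOfLe hBA).toEquiv
  rw [c1, c2]
  calc Nat.card (P ⧸ N') * Nat.card N * Nat.card B ^ 2 ≤ Nat.card (A ⧸ B') ^ 2 * Nat.card N * Nat.card B ^ 2 :=
        Nat.mul_le_mul_right _ (Nat.mul_le_mul_right _ hcard)
    _ = (Nat.card (A ⧸ B') * Nat.card B) ^ 2 * Nat.card N := by ring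

end count

/-! ### One element of `X y` -/

section plane

variable {I W Y : Type*} [Fintype I] [DecidableEq I] [Group W] [Fintype W] [Group Y] {M : CoxeterMatrix I}
  {cs : CoxeterSystem M W} {A : I → I → ℤ} {h : IsCartan M A} {p : ℕ} {T : Subgroup Y} {n : I → Y}
  {X : (I → ℤ) → Subgroup Y} {R : Set (I → ℤ)} {Z : (I → ℤ) → Subgroup Y} {z : (I → ℤ) → Y}

/-- `c` in `u x u⁻¹ = x c (k x k⁻¹)` -/
def cc (u k x : Y) : Y := x⁻¹ * (u * x * u⁻¹) * (k * x * k⁻¹)⁻¹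

/-- the commutator form -/
def sg (k x x' : Y) : Y := ⁅(k * x * k⁻¹)⁻¹, x'⁻¹⁆

theorem cc_eq (u k x : Y) : u * x * u⁻¹ = x * cc u k x * (k * x * k⁻¹) := by
  unfold cc; group

/-- an element `1 ≠ u ∈ X y` -/
structure UK (X Z : (I → ℤ) → Subgroup Y) (r y : I → ℤ) (u k : Y) : Prop where
  mem : u ∈ X y
  ne : u ≠ 1
  d : ∀ x ∈ X (r - (2 : ℤ) • y), k * x * k⁻¹ ∈ X r
  dZ : ∀ x ∈ Z (r - (2 : ℤ) • y), k * x * k⁻¹ ∈ Z r
  c : ∀ x ∈ X (r - (2 : ℤ) • y), cc u k x ∈ X (r - y)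

variable {r y : I → ℤ} (P : Pl cs h R r y)

include P

/-- the plane with the other short root -/
theorem flip : Pl cs h R r (r - y) where
  L := P.L
  mem := P.mem
  root := P.rootw
  h1 := by rw [P.fwr, P.frr]
  h2 := by
    have h3 := P.form_pt 1 (-1) 1 (-1)
    have e1 : (1 : ℤ) • r + (-1 : ℤ) • y = r - y := by module
    rw [e1] at h3
    rw [h3, P.frr]; ring

section rgd

variable (Rd : RGD cs h p T n X)

include Rd

/-- uniqueness of `c d` -/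
theorem uniq {c d c' d' : Y} (hc : c ∈ X (r - y)) (hd : d ∈ X r) (hc' : c' ∈ X (r - y)) (hd' : d' ∈ X r)
    (e : c * d = c' * d') : c = c' ∧ d = d' := by
  have h1 : d * d'⁻¹ = 1 := by
    refine P.sep_r Rd (mul_mem hd (inv_mem hd')) (Subgroup.mem_sup_left ?_)
    have : d * d'⁻¹ = c⁻¹ * c' := by
      calc d * d'⁻¹ = c⁻¹ * (c * d) * d'⁻¹ := by group
        _ = c⁻¹ * c' := by rw [e]; group
    rw [this]
    exact mul_mem (inv_mem hc) hc'
  have h2 := mul_inv_eq_one.1 h1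
  rw [h2] at e
  exact ⟨mul_right_cancel e, h2⟩

/-- `⁅a b, c⁆ = ⁅a, c⁆ ⁅b, c⁆` for `a, b ∈ X r`, `c ∈ X q` -/
theorem com_left {a b c : Y} (ha : a ∈ X r) (hb : b ∈ X r) (hc : c ∈ X (r - (2 : ℤ) • y)) :
    ⁅a * b, c⁆ = ⁅b, c⁆ * ⁅a, c⁆ := by
  have h1 := P.cwr Rd (P.mrq Rd hb hc) ha
  calc ⁅a * b, c⁆ = a * ⁅b, c⁆ * a⁻¹ * ⁅a, c⁆ := by simp only [commutatorElement_def]; group
    _ = ⁅b, c⁆ * ⁅a, c⁆ := by rw [← h1]; group

theorem com_right {a b c : Y} (ha : a ∈ X r) (hb : b ∈ X (r - (2 : ℤ) • y)) (hc : c ∈ X (r - (2 : ℤ) • y)) :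
    ⁅a, b * c⁆ = ⁅a, b⁆ * ⁅a, c⁆ := by
  have h1 := P.cwq Rd (P.mrq Rd ha hc) hb
  calc ⁅a, b * c⁆ = ⁅a, b⁆ * (b * ⁅a, c⁆ * b⁻¹) := by simp only [commutatorElement_def]; group
    _ = ⁅a, b⁆ * ⁅a, c⁆ := by rw [← h1]; group

end rgd

variable (C : Cls cs h p T n X R Z z)

include C

theorem exists_uk {u : Y} (hu : u ∈ X y) (hu1 : u ≠ 1) : ∃ k, UK X Z r y u k := by
  obtain ⟨w, k, hk, hw, H⟩ := P.conj C hu hu1
  refine ⟨k, hu, hu1, fun x hx => (H x hx).1, fun x hx => ?_, fun x hx => ?_⟩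
  · have h3 := Nodes.ClsNorm.conj_Z C hk (P.memq C)
    rw [P.rep_q C hw] at h3
    rw [← h3]
    exact conj_mem_cj.2 hx
  · obtain ⟨-, c, hc, e⟩ := H x hx
    have : cc u k x = c := by
      unfold cc
      rw [e]; group
    rwa [this]

variable {u k : Y} (D : UK X Z r y u k)

include D

theorem sg_mem {x x' : Y} (hx : x ∈ X (r - (2 : ℤ) • y)) (hx' : x' ∈ X (r - (2 : ℤ) • y)) :
    sg k x x' ∈ X (r - y) := P.mrq C.rgd (inv_mem (D.d x hx)) (inv_mem hx')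

/-- `c` is determined by the equation -/
theorem cc_of_eq {x c d : Y} (hx : x ∈ X (r - (2 : ℤ) • y)) (hc : c ∈ X (r - y)) (hd : d ∈ X r)
    (e : u * x * u⁻¹ = x * c * d) : cc u k x = c ∧ k * x * k⁻¹ = d := by
  refine uniq P C.rgd (D.c x hx) (D.d x hx) hc hd ?_
  rw [cc_eq u k x] at e
  have : x * (cc u k x * (k * x * k⁻¹)) = x * (c * d) := by rw [← mul_assoc, e, mul_assoc]
  exact mul_left_cancel this

theorem cc_mul {x x' : Y} (hx : x ∈ X (r - (2 : ℤ) • y)) (hx' : x' ∈ X (r - (2 : ℤ) • y)) :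
    cc u k (x * x') = cc u k x * cc u k x' * sg k x x' := by
  have hc := D.c x hx
  have hc' := D.c x' hx'
  have hd := D.d x hx
  have hd' := D.d x' hx'
  have hs := sg_mem P C D hx hx'
  refine (cc_of_eq P C D (mul_mem hx hx') (mul_mem (mul_mem hc hc') hs) (mul_mem hd hd') ?_).1
  have q1 := P.cwq C.rgd hc hx'
  have q2 := P.cwq C.rgd hs hx'
  have q3 := P.cwr C.rgd (mul_mem hs hc') hd
  have q4 := P.abw C hs hc'
  set c := cc u k x with hcd
  set c' := cc u k x' with hcd'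
  set d := k * x * k⁻¹ with hdd
  set d' := k * x' * k⁻¹ with hdd'
  have e1 : d * x' = x' * (d * sg k x x') := by
    unfold sg; rw [← hdd, commutatorElement_def]; group
  calc u * (x * x') * u⁻¹ = (u * x * u⁻¹) * (u * x' * u⁻¹) := by group
    _ = (x * c * d) * (x' * c' * d') := by rw [cc_eq u k x, cc_eq u k x', ← hcd, ← hcd', ← hdd, ← hdd']
    _ = x * c * (d * x') * c' * d' := by group
    _ = x * (c * x') * (d * sg k x x') * c' * d' := by rw [e1]; group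
    _ = x * (x' * c) * (d * (sg k x x' * c')) * d' := by rw [q1]; group
    _ = x * x' * c * (sg k x x' * c' * d) * d' := by rw [q3]; group
    _ = x * x' * c * (c' * sg k x x' * d) * d' := by rw [q4]
    _ = x * x' * (c * c' * sg k x x') * (d * d') := by group

theorem cc_ne {x : Y} (hx : x ∈ X (r - (2 : ℤ) • y)) (h0 : cc u k x = 1) : x = 1 := by
  by_contra hx1
  refine D.ne (P.ne_one C D.mem hx hx1 (D.d x hx) ?_)
  have := cc_eq u k x
  rwa [h0, mul_one] at this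

theorem sg_left {x x' v : Y} (hx : x ∈ X (r - (2 : ℤ) • y)) (hx' : x' ∈ X (r - (2 : ℤ) • y))
    (hv : v ∈ X (r - (2 : ℤ) • y)) : sg k (x * x') v = sg k x v * sg k x' v := by
  have e : (k * (x * x') * k⁻¹)⁻¹ = (k * x' * k⁻¹)⁻¹ * (k * x * k⁻¹)⁻¹ := by group
  unfold sg
  rw [e, com_left P C.rgd (inv_mem (D.d x' hx')) (inv_mem (D.d x hx)) (inv_mem hv)]

theorem sg_right {x x' v : Y} (hx : x ∈ X (r - (2 : ℤ) • y)) (hx' : x' ∈ X (r - (2 : ℤ) • y))
    (hv : v ∈ X (r - (2 : ℤ) • y)) : sg k v (x * x') = sg k v x * sg k v x' := by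
  unfold sg
  rw [mul_inv_rev x x', com_right P C.rgd (inv_mem (D.d v hv)) (inv_mem hx') (inv_mem hx)]
  exact P.abw C (P.mrq C.rgd (inv_mem (D.d v hv)) (inv_mem hx')) (P.mrq C.rgd (inv_mem (D.d v hv)) (inv_mem hx))

theorem sg_Zl {x v : Y} (hx : x ∈ Z (r - (2 : ℤ) • y)) (hv : v ∈ X (r - (2 : ℤ) • y)) : sg k x v = 1 := by
  unfold sg
  rw [commutatorElement_eq_one_iff_mul_comm]
  exact P.czrq C (inv_mem (D.dZ x hx)) (inv_mem hv)

theorem sg_Zr {x v : Y} (hx : x ∈ X (r - (2 : ℤ) • y)) (hv : v ∈ Z (r - (2 : ℤ) • y)) : sg k x v = 1 := by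
  unfold sg
  rw [commutatorElement_eq_one_iff_mul_comm]
  exact C.cent _ (P.memq C) _ P.L.root (by rw [P.frq]) _ (inv_mem (D.d x hx)) _ (inv_mem hv)

/-- `L_u` -/
def LL (_P : Pl cs h R r y) (_C : Cls cs h p T n X R Z z) (u k : Y) : Subgroup Y :=
  Subgroup.closure {c | ∃ x ∈ Z (r - (2 : ℤ) • y), c = cc u k x}

theorem mem_LL {c : Y} : c ∈ LL P C u k ↔ ∃ x ∈ Z (r - (2 : ℤ) • y), c = cc u k x := by
  have hle := C.le _ (P.memq C)
  constructor
  · intro hc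
    refine Subgroup.closure_induction (p := fun c _ => ∃ x ∈ Z (r - (2 : ℤ) • y), c = cc u k x) (fun c hc => hc)
      ?_ ?_ ?_ hc
    · exact ⟨1, one_mem _, by unfold cc; group⟩
    · rintro a b - - ⟨x, hx, rfl⟩ ⟨x', hx', rfl⟩
      refine ⟨x * x', mul_mem hx hx', ?_⟩
      rw [cc_mul P C D (hle hx) (hle hx'), sg_Zl P C D hx (hle hx'), mul_one]
    · rintro a - ⟨x, hx, rfl⟩
      refine ⟨x⁻¹, inv_mem hx, ?_⟩
      have h1 := cc_mul P C D (hle hx) (hle (inv_mem hx))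
      rw [sg_Zl P C D hx (hle (inv_mem hx)), mul_one, mul_inv_cancel] at h1
      have h2 : cc u k 1 = 1 := by unfold cc; group
      rw [h2] at h1
      exact inv_eq_of_mul_eq_one_right h1.symm
  · exact fun hc => Subgroup.subset_closure hc

theorem LL_le : LL P C u k ≤ X (r - y) := by
  intro c hc
  obtain ⟨x, hx, rfl⟩ := (mem_LL P C D).1 hc
  exact D.c x (C.le _ (P.memq C) hx)

theorem cc_inj {x x' : Y} (hx : x ∈ X (r - (2 : ℤ) • y)) (hx' : x' ∈ Z (r - (2 : ℤ) • y))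
    (e : cc u k x = cc u k x') : x = x' := by
  have hle := C.le _ (P.memq C)
  have h1 := cc_mul P C D hx (hle (inv_mem hx'))
  have h2 := cc_mul P C D (hle hx') (hle (inv_mem hx'))
  rw [sg_Zr P C D hx (inv_mem hx'), mul_one, e] at h1
  rw [sg_Zl P C D hx' (hle (inv_mem hx')), mul_one, mul_inv_cancel] at h2
  rw [← h2] at h1
  have h3 : cc u k 1 = 1 := by unfold cc; group
  rw [h3] at h1
  exact mul_inv_eq_one.1 (cc_ne P C D (mul_mem hx (hle (inv_mem hx'))) h1)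

theorem mem_Z_of_cc {x : Y} (hx : x ∈ X (r - (2 : ℤ) • y)) (h0 : cc u k x ∈ LL P C u k) :
    x ∈ Z (r - (2 : ℤ) • y) := by
  obtain ⟨x', hx', e⟩ := (mem_LL P C D).1 h0
  rwa [cc_inj P C D hx hx' e]

theorem card_LL : Nat.card (LL P C u k) = Nat.card (Z (r - (2 : ℤ) • y)) := by
  refine (Nat.card_congr (Equiv.ofBijective
    (fun x : Z (r - (2 : ℤ) • y) => (⟨cc u k x.1, (mem_LL P C D).2 ⟨_, x.2, rfl⟩⟩ : LL P C u k)) ⟨?_, ?_⟩)).symm
  · intro x x' e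
    exact Subtype.ext (cc_inj P C D (C.le _ (P.memq C) x.2) x'.2 (congrArg Subtype.val e))
  · rintro ⟨c, hc⟩
    obtain ⟨x, hx, rfl⟩ := (mem_LL P C D).1 hc
    exact ⟨⟨x, hx⟩, rfl⟩

/-- `cc (z q x z q) = cc x` -/
theorem cc_cj {x : Y} (hx : x ∈ X (r - (2 : ℤ) • y)) :
    cc u k (z (r - (2 : ℤ) • y) * x * z (r - (2 : ℤ) • y)) = cc u k x := by
  have hq := P.memq C
  have hr := P.mem
  have hpos := P.pos
  set ζ := z (r - (2 : ℤ) • y) with hζ
  set ξ := z r with hξ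
  have hζ2 : ζ * ζ = 1 := C.z_sq _ hq
  have hξ2 : ξ * ξ = 1 := C.z_sq _ hr
  have nyq := P.ne (x := y) (x' := r - (2 : ℤ) • y) 0 1 1 (-2) (by module) (by module) (by omega)
  have nynq := P.ne (x := y) (x' := -(r - (2 : ℤ) • y)) 0 1 (-1) 2 (by module) (by module) (by omega)
  have nwq := P.ne (x := r - y) (x' := r - (2 : ℤ) • y) 1 (-1) 1 (-2) (by module) (by module) (by omega)
  have nwnq := P.ne (x := r - y) (x' := -(r - (2 : ℤ) • y)) 1 (-1) (-1) 2 (by module) (by module) (by omega)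
  have nyr := P.ne (x := y) (x' := r) 0 1 1 0 (by module) (by module) (by omega)
  have nynr := P.ne (x := y) (x' := -r) 0 1 (-1) 0 (by module) (by module) (by omega)
  have nwr := P.ne (x := r - y) (x' := r) 1 (-1) 1 0 (by module) (by module) (by omega)
  have nwnr := P.ne (x := r - y) (x' := -r) 1 (-1) (-1) 0 (by module) (by module) (by omega)
  have hc := D.c x hx
  have hd := D.d x hx
  set c := cc u k x with hcd
  set d := k * x * k⁻¹ with hdd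
  -- the action of `ω = ξ ζ`
  have i1 : ∀ a b : Y, b * b = 1 → ∀ t : Y, b * t * b = t⁻¹ → a * a = 1 → a * t * a = t⁻¹ →
      a * (b * t * b) * a = t := by
    intro a b _ t h1 h2 h3
    rw [h1]
    have h4 : a⁻¹ = a := inv_eq_of_mul_eq_one_left h2
    have h5 : (a * t * a)⁻¹ = a * t⁻¹ * a := by
      rw [mul_inv_rev, mul_inv_rev, h4, mul_assoc]
    rw [← h5, h3, inv_inv]
  have wu : ξ * (ζ * u * ζ) * ξ = u :=
    i1 ξ ζ hζ2 u (C.z_inv _ hq y P.root nyq nynq (by rw [P.fyq]; omega) u D.mem) hξ2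
      (C.z_inv _ hr y P.root nyr nynr (by rw [P.fyr]; omega) u D.mem)
  have wc : ξ * (ζ * c * ζ) * ξ = c :=
    i1 ξ ζ hζ2 c (C.z_inv _ hq _ P.rootw nwq nwnq (by rw [P.fwq]; omega) c hc) hξ2
      (C.z_inv _ hr _ P.rootw nwr nwnr (by rw [P.fwr]; omega) c hc)
  have hT : ∀ {s : I → ℤ}, s ∈ R → ∀ {x : I → ℤ}, IsRoot cs h x → ∀ {a : Y}, a ∈ X x → z s * a * z s ∈ X x := by
    intro s hs x hx a ha
    have h1 := C.rgd.tor x hx _ (C.z_torus s hs)
    rw [← h1]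
    have h2 : z s * a * z s = z s * a * (z s)⁻¹ := by rw [Nodes.ZRel.z_inv' C hs]
    rw [h2]
    exact conj_mem_cj.2 ha
  have wx : ξ * (ζ * x * ζ) * ξ = ζ * x * ζ := by
    have h1 := Nodes.ZRel.z_cent_of_orth C hr P.rootq (by rw [form_comm, P.frq]) (hT hq P.rootq hx)
    rw [← h1, mul_assoc, hξ2, mul_one]
  have wd : ξ * (ζ * d * ζ) * ξ ∈ X r := hT hr P.L.root (hT hq P.L.root hd)
  have e1 : u * (ζ * x * ζ) * u⁻¹ = (ζ * x * ζ) * c * (ξ * (ζ * d * ζ) * ξ) := by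
    have h1 : ξ * (ζ * (u * x * u⁻¹) * ζ) * ξ = ξ * (ζ * (x * c * d) * ζ) * ξ := by
      rw [cc_eq u k x, ← hcd, ← hdd]
    have wi : ξ * (ζ * u⁻¹ * ζ) * ξ = u⁻¹ := by
      have h2 : (ξ * (ζ * u * ζ) * ξ)⁻¹ = ξ * (ζ * u⁻¹ * ζ) * ξ := by
        have h3 : ζ⁻¹ = ζ := inv_eq_of_mul_eq_one_left hζ2
        have h4 : ξ⁻¹ = ξ := inv_eq_of_mul_eq_one_left hξ2
        rw [mul_inv_rev, mul_inv_rev, mul_inv_rev, mul_inv_rev, h3, h4]
        simp only [mul_assoc]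
      rw [← h2, wu]
    have key : ∀ a b c : Y, ξ * (ζ * (a * b * c) * ζ) * ξ =
        ξ * (ζ * a * ζ) * ξ * (ξ * (ζ * b * ζ) * ξ) * (ξ * (ζ * c * ζ) * ξ) := by
      intro a b c
      calc ξ * (ζ * (a * b * c) * ζ) * ξ = ξ * (ζ * a * 1 * b * 1 * c * ζ) * ξ := by group
        _ = ξ * (ζ * a * (ζ * 1 * ζ) * b * (ζ * 1 * ζ) * c * ζ) * ξ := by rw [mul_one ζ, hζ2]
        _ = ξ * (ζ * a * (ζ * (ξ * ξ) * ζ) * b * (ζ * (ξ * ξ) * ζ) * c * ζ) * ξ := by rw [hξ2]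
        _ = _ := by simp only [mul_assoc]
    rw [key, key, wu, wc, wx, wi] at h1
    exact h1
  exact (cc_of_eq P C D (hT hq P.rootq hx) hc wd e1).1

/-- anisotropy of `sg` modulo `L_u` -/
theorem sg_an [Fact p.Prime] (hp2 : p ≠ 2) {x : Y} (hx : x ∈ X (r - (2 : ℤ) • y))
    (h0 : sg k x x ∈ LL P C u k) : x ∈ Z (r - (2 : ℤ) • y) := by
  have hq := P.memq C
  set ζ := z (r - (2 : ℤ) • y) * x * z (r - (2 : ℤ) • y) * x with hζ
  have hζZ : ζ ∈ Z (r - (2 : ℤ) • y) := C.z_inv_self _ hq x hx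
  have hζX := C.le _ hq hζZ
  have hx' : z (r - (2 : ℤ) • y) * x * z (r - (2 : ℤ) • y) = ζ * x⁻¹ := by rw [hζ]; group
  have h1 := cc_mul P C D (mul_mem hζX (inv_mem hx)) hx
  rw [inv_mul_cancel_right, ← hx', cc_cj P C D hx, hx', sg_left P C D hζX (inv_mem hx) hx,
    sg_Zl P C D hζZ hx, one_mul] at h1
  have h2 : sg k x⁻¹ x = (sg k x x)⁻¹ := by
    have h3 := sg_left P C D hx (inv_mem hx) hx
    rw [mul_inv_cancel] at h3
    have h4 : sg k 1 x = 1 := by unfold sg; rw [mul_one, mul_inv_cancel, inv_one, commutatorElement_one_left]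
    rw [h4] at h3
    exact (inv_eq_of_mul_eq_one_right h3.symm).symm
  rw [h2] at h1
  have h5 : cc u k x * cc u k x ∈ LL P C u k := by
    have h6 : cc u k x * cc u k x = cc u k ζ * sg k x x := by rw [h1]; group
    rw [h6]
    exact mul_mem ((mem_LL P C D).2 ⟨_, hζZ, rfl⟩) h0
  refine mem_Z_of_cc P C D hx ?_
  -- odd order
  have hc := D.c x hx
  obtain ⟨m, hm⟩ := (C.rgd.pgrp' P.rootw) ⟨_, hc⟩
  have hm' : cc u k x ^ p ^ m = 1 := congrArg Subtype.val hm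
  have ho : Odd (p ^ m) := ((Fact.out : p.Prime).odd_of_ne_two hp2).pow
  obtain ⟨l, hl⟩ := ho
  have h7 : (cc u k x * cc u k x) ^ (l + 1) = cc u k x := by
    rw [← pow_two, ← pow_mul]
    have : 2 * (l + 1) = p ^ m + 1 := by omega
    rw [this, pow_succ, hm', one_mul]
  rw [← h7]
  exact pow_mem h5 _

/-! ### Counting in the plane -/

omit D

variable [Finite Y] [Fact p.Prime] (hp2 : p ≠ 2) (hexp : ∀ x ∈ Z r, x ^ p = 1)

include hp2

omit k u in
/-- the exponent of `X y` -/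
theorem exp_y (hexp : ∀ x ∈ Z r, x ^ p = 1) {v : Y} (hv : v ∈ X y) : v ^ p = 1 := by
  obtain ⟨a, ha, ha1⟩ : ∃ a ∈ Z (r - (2 : ℤ) • y), a ≠ 1 := by
    by_contra hcon
    push Not at hcon
    exact C.ne_bot _ (P.memq C) ((Subgroup.eq_bot_iff_forall _).2 hcon)
  refine P.aniso C hp2 ha ha1 (pow_mem hv p) ?_
  have key : ∀ m : ℕ, ∀ x ∈ X y, ⁅v ^ m, ⁅a⁻¹, x⁆⁆ = ⁅v, ⁅a⁻¹, x⁆⁆ ^ m := by
    intro m x hx
    induction m with
    | zero => rw [pow_zero, pow_zero, commutatorElement_one_left]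
    | succ m ih => rw [pow_succ, P.form_add C hp2 ha (pow_mem hv m) hv hx, ih, pow_succ]
  rw [key p _ (pow_mem hv p)]
  exact hexp _ (P.form_mem C hp2 ha hv (pow_mem hv p))

omit k u in
theorem card_y (hexp : ∀ x ∈ Z r, x ^ p = 1) : Nat.card (X y) ≤ Nat.card (Z r) ^ 2 := by
  obtain ⟨a, ha, ha1⟩ : ∃ a ∈ Z (r - (2 : ℤ) • y), a ≠ 1 := by
    by_contra hcon
    push Not at hcon
    exact C.ne_bot _ (P.memq C) ((Subgroup.eq_bot_iff_forall _).2 hcon)
  have rr : ∀ a ∈ Z r, ∀ b ∈ Z r, a * b = b * a := fun a ha b hb =>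
    C.cent r P.mem r P.L.root P.L.pos.le _ (C.le _ P.mem ha) _ hb
  have h1 := card_le (p := p) (P := X y) (N := ⊥) (A := Z r) (B := ⊥) bot_le bot_le
    (fun x hx x' hx' => by
      rw [Subgroup.mem_bot, P.aby C hx hx', inv_mul_cancel])
    (fun n hn x _ => by
      rw [Subgroup.mem_bot] at hn ⊢
      rw [hn]; group)
    (fun x hx => Subgroup.mem_bot.2 (exp_y P C hp2 hexp hx)) rr
    (fun x hx => Subgroup.mem_bot.2 (hexp x hx)) (fun u v => ⁅u, ⁅a⁻¹, v⁆⁆)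
    (fun x hx x' hx' => P.form_mem C hp2 ha hx hx')
    (fun x hx x' hx' v hv => P.form_add C hp2 ha hx hx' hv)
    (fun v hv x hx x' hx' => by
      show ⁅v, ⁅a⁻¹, x * x'⁆⁆ = ⁅v, ⁅a⁻¹, x⁆⁆ * ⁅v, ⁅a⁻¹, x'⁆⁆
      rw [P.form_symm C hp2 ha hv (mul_mem hx hx'), P.form_symm C hp2 ha hv hx, P.form_symm C hp2 ha hv hx',
        P.form_add C hp2 ha hx hx' hv])
    (fun x hx x' _ => by
      rw [Subgroup.mem_bot] at hx
      show ⁅x, ⁅a⁻¹, x'⁆⁆ = 1
      rw [hx, commutatorElement_one_left])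
    (fun x _ x' hx' => by
      rw [Subgroup.mem_bot] at hx'
      show ⁅x, ⁅a⁻¹, x'⁆⁆ = 1
      rw [hx', commutatorElement_one_right, commutatorElement_one_right])
    (fun x hx h0 => Subgroup.mem_bot.2 (P.aniso C hp2 ha ha1 hx (Subgroup.mem_bot.1 h0)))
  rw [Subgroup.card_bot, one_pow, mul_one, mul_one] at h1
  exact h1

omit k u hp2 in
theorem card_w : Nat.card (X (r - y)) = Nat.card (X y) := by
  obtain ⟨s, hs⟩ := Nodes.KindBase.exists_refl cs h P.rootq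
  have h1 : cpr cs h (r - y) (r - (2 : ℤ) • y) = 1 := by
    apply cpr_eq_of_form cs h P.rootq
    have h2 := P.form_pt 1 (-2) 1 (-2)
    have e2 : (1 : ℤ) • r + (-2 : ℤ) • y = r - (2 : ℤ) • y := by module
    rw [e2] at h2
    rw [P.fwq, h2]; ring
  have h2 : rep cs h s (r - y) = y := by rw [hs, h1]; module
  rw [← Nodes.CardSup.card_X_rep C.rgd s P.rootw, h2]

omit k u hp2 in
theorem card_q : Nat.card (X (r - (2 : ℤ) • y)) = Nat.card (X r) := by
  obtain ⟨s, hs⟩ := Nodes.KindBase.exists_refl cs h P.root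
  rw [← Nodes.CardSup.card_X_rep C.rgd s P.rootq, P.rep_q C hs]

omit k u hp2 in
theorem card_Zq : Nat.card (Z (r - (2 : ℤ) • y)) = Nat.card (Z r) := by
  obtain ⟨s, hs⟩ := Nodes.KindBase.exists_refl cs h P.root
  obtain ⟨g, hg⟩ := exists_rp cs C.rgd.nsys s
  have h3 := Nodes.ClsNorm.conj_Z C hg (P.memq C)
  rw [P.rep_q C hs] at h3
  rw [← h3]
  exact (Nodes.CardSup.card_cj _).symm

include D in
/-- `|X r| |Z r| ≤ |X w|²` -/
theorem card_r (hexp : ∀ x ∈ Z r, x ^ p = 1) : Nat.card (X r) * Nat.card (Z r) ≤ Nat.card (X (r - y)) ^ 2 := by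
  have hq := P.memq C
  have hle := C.le _ hq
  have hpw : ∀ a ∈ X (r - y), a ^ p = 1 := fun a ha => exp_y (flip P) C hp2 hexp ha
  have hZc : ∀ n ∈ Z (r - (2 : ℤ) • y), ∀ x ∈ X (r - (2 : ℤ) • y), x * n = n * x := fun n hn x hx =>
    C.cent _ hq _ P.rootq (P.swap C).L.pos.le _ hx _ hn
  have hone : ∀ v, sg k 1 v = 1 := by
    intro v
    unfold sg
    rw [mul_one, mul_inv_cancel, inv_one, commutatorElement_one_left]
  have hone' : ∀ v, sg k v 1 = 1 := by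
    intro v
    unfold sg
    rw [inv_one, commutatorElement_one_right]
  have hl : ∀ m : ℕ, ∀ x ∈ X (r - (2 : ℤ) • y), ∀ v ∈ X (r - (2 : ℤ) • y), sg k (x ^ m) v = sg k x v ^ m := by
    intro m x hx v hv
    induction m with
    | zero => rw [pow_zero, pow_zero, hone]
    | succ m ih => rw [pow_succ, sg_left P C D (pow_mem hx m) hx hv, ih, pow_succ]
  have key := card_le (p := p) (P := X (r - (2 : ℤ) • y)) (N := Z (r - (2 : ℤ) • y)) (A := X (r - y))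
    (B := LL P C u k) hle (LL_le P C D)
    (fun x hx x' hx' => by
      have h1 : (x * x')⁻¹ * (x' * x) = ⁅x'⁻¹, x⁻¹⁆ := by rw [commutatorElement_def]; group
      rw [h1]
      exact commutator_VV_le C hp2 hq (Subgroup.commutator_mem_commutator
        ((P.swap C).X_r_le (inv_mem hx')) ((P.swap C).X_r_le (inv_mem hx))))
    (fun n hn x hx => by
      rw [hZc n hn x hx, mul_inv_cancel_right]
      exact hn)
    (fun x hx => by
      refine sg_an P C D hp2 (pow_mem hx p) ?_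
      rw [hl p x hx _ (pow_mem hx p), hpw _ (sg_mem P C D hx (pow_mem hx p))]
      exact one_mem _)
    (fun a ha b hb => P.abw C ha hb) (fun a ha => by rw [hpw a ha]; exact one_mem _) (sg k)
    (fun x hx x' hx' => sg_mem P C D hx hx') (fun x hx x' hx' v hv => sg_left P C D hx hx' hv)
    (fun v hv x hx x' hx' => sg_right P C D hx hx' hv) (fun x hx v hv => sg_Zl P C D hx hv)
    (fun x hx v hv => sg_Zr P C D hx hv) (fun x hx h0 => sg_an P C D hp2 hx h0)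
  rw [card_LL P C D, card_q P C, card_Zq P C] at key
  have hpos : 0 < Nat.card (Z r) := Nat.card_pos
  refine Nat.le_of_mul_le_mul_right (c := Nat.card (Z r)) ?_ hpos
  calc Nat.card (X r) * Nat.card (Z r) * Nat.card (Z r) = Nat.card (X r) * Nat.card (Z r) ^ 2 := by ring
    _ ≤ Nat.card (X (r - y)) ^ 2 * Nat.card (Z r) := key

omit k u in
/-- **Nondegeneracy.** -/
theorem nd (hexp : ∀ x ∈ Z r, x ^ p = 1) {x x' : Y} (hx : x ∈ X (r - (2 : ℤ) • y))
    (hxZ : x ∉ Z (r - (2 : ℤ) • y)) (hx' : x' ∈ X r) (hc : x * x' = x' * x) : x' ∈ Z r := by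
  have hq := P.memq C
  obtain ⟨u₀, hu₀, hu1⟩ : ∃ u ∈ X y, u ≠ 1 := by
    by_contra hcon
    push Not at hcon
    exact Nodes.StdConn.X_ne_bot C P.root ((Subgroup.eq_bot_iff_forall _).2 hcon)
  obtain ⟨k₀, D₀⟩ := exists_uk P C hu₀ hu1
  have c1 := card_r P C D₀ hp2 hexp
  have c2 := card_y (flip P) C hp2 hexp
  -- the commutator with `x`
  let F : X r →* X (r - y) :=
    { toFun := fun a => ⟨⁅a.1⁻¹, x⁻¹⁆, P.mrq C.rgd (inv_mem a.2) (inv_mem hx)⟩
      map_one' := Subtype.ext (by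
        show ⁅(1 : Y)⁻¹, x⁻¹⁆ = 1
        rw [inv_one, commutatorElement_one_left])
      map_mul' := fun a b => Subtype.ext (by
        show ⁅(a.1 * b.1)⁻¹, x⁻¹⁆ = ⁅a.1⁻¹, x⁻¹⁆ * ⁅b.1⁻¹, x⁻¹⁆
        rw [mul_inv_rev, com_left P C.rgd (inv_mem b.2) (inv_mem a.2) (inv_mem hx)]) }
  have hF : ∀ a : X r, (F a).1 = ⁅a.1⁻¹, x⁻¹⁆ := fun a => rfl
  -- for each `u` an element `d`
  have hd : ∀ u : X y, ∃ d : X r, ∃ c ∈ X (r - y), u.1 * x * u.1⁻¹ = x * c * d.1 := by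
    rintro ⟨u, hu⟩
    obtain ⟨c, hc, d, hd, e⟩ := P.mqy C.rgd (inv_mem hx) hu
    refine ⟨⟨d, hd⟩, c, hc, ?_⟩
    show u * x * u⁻¹ = x * c * d
    have : u * x * u⁻¹ = x * ⁅x⁻¹, u⁆ := by rw [commutatorElement_def]; group
    rw [this, e, mul_assoc]
  choose dd c hcm he using hd
  have hinj : Function.Injective fun u : X y => (⟨F (dd u), ⟨_, rfl⟩⟩ : F.range) := by
    intro u v e
    have e' : F (dd u) = F (dd v) := congrArg Subtype.val e
    by_contra hne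
    set t := u⁻¹ * v with ht
    have ht1 : t.1 ≠ 1 := by
      intro h0
      apply hne
      have : t = 1 := Subtype.ext h0
      exact inv_mul_eq_one.1 (ht ▸ this)
    have hv : v = u * t := by rw [ht]; group
    have hv' : v.1 = u.1 * t.1 := congrArg Subtype.val hv
    -- `u c_t u⁻¹ = c_t ζ`
    have hζ : ⁅(c t)⁻¹, u.1⁆ ∈ Z r := commutator_VV_le C hp2 P.mem (Subgroup.commutator_mem_commutator
      (P.X_w_le (inv_mem (hcm t))) (P.X_y_le u.2))
    have e1 : v.1 * x * v.1⁻¹ = x * (c u * c t) * ((dd u).1 * ⁅(c t)⁻¹, u.1⁆ * (dd t).1) := by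
      have q1 := P.cyr C.rgd u.2 (dd t).2
      have q2 := P.cwr C.rgd (hcm t) (dd u).2
      have q3 : u.1 * (c t) * u.1⁻¹ = c t * ⁅(c t)⁻¹, u.1⁆ := by rw [commutatorElement_def]; group
      calc v.1 * x * v.1⁻¹ = u.1 * (t.1 * x * t.1⁻¹) * u.1⁻¹ := by rw [hv']; group
        _ = u.1 * (x * c t * (dd t).1) * u.1⁻¹ := by rw [he t]
        _ = (u.1 * x * u.1⁻¹) * (u.1 * c t * u.1⁻¹) * ((u.1 * (dd t).1) * u.1⁻¹) := by group
        _ = (x * c u * (dd u).1) * (c t * ⁅(c t)⁻¹, u.1⁆) * (((dd t).1 * u.1) * u.1⁻¹) := by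
            rw [he u, q3, q1]
        _ = x * c u * ((dd u).1 * c t) * ⁅(c t)⁻¹, u.1⁆ * (dd t).1 := by group
        _ = x * c u * (c t * (dd u).1) * ⁅(c t)⁻¹, u.1⁆ * (dd t).1 := by rw [q2]
        _ = _ := by group
    have hζX := C.le _ P.mem hζ
    have e2 : x * (c v * (dd v).1) = x * ((c u * c t) * ((dd u).1 * ⁅(c t)⁻¹, u.1⁆ * (dd t).1)) := by
      rw [← mul_assoc, ← he v, e1, mul_assoc]
    have e3 := (uniq P C.rgd (hcm v) (dd v).2 (mul_mem (hcm u) (hcm t))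
      (mul_mem (mul_mem (dd u).2 hζX) (dd t).2) (mul_left_cancel e2)).2
    have e4 : dd v = dd u * ⟨_, hζX⟩ * dd t := Subtype.ext e3
    have e5 : F ⟨_, hζX⟩ = 1 := by
      apply Subtype.ext
      rw [hF]
      show ⁅(⁅(c t)⁻¹, u.1⁆)⁻¹, x⁻¹⁆ = 1
      rw [commutatorElement_eq_one_iff_mul_comm]
      exact P.czrq C (inv_mem hζ) (inv_mem hx)
    rw [e4, map_mul, map_mul, e5, mul_one] at e'
    have e6 : F (dd t) = 1 := left_eq_mul.1 e'
    obtain ⟨k, D⟩ := exists_uk P C t.2 ht1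
    have e7 := (cc_of_eq P C D hx (hcm t) (dd t).2 (he t)).2
    have e8 : sg k x x = 1 := by
      unfold sg
      rw [e7, ← hF, e6]; rfl
    exact hxZ (sg_an P C D hp2 hx (by rw [e8]; exact one_mem _))
  have c3 : Nat.card (X y) ≤ Nat.card F.range := Nat.card_le_card_of_injective _ hinj
  have c4 : Nat.card (X r) = Nat.card F.ker * Nat.card F.range := by
    rw [Subgroup.card_eq_card_quotient_mul_card_subgroup F.ker, mul_comm]
    congr 1
    exact Nat.card_congr (QuotientGroup.quotientKerEquivRange F).toEquiv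
  rw [← card_w P C] at c3
  -- the kernel
  have c5 : Nat.card F.ker ≤ Nat.card (Z r) := by
    have hw : 0 < Nat.card (X (r - y)) := Nat.card_pos
    have hz : 0 < Nat.card (Z r) := Nat.card_pos
    set s := Nat.card (X (r - y))
    set t := Nat.card (Z r)
    set k := Nat.card F.ker
    have d1 : k * s ≤ Nat.card (X r) := by rw [c4]; exact Nat.mul_le_mul_left _ c3
    have d2 : k * s * t ≤ s ^ 2 := (Nat.mul_le_mul_right _ d1).trans c1
    have d3 : s ^ 2 ≤ s * t ^ 2 := by rw [pow_two]; exact Nat.mul_le_mul_left _ c2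
    have d4 : s * t * k ≤ s * t * t := by
      calc s * t * k = k * s * t := by ring
        _ ≤ s ^ 2 := d2
        _ ≤ s * t ^ 2 := d3
        _ = s * t * t := by ring
    exact Nat.le_of_mul_le_mul_left d4 (Nat.mul_pos hw hz)
  have hZk : (Z r).subgroupOf (X r) ≤ F.ker := by
    intro a ha
    rw [MonoidHom.mem_ker]
    apply Subtype.ext
    rw [hF]
    show ⁅a.1⁻¹, x⁻¹⁆ = 1
    rw [commutatorElement_eq_one_iff_mul_comm]
    exact P.czrq C (inv_mem (Subgroup.mem_subgroupOf.1 ha)) (inv_mem hx)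
  have hcard : Nat.card ((Z r).subgroupOf (X r)) = Nat.card (Z r) :=
    Nat.card_congr (Subgroup.subgroupOfEquivOfLe (C.le r P.mem)).toEquiv
  have heq : (Z r).subgroupOf (X r) = F.ker := by
    refine SetLike.coe_injective (Set.eq_of_subset_of_ncard_le hZk ?_ (Set.toFinite _))
    rw [← Nat.card_coe_set_eq, ← Nat.card_coe_set_eq]
    exact c5.trans_eq hcard.symm
  have hk : (⟨x', hx'⟩ : X r) ∈ F.ker := by
    rw [MonoidHom.mem_ker]
    apply Subtype.ext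
    rw [hF]
    show ⁅x'⁻¹, x⁻¹⁆ = 1
    rw [commutatorElement_eq_one_iff_mul_comm, ← mul_inv_rev, ← mul_inv_rev, hc]
  rw [← heq, Subgroup.mem_subgroupOf] at hk
  exact hk

end plane

end Cfsg.Agent.LOC.CnNd
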