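import Mathlib
import Cfsg.Agent.Cit.Nil.LO.LemS
import Cfsg.Agent.Nodes.CenVVTy
import Cfsg.Agent.Nodes.FrameCentTy

/-!
# Lie odd sections, the chart part: all short roots; long roots which are sums of short ones (types `C n`, `F₄`)

`Std cs h R` : `R` is the set of all long roots (no `G₂`).

* `Std.of_len`, `Std.exists_pl` : from the lengths of the simple roots;
* `ns_of_frame` : no root is orthogonal to `F` if some frame has as many members as the rank;
* `short_triv` : then the involution of a `Q₈` centralises `X y` for all short roots `y`;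
* `long_triv` : and `X x` for a long root `x` if `X = Z` for long roots and there are short roots.
-/

set_option autoImplicit false
set_option linter.unusedSectionVars false
set_option linter.dupNamespace false

namespace Cfsg.Agent.LOC.ShortAll

open CoxeterSystem Cfsg.Agent.ChevalleyStructure.CoxeterGeom Cfsg.Agent.Tits.Roots Cfsg.Agent.Tits.Core
  Cfsg.Agent.Tits.RootComb Cfsg.Agent.Nodes.Comb Cfsg.Agent.Nodes.SubComb Cfsg.Agent.Nodes.Reps
  Cfsg.Agent.Nodes.Coroot Cfsg.Agent.Nodes.PosPair Cfsg.Agent.Nodes.BNOf Cfsg.Agent.Nodes.RGDLib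
  Cfsg.Agent.Nodes.Chart Cfsg.Agent.Nodes.ClsNorm Cfsg.Agent.Nodes.ChartLoc Cfsg.Agent.Nodes.ChartFrame
  Cfsg.Agent.Nodes.Bruhat Cfsg.Agent.Nodes.CenVV Cfsg.Agent.LOC.ChartDefs Cfsg.Agent.LOC.LemS Cfsg.Agent.LOC.Wt
open scoped commutatorElement

variable {I W Y : Type*} [Fintype I] [DecidableEq I] [Group W] [Fintype W] [Group Y] {M : CoxeterMatrix I}
  {cs : CoxeterSystem M W} {A : I → I → ℤ} {h : IsCartan M A} {p : ℕ} {T : Subgroup Y} {n : I → Y}
  {X : (I → ℤ) → Subgroup Y} {R : Set (I → ℤ)} {Z : (I → ℤ) → Subgroup Y} {z : (I → ℤ) → Y}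

/-- `R` is the set of all long roots -/
structure Std (cs : CoxeterSystem M W) (h : IsCartan M A) (R : Set (I → ℤ)) : Prop where
  lg : ∀ r ∈ R, Lg cs h r
  long : ∀ r ∈ R, ∀ y, IsRoot cs h y → form cs h y y = form cs h r r → y ∈ R

section len

variable (irr : ∀ J : Set I, J.Nonempty → J ≠ Set.univ → ∃ a ∈ J, ∃ b, b ∉ J ∧ M a b ≠ 2) {l : I → ℤ} {lR : ℤ}
  (rel : ∀ i j, A i j * l i = A j i * l j) (hpos : ∀ i, 0 < l i) (hl : ∀ i, l i = lR ∨ 2 * l i = lR)
  (hroot : ∀ r ∈ R, IsRoot cs h r) (act : ∀ r ∈ R, ∀ w, rep cs h w r ∈ R) (hlong : ∀ i, sr i ∈ R ↔ l i = lR)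

include irr rel hpos hl hroot act hlong

theorem Std.of_len : Std cs h R where
  lg := by
    intro r hr
    obtain ⟨w, i, rfl⟩ := hroot r hr
    have hi : sr i ∈ R := by
      have := act _ hr w⁻¹
      rwa [rep_inv_apply] at this
    have hli := (hlong i).1 hi
    refine lg_of_len irr rel hpos (fun j => ?_) (fun j => ?_) w
    · rcases hl j with h1 | h1
      · omega
      · have := hpos j
        omega
    · rcases hl j with h1 | h1
      · have := hpos j
        omega
      · omega
  long := by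
    intro r hr y hy he
    obtain ⟨w, i, rfl⟩ := hroot r hr
    obtain ⟨w', j, rfl⟩ := hy
    have hi : sr i ∈ R := by
      have := act _ hr w⁻¹
      rwa [rep_inv_apply] at this
    have hli := (hlong i).1 hi
    rw [form_rep, form_rep] at he
    have h1 := form_len cs h irr rel i j
    rw [he] at h1
    have h2 := mul_left_cancel₀ (form_pos cs h (sr_ne_zero i)).ne' h1
    exact act _ ((hlong j).2 (h2.trans hli)) w'

theorem Std.exists_pl (hs : ∃ i, l i ≠ lR) (trans : ∀ r ∈ R, ∀ s ∈ R, ∃ w, s = rep cs h w r) {x : I → ℤ}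
    (hx : x ∈ R) : ∃ y, y ∉ R ∧ Pl cs h R x y := by
  have S : Std cs h R := Std.of_len irr rel hpos hl hroot act hlong
  have hJ : ∃ i, l i = lR := by
    obtain ⟨w, i, e⟩ := hroot x hx
    refine ⟨i, (hlong i).1 ?_⟩
    have := act _ hx w⁻¹
    rwa [e, rep_inv_apply] at this
  obtain ⟨a, ha, b, hb, hM⟩ := irr {i | l i = lR} hJ (by
    intro h0
    obtain ⟨i, hi⟩ := hs
    exact hi ((Set.eq_univ_iff_forall.1 h0) i))
  have ha' : sr a ∈ R := (hlong a).2 ha
  have hb' : sr b ∉ R := fun h0 => hb ((hlong b).1 h0)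
  have hab : a ≠ b := by rintro rfl; exact hb ha
  have h1 : form cs h (sr b) (sr a) < 0 := by
    have h1 := Nodes.OrthRoot.two_form_sr cs h a b
    have h2 := (ne_zero_of_adj h hab hM).1
    have h3 := form_pos cs h (sr_ne_zero a)
    have h4 := mul_neg_of_neg_of_pos h2 h3
    linarith
  have hbn : -sr b ∉ R := by
    intro h0
    apply hb'
    refine S.long _ h0 _ (isRoot_sr cs h b) ?_
    rw [form_neg_left, form_neg_right, neg_neg]
  have L := S.lg _ ha'
  have h2 : 0 < form cs h (-sr b) (sr a) := by rw [form_neg_left]; omega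
  obtain ⟨h3, h4⟩ := L.len (isRoot_sr cs h b).neg h2 (fun h0 => hbn (h0 ▸ ha'))
  have h5 : 2 * form cs h (-sr b) (-sr b) = form cs h (sr a) (sr a) := by
    rcases h4 with h4 | h4
    · exact absurd (S.long _ ha' _ (isRoot_sr cs h b).neg h4) hbn
    · exact h4
  obtain ⟨w, rfl⟩ := trans _ ha' x hx
  refine ⟨rep cs h w (-sr b), fun h0 => hbn ?_, S.lg _ hx, hx, (isRoot_sr cs h b).neg.act w, ?_, ?_⟩
  · have := act _ h0 w⁻¹
    rwa [rep_inv_apply] at this
  · rw [form_rep, form_rep]; exact h3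
  · rw [form_rep, form_rep]; exact h5

end len

theorem Std.same (S : Std cs h R) {r s : I → ℤ} (hr : r ∈ R) (hs : s ∈ R) : form cs h r r = form cs h s s :=
  le_antisymm ((S.lg s hs).le r (S.lg r hr).root) ((S.lg r hr).le s (S.lg s hs).root)

theorem Std.pl (S : Std cs h R) {y r : I → ℤ} (hy : IsRoot cs h y) (hyR : y ∉ R) (hr : r ∈ R)
    (h0 : 0 < form cs h y r) : Pl cs h R r y := by
  obtain ⟨h1, h2⟩ := (S.lg r hr).len hy h0 (fun h0 => hyR (h0 ▸ hr))
  refine ⟨S.lg r hr, hr, hy, h1, ?_⟩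
  rcases h2 with h2 | h2
  · exact absurd (S.long r hr y hy h2) hyR
  · exact h2

section F

variable {C : Cls cs h p T n X R Z z} {F : Set (I → ℤ)}

/-- no root is orthogonal to `F` -/
theorem ns_of_frame {ι : Type*} [Fintype ι] {g : ι → I → ℤ} (FS : Nodes.KindBase.FrameSys cs h R g)
    (hc : Fintype.card I ≤ Fintype.card ι) (hF : MaxF C F) {x : I → ℤ} (hx : IsRoot cs h x) :
    ∃ r ∈ F, form cs h x r ≠ 0 := by
  classical
  have hfin : F.Finite := (RGD.finite_roots (cs := cs) (h := h)).subset fun s hs => C.root s (hF.sub s hs)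
  have : Finite {r // r ∈ F ∧ 0 ≤ r} := (hfin.subset (fun r (hr : r ∈ F ∧ 0 ≤ r) => hr.1)).to_subtype
  have hne : ∀ r ∈ F, ∃ k : {r // r ∈ F ∧ 0 ≤ r}, k.1 = r ∨ k.1 = -r := by
    intro r hr
    rcases (C.root r (hF.sub r hr)).pos_or_neg with h1 | h1
    · exact ⟨⟨r, hr, h1⟩, Or.inl rfl⟩
    · exact ⟨⟨-r, hF.neg r hr, neg_nonneg.2 h1⟩, Or.inr rfl⟩
  have F' : Nodes.KindBase.FrameSys cs h R (fun k : {r // r ∈ F ∧ 0 ≤ r} => k.1) := by
    refine ⟨FS.root, FS.act, FS.le_one, fun k => hF.sub _ k.2.1, fun k l hkl => ?_, fun x hx h0 => ?_⟩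
    · refine (cpr_zero_iff cs h _ (C.root _ (hF.sub _ l.2.1))).2 (hF.orth _ k.2.1 _ l.2.1 ?_ ?_)
      · intro h0
        exact hkl (Subtype.ext h0.symm)
      · intro h0
        have h1 := l.2.2
        rw [h0] at h1
        have h2 : k.1 = 0 := le_antisymm (neg_nonneg.1 h1) k.2.2
        exact (C.root _ (hF.sub _ k.2.1)).ne_zero h2
    · obtain ⟨r, hr, h1⟩ := hF.max x hx
      obtain ⟨k, hk⟩ := hne r hr
      have h2 := (cpr_zero_iff cs h x (C.root _ (hF.sub _ k.2.1))).1 (h0 k)
      rcases hk with hk | hk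
      · rw [hk] at h2; exact h1 h2
      · rw [hk, form_neg_right, neg_eq_zero] at h2; exact h1 h2
  obtain ⟨-, σ, -⟩ := FS.exists_equiv F'
  have : Fintype {r // r ∈ F ∧ 0 ≤ r} := Fintype.ofFinite _
  obtain ⟨k, hk⟩ := Nodes.FrameCentTy.no_orth_of_card (cs := cs) (h := h) (fun k : {r // r ∈ F ∧ 0 ≤ r} => k.1)
    (fun k => (C.root _ (hF.sub _ k.2.1)).ne_zero)
    (fun k l hkl => (cpr_zero_iff cs h _ (C.root _ (hF.sub _ l.2.1))).1 (F'.orth k l hkl))
    (hc.trans_eq (Fintype.card_congr σ).symm) hx.ne_zero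
  exact ⟨k.1, k.2.1, hk⟩

variable (S : Std cs h R) (hF : MaxF C F) (ns : ∀ x, IsRoot cs h x → ∃ r ∈ F, form cs h x r ≠ 0)

include S hF ns

theorem exists_pl {y : I → ℤ} (hy : IsRoot cs h y) (hyR : y ∉ R) : ∃ r ∈ F, Pl cs h R r y := by
  obtain ⟨r, hr, h0⟩ := ns y hy
  rcases lt_or_gt_of_ne h0 with h1 | h1
  · exact ⟨-r, hF.neg r hr, S.pl hy hyR (hF.sub _ (hF.neg r hr)) (by rw [form_neg_right]; omega)⟩
  · exact ⟨r, hr, S.pl hy hyR (hF.sub _ hr) h1⟩

omit ns in
/-- `y = (r + s) / 2` with `s ∈ F` -/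
theorem q_mem {y r : I → ℤ} (hyR : y ∉ R) (hr : r ∈ F) (P : Pl cs h R r y) : r - (2 : ℤ) • y ∈ F := by
  have hq := P.memq C
  obtain ⟨t, ht, h0⟩ := hF.max _ hq
  have key : ∀ t ∈ F, form cs h (r - (2 : ℤ) • y) t < 0 → r - (2 : ℤ) • y ∈ F := by
    intro t ht h0
    have htr : t ≠ r := by
      rintro rfl
      rw [form_comm, P.frq] at h0
      exact lt_irrefl _ h0
    have htr' : t ≠ -r := by
      rintro rfl
      rw [form_neg_right, form_comm, P.frq] at h0
      exact lt_irrefl _ h0
    have hrt := hF.orth r hr t ht htr htr'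
    rw [form_sub_left, form_smul_left, hrt] at h0
    have P' := S.pl P.root hyR (hF.sub t ht) (by omega)
    have h1 : form cs h (r - (2 : ℤ) • y + t) (r - (2 : ℤ) • y + t) = 0 := by
      have f1 := P.fyr
      have f2 := P'.fyr
      have f3 := P.frr
      have f4 := P'.frr
      have f5 := form_comm cs h t r
      have f6 := form_comm cs h r y
      have f7 := form_comm cs h t y
      simp only [sub_eq_add_neg, form_add_left, form_add_right, form_neg_left, form_neg_right, form_smul_left,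
        form_smul_right]
      rw [f5, f6, f7, hrt, f1, f2, f3, f4]
      ring
    have h2 : r - (2 : ℤ) • y + t = 0 := by
      by_contra hne
      exact absurd (form_pos cs h hne) (by omega)
    rw [eq_neg_of_add_eq_zero_left h2]
    exact hF.neg t ht
  rcases lt_or_gt_of_ne h0 with h1 | h1
  · exact key t ht h1
  · exact key (-t) (hF.neg t ht) (by rw [form_neg_right]; omega)

/-- `Lam F y = {y}` -/
theorem eq_of_Lam {y y' : I → ℤ} (hy : IsRoot cs h y) (hyR : y ∉ R) (hy' : y' ∈ Lam cs h F y) : y' = y := by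
  obtain ⟨r, hr, P⟩ := exists_pl S hF ns hy hyR
  have hq := q_mem S hF hyR hr P
  have hs := hF.neg _ hq
  have hsR := hF.sub _ hs
  have hpos := P.pos
  obtain ⟨hy'r, hsg⟩ := (mem_Lam_iff hF.neg).1 hy'
  have hfs : form cs h y (-(r - (2 : ℤ) • y)) = form cs h y y := by rw [form_neg_right, P.fyq, neg_neg]
  have p1 : 0 < form cs h y' r := ((hy'.2 r hr).1 (by rw [P.fyr]; exact hpos))
  have p2 : 0 < form cs h y' (-(r - (2 : ℤ) • y)) := ((hy'.2 _ hs).1 (by rw [hfs]; exact hpos))
  have frs : form cs h r (-(r - (2 : ℤ) • y)) = 0 := by rw [form_neg_right, P.frq, neg_zero]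
  have hrr := S.same (hF.sub r hr) hsR
  by_cases hy'R : y' ∈ R
  · exfalso
    obtain ⟨a1, -⟩ := (S.lg r (hF.sub r hr)).len hy'r p1 (by
      rintro rfl
      rw [frs] at p2
      exact lt_irrefl _ p2)
    obtain ⟨b1, -⟩ := (S.lg _ hsR).len hy'r p2 (by
      intro h0
      rw [h0, form_comm, frs] at p1
      exact lt_irrefl _ p1)
    have f3 := P.frr
    rw [← hrr, f3] at b1
    rw [f3] at a1
    have e1 : form cs h y' r = form cs h y y := by omega
    have e2 : form cs h y' (-(r - (2 : ℤ) • y)) = form cs h y y := by omega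
    have e3 : form cs h y' y = form cs h y y := by
      have h1 : form cs h y' (-(r - (2 : ℤ) • y)) = -form cs h y' r + 2 * form cs h y' y := by
        rw [form_neg_right, sub_eq_add_neg, form_add_right, form_neg_right, form_smul_right]; ring
      rw [e1, e2] at h1
      omega
    have P' : Pl cs h R y' y := S.pl hy hyR hy'R (by rw [form_comm, e3]; exact hpos)
    obtain ⟨t, ht, h0⟩ := ns _ P'.rootw
    apply h0
    rw [form_sub_left]
    by_cases ht1 : t = r
    · rw [ht1, e1, P.fyr, sub_self]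
    by_cases ht2 : t = -r
    · rw [ht2, form_neg_right, form_neg_right, e1, P.fyr, sub_self]
    by_cases ht3 : t = r - (2 : ℤ) • y
    · have h1 := hfs
      rw [form_neg_right] at h1 e2
      rw [ht3]; omega
    by_cases ht4 : t = -(r - (2 : ℤ) • y)
    · rw [ht4, e2, hfs, sub_self]
    have h1 := hF.orth r hr t ht ht1 ht2
    have h2 := hF.orth _ hq t ht ht3 ht4
    have h3 : form cs h y t = 0 := by
      rw [form_sub_left, form_smul_left, h1] at h2
      omega
    have h4 := hsg t ht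
    rw [h3, sign_zero] at h4
    rw [h3, sign_eq_zero_iff.1 h4, sub_self]
  · have P' := S.pl hy'r hy'R (hF.sub r hr) p1
    have hq' := q_mem S hF hy'R hr P'
    have h1 : r - (2 : ℤ) • y' = r - (2 : ℤ) • y := by
      by_contra hne
      have h2 : r - (2 : ℤ) • y' ≠ -(r - (2 : ℤ) • y) := by
        intro h0
        have h3 := congrArg (fun t => form cs h t y) h0
        simp only [form_sub_left, form_neg_left, form_smul_left] at h3
        have h4 : form cs h y' (-(r - (2 : ℤ) • y)) = -form cs h y' r + 2 * form cs h y' y := by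
          rw [form_neg_right, sub_eq_add_neg, form_add_right, form_neg_right, form_smul_right]; ring
        have h5 := P.fry
        have h6 := P'.fyr
        have h7 := P.frr
        have h8 := P'.frr
        omega
      have h3 := hF.orth _ hq _ hq' hne h2
      rw [form_comm, form_sub_left, form_smul_left, P.frq] at h3
      rw [form_neg_right] at p2
      omega
    have h2 : (2 : ℤ) • y' = (2 : ℤ) • y := by
      have := congrArg (fun t => r - t) h1
      simpa using this
    exact smul_right_injective _ (by norm_num : (2 : ℤ) ≠ 0) h2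

theorem MM_eq {y : I → ℤ} (hy : IsRoot cs h y) (hyR : y ∉ R) : MM cs h X F y = X y := by
  apply le_antisymm
  · refine RGD.Sup_le fun x hx => ?_
    rw [eq_of_Lam S hF ns hy hyR hx]
  · exact X_le_MM (mem_Lam_self hy)

variable [Finite Y] [Fact p.Prime] (hp2 : p ≠ 2) (hT : T ≤ G1 cs h X) {K : Subgroup Y} {e : Y} (hK : QK K e)
  (hcen : Cen C F K)

include hp2 hT hK hcen

/-- **The involution of a `Q₈` centralises the short root groups.** -/
theorem short_triv {y : I → ℤ} (hy : IsRoot cs h y) (hyR : y ∉ R) : ∀ u ∈ X y, e * u = u * e := by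
  obtain ⟨r, hr, P⟩ := exists_pl S hF ns hy hyR
  have hq := q_mem S hF hyR hr P
  refine P.triv C hp2 hK (hcen.comm r hr) (hcen.comm _ hq) fun k hk u hu => ?_
  rw [← MM_eq (X := X) S hF ns hy hyR] at hu ⊢
  exact wt_inv C hT hF.sub hr (by rw [P.fyr]; exact P.pos) hcen hk hu

/-- **... and the long ones** -/
theorem long_triv {x y : I → ℤ} (P : Pl cs h R x y) (hyR : y ∉ R) (hXZ : ∀ r ∈ R, X r = Z r) :
    ∀ u ∈ X x, e * u = u * e := by
  have hwR : x - y ∉ R := by
    intro h0
    have h1 := S.same P.mem h0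
    have h2 : form cs h (x - y) (x - y) = form cs h y y := by
      have h3 := P.form_pt 1 (-1) 1 (-1)
      have e1 : (1 : ℤ) • x + (-1 : ℤ) • y = x - y := by module
      rw [e1] at h3
      rw [h3]; ring
    have h3 := P.frr
    have h4 := P.pos
    omega
  have fyw : form cs h y (x - y) = 0 := by
    rw [form_comm, form_sub_left, P.fry, sub_self]
  have fww : form cs h y y = form cs h (x - y) (x - y) := by
    have h3 := P.form_pt 1 (-1) 1 (-1)
    have e1 : (1 : ℤ) • x + (-1 : ℤ) • y = x - y := by module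
    rw [e1] at h3
    rw [h3]; ring
  have Q := Nodes.ShortSum.Sq.of_add (cs := cs) (h := h) (m := 1) one_pos P.root P.rootw P.L.root fyw fww
    (by rw [one_smul]; abel)
  have hb : x - cpr cs h x y • y ∈ R := refl_memR C P.mem P.root
  have h1 := Nodes.ShortSum.le_commutator C Fact.out hp2 Q P.mem hb (hXZ _ P.mem) (hXZ _ hb)
  have h2 : ⁅X y, X (x - y)⁆ ≤ Subgroup.centralizer {e} := by
    rw [Subgroup.commutator_le]
    intro a ha b hb
    have c1 := short_triv S hF ns hp2 hT hK hcen P.root hyR a ha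
    have c2 := short_triv S hF ns hp2 hT hK hcen P.rootw hwR b hb
    have m1 : a ∈ Subgroup.centralizer {e} := by
      rw [Subgroup.mem_centralizer_singleton_iff]; exact c1.symm
    have m2 : b ∈ Subgroup.centralizer {e} := by
      rw [Subgroup.mem_centralizer_singleton_iff]; exact c2.symm
    rw [commutatorElement_def]
    exact mul_mem (mul_mem (mul_mem m1 m2) (inv_mem m1)) (inv_mem m2)
  intro u hu
  have := h2 (h1 hu)
  rw [Subgroup.mem_centralizer_singleton_iff] at this
  exact this.symm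

end F

theorem triv_of_X (C : Cls cs h p T n X R Z z) {e : Y}
    (H : ∀ x, IsRoot cs h x → ∀ u ∈ X x, e * u = u * e) : Triv C e := by
  have h1 : G1 cs h X ≤ Subgroup.centralizer {e} := by
    refine iSup_le ?_
    rintro ⟨x, hx⟩ u hu
    rw [Subgroup.mem_centralizer_singleton_iff]
    exact (H x hx u hu).symm
  intro l hl
  have := h1 hl
  rw [Subgroup.mem_centralizer_singleton_iff] at this
  exact this.symm

end Cfsg.Agent.LOC.ShortAll
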