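import Mathlib
import Cfsg.Agent.Cit.Nil.LO.ShortAll
import Cfsg.Agent.Nodes.Reindex
import Cfsg.Agent.Nodes.RKindsBC
import Cfsg.Agent.Cit.TypeDet.KindsEF

/-!
# Lie odd sections, the chart part: charts of type `C n` and `F₄` (S1309, (n1), piece (C))

* `frame_transport`, `exists_frame` : a frame system of a standard type is carried to any chart of this type;
* `std_of_isTy`, `exists_pl_of_isTy` : `Std`, planes for charts of type `C n` (`n ≥ 2`), `F₄`;
* `ns_C`, `ns_F4` : no root is orthogonal to a maximal frame;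
* `orth_C` : type `C n` : different long roots are orthogonal or opposite;
* `out_F4` : type `F₄`.
-/

set_option autoImplicit false
set_option linter.unusedSectionVars false
set_option linter.dupNamespace false

namespace Cfsg.Agent.LOC.StdChart

open CoxeterSystem Cfsg.Agent.ChevalleyStructure.CoxeterGeom Cfsg.Agent.Tits.Roots Cfsg.Agent.Tits.Core
  Cfsg.Agent.Tits.RootComb Cfsg.Agent.Nodes.Comb Cfsg.Agent.Nodes.SubComb Cfsg.Agent.Nodes.Reps
  Cfsg.Agent.Nodes.Coroot Cfsg.Agent.Nodes.PosPair Cfsg.Agent.Nodes.BNOf Cfsg.Agent.Nodes.RGDLib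
  Cfsg.Agent.Nodes.Chart Cfsg.Agent.Nodes.ClsNorm Cfsg.Agent.Nodes.ChartLoc Cfsg.Agent.Nodes.ChartFrame
  Cfsg.Agent.Nodes.Bruhat Cfsg.Agent.Nodes.CenVV Cfsg.Agent.LOC.ChartDefs Cfsg.Agent.LOC.LemS Cfsg.Agent.LOC.Wt
  Cfsg.Agent.LOC.ShortAll Cfsg.Agent.Nodes.KindBase Cfsg.Agent.Nodes.Reindex

section Tr

variable {I J W : Type*} [Fintype I] [DecidableEq I] [Fintype J] [DecidableEq J] [Group W] [Finite W]
  {M : CoxeterMatrix I} {M' : CoxeterMatrix J} {cs : CoxeterSystem M W} {cs' : CoxeterSystem M' W}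
  {A : I → I → ℤ} {A' : J → J → ℤ} {h : IsCartan M A} {h' : IsCartan M' A'} {e : I ≃ J}

theorem mem_iff_reindex (hA : ∀ i j, A i j = A' (e i) (e j)) (hs : ∀ i, cs'.simple (e i) = cs.simple i)
    {R : Set (I → ℤ)} {R' : Set (J → ℤ)} (act : ∀ r ∈ R, ∀ w, rep cs h w r ∈ R)
    (act' : ∀ r ∈ R', ∀ w, rep cs' h' w r ∈ R') (hsr : ∀ i, sr i ∈ R ↔ sr (e i) ∈ R') {x : I → ℤ}
    (hx : IsRoot cs h x) : x ∈ R ↔ x ∘ e.symm ∈ R' := by
  obtain ⟨w, i, rfl⟩ := hx
  have e1 : (rep cs h w (sr i)) ∘ e.symm = rep cs' h' w (sr (e i)) := by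
    rw [sr_reindex, rep_reindex (cs := cs) (h := h) hA hs]
  rw [e1]
  constructor
  · intro h1
    have h2 := act _ h1 w⁻¹
    rw [rep_inv_apply] at h2
    exact act' _ ((hsr i).1 h2) w
  · intro h1
    have h2 := act' _ h1 w⁻¹
    rw [rep_inv_apply] at h2
    exact act _ ((hsr i).2 h2) w

/-- a frame system is carried along a change of the index type -/
theorem frame_transport (hA : ∀ i j, A i j = A' (e i) (e j)) (hs : ∀ i, cs'.simple (e i) = cs.simple i)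
    {R : Set (I → ℤ)} {R' : Set (J → ℤ)} (hroot : ∀ r ∈ R, IsRoot cs h r) (act : ∀ r ∈ R, ∀ w, rep cs h w r ∈ R)
    (hsr : ∀ i, sr i ∈ R ↔ sr (e i) ∈ R') {ι : Type*} {g : ι → J → ℤ} (FS : FrameSys cs' h' R' g) :
    FrameSys cs h R (fun k => g k ∘ e) := by
  have hR : ∀ x, IsRoot cs h x → (x ∈ R ↔ x ∘ e.symm ∈ R') := fun x hx =>
    mem_iff_reindex (h := h) (h' := h') hA hs act FS.act hsr hx
  have hroot' : ∀ k, IsRoot cs h (g k ∘ e) := by
    intro k
    rw [← isRoot_reindex (cs' := cs') (h' := h') hA hs, comp_symm]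
    exact FS.root _ (FS.mem k)
  have hc : ∀ x y, IsRoot cs h y → cpr cs h x y = cpr cs' h' (x ∘ e.symm) (y ∘ e.symm) := fun x y hy =>
    (cpr_reindex hA hs x hy).symm
  refine ⟨hroot, act, fun x hx y hy h1 h2 => ?_, fun k => ?_, fun k l hkl => ?_, fun x hx h0 => ?_⟩
  · rw [hc x y (hroot y hy)]
    refine FS.le_one _ ((hR x (hroot x hx)).1 hx) _ ((hR y (hroot y hy)).1 hy) (fun h0 => h1 (comp_inj h0))
      (fun h0 => h2 (comp_inj (e := e) ?_))
    rw [h0]; rfl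
  · rw [hR _ (hroot' k), comp_symm]
    exact FS.mem k
  · rw [hc _ _ (hroot' l), comp_symm, comp_symm]
    exact FS.orth k l hkl
  · refine FS.max _ ((hR x (hroot x hx)).1 hx) fun k => ?_
    have h1 := h0 k
    rwa [hc _ _ (hroot' k), comp_symm] at h1

end Tr

variable {G : Type*} [Group G] {Om : Set (Subgroup G)} {p : ℕ} {L : Subgroup G}

theorem exists_frame_C (c : Chart Om p L) {n : ℕ} (hτ : c.IsTy (.C n)) :
    ∃ g : Fin n → c.I → ℤ, FrameSys c.cs c.h c.R g ∧ ∀ r ∈ c.R, ∃ k, r = g k ∨ r = -g k := by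
  obtain ⟨e, hA, hl⟩ := hτ
  obtain ⟨cs', hs⟩ := exists_reindex c.cs e (M' := CoxeterMatrix.B n) (fun i j => c.M_apply (τ := .C n) hA i j)
  have FS := Nodes.KindC.frameSys (n := n) cs'
  refine ⟨_, frame_transport (h := c.h) hA hs c.cls.root c.cls.act
    (fun i => (hl i).trans Nodes.RKindsBC.sr_mem_RC.symm) FS, fun r hr => ?_⟩
  have h1 : r ∘ e.symm ∈ Nodes.KindBC.RC n :=
    (mem_iff_reindex (h := c.h) hA hs c.cls.act FS.act
      (fun i => (hl i).trans Nodes.RKindsBC.sr_mem_RC.symm) (c.cls.root r hr)).1 hr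
  obtain ⟨k, hk⟩ := Nodes.KindC.eq_fr_or h1
  refine ⟨k, ?_⟩
  rcases hk with hk | hk
  · left
    rw [← comp_symm' (e := e) r, hk]
  · right
    rw [← comp_symm' (e := e) r, hk]
    rfl

theorem exists_frame_F4 (c : Chart Om p L) (hτ : c.IsTy .F4) :
    ∃ g : Fin 4 → c.I → ℤ, FrameSys c.cs c.h c.R g := by
  obtain ⟨e, hA, hl⟩ := hτ
  obtain ⟨cs', hs⟩ := exists_reindex c.cs e (M' := CoxeterMatrix.F₄) (fun i j => c.M_apply (τ := .F4) hA i j)
  have FS := Nodes.KindF.frameSys cs' Ty.F4.isCartan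
  exact ⟨_, frame_transport (h := c.h) hA hs c.cls.root c.cls.act
    (fun i => (hl i).trans (Cit.TypeDet.KindsEF.long_F4 cs' Ty.F4.isCartan (e i)).symm) FS⟩

theorem ns_C (c : Chart Om p L) {n : ℕ} (hτ : c.IsTy (.C n)) {F : Set (c.I → ℤ)} (hF : MaxF c.cls F) {x : c.I → ℤ}
    (hx : IsRoot c.cs c.h x) : ∃ r ∈ F, form c.cs c.h x r ≠ 0 := by
  obtain ⟨g, FS, -⟩ := exists_frame_C c hτ
  exact ns_of_frame FS (by rw [Fintype.card_fin]; exact hτ.card.le) hF hx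

theorem ns_F4 (c : Chart Om p L) (hτ : c.IsTy .F4) {F : Set (c.I → ℤ)} (hF : MaxF c.cls F) {x : c.I → ℤ}
    (hx : IsRoot c.cs c.h x) : ∃ r ∈ F, form c.cs c.h x r ≠ 0 := by
  obtain ⟨g, FS⟩ := exists_frame_F4 c hτ
  exact ns_of_frame FS (by rw [Fintype.card_fin]; exact hτ.card.le) hF hx

/-- type `C n` : different long roots are orthogonal or opposite -/
theorem orth_C (c : Chart Om p L) {n : ℕ} (hτ : c.IsTy (.C n)) {r s : c.I → ℤ} (hr : r ∈ c.R) (hs : s ∈ c.R)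
    (h1 : s ≠ r) (h2 : s ≠ -r) : form c.cs c.h r s = 0 := by
  obtain ⟨g, FS, hg⟩ := exists_frame_C c hτ
  obtain ⟨k, hk⟩ := hg r hr
  obtain ⟨l, hl⟩ := hg s hs
  have hkl : k ≠ l := by
    rintro rfl
    rcases hk with rfl | rfl <;> rcases hl with rfl | rfl
    · exact h1 rfl
    · exact h2 rfl
    · exact h2 (neg_neg _).symm
    · exact h1 rfl
  have h0 := (cpr_zero_iff c.cs c.h _ (c.cls.root _ (FS.mem l))).1 (FS.orth k l hkl)
  rcases hk with rfl | rfl <;> rcases hl with rfl | rfl <;>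
    simp only [form_neg_left, form_neg_right, h0, neg_zero]

/-- type `C n` : `F` consists of all long roots -/
theorem F_eq_C (c : Chart Om p L) {n : ℕ} (hτ : c.IsTy (.C n)) {F : Set (c.I → ℤ)} (hF : MaxF c.cls F) : F = c.R := by
  apply Set.Subset.antisymm hF.sub
  intro x hx
  obtain ⟨r, hr, h0⟩ := hF.max x hx
  by_cases h1 : r = x
  · rwa [← h1]
  by_cases h2 : r = -x
  · have := hF.neg r hr
    rwa [h2, neg_neg] at this
  · exact absurd (orth_C c hτ hx (hF.sub r hr) h1 h2) h0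

section len

variable (c : Chart Om p L) {τ : Ty} (hτ : c.IsTy τ)

include hτ

theorem std_of_isTy (hc : (∃ n, τ = .C n) ∨ τ = .F4) : Std c.cs c.h c.R := by
  obtain ⟨e, hA, hR⟩ := hτ
  refine Std.of_len (l := fun i => τ.len (e i)) (lR := τ.lenR) c.irr (fun i j => ?_) (fun i => ?_) (fun i => ?_)
    c.cls.root c.cls.act (fun i => (hR i).trans (τ.long_iff _))
  · rw [hA, hA]
    exact Ty.len_rel τ (e i) (e j)
  · rcases hc with ⟨n, rfl⟩ | rfl <;> simp only [Ty.len] <;> split_ifs <;> norm_num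
  · rcases hc with ⟨n, rfl⟩ | rfl <;> simp only [Ty.len, Ty.lenR] <;> split_ifs <;> norm_num

theorem exists_pl_of_isTy (hc : (∃ n, 2 ≤ n ∧ τ = .C n) ∨ τ = .F4) {x : c.I → ℤ} (hx : x ∈ c.R) :
    ∃ y, y ∉ c.R ∧ Pl c.cs c.h c.R x y := by
  obtain ⟨e, hA, hR⟩ := hτ
  refine Std.exists_pl (l := fun i => τ.len (e i)) (lR := τ.lenR) c.irr (fun i j => ?_) (fun i => ?_) (fun i => ?_)
    c.cls.root c.cls.act (fun i => (hR i).trans (τ.long_iff _)) ?_ c.trans hx
  · rw [hA, hA]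
    exact Ty.len_rel τ (e i) (e j)
  · rcases hc with ⟨n, -, rfl⟩ | rfl <;> simp only [Ty.len] <;> split_ifs <;> norm_num
  · rcases hc with ⟨n, -, rfl⟩ | rfl <;> simp only [Ty.len, Ty.lenR] <;> split_ifs <;> norm_num
  · rcases hc with ⟨n, hn, rfl⟩ | rfl
    · refine ⟨e.symm ⟨0, by show 0 < n; omega⟩, ?_⟩
      rw [Equiv.apply_symm_apply]
      have : ¬ (0 + 1 = n) := by omega
      simp only [Ty.len, Ty.lenR]
      rw [if_neg this]
      norm_num
    · refine ⟨e.symm ⟨0, by show 0 < 4; omega⟩, ?_⟩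
      rw [Equiv.apply_symm_apply]
      simp only [Ty.len, Ty.lenR]
      norm_num

end len

/-- type `F₄` : the involution of a `Q₈` centralises `L` -/
theorem triv_F4 [Finite G] (c : Chart Om p L) (hτ : c.IsTy .F4) (hXZ : ∀ r ∈ c.R, c.Z r = c.X r)
    {F : Set (c.I → ℤ)} (hF : MaxF c.cls F) {K : Subgroup G} {e : G} (hK : QK K e) (hcen : Cen c.cls F K) :
    Triv c.cls e := by
  have : Fact p.Prime := ⟨c.prime⟩
  have S := std_of_isTy c hτ (Or.inr rfl)
  have ns : ∀ x, IsRoot c.cs c.h x → ∃ r ∈ F, form c.cs c.h x r ≠ 0 := fun x hx => ns_F4 c hτ hF hx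
  have hT : c.T ≤ G1 c.cs c.h c.X := c.T_le.trans_eq c.gen.symm
  refine triv_of_X c.cls fun x hx => ?_
  by_cases hxR : x ∈ c.R
  · obtain ⟨y, hyR, P⟩ := exists_pl_of_isTy c hτ (Or.inr rfl) hxR
    exact long_triv S hF ns c.odd hT hK hcen P hyR (fun r hr => (hXZ r hr).symm)
  · exact short_triv S hF ns c.odd hT hK hcen hx hxR

/-- type `C n`, `X = Z` for long roots: the involution of a `Q₈` centralises `L` -/
theorem triv_C_eq [Finite G] (c : Chart Om p L) {n : ℕ} (hτ : c.IsTy (.C n)) (hXZ : ∀ r ∈ c.R, c.Z r = c.X r)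
    {F : Set (c.I → ℤ)} (hF : MaxF c.cls F) {K : Subgroup G} {e : G} (hK : QK K e) (hcen : Cen c.cls F K) :
    Triv c.cls e := by
  have : Fact p.Prime := ⟨c.prime⟩
  have S := std_of_isTy c hτ (Or.inl ⟨n, rfl⟩)
  have ns : ∀ x, IsRoot c.cs c.h x → ∃ r ∈ F, form c.cs c.h x r ≠ 0 := fun x hx => ns_C c hτ hF hx
  have hT : c.T ≤ G1 c.cs c.h c.X := c.T_le.trans_eq c.gen.symm
  refine triv_of_X c.cls fun x hx => ?_
  by_cases hxR : x ∈ c.R
  · intro u hu
    rw [← hXZ x hxR] at hu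
    exact hcen.comm x (by rw [F_eq_C c hτ hF]; exact hxR) u hu e hK.mem
  · exact short_triv S hF ns c.odd hT hK hcen hx hxR

/-- **Type `F₄`.** -/
theorem out_F4 [Finite G] (c : Chart Om p L) (hτ : c.IsTy .F4) (hXZ : ∀ r ∈ c.R, c.Z r = c.X r)
    {F : Set (c.I → ℤ)} (hF : MaxF c.cls F) : Out c.cls F :=
  Out.of_triv fun _ _ hK hcen => triv_F4 c hτ hXZ hF hK hcen

/-- **Type `C n`, `n ≥ 2`, `X = Z` for long roots (`Sp_2n`, `SU_2n`).** -/
theorem out_C_eq [Finite G] (c : Chart Om p L) {n : ℕ} (hτ : c.IsTy (.C n)) (hXZ : ∀ r ∈ c.R, c.Z r = c.X r)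
    {F : Set (c.I → ℤ)} (hF : MaxF c.cls F) : Out c.cls F :=
  Out.of_triv fun _ _ hK hcen => triv_C_eq c hτ hXZ hF hK hcen

end Cfsg.Agent.LOC.StdChart
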