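import Mathlib
import Cfsg.Agent.Cit.Nil.LO.CnNd
import Cfsg.Agent.Cit.Nil.LO.StdChart
import Cfsg.Agent.Cit.DTwoChart

/-!
# Lie odd sections, the chart part: charts of type `C n`, `n ≥ 2` (S1309, (n1), piece (C))

* `dich` : an involution which normalises `X r`, `X q` and centralises `Z r`, `Z q`, `X (r - y)`, centralises `X r` or
  acts on it like `z r`;
* `out_C` : **type `C n`, `n ≥ 2`** (`Sp_2n`, `SU_2n`, `SU_{2n+1}`).
-/

set_option autoImplicit false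
set_option linter.unusedSectionVars false
set_option linter.dupNamespace false

namespace Cfsg.Agent.LOC.TypeCn

open CoxeterSystem Cfsg.Agent.ChevalleyStructure.CoxeterGeom Cfsg.Agent.Tits.Roots Cfsg.Agent.Tits.Core
  Cfsg.Agent.Tits.RootComb Cfsg.Agent.Nodes.Comb Cfsg.Agent.Nodes.SubComb Cfsg.Agent.Nodes.Reps
  Cfsg.Agent.Nodes.Coroot Cfsg.Agent.Nodes.PosPair Cfsg.Agent.Nodes.BNOf Cfsg.Agent.Nodes.RGDLib
  Cfsg.Agent.Nodes.Chart Cfsg.Agent.Nodes.ClsNorm Cfsg.Agent.Nodes.ChartLoc Cfsg.Agent.Nodes.ChartFrame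
  Cfsg.Agent.Nodes.Bruhat Cfsg.Agent.Nodes.CenVV Cfsg.Agent.LOC.ChartDefs Cfsg.Agent.LOC.LemS Cfsg.Agent.LOC.Wt
  Cfsg.Agent.LOC.ShortAll Cfsg.Agent.LOC.CnNd Cfsg.Agent.LOC.StdChart
open scoped commutatorElement

section dich

variable {I W Y : Type*} [Fintype I] [DecidableEq I] [Group W] [Fintype W] [Group Y] {M : CoxeterMatrix I}
  {cs : CoxeterSystem M W} {A : I → I → ℤ} {h : IsCartan M A} {p : ℕ} {T : Subgroup Y} {n : I → Y}
  {X : (I → ℤ) → Subgroup Y} {R : Set (I → ℤ)} {Z : (I → ℤ) → Subgroup Y} {z : (I → ℤ) → Y}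
  {r y : I → ℤ} [Finite Y] [Fact p.Prime]

/-- the coprime trick -/
theorem fix_of_mod (C : Cls cs h p T n X R Z z) (hp2 : p ≠ 2) (hr : r ∈ R) {g x : Y} (hg : g * g = 1)
    (hc : ∀ a ∈ Z r, g * a = a * g) (hx : x⁻¹ * (g * x * g⁻¹) ∈ Z r) : g * x = x * g := by
  set ζ := x⁻¹ * (g * x * g⁻¹) with hζ
  have h1 : g * x * g⁻¹ = x * ζ := by rw [hζ]; group
  have h2 := hc _ hx
  have h3 : x = x * (ζ * ζ) := by
    calc x = (g * g) * x * (g * g)⁻¹ := by rw [hg]; group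
      _ = g * (g * x * g⁻¹) * g⁻¹ := by group
      _ = (g * x) * ζ * g⁻¹ := by rw [h1]; group
      _ = (g * x) * (g⁻¹ * (g * ζ)) * g⁻¹ := by group
      _ = (g * x) * (g⁻¹ * (ζ * g)) * g⁻¹ := by rw [h2]
      _ = (g * x * g⁻¹) * ζ := by group
      _ = x * (ζ * ζ) := by rw [h1, mul_assoc]
  have h4 : ζ = 1 := eq_one_of_sq hp2 (C.rgd.pgrp' (C.root r hr)) (C.le r hr hx) (left_eq_mul.1 h3)
  rw [h4, mul_one] at h1
  calc g * x = (g * x * g⁻¹) * g := by group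
    _ = x * g := by rw [h1]

/-- **The dichotomy.** -/
theorem dich (P : Pl cs h R r y) (C : Cls cs h p T n X R Z z) (hp2 : p ≠ 2) (hexp : ∀ x ∈ Z r, x ^ p = 1)
    (hne : ∃ t ∈ X (r - (2 : ℤ) • y), t ∉ Z (r - (2 : ℤ) • y)) {e : Y} (he : e * e = 1)
    (hnr : ∀ x ∈ X r, e * x * e⁻¹ ∈ X r) (hnq : ∀ x ∈ X (r - (2 : ℤ) • y), e * x * e⁻¹ ∈ X (r - (2 : ℤ) • y))
    (hr : ∀ a ∈ Z r, e * a = a * e)
    (hw : ∀ a ∈ X (r - y), e * a = a * e) (hz : e * z r = z r * e) :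
    (∀ x ∈ X r, e * x = x * e) ∨ ∀ x ∈ X r, e * x * e⁻¹ = z r * x * z r := by
  have hei : e⁻¹ = e := inv_eq_of_mul_eq_one_left he
  have cw : ∀ a ∈ X (r - y), e * a * e⁻¹ = a := fun a ha => by rw [hw a ha]; group
  have cr : ∀ a ∈ Z r, e * a * e⁻¹ = a := fun a ha => by rw [hr a ha]; group
  have hee : ∀ x, e * (e * x * e⁻¹) * e⁻¹ = x := by
    intro x
    calc e * (e * x * e⁻¹) * e⁻¹ = (e * e) * x * (e * e)⁻¹ := by group
      _ = x := by rw [he]; group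
  have hZr : ∀ a ∈ Z r, ∀ x ∈ X r, x * a = a * x := fun a ha x hx =>
    C.cent r P.mem r P.L.root P.L.pos.le _ hx _ ha
  by_cases h1 : ∀ x ∈ X r, x⁻¹ * (e * x * e⁻¹) ∈ Z r
  · left
    exact fun x hx => fix_of_mod C hp2 P.mem he hr (h1 x hx)
  by_cases h2 : ∀ x ∈ X r, x * (e * x * e⁻¹) ∈ Z r
  · right
    have hζ2 := C.z_sq r P.mem
    have hζi : (z r)⁻¹ = z r := inv_eq_of_mul_eq_one_left hζ2
    have hgg : (e * z r) * (e * z r) = 1 := by
      calc (e * z r) * (e * z r) = e * (z r * e) * z r := by group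
        _ = e * (e * z r) * z r := by rw [hz]
        _ = (e * e) * (z r * z r) := by group
        _ = 1 := by rw [he, hζ2, mul_one]
    have hgz : ∀ a ∈ Z r, (e * z r) * a = a * (e * z r) := by
      intro a ha
      rw [mul_assoc, C.z_cent r P.mem a ha, ← mul_assoc, hr a ha, mul_assoc]
    have key : ∀ x ∈ X r, (e * z r) * x = x * (e * z r) := by
      intro x hx
      refine fix_of_mod C hp2 P.mem hgg hgz ?_
      have m1 := C.z_inv_self r P.mem x hx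
      have m2 := h2 x hx
      set ζ := z r * x * z r * x with hζ
      set η := x * (e * x * e⁻¹) with hη
      have e1 : z r * x * z r = ζ * x⁻¹ := by rw [hζ]; group
      have e2 : (e * x * e⁻¹)⁻¹ = η⁻¹ * x := by rw [hη]; group
      have e3 : x⁻¹ * (e * z r * x * (e * z r)⁻¹) = ζ * η⁻¹ := by
        calc x⁻¹ * (e * z r * x * (e * z r)⁻¹) = x⁻¹ * (e * (z r * x * z r) * e⁻¹) := by
              rw [mul_inv_rev, hζi]; group
          _ = x⁻¹ * ((e * ζ * e⁻¹) * (e * x * e⁻¹)⁻¹) := by rw [e1]; group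
          _ = x⁻¹ * (ζ * (η⁻¹ * x)) := by rw [cr ζ m1, e2]
          _ = x⁻¹ * ((ζ * η⁻¹) * x) := by group
          _ = x⁻¹ * (x * (ζ * η⁻¹)) := by rw [hZr _ (mul_mem m1 (inv_mem m2)) x hx]
          _ = ζ * η⁻¹ := by group
      rw [e3]
      exact mul_mem m1 (inv_mem m2)
    intro x hx
    have h3 : e * (z r * x * z r) * e⁻¹ = x := by
      calc e * (z r * x * z r) * e⁻¹ = (e * z r * x) * z r * e⁻¹ := by group
        _ = (x * (e * z r)) * z r * e⁻¹ := by rw [key x hx]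
        _ = x * e * (z r * z r) * e⁻¹ := by group
        _ = x := by rw [hζ2]; group
    have h4 := hee (z r * x * z r)
    rw [h3] at h4
    exact h4
  · exfalso
    push Not at h1 h2
    obtain ⟨x₁, hx₁, hv⟩ := h1
    obtain ⟨x₂, hx₂, hv'⟩ := h2
    obtain ⟨t, ht, htZ⟩ := hne
    have hvX : x₁⁻¹ * (e * x₁ * e⁻¹) ∈ X r := mul_mem (inv_mem hx₁) (hnr _ hx₁)
    have hvX' : x₂ * (e * x₂ * e⁻¹) ∈ X r := mul_mem hx₂ (hnr _ hx₂)
    have ev : e * (x₁⁻¹ * (e * x₁ * e⁻¹)) * e⁻¹ = (x₁⁻¹ * (e * x₁ * e⁻¹))⁻¹ := by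
      calc e * (x₁⁻¹ * (e * x₁ * e⁻¹)) * e⁻¹ = (e * x₁ * e⁻¹)⁻¹ * (e * (e * x₁ * e⁻¹) * e⁻¹) := by group
        _ = (x₁⁻¹ * (e * x₁ * e⁻¹))⁻¹ := by rw [hee]; group
    have ev' : e * (x₂ * (e * x₂ * e⁻¹)) * e⁻¹ = x₂ * (e * x₂ * e⁻¹) * ⁅(e * x₂ * e⁻¹)⁻¹, x₂⁻¹⁆ := by
      calc e * (x₂ * (e * x₂ * e⁻¹)) * e⁻¹ = (e * x₂ * e⁻¹) * (e * (e * x₂ * e⁻¹) * e⁻¹) := by group
        _ = _ := by rw [hee, commutatorElement_def]; group
    have hη : ⁅(e * x₂ * e⁻¹)⁻¹, x₂⁻¹⁆ ∈ Z r := commutator_VV_le C hp2 P.mem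
      (Subgroup.commutator_mem_commutator (P.X_r_le (inv_mem (hnr _ hx₂))) (P.X_r_le (inv_mem hx₂)))
    have cj : ∀ a b : Y, e * ⁅a, b⁆ * e⁻¹ = ⁅e * a * e⁻¹, e * b * e⁻¹⁆ := by
      intro a b
      simp only [commutatorElement_def]; group
    have fin : ∀ κ ∈ X (r - y), κ = κ⁻¹ → κ = 1 := by
      intro κ hκ h0
      refine eq_one_of_sq hp2 (C.rgd.pgrp' P.rootw) hκ ?_
      nth_rewrite 1 [h0]
      exact inv_mul_cancel κ
    set v := x₁⁻¹ * (e * x₁ * e⁻¹)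
    set v' := x₂ * (e * x₂ * e⁻¹)
    set η := ⁅(e * x₂ * e⁻¹)⁻¹, x₂⁻¹⁆
    by_cases hs : t⁻¹ * (e * t * e⁻¹) ∈ Z (r - (2 : ℤ) • y)
    · -- `v` and `t`
      set s := t⁻¹ * (e * t * e⁻¹) with hsd
      have hsX := C.le _ (P.memq C) hs
      have et : e * t * e⁻¹ = t * s := by rw [hsd]; group
      have k1 := cw _ (P.mrq C.rgd hvX ht)
      rw [cj, ev, et, com_right P C.rgd (inv_mem hvX) ht hsX] at k1
      have k2 : ⁅v⁻¹, s⁆ = 1 := by
        rw [commutatorElement_eq_one_iff_mul_comm]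
        exact C.cent _ (P.memq C) _ P.L.root (by rw [P.frq]) _ (inv_mem hvX) _ hs
      have k3 : ⁅v⁻¹, t⁆ = ⁅v, t⁆⁻¹ := by
        have := com_left P C.rgd hvX (inv_mem hvX) ht
        rw [mul_inv_cancel, commutatorElement_one_left] at this
        exact eq_inv_of_mul_eq_one_left this.symm
      rw [k2, mul_one, k3] at k1
      have k4 := fin _ (P.mrq C.rgd hvX ht) k1.symm
      have k5 : t * v = v * t := (commutatorElement_eq_one_iff_mul_comm.1 k4).symm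
      exact hv (nd P C hp2 hexp ht htZ hvX k5)
    · -- `v'` and `s`
      have hsX : t⁻¹ * (e * t * e⁻¹) ∈ X (r - (2 : ℤ) • y) := mul_mem (inv_mem ht) (hnq _ ht)
      have es : e * (t⁻¹ * (e * t * e⁻¹)) * e⁻¹ = (t⁻¹ * (e * t * e⁻¹))⁻¹ := by
        calc e * (t⁻¹ * (e * t * e⁻¹)) * e⁻¹ = (e * t * e⁻¹)⁻¹ * (e * (e * t * e⁻¹) * e⁻¹) := by group
          _ = (t⁻¹ * (e * t * e⁻¹))⁻¹ := by rw [hee]; group
      set s := t⁻¹ * (e * t * e⁻¹) with hsd
      have hηX := C.le _ P.mem hη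
      have k1 := cw _ (P.mrq C.rgd hvX' hsX)
      rw [cj, ev', es, com_left P C.rgd hvX' hηX (inv_mem hsX)] at k1
      have k2 : ⁅η, s⁻¹⁆ = 1 := by
        rw [commutatorElement_eq_one_iff_mul_comm]
        exact P.czrq C hη (inv_mem hsX)
      have k3 : ⁅v', s⁻¹⁆ = ⁅v', s⁆⁻¹ := by
        have := com_right P C.rgd hvX' hsX (inv_mem hsX)
        rw [mul_inv_cancel, commutatorElement_one_right] at this
        exact (inv_eq_of_mul_eq_one_right this.symm).symm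
      rw [k2, one_mul, k3] at k1
      have k4 := fin _ (P.mrq C.rgd hvX' hsX) k1.symm
      have k5 : s * v' = v' * s := (commutatorElement_eq_one_iff_mul_comm.1 k4).symm
      exact hv' (nd P C hp2 hexp hsX hs hvX' k5)

/-- an element centralising the root groups `X y`, `X (-y)` and `X r` centralises `X (s_y r)` -/
theorem cent_refl (C : Cls cs h p T n X R Z z) {x y : I → ℤ} (hx : IsRoot cs h x) (hy : IsRoot cs h y) {e : Y}
    (h1 : ∀ u ∈ X y, e * u = u * e) (h2 : ∀ u ∈ X (-y), e * u = u * e) (h3 : ∀ u ∈ X x, e * u = u * e) :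
    ∀ u ∈ X (x - cpr cs h x y • y), e * u = u * e := by
  obtain ⟨v, hv, hv1⟩ : ∃ v ∈ X y, v ≠ 1 := by
    by_contra hcon
    push Not at hcon
    exact Nodes.StdConn.X_ne_bot C hy ((Subgroup.eq_bot_iff_forall _).2 hcon)
  obtain ⟨a, ha, b, hb, w, k, hk, hw, ev⟩ := exists_mu C.rgd hy hv hv1
  have hmem : ∀ {g : Y}, g ∈ Subgroup.centralizer {e} ↔ e * g = g * e := by
    intro g
    rw [Subgroup.mem_centralizer_singleton_iff]
    exact eq_comm
  have hke : k ∈ Subgroup.centralizer {e} := by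
    have : k = a⁻¹ * v * b⁻¹ := by rw [ev]; group
    rw [this]
    exact mul_mem (mul_mem (inv_mem (hmem.2 (h2 a ha))) (hmem.2 (h1 v hv))) (inv_mem (hmem.2 (h2 b hb)))
  intro u hu
  rw [← hw] at hu
  have h4 := C.rgd.conj_mem' hk (hx.act w) hu
  rw [rep_inv_apply] at h4
  have h5 : u = k * (k⁻¹ * u * k) * k⁻¹ := by group
  rw [← hmem, h5]
  exact mul_mem (mul_mem hke (hmem.2 (h3 _ h4))) (inv_mem hke)

end dich

section chart

variable {G : Type*} [Group G] {Om : Set (Subgroup G)} {p : ℕ} {L : Subgroup G}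

/-- type `C n` : the weight group of a long root -/
theorem MM_eq_C (c : Chart Om p L) {n : ℕ} (hτ : c.IsTy (.C n)) {F : Set (c.I → ℤ)} (hF : MaxF c.cls F)
    {r : c.I → ℤ} (hr : r ∈ F) : MM c.cs c.h c.X F r = c.X r := by
  have S := std_of_isTy c hτ (Or.inl ⟨n, rfl⟩)
  have ns : ∀ x, IsRoot c.cs c.h x → ∃ r ∈ F, form c.cs c.h x r ≠ 0 := fun x hx => ns_C c hτ hF hx
  have hrR := hF.sub r hr
  have hpos := (S.lg r hrR).pos
  refine le_antisymm (RGD.Sup_le fun x hx => ?_) (X_le_MM (mem_Lam_self (c.cls.root r hrR)))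
  have hxr : x = r := by
    obtain ⟨h1, h2⟩ := (mem_Lam_iff hF.neg).1 hx
    have h3 : 0 < form c.cs c.h x r := (hx.2 r hr).1 hpos
    by_cases hxR : x ∈ c.R
    · by_contra hne
      have h4 : x ≠ -r := by
        rintro rfl
        rw [form_neg_left] at h3
        omega
      rw [form_comm, orth_C c hτ hrR hxR hne h4] at h3
      exact lt_irrefl _ h3
    · exfalso
      have P := S.pl h1 hxR hrR h3
      have hq := q_mem S hF hxR hr P
      have h5 := h2 _ hq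
      rw [P.frq, sign_zero, sign_eq_zero_iff, P.fyq] at h5
      have := P.pos
      omega
  rw [hxr]

variable [Finite G]

/-- `X r ≠ Z r` for all long roots if for one -/
theorem ne_all (c : Chart Om p L) {r₀ : c.I → ℤ} (hr₀ : r₀ ∈ c.R) (hne₀ : c.Z r₀ ≠ c.X r₀) :
    ∀ r ∈ c.R, ∃ t ∈ c.X r, t ∉ c.Z r := by
  intro r hr
  by_contra hcon
  push Not at hcon
  have h1 : c.Z r = c.X r := le_antisymm (c.cls.le r hr) hcon
  obtain ⟨w, hw⟩ := c.trans r hr r₀ hr₀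
  obtain ⟨g, hg⟩ := exists_rp c.cs c.cls.rgd.nsys w
  have h2 := Nodes.ClsNorm.conj_Z c.cls hg hr
  have h3 := c.cls.rgd.conj_rp hg (c.cls.root r hr)
  rw [← hw] at h2 h3
  exact hne₀ (by rw [← h2, ← h3, h1])

/-- the involution of a `Q₈` (not central) centralises the short root groups and acts on `X r` like `z r` -/
theorem act_e (c : Chart Om p L) {n : ℕ} (hn : 2 ≤ n) (hτ : c.IsTy (.C n))
    (hexp : ∀ r ∈ c.R, ∀ x ∈ c.Z r, x ^ p = 1) (hne : ∀ r ∈ c.R, ∃ t ∈ c.X r, t ∉ c.Z r) {F : Set (c.I → ℤ)}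
    (hF : MaxF c.cls F) {K : Subgroup G} {e : G} (hK : QK K e) (hcen : Cen c.cls F K) (hnt : ¬ Triv c.cls e) :
    (∀ y, IsRoot c.cs c.h y → y ∉ c.R → ∀ u ∈ c.X y, e * u = u * e) ∧
      ∀ r ∈ c.R, ∀ x ∈ c.X r, e * x * e⁻¹ = c.z r * x * c.z r := by
  have : Fact p.Prime := ⟨c.prime⟩
  have S := std_of_isTy c hτ (Or.inl ⟨n, rfl⟩)
  have ns : ∀ x, IsRoot c.cs c.h x → ∃ r ∈ F, form c.cs c.h x r ≠ 0 := fun x hx => ns_C c hτ hF hx
  have hT : c.T ≤ G1 c.cs c.h c.X := c.T_le.trans_eq c.gen.symm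
  have hFR := F_eq_C c hτ hF
  have hsh : ∀ y, IsRoot c.cs c.h y → y ∉ c.R → ∀ u ∈ c.X y, e * u = u * e := fun y hy hyR =>
    short_triv S hF ns c.odd hT hK hcen hy hyR
  refine ⟨hsh, ?_⟩
  have hcm : ∀ r ∈ c.R, ∀ a ∈ c.Z r, e * a = a * e := fun r hr a ha =>
    hcen.comm r (by rw [hFR]; exact hr) a ha e hK.mem
  have hnor : ∀ r ∈ c.R, ∀ x ∈ c.X r, e * x * e⁻¹ ∈ c.X r := by
    intro r hr x hx
    have hrF : r ∈ F := by rw [hFR]; exact hr
    rw [← MM_eq_C c hτ hF hrF] at hx ⊢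
    exact wt_inv c.cls hT hF.sub hrF (S.lg r hr).pos hcen hK.mem hx
  have hz : ∀ r ∈ c.R, e * c.z r = c.z r * e := by
    intro r hr
    have h3 : c.Z r ⊔ c.Z (-r) ≤ Subgroup.centralizer {e} := by
      refine sup_le (fun a ha => ?_) (fun a ha => ?_)
      · rw [Subgroup.mem_centralizer_singleton_iff]; exact (hcm r hr a ha).symm
      · rw [Subgroup.mem_centralizer_singleton_iff]
        exact (hcm (-r) (Nodes.ClsNorm.neg_mem c.cls hr) a ha).symm
    have h4 := h3 (c.cls.z_mem r hr)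
    rw [Subgroup.mem_centralizer_singleton_iff] at h4
    exact h4.symm
  have hwR : ∀ {r y : c.I → ℤ}, Pl c.cs c.h c.R r y → r - y ∉ c.R := by
    intro r y P h0
    have h1 := S.same P.mem h0
    have h2 := (flip P).h2
    have h3 := (S.lg _ h0).pos
    omega
  have hnegR : ∀ {y : c.I → ℤ}, y ∉ c.R → -y ∉ c.R := fun {y} hy h0 => hy (by
    have := Nodes.ClsNorm.neg_mem c.cls h0
    rwa [neg_neg] at this)
  -- the set of the long roots centralised by `e`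
  set AA : Set (c.I → ℤ) := {r | r ∈ c.R ∧ ∀ x ∈ c.X r, e * x = x * e} with hAA
  have hA1 : ∀ y, IsRoot c.cs c.h y → y ∉ c.R → ∀ r ∈ AA, r - cpr c.cs c.h r y • y ∈ AA := by
    rintro y hy hyR r ⟨hr, h1⟩
    exact ⟨refl_memR c.cls hr hy, cent_refl c.cls (c.cls.root r hr) hy (hsh y hy hyR) (hsh _ hy.neg (hnegR hyR)) h1⟩
  have hA2 : ∀ r ∈ AA, -r ∈ AA := by
    intro r hr
    obtain ⟨y, hyR, P⟩ := exists_pl_of_isTy c hτ (Or.inl ⟨n, hn, rfl⟩) hr.1
    have h1 := hA1 y P.root hyR r hr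
    rw [P.cry] at h1
    have h2 := hA1 _ P.rootw (hwR P) _ h1
    have h3 : cpr c.cs c.h (r - (2 : ℤ) • y) (r - y) = 2 := by
      apply cpr_eq_of_form c.cs c.h P.rootw
      have h4 := (flip P).fyr
      rw [form_comm, P.fwq, ← P.fwr, h4]
    rw [h3] at h2
    have h5 : r - (2 : ℤ) • y - (2 : ℤ) • (r - y) = -r := by module
    rwa [h5] at h2
  have hA3 : ∀ w, ∀ r ∈ AA, rep c.cs c.h w r ∈ AA := by
    intro w
    induction w using c.cs.simple_induction_left with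
    | one => intro r hr; rwa [map_one]
    | mul_simple_left w i ih =>
      intro r hr
      rw [map_mul]
      show rep c.cs c.h (c.cs.simple i) (rep c.cs c.h w r) ∈ AA
      have h1 := ih r hr
      set s := rep c.cs c.h w r
      have h2 : rep c.cs c.h (c.cs.simple i) s = s - cpr c.cs c.h s (sr i) • sr i := by
        have h3 := rep_rfl'_eq c.cs c.h 1 i s
        have h4 : rfl' c.cs 1 i = c.cs.simple i := by
          show 1 * c.cs.simple i * 1⁻¹ = _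
          rw [one_mul, inv_one, mul_one]
        rw [h4, map_one] at h3
        exact h3
      rw [h2]
      have hi := isRoot_sr c.cs c.h i
      by_cases hiR : sr i ∈ c.R
      · by_cases e1 : sr i = s
        · rw [e1, cpr_self c.cs c.h (c.cls.root s h1.1)]
          have : s - (2 : ℤ) • s = -s := by module
          rw [this]
          exact hA2 s h1
        by_cases e2 : sr i = -s
        · have e3 : s = -sr i := by rw [e2, neg_neg]
          rw [e3, cpr_neg c.cs c.h _ hi, cpr_self c.cs c.h hi]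
          have : -sr i - (-2 : ℤ) • sr i = -(-sr i) := by module
          rw [this, ← e3]
          exact hA2 s h1
        · have h3 := orth_C c hτ h1.1 hiR e1 e2
          rw [(cpr_zero_iff c.cs c.h _ hi).2 h3, zero_smul, sub_zero]
          exact h1
      · exact hA1 _ hi hiR s h1
  have hA4 : ∀ r ∈ c.R, r ∉ AA := by
    intro r hr hrA
    apply hnt
    refine triv_of_X c.cls fun x hx => ?_
    by_cases hxR : x ∈ c.R
    · obtain ⟨w, rfl⟩ := c.trans r hr x hxR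
      exact (hA3 w r hrA).2
    · exact hsh x hx hxR
  intro r hr
  obtain ⟨y, hyR, P⟩ := exists_pl_of_isTy c hτ (Or.inl ⟨n, hn, rfl⟩) hr
  rcases dich P c.cls c.odd (hexp r hr) (hne _ (P.memq c.cls)) hK.sq (hnor r hr) (hnor _ (P.memq c.cls))
    (hcm r hr) (hsh _ P.rootw (hwR P)) (hz r hr) with h1 | h1
  · exact absurd ⟨hr, h1⟩ (hA4 r hr)
  · exact h1

/-- **Type `C n`, `n ≥ 2`** (`Sp_2n`, `SU_2n`, `SU_{2n+1}`). -/
theorem out_C (c : Chart Om p L) {n : ℕ} (hn : 2 ≤ n) (hτ : c.IsTy (.C n))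
    (hexp : ∀ r ∈ c.R, ∀ x ∈ c.Z r, x ^ p = 1) {F : Set (c.I → ℤ)} (hF : MaxF c.cls F) : Out c.cls F := by
  by_cases hXZ : ∀ r ∈ c.R, c.Z r = c.X r
  · exact out_C_eq c hτ hXZ hF
  push Not at hXZ
  obtain ⟨r₀, hr₀, hne₀⟩ := hXZ
  have hne := ne_all c hr₀ hne₀
  intro K K' e e' hK hK' hcen hcen' hnt hnt'
  obtain ⟨a1, a2⟩ := act_e c hn hτ hexp hne hF hK hcen hnt
  obtain ⟨b1, b2⟩ := act_e c hn hτ hexp hne hF hK' hcen' hnt'
  refine triv_of_X c.cls fun x hx u hu => ?_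
  by_cases hxR : x ∈ c.R
  · have h1 := b2 x hxR u hu
    have h2 : c.z x * u * c.z x ∈ c.X x := by
      have h1 := c.cls.rgd.tor x hx _ (c.cls.z_torus x hxR)
      rw [← h1]
      have h2 : c.z x * u * c.z x = c.z x * u * (c.z x)⁻¹ := by rw [Nodes.ZRel.z_inv' c.cls hxR]
      rw [h2]
      exact conj_mem_cj.2 hu
    have h3 := a2 x hxR _ h2
    have hzz := c.cls.z_sq x hxR
    have h4 : (e * e') * u * (e * e')⁻¹ = u := by
      calc (e * e') * u * (e * e')⁻¹ = e * (e' * u * e'⁻¹) * e⁻¹ := by group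
        _ = c.z x * (c.z x * u * c.z x) * c.z x := by rw [h1, h3]
        _ = (c.z x * c.z x) * u * (c.z x * c.z x) := by simp only [mul_assoc]
        _ = u := by rw [hzz, one_mul, mul_one]
    calc (e * e') * u = ((e * e') * u * (e * e')⁻¹) * (e * e') := by group
      _ = u * (e * e') := by rw [h4]
  · rw [mul_assoc, b1 x hx hxR u hu, ← mul_assoc, a1 x hx hxR u hu, mul_assoc]

end chart

end Cfsg.Agent.LOC.TypeCn
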