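import Mathlib
import Cfsg.Agent.Cit.Nil.LO.TypeCn
import Cfsg.Agent.Cit.Nil.LO.NdField
import Cfsg.Agent.Cit.Nil.LO.SevDef
import Cfsg.Agent.Cit.Nil.LO.BetaTor

/-!
# S1309, section 7 of LieOdd: charts of type `C n`, `n ≥ 2`

* `plane_g` : a plane `Pl r y`; `a`, `g` isometries of the nonsingular form `sg` on `X q / Z q`;
* `no_three`, `exists_scalar` : some `k ∈ K` of order 4 acts on `X y` as `± 1`;
* `sev` : the output.
-/

set_option autoImplicit false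
set_option linter.unusedSectionVars false
set_option linter.dupNamespace false

namespace Cfsg.Agent.LOC.SevCn

open CoxeterSystem Cfsg.Agent.ChevalleyStructure.CoxeterGeom Cfsg.Agent.Tits.Roots Cfsg.Agent.Tits.Core
  Cfsg.Agent.Tits.RootComb Cfsg.Agent.Nodes.Comb Cfsg.Agent.Nodes.SubComb Cfsg.Agent.Nodes.Reps
  Cfsg.Agent.Nodes.Coroot Cfsg.Agent.Nodes.PosPair Cfsg.Agent.Nodes.BNOf Cfsg.Agent.Nodes.RGDLib
  Cfsg.Agent.Nodes.Chart Cfsg.Agent.Nodes.ClsNorm Cfsg.Agent.Nodes.ChartLoc Cfsg.Agent.Nodes.ChartFrame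
  Cfsg.Agent.Nodes.Bruhat Cfsg.Agent.Nodes.CenVV Cfsg.Agent.LOC.ChartDefs Cfsg.Agent.LOC.LemS Cfsg.Agent.LOC.Wt
  Cfsg.Agent.LOC.ShortAll Cfsg.Agent.LOC.CnNd Cfsg.Agent.LOC.StdChart Cfsg.Agent.LOC.TypeCn
open Cfsg.Agent.Cit.ParabSL2 Cfsg.Agent.Lib.SL2Mat Cfsg.Agent.LOC.BetaTor
open scoped commutatorElement

variable {I W Y : Type*} [Fintype I] [DecidableEq I] [Group W] [Fintype W] [Group Y] {M : CoxeterMatrix I}
  {cs : CoxeterSystem M W} {A : I → I → ℤ} {h : IsCartan M A} {p : ℕ} {T : Subgroup Y} {n : I → Y}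
  {X : (I → ℤ) → Subgroup Y} {R : Set (I → ℤ)} {Z : (I → ℤ) → Subgroup Y} {z : (I → ℤ) → Y}
  {r y : I → ℤ}

/-! ### The plane -/

section plane

variable (P : Pl cs h R r y) (C : Cls cs h p T n X R Z z)

include P C

theorem exists_uk' {u : Y} (hu : u ∈ X y) (hu1 : u ≠ 1) :
    ∃ k, UK X Z r y u k ∧ ∀ x ∈ X (r - (2 : ℤ) • y), k * x * k⁻¹ ∈ Z r → x ∈ Z (r - (2 : ℤ) • y) := by
  obtain ⟨w, k, hk, hw, H⟩ := P.conj C hu hu1
  have h3 := Nodes.ClsNorm.conj_Z C hk (P.memq C)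
  rw [P.rep_q C hw] at h3
  refine ⟨k, ⟨hu, hu1, fun x hx => (H x hx).1, fun x hx => ?_, fun x hx => ?_⟩, fun x _ hx => ?_⟩
  · rw [← h3]
    exact conj_mem_cj.2 hx
  · obtain ⟨-, c, hc, e⟩ := H x hx
    have : cc u k x = c := by
      unfold cc
      rw [e]; group
    rwa [this]
  · rw [← h3] at hx
    exact conj_mem_cj.1 hx

variable {u k : Y} (D : UK X Z r y u k)

include D

/-- an element centralising `u` and `X w` is an isometry -/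
theorem sg_cj {a : Y} (hau : a * u = u * a) (haw : ∀ c ∈ X (r - y), a * c = c * a)
    (nq : ∀ x ∈ X (r - (2 : ℤ) • y), a * x * a⁻¹ ∈ X (r - (2 : ℤ) • y)) (nr : ∀ x ∈ X r, a * x * a⁻¹ ∈ X r) {x x' : Y}
    (hx : x ∈ X (r - (2 : ℤ) • y)) (hx' : x' ∈ X (r - (2 : ℤ) • y)) :
    sg k (a * x * a⁻¹) (a * x' * a⁻¹) = sg k x x' := by
  have hc := D.c x hx
  have e1 : u * (a * x * a⁻¹) * u⁻¹ = (a * x * a⁻¹) * cc u k x * (a * (k * x * k⁻¹) * a⁻¹) := by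
    have h1 := haw _ hc
    calc u * (a * x * a⁻¹) * u⁻¹ = (u * a) * x * (u * a)⁻¹ := by group
      _ = (a * u) * x * (a * u)⁻¹ := by rw [hau]
      _ = a * (u * x * u⁻¹) * a⁻¹ := by group
      _ = a * (x * cc u k x * (k * x * k⁻¹)) * a⁻¹ := by rw [cc_eq u k x]
      _ = (a * x * a⁻¹) * (a * cc u k x) * a⁻¹ * (a * (k * x * k⁻¹) * a⁻¹) := by group
      _ = (a * x * a⁻¹) * (cc u k x * a) * a⁻¹ * (a * (k * x * k⁻¹) * a⁻¹) := by rw [h1]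
      _ = _ := by group
  have e2 := (cc_of_eq P C D (nq x hx) hc (nr _ (D.d x hx)) e1).2
  have hs := haw _ (sg_mem P C D hx hx')
  have e3 : sg k (a * x * a⁻¹) (a * x' * a⁻¹) = a * sg k x x' * a⁻¹ := by
    unfold sg
    rw [e2]
    simp only [commutatorElement_def]; group
  rw [e3, hs]; group

variable [Finite Y] [Fact p.Prime] (hp2 : p ≠ 2)

include hp2

/-- **nonsingularity** -/
theorem sg_one (hexp : ∀ x ∈ Z r, x ^ p = 1)
    (hk : ∀ x ∈ X (r - (2 : ℤ) • y), k * x * k⁻¹ ∈ Z r → x ∈ Z (r - (2 : ℤ) • y)) {x x' : Y}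
    (hx : x ∈ X (r - (2 : ℤ) • y)) (hx' : x' ∈ X (r - (2 : ℤ) • y)) (h0 : sg k x x' = 1) :
    x ∈ Z (r - (2 : ℤ) • y) ∨ x' ∈ Z (r - (2 : ℤ) • y) := by
  by_contra hcon
  push Not at hcon
  unfold sg at h0
  rw [commutatorElement_eq_one_iff_mul_comm] at h0
  refine hcon.1 (hk x hx (nd P C hp2 hexp hx' hcon.2 (D.d x hx) ?_))
  rw [← mul_inv_rev x', ← mul_inv_rev _ x'] at h0
  exact inv_injective h0

omit D in
omit k u in
theorem plane_g (hexp : ∀ x ∈ Z r, x ^ p = 1) {e a b g : Y}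
    (heq : ∀ x ∈ X (r - (2 : ℤ) • y), e * x * e⁻¹ = z (r - (2 : ℤ) • y) * x * z (r - (2 : ℤ) • y))
    (haa : a * a = e) (hay : ∀ c ∈ X y, a * c = c * a) (haw : ∀ c ∈ X (r - y), a * c = c * a)
    (haq : ∀ x ∈ X (r - (2 : ℤ) • y), a * x * a⁻¹ ∈ X (r - (2 : ℤ) • y))
    (haq' : ∀ x ∈ X (r - (2 : ℤ) • y), a⁻¹ * x * a ∈ X (r - (2 : ℤ) • y))
    (har : ∀ x ∈ X r, a * x * a⁻¹ ∈ X r) (haZ : ∀ x ∈ Z (r - (2 : ℤ) • y), a * x = x * a)
    (hbq : ∀ x ∈ X (r - (2 : ℤ) • y), b * x * b⁻¹ ∈ X (r - (2 : ℤ) • y))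
    (hbZ : ∀ x ∈ Z (r - (2 : ℤ) • y), b * x = x * b) (hba : b * a * b⁻¹ = a⁻¹) (hbg : b * g = g * b)
    (hgy : ∀ c ∈ X y, g * c = c * g) (hgw : ∀ c ∈ X (r - y), g * c = c * g)
    (hgq : ∀ x ∈ X (r - (2 : ℤ) • y), g * x * g⁻¹ ∈ X (r - (2 : ℤ) • y))
    (hgr : ∀ x ∈ X r, g * x * g⁻¹ ∈ X r) (hgZ : ∀ x ∈ Z (r - (2 : ℤ) • y), g * x = x * g) (hag : a * g = g * a)
    (hg : Odd (orderOf g)) : ∀ x ∈ X (r - (2 : ℤ) • y), g * x = x * g := by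
  obtain ⟨u, hu, hu1⟩ : ∃ u ∈ X y, u ≠ 1 := by
    by_contra hcon
    push Not at hcon
    exact Nodes.StdConn.X_ne_bot C P.root ((Subgroup.eq_bot_iff_forall _).2 hcon)
  obtain ⟨k, D, hk⟩ := exists_uk' P C hu hu1
  have hq := P.memq C
  have hle := C.le _ hq
  have hZc : ∀ n ∈ Z (r - (2 : ℤ) • y), ∀ x ∈ X (r - (2 : ℤ) • y), x * n = n * x := fun n hn x hx =>
    C.cent _ hq _ P.rootq (P.swap C).L.pos.le _ hx _ hn
  have cjZ : ∀ {c : Y}, (∀ x ∈ Z (r - (2 : ℤ) • y), c * x = x * c) → ∀ x ∈ Z (r - (2 : ℤ) • y), c * x * c⁻¹ = x := by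
    intro c hc x hx
    rw [hc x hx]; group
  have key := NdField.grp_form (p := p) hp2 (P := X (r - (2 : ℤ) • y)) (N := Z (r - (2 : ℤ) • y))
    (A := X (r - y)) (C.rgd.pgrp' P.rootq)
    (fun x hx x' hx' => by
      have h1 : (x * x')⁻¹ * (x' * x) = ⁅x'⁻¹, x⁻¹⁆ := by rw [commutatorElement_def]; group
      rw [h1]
      exact commutator_VV_le C hp2 hq (Subgroup.commutator_mem_commutator
        ((P.swap C).X_r_le (inv_mem hx')) ((P.swap C).X_r_le (inv_mem hx)))) hle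
    (fun n hn x hx => by
      rw [hZc n hn x hx, mul_inv_cancel_right]
      exact hn)
    (fun a ha b hb => P.abw C ha hb) (sg k)
    (fun x hx x' hx' => sg_mem P C D hx hx') (fun x hx x' hx' v hv => sg_left P C D hx hx' hv)
    (fun v hv x hx x' hx' => sg_right P C D hx hx' hv) (fun x hx v hv => sg_Zl P C D hx hv)
    (fun x hx v hv => sg_Zr P C D hx hv) (fun x hx x' hx' h0 => sg_one P C D hp2 hexp hk hx hx' h0)
    (a := a) (g := g) (k := b) haq haq' (fun x hx => by rw [cjZ haZ x hx]; exact hx) hgq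
    (fun x hx => by rw [cjZ hgZ x hx]; exact hx) hbq (fun x hx => by rw [cjZ hbZ x hx]; exact hx)
    (fun x _ hx => by
      have h1 : b⁻¹ * (b * x * b⁻¹) * b = b * x * b⁻¹ := by
        rw [mul_assoc, ← hbZ _ hx]; group
      have h2 : x = b * x * b⁻¹ := by
        rw [← h1]; group
      rw [h2]; exact hx)
    (fun x hx => by
      have h1 : a * (a * x * a⁻¹) * a⁻¹ = z (r - (2 : ℤ) • y) * x * z (r - (2 : ℤ) • y) := by
        rw [← heq x hx, ← haa]; group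
      rw [h1]
      have h2 := C.z_inv_self _ hq x hx
      have h3 := hZc _ h2 x hx
      have h4 : x * (z (r - (2 : ℤ) • y) * x * z (r - (2 : ℤ) • y)) =
          z (r - (2 : ℤ) • y) * x * z (r - (2 : ℤ) • y) * x := by
        calc x * (z (r - (2 : ℤ) • y) * x * z (r - (2 : ℤ) • y)) =
            x * (z (r - (2 : ℤ) • y) * x * z (r - (2 : ℤ) • y) * x) * x⁻¹ := by group
          _ = z (r - (2 : ℤ) • y) * x * z (r - (2 : ℤ) • y) * x * x * x⁻¹ := by rw [h3]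
          _ = _ := by group
      rw [h4]; exact h2)
    hag hba hbg hg (fun x hx x' hx' => sg_cj P C D (hay u hu) haw haq har hx hx')
    (fun x hx x' hx' => sg_cj P C D (hgy u hu) hgw hgq hgr hx hx')
  intro x hx
  have hζ := key x hx
  set ζ := x⁻¹ * (g * x * g⁻¹) with hζd
  have e1 : g * x * g⁻¹ = x * ζ := by rw [hζd]; group
  have hη := C.z_inv_self _ hq x hx
  set η := z (r - (2 : ℤ) • y) * x * z (r - (2 : ℤ) • y) * x with hηd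
  have e2 : e * x * e⁻¹ = η * x⁻¹ := by rw [heq x hx, hηd]; group
  have hge : g * e = e * g := by
    rw [← haa, ← mul_assoc, ← hag, mul_assoc, ← hag, mul_assoc]
  have heζ : e * ζ * e⁻¹ = ζ := by
    have h1 := cjZ haZ ζ hζ
    rw [← haa]
    calc a * a * ζ * (a * a)⁻¹ = a * (a * ζ * a⁻¹) * a⁻¹ := by group
      _ = ζ := by rw [h1, h1]
  have hgη := cjZ hgZ η hη
  have e3 : ζ * ζ = 1 := by
    have h1 : g * (e * x * e⁻¹) * g⁻¹ = e * (g * x * g⁻¹) * e⁻¹ := by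
      calc g * (e * x * e⁻¹) * g⁻¹ = (g * e) * x * (g * e)⁻¹ := by group
        _ = (e * g) * x * (e * g)⁻¹ := by rw [hge]
        _ = _ := by group
    have h2 : g * (e * x * e⁻¹) * g⁻¹ = η * (ζ⁻¹ * x⁻¹) := by
      rw [e2]
      calc g * (η * x⁻¹) * g⁻¹ = (g * η * g⁻¹) * (g * x * g⁻¹)⁻¹ := by group
        _ = η * (x * ζ)⁻¹ := by rw [hgη, e1]
        _ = _ := by group
    have h3 : e * (g * x * g⁻¹) * e⁻¹ = η * x⁻¹ * ζ := by
      rw [e1]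
      calc e * (x * ζ) * e⁻¹ = (e * x * e⁻¹) * (e * ζ * e⁻¹) := by group
        _ = η * x⁻¹ * ζ := by rw [e2, heζ]
    rw [h2, h3] at h1
    have h4 : ζ⁻¹ * x⁻¹ = x⁻¹ * ζ := by
      have := mul_left_cancel (h1.trans (mul_assoc _ _ _))
      exact this
    have h5 := hZc ζ hζ x⁻¹ (inv_mem hx)
    rw [h5] at h4
    have h6 := mul_right_cancel h4
    nth_rewrite 1 [← h6]
    exact inv_mul_cancel ζ
  have e4 : ζ = 1 := eq_one_of_sq hp2 (C.rgd.pgrp' P.rootq) (hle hζ) e3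
  rw [e4, mul_one] at e1
  calc g * x = (g * x * g⁻¹) * g := by group
    _ = x * g := by rw [e1]

end plane

/-! ### The characters of `K` on `X y` -/

section char

/-- a ternary quadratic form over a finite field is isotropic -/
theorem ternary {𝔽 : Type*} [Field 𝔽] [Fintype 𝔽] (hodd : Odd (Fintype.card 𝔽)) {β₁ β₂ β₃ : 𝔽} (h1 : β₁ ≠ 0)
    (h2 : β₂ ≠ 0) : ∃ a b : 𝔽, a ^ 2 * β₁ + b ^ 2 * β₂ + β₃ = 0 := by
  obtain ⟨a, b, hab⟩ := FiniteField.exists_root_sum_quadratic (R := 𝔽)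
    (f := Polynomial.C β₁ * Polynomial.X ^ 2 + Polynomial.C 0 * Polynomial.X + Polynomial.C β₃)
    (g := Polynomial.C β₂ * Polynomial.X ^ 2 + Polynomial.C 0 * Polynomial.X + Polynomial.C 0)
    (Polynomial.degree_quadratic h1) (Polynomial.degree_quadratic h2) (Nat.odd_iff.1 hodd)
  refine ⟨a, b, ?_⟩
  simp only [Polynomial.eval_add, Polynomial.eval_mul, Polynomial.eval_C, Polynomial.eval_pow, Polynomial.eval_X] at hab
  linear_combination hab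

variable (P : Pl cs h R r y) (C : Cls cs h p T n X R Z z) {𝔽 : Type*} [Field 𝔽]
  {er : Matrix.SpecialLinearGroup (Fin 2) 𝔽 ≃* ↥(Z r ⊔ Z (-r))} {K : Subgroup Y} {e ζ : Y}

include P C

/-- `⟨Z r, Z (-r)⟩` centralises `Z q` -/
theorem J_comm {g a : Y} (hg : g ∈ Z r ⊔ Z (-r)) (ha : a ∈ Z (r - (2 : ℤ) • y)) : g * a = a * g := by
  have hq := P.memq C
  have h1 : Z r ⊔ Z (-r) ≤ Subgroup.centralizer (Z (r - (2 : ℤ) • y) : Set Y) := by
    refine sup_le (fun b hb => ?_) (fun b hb => ?_)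
    · rw [Subgroup.mem_centralizer_iff]
      intro c hc
      exact (C.cent _ hq r P.L.root (by rw [P.frq]) b (C.le r P.mem hb) c hc).symm
    · rw [Subgroup.mem_centralizer_iff]
      intro c hc
      exact (C.cent _ hq (-r) P.L.root.neg (by rw [form_neg_left, P.frq, neg_zero]) b
        (C.le _ (neg_mem C P.mem) hb) c hc).symm
  exact (Subgroup.mem_centralizer_iff.1 (h1 hg) a ha).symm

/-- scaling by the torus of `⟨Z r, Z (-r)⟩` -/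
theorem scal (hζ : ζ ∈ Z (r - (2 : ℤ) • y)) (hTT : ∀ t ∈ TT er, ∀ u ∈ X y, t * u * t⁻¹ ∈ X y)
    (hKr : ∀ k ∈ K, ∀ a ∈ Z r ⊔ Z (-r), k * a = a * k) {v : Y} (hv : v ∈ X y) {β : 𝔽}
    (hβ : ⁅v, ⁅ζ⁻¹, v⁆⁆ = (er (up β) : Y)) (l : 𝔽) : ∃ v' ∈ X y, ⁅v', ⁅ζ⁻¹, v'⁆⁆ = (er (up (l ^ 2 * β)) : Y) ∧
      (∀ k ∈ K, k * v * k⁻¹ = v → k * v' * k⁻¹ = v') ∧ ∀ k ∈ K, k * v * k⁻¹ = v⁻¹ → k * v' * k⁻¹ = v'⁻¹ := by
  by_cases hl : l = 0
  · refine ⟨1, one_mem _, ?_, fun k _ _ => by group, fun k _ _ => by group⟩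
    rw [hl, zero_pow two_ne_zero, zero_mul, up_zero, map_one, commutatorElement_one_left]
    rfl
  · have ht : (er (dg l hl) : Y) ∈ TT er := ⟨l, hl, rfl⟩
    have htJ := TT_le er ht
    set t := (er (dg l hl) : Y) with htd
    have htζ := J_comm P C htJ hζ
    refine ⟨t * v * t⁻¹, hTT t ht v hv, ?_, fun k hk h1 => ?_, fun k hk h1 => ?_⟩
    · have e1 : ⁅t * v * t⁻¹, ⁅ζ⁻¹, t * v * t⁻¹⁆⁆ = t * ⁅v, ⁅ζ⁻¹, v⁆⁆ * t⁻¹ := by
        have h3 : t⁻¹ * ζ⁻¹ * t = ζ⁻¹ := by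
          have : t⁻¹ * ζ⁻¹ * t = (t⁻¹ * ζ * t)⁻¹ := by group
          rw [this, mul_assoc, ← htζ]; group
        have h4 : t * ζ⁻¹ * t⁻¹ = ζ⁻¹ := by
          nth_rewrite 1 [← h3]; group
        have h5 : t * ⁅v, ⁅ζ⁻¹, v⁆⁆ * t⁻¹ = ⁅t * v * t⁻¹, ⁅t * ζ⁻¹ * t⁻¹, t * v * t⁻¹⁆⁆ := by
          simp only [commutatorElement_def]; group
        rw [h5, h4]
      rw [e1, hβ, htd, mul_inv_eq_iff_eq_mul, ← Subgroup.coe_mul, ← map_mul, ← Subgroup.coe_mul, ← map_mul, dg_up]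
    · have h3 := hKr k hk t htJ
      calc k * (t * v * t⁻¹) * k⁻¹ = (k * t) * v * (k * t)⁻¹ := by group
        _ = (t * k) * v * (t * k)⁻¹ := by rw [h3]
        _ = t * (k * v * k⁻¹) * t⁻¹ := by group
        _ = t * v * t⁻¹ := by rw [h1]
    · have h3 := hKr k hk t htJ
      calc k * (t * v * t⁻¹) * k⁻¹ = (k * t) * v * (k * t)⁻¹ := by group
        _ = (t * k) * v * (t * k)⁻¹ := by rw [h3]
        _ = t * (k * v * k⁻¹) * t⁻¹ := by group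
        _ = t * v⁻¹ * t⁻¹ := by rw [h1]
        _ = (t * v * t⁻¹)⁻¹ := by group

/-- two eigenvectors with different characters -/
def Opp (K : Subgroup Y) (v v' : Y) : Prop :=
  ∃ k ∈ K, (k * v * k⁻¹ = v ∧ k * v' * k⁻¹ = v'⁻¹) ∨ (k * v * k⁻¹ = v⁻¹ ∧ k * v' * k⁻¹ = v')

omit P C in
theorem Opp.symm {v v' : Y} (o : Opp K v v') : Opp K v' v := by
  obtain ⟨k, hk, h1 | h1⟩ := o
  · exact ⟨k, hk, Or.inr ⟨h1.2, h1.1⟩⟩
  · exact ⟨k, hk, Or.inl ⟨h1.2, h1.1⟩⟩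

omit P C in
theorem Opp.mono {v v' w w' : Y} (o : Opp K v v')
    (h1 : ∀ k ∈ K, k * v * k⁻¹ = v → k * w * k⁻¹ = w) (h2 : ∀ k ∈ K, k * v * k⁻¹ = v⁻¹ → k * w * k⁻¹ = w⁻¹)
    (h3 : ∀ k ∈ K, k * v' * k⁻¹ = v' → k * w' * k⁻¹ = w')
    (h4 : ∀ k ∈ K, k * v' * k⁻¹ = v'⁻¹ → k * w' * k⁻¹ = w'⁻¹) : Opp K w w' := by
  obtain ⟨k, hk, h5 | h5⟩ := o
  · exact ⟨k, hk, Or.inl ⟨h1 k hk h5.1, h4 k hk h5.2⟩⟩
  · exact ⟨k, hk, Or.inr ⟨h2 k hk h5.1, h3 k hk h5.2⟩⟩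

variable [Finite Y] [Fact p.Prime] (hp2 : p ≠ 2)

include hp2

/-- different characters are orthogonal -/
theorem orth_of_opp (hζ : ζ ∈ Z (r - (2 : ℤ) • y)) (hKr : ∀ k ∈ K, ∀ a ∈ Z r, k * a = a * k)
    (hKq : ∀ k ∈ K, ∀ a ∈ Z (r - (2 : ℤ) • y), k * a = a * k) {v v' : Y} (hv : v ∈ X y) (hv' : v' ∈ X y)
    (o : Opp K v v') : ⁅v, ⁅ζ⁻¹, v'⁆⁆ = 1 := by
  -- left inverse
  have hinvl : ∀ {u w : Y}, u ∈ X y → w ∈ X y → ⁅u⁻¹, ⁅ζ⁻¹, w⁆⁆ = ⁅u, ⁅ζ⁻¹, w⁆⁆⁻¹ := by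
    intro u w hu hw
    have h1 := P.form_add C hp2 hζ (inv_mem hu) hu hw
    rw [inv_mul_cancel, commutatorElement_one_left] at h1
    exact eq_inv_of_mul_eq_one_left h1.symm
  have hinvr : ∀ {u w : Y}, u ∈ X y → w ∈ X y → ⁅u, ⁅ζ⁻¹, w⁻¹⁆⁆ = ⁅u, ⁅ζ⁻¹, w⁆⁆⁻¹ := by
    intro u w hu hw
    rw [P.form_symm C hp2 hζ hu (inv_mem hw), hinvl hw hu, P.form_symm C hp2 hζ hw hu]
  have hm := P.form_mem C hp2 hζ hv hv'
  have hinv : ∀ k ∈ K, ⁅k * v * k⁻¹, ⁅ζ⁻¹, k * v' * k⁻¹⁆⁆ = ⁅v, ⁅ζ⁻¹, v'⁆⁆ := by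
    intro k hk
    have h1 := hKq k hk ζ hζ
    have h3 : k * ζ⁻¹ * k⁻¹ = ζ⁻¹ := by
      have : k * ζ⁻¹ * k⁻¹ = (k * ζ * k⁻¹)⁻¹ := by group
      rw [this, h1]; group
    have h4 : k * ⁅v, ⁅ζ⁻¹, v'⁆⁆ * k⁻¹ = ⁅k * v * k⁻¹, ⁅k * ζ⁻¹ * k⁻¹, k * v' * k⁻¹⁆⁆ := by
      simp only [commutatorElement_def]; group
    rw [h3] at h4
    rw [← h4, hKr k hk _ hm]; group
  have hsq : ⁅v, ⁅ζ⁻¹, v'⁆⁆ * ⁅v, ⁅ζ⁻¹, v'⁆⁆ = 1 := by
    obtain ⟨k, hk, ⟨h1, h2⟩ | ⟨h1, h2⟩⟩ := o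
    · have h3 := hinv k hk
      rw [h1, h2, hinvr hv hv'] at h3
      nth_rewrite 1 [← h3]
      exact inv_mul_cancel _
    · have h3 := hinv k hk
      rw [h1, h2, hinvl hv hv'] at h3
      nth_rewrite 1 [← h3]
      exact inv_mul_cancel _
  exact eq_one_of_sq hp2 (C.rgd.pgrp' P.L.root) (C.le _ P.mem hm) hsq

/-- **at most two characters** -/
theorem no_three [Fintype 𝔽] (hodd : Odd (Fintype.card 𝔽)) (hrt : root er = Z r)
    (hTT : ∀ t ∈ TT er, ∀ u ∈ X y, t * u * t⁻¹ ∈ X y)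
    (hKJ : ∀ k ∈ K, ∀ a ∈ Z r ⊔ Z (-r), k * a = a * k)
    (hKq : ∀ k ∈ K, ∀ a ∈ Z (r - (2 : ℤ) • y), k * a = a * k) {v₁ v₂ v₃ : Y} (hv₁ : v₁ ∈ X y) (hv₂ : v₂ ∈ X y)
    (hv₃ : v₃ ∈ X y) (hn₁ : v₁ ≠ 1) (hn₂ : v₂ ≠ 1) (hn₃ : v₃ ≠ 1) (o₁ : Opp K v₁ v₂) (o₂ : Opp K v₁ v₃)
    (o₃ : Opp K v₂ v₃) : False := by
  obtain ⟨ζ, hζ, hζ1⟩ : ∃ a ∈ Z (r - (2 : ℤ) • y), a ≠ 1 := by
    by_contra hcon
    push Not at hcon
    exact C.ne_bot _ (P.memq C) ((Subgroup.eq_bot_iff_forall _).2 hcon)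
  have hKr : ∀ k ∈ K, ∀ a ∈ Z r, k * a = a * k := fun k hk a ha => hKJ k hk a (Subgroup.mem_sup_left ha)
  have val : ∀ v ∈ X y, v ≠ 1 → ∃ β : 𝔽, β ≠ 0 ∧ ⁅v, ⁅ζ⁻¹, v⁆⁆ = (er (up β) : Y) := by
    intro v hv hv1
    have h1 := P.form_mem C hp2 hζ hv hv
    rw [← hrt] at h1
    obtain ⟨β, hβ⟩ := mem_root.1 h1
    refine ⟨β, ?_, hβ.symm⟩
    rintro rfl
    rw [up_zero, map_one] at hβ
    exact hv1 (P.aniso C hp2 hζ hζ1 hv hβ.symm)
  obtain ⟨β₁, hb₁, e₁⟩ := val v₁ hv₁ hn₁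
  obtain ⟨β₂, hb₂, e₂⟩ := val v₂ hv₂ hn₂
  obtain ⟨β₃, hb₃, e₃⟩ := val v₃ hv₃ hn₃
  obtain ⟨a, b, hab⟩ := ternary hodd (β₃ := β₃) hb₁ hb₂
  obtain ⟨u₁, hu₁, f₁, c₁, d₁⟩ := scal P C hζ hTT hKJ hv₁ e₁ a
  obtain ⟨u₂, hu₂, f₂, c₂, d₂⟩ := scal P C hζ hTT hKJ hv₂ e₂ b
  have q₁ := orth_of_opp P C hp2 hζ hKr hKq hu₁ hu₂ (o₁.mono c₁ d₁ c₂ d₂)
  have q₂ := orth_of_opp P C hp2 hζ hKr hKq hu₁ hv₃ (o₂.mono c₁ d₁ (fun _ _ h => h) (fun _ _ h => h))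
  have q₃ := orth_of_opp P C hp2 hζ hKr hKq hu₂ hv₃ (o₃.mono c₂ d₂ (fun _ _ h => h) (fun _ _ h => h))
  have sy : ∀ {u w : Y}, u ∈ X y → w ∈ X y → ⁅u, ⁅ζ⁻¹, w⁆⁆ = ⁅w, ⁅ζ⁻¹, u⁆⁆ := fun hu hw => P.form_symm C hp2 hζ hu hw
  have hu₁₂ := mul_mem hu₁ hu₂
  have hv : u₁ * u₂ * v₃ ∈ X y := mul_mem hu₁₂ hv₃
  have bv : ∀ w ∈ X y, ⁅u₁ * u₂ * v₃, ⁅ζ⁻¹, w⁆⁆ = ⁅u₁, ⁅ζ⁻¹, w⁆⁆ * ⁅u₂, ⁅ζ⁻¹, w⁆⁆ * ⁅v₃, ⁅ζ⁻¹, w⁆⁆ := by
    intro w hw
    rw [P.form_add C hp2 hζ hu₁₂ hv₃ hw, P.form_add C hp2 hζ hu₁ hu₂ hw]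
  have b1 : ⁅u₁ * u₂ * v₃, ⁅ζ⁻¹, u₁⁆⁆ = (er (up (a ^ 2 * β₁)) : Y) := by
    rw [bv _ hu₁, f₁, sy hu₂ hu₁, q₁, sy hv₃ hu₁, q₂, mul_one, mul_one]
  have b2 : ⁅u₁ * u₂ * v₃, ⁅ζ⁻¹, u₂⁆⁆ = (er (up (b ^ 2 * β₂)) : Y) := by
    rw [bv _ hu₂, f₂, q₁, sy hv₃ hu₂, q₃, mul_one, one_mul]
  have b3 : ⁅u₁ * u₂ * v₃, ⁅ζ⁻¹, v₃⁆⁆ = (er (up β₃) : Y) := by
    rw [bv _ hv₃, e₃, q₂, q₃, one_mul, one_mul]
  have b4 : ⁅u₁ * u₂ * v₃, ⁅ζ⁻¹, u₁ * u₂ * v₃⁆⁆ = 1 := by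
    rw [bv _ hv, sy hu₁ hv, sy hu₂ hv, sy hv₃ hv, b1, b2, b3, ← Subgroup.coe_mul, ← map_mul, ← Subgroup.coe_mul,
      ← map_mul, up_mul, up_mul, hab, up_zero, map_one]
    rfl
  have h1 := P.aniso C hp2 hζ hζ1 hv b4
  rw [h1, commutatorElement_one_left] at b3
  have h2 : up β₃ = 1 := by
    apply er.injective
    rw [map_one]
    exact Subtype.ext b3.symm
  have h3 := congrArg (fun x => ent x 0 1) h2
  simp only [up_01] at h3
  have h4 : ent (1 : Matrix.SpecialLinearGroup (Fin 2) 𝔽) 0 1 = 0 := by simp [ent]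
  rw [h4] at h3
  exact hb₃ h3

/-- `± v` -/
def ps (s : Bool) (v : Y) : Y := bif s then v else v⁻¹

omit P C hp2 in
theorem three {a b c d : Prop} (h1 : a ∨ b) (h2 : c ∨ d) (h3 : a ∨ c) (h4 : b ∨ d) (h5 : a ∨ d) (h6 : b ∨ c) :
    (a ∧ b ∧ c) ∨ (a ∧ b ∧ d) ∨ (a ∧ c ∧ d) ∨ (b ∧ c ∧ d) := by
  tauto

/-- **an element of order 4 of `K` acts on `X y` as `± 1`** -/
theorem exists_scalar [Fintype 𝔽] (hodd : Odd (Fintype.card 𝔽)) (hrt : root er = Z r)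
    (hTT : ∀ t ∈ TT er, ∀ u ∈ X y, t * u * t⁻¹ ∈ X y)
    (hKJ : ∀ k ∈ K, ∀ a ∈ Z r ⊔ Z (-r), k * a = a * k)
    (hKq : ∀ k ∈ K, ∀ a ∈ Z (r - (2 : ℤ) • y), k * a = a * k) (hK : QK K e)
    (hn : ∀ k ∈ K, ∀ u ∈ X y, k * u * k⁻¹ ∈ X y) (he : ∀ u ∈ X y, e * u = u * e) :
    ∃ k ∈ K, ∃ b ∈ K, k * k = e ∧ b * k * b⁻¹ = k⁻¹ ∧
      ((∀ u ∈ X y, k * u * k⁻¹ = u) ∨ ∀ u ∈ X y, k * u * k⁻¹ = u⁻¹) := by
  obtain ⟨a, ha, b, hb, haa, hbb, hab⟩ := hK.com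
  have he2 := hK.sq
  have hei := hK.inv_e
  have hea := hK.cen a ha
  have heb := hK.cen b hb
  have hai : a⁻¹ = e * a := by
    rw [inv_eq_iff_mul_eq_one, ← mul_assoc, hea, mul_assoc, haa, he2]
  have hbi : b⁻¹ = e * b := by
    rw [inv_eq_iff_mul_eq_one, ← mul_assoc, heb, mul_assoc, hbb, he2]
  have hba : b * a = e * (a * b) := by rw [hab, ← mul_assoc, he2, one_mul]
  -- `c = a b`
  obtain ⟨c, hc⟩ : ∃ c, c = a * b := ⟨_, rfl⟩
  have hcK : c ∈ K := by rw [hc]; exact mul_mem ha hb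
  have hcc : c * c = e := by
    calc c * c = a * (b * a) * b := by rw [hc]; group
      _ = a * (e * (a * b)) * b := by rw [hba]
      _ = (a * e) * a * b * b := by group
      _ = e * (a * a) * (b * b) := by rw [hea]; group
      _ = e := by rw [haa, hbb, he2, one_mul]
  have hac : a * c = e * b := by rw [hc, ← mul_assoc, haa]
  have hca : c * a = b := by
    calc c * a = a * (b * a) := by rw [hc]; group
      _ = (a * e) * a * b := by rw [hba]; group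
      _ = e * (a * a) * b := by rw [hea]; group
      _ = b := by rw [haa, he2, one_mul]
  have hce := hK.cen c hcK
  have hci : c⁻¹ = e * c := by
    rw [inv_eq_iff_mul_eq_one, ← mul_assoc, hce, mul_assoc, hcc, he2]
  have i1 : b * a * b⁻¹ = a⁻¹ := by rw [hba, hai]; group
  have i2 : a * b * a⁻¹ = b⁻¹ := by rw [hab, hbi]; group
  have i3 : a * c * a⁻¹ = c⁻¹ := by
    have h1 : a * c = e * (c * a) := by rw [hac, hca]
    rw [h1, hci]; group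
  by_contra hcon
  push Not at hcon
  obtain ⟨na1, na2⟩ := hcon a ha b hb haa i1
  obtain ⟨nb1, nb2⟩ := hcon b hb a ha hbb i2
  obtain ⟨nc1, nc2⟩ := hcon c hcK a ha hcc i3
  have ce : ∀ u ∈ X y, e * u * e⁻¹ = u := fun u hu => by rw [he u hu]; group
  have hab' : ∀ u ∈ X y, ∀ v ∈ X y, u * v = v * u := fun u hu v hv => P.aby C hu hv
  -- squares act trivially
  have sq : ∀ k, k * k = e → ∀ u ∈ X y, k * (k * u * k⁻¹) * k⁻¹ = u := by
    intro k hk u hu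
    calc k * (k * u * k⁻¹) * k⁻¹ = (k * k) * u * (k * k)⁻¹ := by group
      _ = u := by rw [hk, ce u hu]
  have pt : ∀ k ∈ K, k * k = e → (∃ u ∈ X y, k * u * k⁻¹ ≠ u⁻¹) →
      ∃ v ∈ X y, v ≠ 1 ∧ k * v * k⁻¹ = ps true v := by
    rintro k hk hkk ⟨u, hu, hne⟩
    have hu' := hn k hk u hu
    refine ⟨u * (k * u * k⁻¹), mul_mem hu hu', fun h0 => hne (eq_inv_of_mul_eq_one_right h0), ?_⟩
    show k * (u * (k * u * k⁻¹)) * k⁻¹ = u * (k * u * k⁻¹)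
    calc k * (u * (k * u * k⁻¹)) * k⁻¹ = (k * u * k⁻¹) * (k * (k * u * k⁻¹) * k⁻¹) := by group
      _ = (k * u * k⁻¹) * u := by rw [sq k hkk u hu]
      _ = _ := hab' _ hu' _ hu
  have pf : ∀ k ∈ K, k * k = e → (∃ u ∈ X y, k * u * k⁻¹ ≠ u) →
      ∃ v ∈ X y, v ≠ 1 ∧ k * v * k⁻¹ = ps false v := by
    rintro k hk hkk ⟨u, hu, hne⟩
    have hu' := hn k hk u hu
    refine ⟨u⁻¹ * (k * u * k⁻¹), mul_mem (inv_mem hu) hu', fun h0 => hne (inv_mul_eq_one.1 h0).symm, ?_⟩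
    show k * (u⁻¹ * (k * u * k⁻¹)) * k⁻¹ = (u⁻¹ * (k * u * k⁻¹))⁻¹
    calc k * (u⁻¹ * (k * u * k⁻¹)) * k⁻¹ = (k * u * k⁻¹)⁻¹ * (k * (k * u * k⁻¹) * k⁻¹) := by group
      _ = (k * u * k⁻¹)⁻¹ * u := by rw [sq k hkk u hu]
      _ = _ := by group
  have psm : ∀ k ∈ K, ∀ v ∈ X y, ∀ w ∈ X y, ∀ t, k * v * k⁻¹ = ps t v → k * w * k⁻¹ = ps t w →
      k * (v * w) * k⁻¹ = ps t (v * w) := by
    intro k hk v hv w hw t h1 h2
    have h3 : k * (v * w) * k⁻¹ = (k * v * k⁻¹) * (k * w * k⁻¹) := by group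
    rw [h3, h1, h2]
    cases t
    · show v⁻¹ * w⁻¹ = (v * w)⁻¹
      rw [← mul_inv_rev, hab' w hw v hv]
    · rfl
  have psc : ∀ k ∈ K, ∀ v ∈ X y, ∀ t, k * ps t v * k⁻¹ = ps t (k * v * k⁻¹) := by
    intro k hk v hv t
    cases t
    · show k * v⁻¹ * k⁻¹ = (k * v * k⁻¹)⁻¹
      group
    · rfl
  -- refine an eigenvector
  have rf : ∀ k ∈ K, k * k = e → ∀ k' ∈ K, (k * k' = e * (k' * k) ∨ k * k' = k' * k) → ∀ v ∈ X y, v ≠ 1 → ∀ t,
      k' * v * k'⁻¹ = ps t v → ∃ s, ∃ v' ∈ X y, v' ≠ 1 ∧ k * v' * k⁻¹ = ps s v' ∧ k' * v' * k'⁻¹ = ps t v' := by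
    intro k hk hkk k' hk' hcm v hv hv1 t ht
    have hv' := hn k hk v hv
    by_cases h1 : v * (k * v * k⁻¹) = 1
    · refine ⟨false, v, hv, hv1, ?_, ht⟩
      show k * v * k⁻¹ = v⁻¹
      exact eq_inv_of_mul_eq_one_right h1
    · refine ⟨true, v * (k * v * k⁻¹), mul_mem hv hv', h1, ?_, ?_⟩
      · show k * (v * (k * v * k⁻¹)) * k⁻¹ = v * (k * v * k⁻¹)
        calc k * (v * (k * v * k⁻¹)) * k⁻¹ = (k * v * k⁻¹) * (k * (k * v * k⁻¹) * k⁻¹) := by group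
          _ = (k * v * k⁻¹) * v := by rw [sq k hkk v hv]
          _ = _ := hab' _ hv' _ hv
      · refine psm k' hk' v hv _ hv' t ht ?_
        have h2 : k' * (k * v * k⁻¹) * k'⁻¹ = k * (k' * v * k'⁻¹) * k⁻¹ := by
          have h3 : k * (k' * v * k'⁻¹) * k⁻¹ = (k * k') * v * (k * k')⁻¹ := by group
          have h4 : k' * (k * v * k⁻¹) * k'⁻¹ = (k' * k) * v * (k' * k)⁻¹ := by group
          rw [h3, h4]
          rcases hcm with h5 | h5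
          · rw [h5]
            have h6 : e * (k' * k) * v * (e * (k' * k))⁻¹ = e * ((k' * k) * v * (k' * k)⁻¹) * e⁻¹ := by group
            rw [h6, ce _ (hn _ (mul_mem hk' hk) v hv)]
          · rw [h5]
        rw [h2, ht, psc k hk v hv]
  -- the four characters
  let E : Bool → Bool → Prop := fun s t => ∃ v ∈ X y, v ≠ 1 ∧ a * v * a⁻¹ = ps s v ∧ b * v * b⁻¹ = ps t v
  have hA : ∀ s, ∃ t, E s t := by
    intro s
    have h1 : ∃ v ∈ X y, v ≠ 1 ∧ a * v * a⁻¹ = ps s v := by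
      cases s
      · exact pf a ha haa na1
      · exact pt a ha haa na2
    obtain ⟨v, hv, hv1, h2⟩ := h1
    obtain ⟨t, v', hv', hv1', h3, h4⟩ := rf b hb hbb a ha (Or.inl hba) v hv hv1 s h2
    exact ⟨t, v', hv', hv1', h4, h3⟩
  have hB : ∀ t, ∃ s, E s t := by
    intro s
    have h1 : ∃ v ∈ X y, v ≠ 1 ∧ b * v * b⁻¹ = ps s v := by
      cases s
      · exact pf b hb hbb nb1
      · exact pt b hb hbb nb2
    obtain ⟨v, hv, hv1, h2⟩ := h1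
    obtain ⟨t, v', hv', hv1', h3, h4⟩ := rf a ha haa b hb (Or.inl hab) v hv hv1 s h2
    exact ⟨t, v', hv', hv1', h3, h4⟩
  have hC : ∀ t, ∃ s, E s (s == t) := by
    intro t
    have h1 : ∃ v ∈ X y, v ≠ 1 ∧ c * v * c⁻¹ = ps t v := by
      cases t
      · exact pf c hcK hcc nc1
      · exact pt c hcK hcc nc2
    obtain ⟨v, hv, hv1, h2⟩ := h1
    obtain ⟨s, v', hv', hv1', h3, h4⟩ := rf a ha haa c hcK (Or.inl (by rw [hac, hca])) v hv hv1 t h2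
    refine ⟨s, v', hv', hv1', h3, ?_⟩
    have h5 : b * v' * b⁻¹ = a * (c * v' * c⁻¹) * a⁻¹ := by
      have h6 : b = e⁻¹ * (a * c) := by rw [hac]; group
      have h7 : a * (c * v' * c⁻¹) * a⁻¹ = (a * c) * v' * (a * c)⁻¹ := by group
      have h8 := ce _ (hn (a * c) (mul_mem ha hcK) v' hv')
      rw [h7, h6]
      calc e⁻¹ * (a * c) * v' * (e⁻¹ * (a * c))⁻¹ = e⁻¹ * ((a * c) * v' * (a * c)⁻¹) * e := by group
        _ = e⁻¹ * (e * ((a * c) * v' * (a * c)⁻¹) * e⁻¹) * e := by rw [h8]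
        _ = _ := by group
    rw [h5, h4, psc a ha v' hv', h3]
    cases s <;> cases t <;> simp [ps]
  have opp : ∀ s t s' t', ∀ v w : Y, (a * v * a⁻¹ = ps s v ∧ b * v * b⁻¹ = ps t v) →
      (a * w * a⁻¹ = ps s' w ∧ b * w * b⁻¹ = ps t' w) → (s, t) ≠ (s', t') → Opp K v w := by
    intro s t s' t' v w h1 h2 hne
    by_cases h3 : s = s'
    · have h4 : t ≠ t' := fun h4 => hne (by rw [h3, h4])
      cases t <;> cases t'
      · exact absurd rfl h4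
      · exact ⟨b, hb, Or.inr ⟨h1.2, h2.2⟩⟩
      · exact ⟨b, hb, Or.inl ⟨h1.2, h2.2⟩⟩
      · exact absurd rfl h4
    · cases s <;> cases s'
      · exact absurd rfl h3
      · exact ⟨a, ha, Or.inr ⟨h1.1, h2.1⟩⟩
      · exact ⟨a, ha, Or.inl ⟨h1.1, h2.1⟩⟩
      · exact absurd rfl h3
  have fin : ∀ s₁ t₁ s₂ t₂ s₃ t₃, (s₁, t₁) ≠ (s₂, t₂) → (s₁, t₁) ≠ (s₃, t₃) → (s₂, t₂) ≠ (s₃, t₃) →
      E s₁ t₁ → E s₂ t₂ → E s₃ t₃ → False := by
    rintro s₁ t₁ s₂ t₂ s₃ t₃ g1 g2 g3 ⟨v₁, hv₁, n₁, e₁⟩ ⟨v₂, hv₂, n₂, e₂⟩ ⟨v₃, hv₃, n₃, e₃⟩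
    exact no_three P C hp2 hodd hrt hTT hKJ hKq hv₁ hv₂ hv₃ n₁ n₂ n₃ (opp _ _ _ _ _ _ e₁ e₂ g1)
      (opp _ _ _ _ _ _ e₁ e₃ g2) (opp _ _ _ _ _ _ e₂ e₃ g3)
  have d1 : E true true ∨ E true false := by
    obtain ⟨t, ht⟩ := hA true
    cases t
    · exact Or.inr ht
    · exact Or.inl ht
  have d2 : E false true ∨ E false false := by
    obtain ⟨t, ht⟩ := hA false
    cases t
    · exact Or.inr ht
    · exact Or.inl ht
  have d3 : E true true ∨ E false true := by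
    obtain ⟨t, ht⟩ := hB true
    cases t
    · exact Or.inr ht
    · exact Or.inl ht
  have d4 : E true false ∨ E false false := by
    obtain ⟨t, ht⟩ := hB false
    cases t
    · exact Or.inr ht
    · exact Or.inl ht
  have d5 : E true true ∨ E false false := by
    obtain ⟨t, ht⟩ := hC true
    cases t
    · exact Or.inr ht
    · exact Or.inl ht
  have d6 : E true false ∨ E false true := by
    obtain ⟨t, ht⟩ := hC false
    cases t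
    · exact Or.inr ht
    · exact Or.inl ht
  rcases three d1 d2 d3 d4 d5 d6 with ⟨x1, x2, x3⟩ | ⟨x1, x2, x3⟩ | ⟨x1, x2, x3⟩ | ⟨x1, x2, x3⟩
  · exact fin _ _ _ _ _ _ (by decide) (by decide) (by decide) x1 x2 x3
  · exact fin _ _ _ _ _ _ (by decide) (by decide) (by decide) x1 x2 x3
  · exact fin _ _ _ _ _ _ (by decide) (by decide) (by decide) x1 x2 x3
  · exact fin _ _ _ _ _ _ (by decide) (by decide) (by decide) x1 x2 x3

end char

/-! ### The chart -/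

section chart

variable {G : Type*} [Group G] {Om : Set (Subgroup G)} {p : ℕ} {L : Subgroup G} [Finite G]

variable (c : Chart Om p L) {n : ℕ} (hn : 2 ≤ n) (hτ : c.IsTy (.C n)) {𝔽 : Type*} [Field 𝔽] [Fintype 𝔽]
  [CharP 𝔽 p] (sl : ∀ J ∈ Om, Nonempty (Matrix.SpecialLinearGroup (Fin 2) 𝔽 ≃* J))

include hn hτ sl

theorem hexp_of : ∀ r ∈ c.R, ∀ x ∈ c.Z r, x ^ p = 1 := by
  have : Fact p.Prime := ⟨c.prime⟩
  intro r hr
  obtain ⟨e⟩ := sl _ (c.om r hr)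
  exact (Cit.DTwoChart.card_exp_Z c.cls c.odd hr e).2.1

/-- the isometry `a` -/
structure AK (c : Chart Om p L) (K : Subgroup G) (e : G) (r y : c.I → ℤ) (a b k : G) : Prop where
  hk : k ∈ K
  hb : b ∈ K
  or : a = k ∨ a = k * c.z r
  sq : a * a = e
  inv : b * a * b⁻¹ = a⁻¹
  cy : ∀ u ∈ c.X y, a * u = u * a
  cw : ∀ u ∈ c.X (r - y), a * u = u * a
  nq : ∀ x ∈ c.X (r - (2 : ℤ) • y), a * x * a⁻¹ ∈ c.X (r - (2 : ℤ) • y)
  nq' : ∀ x ∈ c.X (r - (2 : ℤ) • y), a⁻¹ * x * a ∈ c.X (r - (2 : ℤ) • y)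
  nr : ∀ x ∈ c.X r, a * x * a⁻¹ ∈ c.X r
  nr' : ∀ x ∈ c.X r, a⁻¹ * x * a ∈ c.X r
  cZ : ∀ x ∈ c.Z (r - (2 : ℤ) • y), a * x = x * a

theorem exists_a (hne : ∀ r ∈ c.R, ∃ t ∈ c.X r, t ∉ c.Z r) {F : Set (c.I → ℤ)} (hF : MaxF c.cls F)
    {K : Subgroup G} {e : G} (hK : QK K e) (hcen : Cen c.cls F K) (hnt : ¬ Triv c.cls e)
    {r y : c.I → ℤ} (P : Pl c.cs c.h c.R r y) (hyR : y ∉ c.R) : ∃ a b k, AK c K e r y a b k := by
  have : Fact p.Prime := ⟨c.prime⟩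
  have C := c.cls
  have hexp := hexp_of c hn hτ sl
  have S := std_of_isTy c hτ (Or.inl ⟨n, rfl⟩)
  have ns : ∀ x, IsRoot c.cs c.h x → ∃ r ∈ F, form c.cs c.h x r ≠ 0 := fun x hx => ns_C c hτ hF hx
  have hT : c.T ≤ G1 c.cs c.h c.X := c.T_le.trans_eq c.gen.symm
  have hFR := F_eq_C c hτ hF
  obtain ⟨hsh, hlo⟩ := act_e c hn hτ hexp hne hF hK hcen hnt
  have hodd : Odd (Fintype.card 𝔽) := by
    refine Nat.odd_iff.2 (FiniteField.odd_card_of_char_ne_two ?_)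
    rw [ringChar.eq 𝔽 p]
    exact c.odd
  have hwR : r - y ∉ c.R := by
    intro h0
    have h1 := S.same P.mem h0
    have h2 := (CnNd.flip P).h2
    have h3 := (S.lg _ h0).pos
    omega
  have hq := P.memq c.cls
  -- `K` and the root groups
  have hKZ : ∀ s ∈ c.R, ∀ k ∈ K, ∀ a ∈ c.Z s, k * a = a * k := fun s hs k hk a ha =>
    hcen.comm s (by rw [hFR]; exact hs) a ha k hk
  have hKJ : ∀ s ∈ c.R, ∀ k ∈ K, ∀ a ∈ c.Z s ⊔ c.Z (-s), k * a = a * k := by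
    intro s hs k hk a ha
    have h3 : c.Z s ⊔ c.Z (-s) ≤ Subgroup.centralizer {k} := by
      refine sup_le (fun a ha => ?_) (fun a ha => ?_)
      · rw [Subgroup.mem_centralizer_singleton_iff]; exact (hKZ s hs k hk a ha).symm
      · rw [Subgroup.mem_centralizer_singleton_iff]; exact (hKZ (-s) (neg_mem c.cls hs) k hk a ha).symm
    have h4 := h3 ha
    rw [Subgroup.mem_centralizer_singleton_iff] at h4
    exact h4.symm
  have nor : ∀ K' : Subgroup G, Cen c.cls F K' → ∀ s ∈ c.R, ∀ k ∈ K', ∀ x ∈ c.X s, k * x * k⁻¹ ∈ c.X s := by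
    intro K' hc s hs k hk x hx
    have hsF : s ∈ F := by rw [hFR]; exact hs
    rw [← MM_eq_C c hτ hF hsF] at hx ⊢
    exact wt_inv c.cls hT hF.sub hsF (S.lg s hs).pos hc hk hx
  have hKy : ∀ k ∈ K, ∀ u ∈ c.X y, k * u * k⁻¹ ∈ c.X y := by
    intro k hk u hu
    rw [← MM_eq (X := c.X) S hF ns P.root hyR] at hu ⊢
    exact wt_inv c.cls hT hF.sub (by rw [hFR]; exact P.mem) (by rw [P.fyr]; exact P.pos) hcen hk hu
  have hKw : ∀ k ∈ K, ∀ u ∈ c.X (r - y), k * u * k⁻¹ ∈ c.X (r - y) := by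
    intro k hk u hu
    rw [← MM_eq (X := c.X) S hF ns P.rootw hwR] at hu ⊢
    exact wt_inv c.cls hT hF.sub (by rw [hFR]; exact P.mem) (by rw [P.fwr]; exact P.pos) hcen hk hu
  -- coordinates
  obtain ⟨er₀⟩ := sl _ (c.om r P.mem)
  obtain ⟨er, hcr⟩ := exists_crd c.cls c.odd P.mem er₀
  have hfyq : form c.cs c.h y (-(r - (2 : ℤ) • y)) = form c.cs c.h y y := by rw [form_neg_right, P.fyq, neg_neg]
  have two : Beta.Two c.cs c.h c.R F r (-(r - (2 : ℤ) • y)) y :=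
    { sub := hF.sub
      neg := hF.neg
      orth := hF.orth
      hr := by rw [hFR]; exact P.mem
      hs := by rw [hFR]; exact neg_mem c.cls hq
      hy := P.root
      yr := by rw [P.fyr]; exact P.pos
      ys := by rw [hfyq]; exact P.pos
      rs := by rw [form_neg_right, P.frq, neg_zero]
      oth := fun t ht h1 h2 h3 h4 => by
        have hrF : r ∈ F := by rw [hFR]; exact P.mem
        have hqF : r - (2 : ℤ) • y ∈ F := by rw [hFR]; exact hq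
        have k1 := hF.orth r hrF t ht h1 h2
        have k2 := hF.orth _ hqF t ht (fun h0 => h4 (by rw [h0, neg_neg])) (fun h0 => h3 h0)
        rw [form_sub_left, form_smul_left, k1] at k2
        omega }
  have hTT : ∀ t ∈ TT er, ∀ u ∈ c.X y, t * u * t⁻¹ ∈ c.X y := by
    intro t ht u hu
    rw [← MM_eq (X := c.X) S hF ns P.root hyR] at hu ⊢
    exact TT_conj_mem c.cls two hcr ht hu
  obtain ⟨k, hk, b, hb, hkk, hbk, hsc⟩ := exists_scalar P c.cls c.odd hodd hcr.rt hTT (hKJ r P.mem)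
    (hKZ _ hq) hK hKy (hsh y P.root hyR)
  -- the same on `X (r - y)`
  have hsw : ∀ s : Bool, (∀ u ∈ c.X y, k * u * k⁻¹ = ps s u) → ∀ u ∈ c.X (r - y), k * u * k⁻¹ = ps s u := by
    intro s h1
    obtain ⟨β, hβ, hβ1⟩ : ∃ β ∈ c.Z (-(r - (2 : ℤ) • y)), β ≠ 1 := by
      by_contra hcon
      push Not at hcon
      exact c.cls.ne_bot _ (neg_mem c.cls hq) ((Subgroup.eq_bot_iff_forall _).2 hcon)
    obtain ⟨a, ha, d, hd, w, hm, hw⟩ := Nodes.Perp.exists_refl_KK c.cls c.prime c.odd hq hβ hβ1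
    have hmJ : a * β * d ∈ c.Z (r - (2 : ℤ) • y) ⊔ c.Z (-(r - (2 : ℤ) • y)) :=
      mul_mem (mul_mem (Subgroup.mem_sup_left ha) (Subgroup.mem_sup_right hβ)) (Subgroup.mem_sup_left hd)
    set m := a * β * d with hmd
    have hkm := hKJ _ hq k hk m hmJ
    have hwy : rep c.cs c.h w y = r - y := by
      have h2 : cpr c.cs c.h y (r - (2 : ℤ) • y) = -1 := by
        apply cpr_eq_of_form c.cs c.h P.rootq
        have h3 := P.form_pt 1 (-2) 1 (-2)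
        have e2 : (1 : ℤ) • r + (-2 : ℤ) • y = r - (2 : ℤ) • y := by module
        rw [e2] at h3
        rw [P.fyq, h3]; ring
      rw [hw, h2]; module
    intro u hu
    have h3 : m⁻¹ * u * m ∈ c.X y := by
      have h4 := c.cls.rgd.conj_mem' hm P.rootw hu
      rwa [← hwy, rep_inv_apply] at h4
    have h4 := h1 _ h3
    have h5 : k * u * k⁻¹ = m * (k * (m⁻¹ * u * m) * k⁻¹) * m⁻¹ := by
      have h6 : k * u * k⁻¹ = (k * m) * (m⁻¹ * u * m) * (k * m)⁻¹ := by group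
      rw [h6, hkm]; group
    rw [h5, h4]
    cases s
    · show m * (m⁻¹ * u * m)⁻¹ * m⁻¹ = u⁻¹
      group
    · show m * (m⁻¹ * u * m) * m⁻¹ = u
      group
  have hzr2 := c.cls.z_sq r P.mem
  have hzri := Nodes.ZRel.z_inv' c.cls P.mem
  have hkz : k * c.z r = c.z r * k := hKJ r P.mem k hk _ (c.cls.z_mem r P.mem)
  have hbz : b * c.z r = c.z r * b := hKJ r P.mem b hb _ (c.cls.z_mem r P.mem)
  have hkinv : ∀ s ∈ c.R, ∀ x ∈ c.X s, k⁻¹ * x * k ∈ c.X s := by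
    intro s hs x hx
    have := nor K hcen s hs k⁻¹ (inv_mem hk) x hx
    rwa [inv_inv] at this
  have hof : ∀ {u v : G}, k * u * k⁻¹ = v → k * u = v * k := fun h0 => by rw [← h0]; group
  rcases hsc with h1 | h1
  · have h2 := hsw true h1
    exact ⟨k, b, k, hk, hb, Or.inl rfl, hkk, hbk, fun u hu => hof (h1 u hu), fun u hu => hof (h2 u hu),
      nor K hcen _ hq k hk, hkinv _ hq, nor K hcen _ P.mem k hk, hkinv _ P.mem, hKZ _ hq k hk⟩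
  · have h2 := hsw false h1
    -- `a = k z r`
    have hzy : ∀ x, IsRoot c.cs c.h x → x ≠ r → x ≠ -r → form c.cs c.h x r ≠ 0 → (∀ u ∈ c.X x, k * u * k⁻¹ = u⁻¹) →
        ∀ u ∈ c.X x, k * c.z r * u = u * (k * c.z r) := by
      intro x hx hx1 hx2 hx3 hx4 u hu
      have h3 := c.cls.z_inv r P.mem x hx hx1 hx2 hx3 u hu
      have h4 : c.z r * u = u⁻¹ * c.z r := by
        rw [← h3]
        calc c.z r * u = c.z r * u * (c.z r * c.z r) := by rw [hzr2, mul_one]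
          _ = c.z r * u * c.z r * c.z r := by group
      have h5 : k * u⁻¹ = u * k := by
        have h6 := hx4 u hu
        have h7 : k * u⁻¹ * k⁻¹ = u := by
          have : k * u⁻¹ * k⁻¹ = (k * u * k⁻¹)⁻¹ := by group
          rw [this, h6, inv_inv]
        calc k * u⁻¹ = (k * u⁻¹ * k⁻¹) * k := by group
          _ = u * k := by rw [h7]
      rw [mul_assoc, h4, ← mul_assoc, h5, mul_assoc]
    have nyr := P.ne (x := y) (x' := r) 0 1 1 0 (by module) (by module) (by omega)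
    have nynr := P.ne (x := y) (x' := -r) 0 1 (-1) 0 (by module) (by module) (by omega)
    have nwr := P.ne (x := r - y) (x' := r) 1 (-1) 1 0 (by module) (by module) (by omega)
    have nwnr := P.ne (x := r - y) (x' := -r) 1 (-1) (-1) 0 (by module) (by module) (by omega)
    have hpos := P.pos
    have hzX : ∀ s, IsRoot c.cs c.h s → ∀ x ∈ c.X s, c.z r * x * c.z r ∈ c.X s := by
      intro s hs x hx
      have h3 := c.cls.rgd.tor s hs _ (c.cls.z_torus r P.mem)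
      rw [← h3]
      have h4 : c.z r * x * c.z r = c.z r * x * (c.z r)⁻¹ := by rw [hzri]
      rw [h4]
      exact conj_mem_cj.2 hx
    have hcjk : ∀ x, k * c.z r * x * (k * c.z r)⁻¹ = k * (c.z r * x * c.z r) * k⁻¹ := by
      intro x
      rw [mul_inv_rev, hzri]; group
    have hcjk' : ∀ x, (k * c.z r)⁻¹ * x * (k * c.z r) = k⁻¹ * (c.z r * x * c.z r) * k := by
      intro x
      rw [hkz, mul_inv_rev, hzri]; group
    refine ⟨k * c.z r, b, k, hk, hb, Or.inr rfl, ?_, ?_, hzy y P.root nyr nynr (by rw [P.fyr]; omega) h1,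
      hzy _ P.rootw nwr nwnr (by rw [P.fwr]; omega) h2, fun x hx => ?_, fun x hx => ?_, fun x hx => ?_,
      fun x hx => ?_, fun x hx => ?_⟩
    · calc k * c.z r * (k * c.z r) = k * (c.z r * k) * c.z r := by group
        _ = k * k * (c.z r * c.z r) := by rw [← hkz]; group
        _ = e := by rw [hkk, hzr2, mul_one]
    · calc b * (k * c.z r) * b⁻¹ = b * k * (c.z r * b⁻¹) := by group
        _ = b * k * b⁻¹ * (b * c.z r) * b⁻¹ := by group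
        _ = k⁻¹ * (c.z r * b) * b⁻¹ := by rw [hbk, hbz]
        _ = (c.z r * k)⁻¹ := by
            rw [mul_inv_rev, hzri]; group
        _ = (k * c.z r)⁻¹ := by rw [hkz]
    · rw [hcjk]
      exact nor K hcen _ hq k hk _ (hzX _ P.rootq x hx)
    · rw [hcjk']
      exact hkinv _ hq _ (hzX _ P.rootq x hx)
    · rw [hcjk]
      exact nor K hcen _ P.mem k hk _ (hzX _ P.L.root x hx)
    · rw [hcjk']
      exact hkinv _ P.mem _ (hzX _ P.L.root x hx)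
    · have h3 := J_comm P c.cls (c.cls.z_mem r P.mem) hx
      rw [mul_assoc, h3, ← mul_assoc, hKZ _ hq k hk x hx, mul_assoc]

/-- elements normalising `L` and centralising the `Z s` normalise the long root groups -/
theorem nor_X {F : Set (c.I → ℤ)} (hF : MaxF c.cls F) {K' : Subgroup G} (hc : Cen c.cls F K') {s : c.I → ℤ}
    (hs : s ∈ c.R) {k x : G} (hk : k ∈ K') (hx : x ∈ c.X s) : k * x * k⁻¹ ∈ c.X s := by
  have : Fact p.Prime := ⟨c.prime⟩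
  have S := std_of_isTy c hτ (Or.inl ⟨n, rfl⟩)
  have hT : c.T ≤ G1 c.cs c.h c.X := c.T_le.trans_eq c.gen.symm
  have hsF : s ∈ F := by rw [F_eq_C c hτ hF]; exact hs
  rw [← MM_eq_C c hτ hF hsF] at hx ⊢
  exact wt_inv c.cls hT hF.sub hsF (S.lg s hs).pos hc hk hx

theorem plane_sev (hne : ∀ r ∈ c.R, ∃ t ∈ c.X r, t ∉ c.Z r) {F : Set (c.I → ℤ)} (hF : MaxF c.cls F)
    {K : Subgroup G} {e g : G} (hK : QK K e) (hcen : Cen c.cls F K) (hg : Odd (orderOf g))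
    (hgn : g ∈ Subgroup.normalizer (G1 c.cs c.h c.X : Set G)) (hgK : ∀ k ∈ K, g * k = k * g)
    (hgX : ∀ y, IsRoot c.cs c.h y → ∀ a ∈ c.X y, e * a = a * e → g * a = a * g) (hnt : ¬ Triv c.cls e)
    {r y : c.I → ℤ} (P : Pl c.cs c.h c.R r y) (hyR : y ∉ c.R) :
    ∀ x ∈ c.X (r - (2 : ℤ) • y), g * x = x * g := by
  have : Fact p.Prime := ⟨c.prime⟩
  have hexp := hexp_of c hn hτ sl
  have S := std_of_isTy c hτ (Or.inl ⟨n, rfl⟩)
  have hFR := F_eq_C c hτ hF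
  obtain ⟨hsh, hlo⟩ := act_e c hn hτ hexp hne hF hK hcen hnt
  have hwR : r - y ∉ c.R := by
    intro h0
    have h1 := S.same P.mem h0
    have h2 := (CnNd.flip P).h2
    have h3 := (S.lg _ h0).pos
    omega
  have hq := P.memq c.cls
  have hKZ : ∀ s ∈ c.R, ∀ k ∈ K, ∀ a ∈ c.Z s, k * a = a * k := fun s hs k hk a ha =>
    hcen.comm s (by rw [hFR]; exact hs) a ha k hk
  -- `g`
  have hgsh : ∀ y, IsRoot c.cs c.h y → y ∉ c.R → ∀ u ∈ c.X y, g * u = u * g := fun y hy hyR u hu =>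
    hgX y hy u hu (hsh y hy hyR u hu)
  have hgZ : ∀ s ∈ c.R, ∀ a ∈ c.Z s, g * a = a * g := fun s hs a ha =>
    hgX s (c.cls.root s hs) a (c.cls.le s hs ha) (hKZ s hs e hK.mem a ha)
  have hgcen : Cen c.cls F (Subgroup.zpowers g) := by
    have hle : ∀ s ∈ c.R, c.Z s ≤ Subgroup.centralizer (Subgroup.zpowers g : Set G) := by
      intro s hs a ha
      rw [Subgroup.mem_centralizer_iff]
      rintro _ ⟨m, rfl⟩
      have h1 : Commute g a := hgZ s hs a ha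
      exact (h1.zpow_left m).eq
    refine ⟨fun s hs a ha k hk => ?_, fun k hk => ?_⟩
    · exact Subgroup.mem_centralizer_iff.1 (hle s (hF.sub s hs) ha) k hk
    · exact (Subgroup.zpowers_le.2 hgn) hk
  have hgq := fun x hx => nor_X c hn hτ sl hF hgcen hq (Subgroup.mem_zpowers g) (x := x) hx
  have hgr := fun x hx => nor_X c hn hτ sl hF hgcen P.mem (Subgroup.mem_zpowers g) (x := x) hx
  have hgJ : ∀ s ∈ c.R, ∀ a ∈ c.Z s ⊔ c.Z (-s), g * a = a * g := by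
    intro s hs a ha
    have h3 : c.Z s ⊔ c.Z (-s) ≤ Subgroup.centralizer {g} := by
      refine sup_le (fun a ha => ?_) (fun a ha => ?_)
      · rw [Subgroup.mem_centralizer_singleton_iff]; exact (hgZ s hs a ha).symm
      · rw [Subgroup.mem_centralizer_singleton_iff]; exact (hgZ (-s) (neg_mem c.cls hs) a ha).symm
    have h4 := h3 ha
    rw [Subgroup.mem_centralizer_singleton_iff] at h4
    exact h4.symm
  have hgz : g * c.z r = c.z r * g := hgJ r P.mem _ (c.cls.z_mem r P.mem)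
  obtain ⟨a, b, k, H⟩ := exists_a c hn hτ sl hne hF hK hcen hnt P hyR
  have hgk := hgK k H.hk
  have hag : a * g = g * a := by
    rcases H.or with h1 | h1
    · rw [h1, hgk]
    · rw [h1, mul_assoc, ← hgz, ← mul_assoc, ← hgk, mul_assoc]
  exact plane_g P c.cls c.odd (hexp r P.mem) (hlo _ hq) H.sq H.cy H.cw H.nq H.nq' H.nr H.cZ
    (fun x hx => nor_X c hn hτ sl hF hcen hq H.hb hx) (hKZ _ hq b H.hb) H.inv (hgK b H.hb).symm
    (hgsh y P.root hyR) (hgsh _ P.rootw hwR) hgq hgr (hgZ _ hq) hag hg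

/-- **Section 7 for the charts of type `C n`, `n ≥ 2`.** -/
theorem sev {F : Set (c.I → ℤ)} (hF : MaxF c.cls F) : SevDef.Sev c.cls F := by
  intro K e g hK hcen hg hgn hgK hgX hnt
  by_cases hXZ : ∀ r ∈ c.R, c.Z r = c.X r
  · exact absurd (triv_C_eq c hτ hXZ hF hK hcen) hnt
  push Not at hXZ
  obtain ⟨r₀, hr₀, hne₀⟩ := hXZ
  have hne := ne_all c hr₀ hne₀
  have hexp := hexp_of c hn hτ sl
  obtain ⟨hsh, -⟩ := act_e c hn hτ hexp hne hF hK hcen hnt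
  refine triv_of_X c.cls fun x hx => ?_
  by_cases hxR : x ∈ c.R
  · obtain ⟨y, hyR, P⟩ := exists_pl_of_isTy c hτ (Or.inl ⟨n, hn, rfl⟩) hxR
    have hyR' : -y ∉ c.R := fun h0 => hyR (by
      have := neg_mem c.cls h0
      rwa [neg_neg] at this)
    have h1 := plane_sev c hn hτ sl hne hF hK hcen hg hgn hgK hgX hnt (P.swap c.cls) hyR'
    have h2 : x - (2 : ℤ) • y - (2 : ℤ) • (-y) = x := by module
    rwa [h2] at h1
  · exact fun u hu => hgX x hx u hu (hsh x hx hxR u hu)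

end chart

end Cfsg.Agent.LOC.SevCn
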