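import Mathlib
import Cfsg.Agent.Cit.Nil.LO.BetaTor
import Cfsg.Agent.Nodes.ShortSum

/-!
# Lie odd sections, the chart part: the form on a short root group is anisotropic

`S : Sq cs h m₀ y₁ y₂ x b` : `y₁, y₂` orthogonal of the same length, `m₀ x = y₁ + y₂`, `m₀ b = y₂ - y₁`, `x, b ∈ R`,
`X x = Z x`, `X b = Z b`, `X (-b) = Z (-b)`.

* `step` : `w c w⁻¹ = (m c m⁻¹) q c`, `q ∈ X x`, for `c ∈ X y₁`, `m = l w l'`, `w ∈ Z b`;
* `aniso_aux` : `c ∈ X y₁` commuting with `m c m⁻¹` is trivial;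
* `gam` : `u ∈ Z b`, `u ≠ 1`, `a ∈ X y₁`, `⁅u, a⁆` commutes with `a`; then `a = 1`;
* `surj` : `⁅u, X y₁⁆` covers `X y₂` modulo `X x`.
-/

set_option autoImplicit false
set_option linter.unusedSectionVars false
set_option linter.dupNamespace false
set_option linter.unusedVariables false

namespace Cfsg.Agent.LOC.Aniso

open CoxeterSystem Cfsg.Agent.ChevalleyStructure.CoxeterGeom Cfsg.Agent.Tits.Roots Cfsg.Agent.Tits.Core
  Cfsg.Agent.Tits.RootComb Cfsg.Agent.Nodes.Comb Cfsg.Agent.Nodes.SubComb Cfsg.Agent.Nodes.Reps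
  Cfsg.Agent.Nodes.Coroot Cfsg.Agent.Nodes.PosPair Cfsg.Agent.Nodes.BNOf Cfsg.Agent.Nodes.RGDLib
  Cfsg.Agent.Nodes.Chart Cfsg.Agent.Nodes.ClsNorm Cfsg.Agent.Nodes.ChartLoc Cfsg.Agent.Nodes.ChartFrame
  Cfsg.Agent.Nodes.Slope Cfsg.Agent.Nodes.Bruhat Cfsg.Agent.LOC.ChartDefs Cfsg.Agent.LOC.Wt Cfsg.Agent.LOC.LA
  Cfsg.Agent.LOC.Beta Cfsg.Agent.LOC.BetaTor Cfsg.Agent.Nodes.ShortSum
open Cfsg.Agent.Cit.ParabSL2 Cfsg.Agent.Lib.SL2Mat
open scoped commutatorElement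

variable {I W Y : Type*} [Fintype I] [DecidableEq I] [Group W] [Fintype W] [Group Y] {M : CoxeterMatrix I}
  {cs : CoxeterSystem M W} {A : I → I → ℤ} {h : IsCartan M A} {p : ℕ} {T : Subgroup Y} {n : I → Y}
  {X : (I → ℤ) → Subgroup Y} {R : Set (I → ℤ)} {Z : (I → ℤ) → Subgroup Y} {z : (I → ℤ) → Y}
  {m₀ : ℤ} {y₁ y₂ x b : I → ℤ}

/-- `m c m⁻¹` from `w` -/
theorem step (C : Cls cs h p T n X R Z z) (S : Sq cs h m₀ y₁ y₂ x b) (hxR : x ∈ R) (hbR : b ∈ R) (hX : X x = Z x)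
    {m l w l' : Y} (hl : l ∈ Z (-b)) (hl' : l' ∈ Z (-b)) (hw : w ∈ Z b) (hm : m = l * w * l') {c : Y}
    (hc : c ∈ X y₁) (hmc : m * c * m⁻¹ ∈ X y₂) : ∃ q ∈ X x, w * c * w⁻¹ = (m * c * m⁻¹) * q * c := by
  have hbR' := neg_mem C hbR
  have x₁ : ∀ c ∈ X x, ∀ a ∈ X y₁, a * c = c * a := fun c hc a ha =>
    C.cent x hxR y₁ S.root₁ (by rw [form_comm]; exact S.x₁_pos.le) a ha c (hX ▸ hc)
  have x₂ : ∀ c ∈ X x, ∀ a ∈ X y₂, a * c = c * a := fun c hc a ha =>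
    C.cent x hxR y₂ S.root₂ (by rw [form_comm]; exact S.x₂_pos.le) a ha c (hX ▸ hc)
  -- `X y₁` commutes with `Z (-b)`
  have nb₁ : ∀ l ∈ Z (-b), ∀ a ∈ X y₁, a * l = l * a := fun l hl a ha =>
    C.cent (-b) hbR' y₁ S.root₁ (by rw [form_neg_right, form_comm]; have := S.b₁_neg; omega) a ha l hl
  have nbx : ∀ l ∈ Z (-b), ∀ a ∈ X x, a * l = l * a := fun l hl a ha =>
    C.cent (-b) hbR' x S.root (by rw [form_neg_right, S.xb]; simp) a ha l hl
  have hwX : w ∈ X b := C.le b hbR hw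
  -- `⁅w, c⁆ = ψ q`
  obtain ⟨ψ, hψ, q, hq, e1⟩ : ∃ ψ ∈ X y₂, ∃ q ∈ X x, ⁅c, w⁆⁻¹ = ψ * q := by
    refine Nodes.MuSq.exists_mul_of_sup (fun a ha c hc => x₂ c hc a ha) (inv_mem ?_)
    refine btw_le ?_ (C.rgd.comm y₁ b S.root₁ S.rootb S.ne_b.1 S.ne_b.2 c hc w hwX)
    intro r hr
    rcases S.btwn' hr with rfl | rfl
    · exact le_sup_left
    · exact le_sup_right
  have e2 : w * c * w⁻¹ = ψ * q * c := by
    rw [← e1, commutatorElement_def]; group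
  -- `l ψ l⁻¹ = a₁ q₁ ψ`
  have S' : Sq cs h m₀ (-y₂) y₁ (-b) x := by
    refine ⟨S.pos, S.root₂.neg, S.root₁, S.rootb.neg, S.root, ?_, ?_, ?_, ?_⟩
    · rw [form_neg_left, form_comm, S.orth, neg_zero]
    · rw [form_neg_left, form_neg_right, neg_neg, S.len]
    · rw [smul_neg, S.sub]; abel
    · rw [S.add]; abel
  have S'' : Sq cs h m₀ y₂ (-y₁) (-x + x + b) (-x) := by
    have h1 : -x + x + b = b := by abel
    rw [h1]
    exact ⟨S.pos, S.root₂, S.root₁.neg, S.rootb, S.root.neg, by rw [form_neg_right, form_comm, S.orth, neg_zero],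
      by rw [form_neg_left, form_neg_right, neg_neg, S.len], by rw [S.sub]; abel, by rw [smul_neg, S.add]; abel⟩
  obtain ⟨a₁, ha₁, q₁, hq₁, e3⟩ : ∃ a ∈ X y₁, ∃ q ∈ X x, ⁅ψ, l⁆⁻¹ = a * q := by
    refine Nodes.MuSq.exists_mul_of_sup (fun a ha c hc => x₁ c hc a ha) (inv_mem ?_)
    have hne := S.ne_b₂
    refine btw_le ?_ (C.rgd.comm y₂ (-b) S.root₂ S.rootb.neg (fun e => hne.2 e) (fun e => hne.1 (by rw [e, neg_neg]))
      ψ hψ l (C.le _ hbR' hl))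
    intro r hr
    -- the square `(y₂, y₁, x, -b)`
    have S3 : Sq cs h m₀ y₂ y₁ x (-b) := by
      refine ⟨S.pos, S.root₂, S.root₁, S.root, S.rootb.neg, ?_, S.len.symm, ?_, ?_⟩
      · rw [form_comm, S.orth]
      · rw [S.add]; abel
      · rw [smul_neg, S.sub]; abel
    rcases S3.btwn' hr with rfl | rfl
    · exact le_sup_left
    · exact le_sup_right
  have e4 : l * ψ * l⁻¹ = a₁ * q₁ * ψ := by
    rw [← e3, commutatorElement_def]; group
  -- `m c m⁻¹ = (a₁ q₁ ψ) q c`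
  have e5 : m * c * m⁻¹ = a₁ * q₁ * ψ * q * c := by
    have h1 : l' * c * l'⁻¹ = c := by rw [← nb₁ l' hl' c hc, mul_inv_cancel_right]
    have h2 : l * q * l⁻¹ = q := by rw [← nbx l hl q hq, mul_inv_cancel_right]
    have h3 : l * c * l⁻¹ = c := by rw [← nb₁ l hl c hc, mul_inv_cancel_right]
    calc m * c * m⁻¹ = l * (w * (l' * c * l'⁻¹) * w⁻¹) * l⁻¹ := by rw [hm]; group
      _ = (l * ψ * l⁻¹) * (l * q * l⁻¹) * (l * c * l⁻¹) := by rw [h1, e2]; group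
      _ = _ := by rw [h2, h3, e4]
  -- `ψ⁻¹ (m c m⁻¹) ∈ X y₂ ⊓ ⟨X y₁, X x⟩`
  have e6 : (m * c * m⁻¹) * ψ⁻¹ ∈ RGD.Sup X ({y₁, x} : Set (I → ℤ)) := by
    have k1 : X y₁ ≤ RGD.Sup X ({y₁, x} : Set (I → ℤ)) := RGD.le_Sup (S := {y₁, x}) (Or.inl rfl)
    have k2 : X x ≤ RGD.Sup X ({y₁, x} : Set (I → ℤ)) := RGD.le_Sup (S := {y₁, x}) (Or.inr rfl)
    -- `ψ c ψ⁻¹ ∈ X x * c`
    have k3 : ⁅ψ, c⁆ ∈ X x := by
      have : ⁅c, ψ⁆ ∈ X x := Nodes.MuSq.comm_in C.rgd S.root₁ S.root₂ S.ne₁ S.ne₂ (fun w hw => S.btwn hw) hc hψ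
      rw [← commutatorElement_inv]
      exact inv_mem this
    have k4 : ψ * q * c * ψ⁻¹ = q * (⁅ψ, c⁆ * c) := by
      have : ψ * q = q * ψ := x₂ q hq ψ hψ
      calc ψ * q * c * ψ⁻¹ = q * (ψ * c * ψ⁻¹) := by rw [this]; group
        _ = _ := by rw [commutatorElement_def]; group
    have k5 : (m * c * m⁻¹) * ψ⁻¹ = a₁ * q₁ * (q * (⁅ψ, c⁆ * c)) := by
      rw [e5, ← k4]; group
    rw [k5]
    exact mul_mem (mul_mem (k1 ha₁) (k2 hq₁)) (mul_mem (k2 hq) (mul_mem (k2 k3) (k1 hc)))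
  have hyy := S.ypos
  have f12 : form cs h y₂ y₁ = 0 := by rw [form_comm, S.orth]
  have hlen := S.len
  have e7 : (m * c * m⁻¹) * ψ⁻¹ = 1 := by
    refine Nodes.CenVV.eq_one_of_sep C.rgd (S := {y₁, x}) S.root₂ ?_ (y₂ - (2 : ℤ) • y₁) ?_ ?_
      (mul_mem hmc (inv_mem hψ)) e6
    · rintro w (rfl | rfl)
      · exact S.root₁
      · exact S.root
    · rw [form_sub_right, form_smul_right, f12]; omega
    · rintro w (rfl | rfl)
      · rw [form_sub_right, form_smul_right, S.orth]; omega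
      · have h1 : m₀ * form cs h w (y₂ - (2 : ℤ) • y₁) = -form cs h y₁ y₁ := by
          rw [form_sub_right, form_smul_right]
          have h2 := S.form_x₁
          have h3 := S.form_x₂
          linear_combination h3 - 2 * h2
        have h2 := S.pos
        by_contra hcon
        push Not at hcon
        have := mul_nonneg h2.le hcon
        omega
  have e8 : m * c * m⁻¹ = ψ := by
    rw [mul_inv_eq_one] at e7
    exact e7
  exact ⟨q, hq, by rw [e8, e2]⟩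

/-- **anisotropy**, for `c ∈ X y₁` -/
theorem aniso_aux (C : Cls cs h p T n X R Z z) (hp : p.Prime) (hp2 : p ≠ 2) (S : Sq cs h m₀ y₁ y₂ x b)
    (hxR : x ∈ R) (hbR : b ∈ R) (hX : X x = Z x)
    {m l w l' : Y} (hl : l ∈ Z (-b)) (hl' : l' ∈ Z (-b)) (hw : w ∈ Z b) (hw1 : w ≠ 1) (hm : m = l * w * l') {c : Y}
    (hc : c ∈ X y₁) (hmc : m * c * m⁻¹ ∈ X y₂) (hcm : (m * c * m⁻¹) * c = c * (m * c * m⁻¹)) : c = 1 := by
  by_contra hc1
  obtain ⟨q, hq, e1⟩ := step C S hxR hbR hX hl hl' hw hm hc hmc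
  set c₂ := m * c * m⁻¹ with hc₂
  have sS := S.flip
  have x₁ : c * q = q * c :=
    C.cent x hxR y₁ S.root₁ (by rw [form_comm]; exact S.x₁_pos.le) c hc q (hX ▸ hq)
  have x₂ : c₂ * q = q * c₂ :=
    C.cent x hxR y₂ S.root₂ (by rw [form_comm]; exact S.x₂_pos.le) c₂ hmc q (hX ▸ hq)
  -- `q = 1`
  have zz := C.z_sq b hbR
  have zi : (z b)⁻¹ = z b := inv_eq_of_mul_eq_one_left zz
  have zq : z b * q * z b = q := by
    rw [← Nodes.ZRel.z_cent_of_orth C hbR S.root S.xb hq, mul_assoc, zz, mul_one]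
  have zw : z b * w * z b = w := by
    rw [C.z_cent b hbR w hw, mul_assoc, zz, mul_one]
  have z₁ : z b * c * z b = c⁻¹ :=
    C.z_inv b hbR y₁ S.root₁ S.ne_b.1 S.ne_b.2 (by rw [form_comm]; exact S.b₁_neg.ne) c hc
  have z₂ : z b * c₂ * z b = c₂⁻¹ :=
    C.z_inv b hbR y₂ S.root₂ S.ne_b₂.1 S.ne_b₂.2 (by rw [form_comm]; exact S.b₂_pos.ne') c₂ hmc
  have hq1 : q = 1 := by
    have h1 : z b * (w * c * w⁻¹) * z b = w * c⁻¹ * w⁻¹ := by
      have hwi : z b * w⁻¹ * z b = w⁻¹ := by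
        have : z b * w⁻¹ * z b = (z b * w * z b)⁻¹ := by
          rw [mul_inv_rev, mul_inv_rev, zi, mul_assoc]
        rw [this, zw]
      calc z b * (w * c * w⁻¹) * z b = (z b * w * z b) * (z b * z b)⁻¹ * (z b * c * z b) * (z b * z b)⁻¹ *
            (z b * w⁻¹ * z b) := by group
        _ = w * c⁻¹ * w⁻¹ := by rw [zw, z₁, hwi, zz, inv_one, mul_one, mul_one]
    have h2 : z b * (c₂ * q * c) * z b = c₂⁻¹ * q * c⁻¹ := by
      calc z b * (c₂ * q * c) * z b = (z b * c₂ * z b) * (z b * z b)⁻¹ * (z b * q * z b) * (z b * z b)⁻¹ *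
            (z b * c * z b) := by group
        _ = c₂⁻¹ * q * c⁻¹ := by rw [z₂, zq, z₁, zz, inv_one, mul_one, mul_one]
    have h3 : w * c⁻¹ * w⁻¹ = (c₂ * q * c)⁻¹ := by
      have : w * c⁻¹ * w⁻¹ = (w * c * w⁻¹)⁻¹ := by group
      rw [this, e1]
    have h4 : c₂⁻¹ * q * c⁻¹ = (c₂ * q * c)⁻¹ := by
      rw [← h2, ← h3, ← h1, e1]
    have h5 : (c₂ * q * c) * (c₂⁻¹ * q * c⁻¹) = 1 := by rw [h4, mul_inv_cancel]
    have h6 : (c₂ * q * c) * (c₂⁻¹ * q * c⁻¹) = q * q := by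
      have k1 : c * c₂⁻¹ = c₂⁻¹ * c := by
        rw [eq_inv_mul_iff_mul_eq, ← mul_assoc, hcm, mul_inv_cancel_right]
      have k2 : c₂ * q * c₂⁻¹ = q := by rw [x₂, mul_inv_cancel_right]
      have k3 : c * q * c⁻¹ = q := by rw [x₁, mul_inv_cancel_right]
      calc (c₂ * q * c) * (c₂⁻¹ * q * c⁻¹) = c₂ * q * (c * c₂⁻¹) * q * c⁻¹ := by group
        _ = (c₂ * q * c₂⁻¹) * (c * q * c⁻¹) := by rw [k1]; group
        _ = q * q := by rw [k2, k3]
    rw [h6] at h5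
    exact Nodes.ShortSum.mem_of_sq_mem C hp hp2 S.root hq (K := ⊥) (by rw [h5]; exact one_mem _)
  rw [hq1, mul_one] at e1
  -- the reflection in `y₁`
  have hwX : w ∈ X b := C.le b hbR hw
  obtain ⟨u, hu, v, hv, w', hw', -, he⟩ := Nodes.MuSq.exists_mu' C.rgd S.root₁ hc hc1
  have hkx : u * c * v * w * (u * c * v)⁻¹ ∈ X x := by
    have h1 := C.rgd.conj_mem hw' S.rootb hwX
    rwa [he, S.refl_b] at h1
  have nb : ∀ a ∈ X (-y₁), a * w = w * a := fun a ha =>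
    C.cent b hbR (-y₁) S.root₁.neg (by rw [form_comm]; exact sS.x₁_pos.le) a ha w hw
  have h1 : c * w * c⁻¹ = c₂⁻¹ * w := by
    have h2 : w * c = c₂ * c * w := by
      calc w * c = (w * c * w⁻¹) * w := by group
        _ = c₂ * c * w := by rw [e1]
    calc c * w * c⁻¹ = c₂⁻¹ * (c₂ * c * w) * c⁻¹ := by group
      _ = c₂⁻¹ * (w * c) * c⁻¹ := by rw [h2]
      _ = c₂⁻¹ * w := by group
  have hf : ⁅u, c₂⁻¹⁆ ∈ X b :=
    Nodes.MuSq.comm_in C.rgd S.root₁.neg S.root₂ sS.ne₁ sS.ne₂ (fun w hw => sS.btwn hw) hu (inv_mem hmc)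
  have h2 : u * c * v * w * (u * c * v)⁻¹ = ⁅u, c₂⁻¹⁆ * c₂⁻¹ * w := by
    have k1 : v * w * v⁻¹ = w := by rw [nb v hv, mul_inv_cancel_right]
    have k2 : u * w * u⁻¹ = w := by rw [nb u hu, mul_inv_cancel_right]
    calc u * c * v * w * (u * c * v)⁻¹ = u * (c * (v * w * v⁻¹) * c⁻¹) * u⁻¹ := by group
      _ = (u * c₂⁻¹ * u⁻¹) * (u * w * u⁻¹) := by rw [k1, h1]; group
      _ = _ := by rw [k2, commutatorElement_def]; group
  have hyy := S.ypos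
  have f12 : form cs h y₂ y₁ = 0 := by rw [form_comm, S.orth]
  have hlen := S.len
  have h3 : u * c * v * w * (u * c * v)⁻¹ = 1 := by
    refine Nodes.CenVV.eq_one_of_sep C.rgd (S := {y₂, b}) S.root ?_ ((2 : ℤ) • y₁ - y₂) ?_ ?_ hkx ?_
    · rintro w (rfl | rfl)
      · exact S.root₂
      · exact S.rootb
    · have h1 : m₀ * form cs h x ((2 : ℤ) • y₁ - y₂) = form cs h y₁ y₁ := by
        rw [form_sub_right, form_smul_right]
        have h2 := S.form_x₁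
        have h3 := S.form_x₂
        linear_combination 2 * h2 - h3
      by_contra hcon
      push Not at hcon
      have := mul_nonpos_of_nonneg_of_nonpos S.pos.le hcon
      omega
    · rintro w (rfl | rfl)
      · rw [form_sub_right, form_smul_right, f12]; omega
      · have h1 : m₀ * form cs h w ((2 : ℤ) • y₁ - y₂) = -3 * form cs h y₁ y₁ := by
          rw [form_sub_right, form_smul_right]
          have h2 := S.form_b₁
          have h3 := S.form_b₂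
          linear_combination 2 * h2 - h3
        by_contra hcon
        push Not at hcon
        have := mul_nonneg S.pos.le hcon
        omega
    · rw [h2]
      have k1 : X y₂ ≤ RGD.Sup X ({y₂, b} : Set (I → ℤ)) := RGD.le_Sup (S := {y₂, b}) (Or.inl rfl)
      have k2 : X b ≤ RGD.Sup X ({y₂, b} : Set (I → ℤ)) := RGD.le_Sup (S := {y₂, b}) (Or.inr rfl)
      exact mul_mem (mul_mem (k2 hf) (k1 (inv_mem hmc))) (k2 hwX)
  apply hw1
  have h4 : w = (u * c * v)⁻¹ * (u * c * v * w * (u * c * v)⁻¹) * (u * c * v) := by group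
  rw [h4, h3]; group

/-- `X r = Z r` is carried by the Weyl group -/
theorem XZ_of_rp (C : Cls cs h p T n X R Z z) {w : W} {g : Y} (hg : Rp cs C.rgd.nsys w g) {r : I → ℤ} (hr : r ∈ R)
    (hX : X r = Z r) : X (rep cs h w r) = Z (rep cs h w r) := by
  refine le_antisymm (fun a ha => ?_) (C.le _ (C.act r hr w))
  have h1 := C.rgd.conj_mem' hg (C.root _ (C.act r hr w)) ha
  rw [rep_inv_apply, hX] at h1
  rw [← conj_Z C hg hr]
  exact Cit.mem_cj.2 h1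

/-- `s_b y₁ = y₂` -/
theorem refl_y₁ (S : Sq cs h m₀ y₁ y₂ x b) : y₁ - cpr cs h y₁ b • b = y₂ := by
  have h1 := two_form_cpr cs h y₁ S.rootb
  have h2 : m₀ * (m₀ * form cs h b b) = 2 * form cs h y₁ y₁ := by
    rw [← form_smul_right, ← form_smul_left, S.sub, form_sub_left, form_sub_right, form_sub_right,
      form_comm cs h y₂ y₁, S.orth, S.len]
    ring
  have h3 := S.form_b₁
  rw [form_comm] at h3
  have h4 : cpr cs h y₁ b = -m₀ := by
    have h5 : (m₀ * form cs h b b) * cpr cs h y₁ b = (m₀ * form cs h b b) * (-m₀) := by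
      linear_combination (-m₀) * h1 + 2 * h3 + h2
    have h6 : m₀ * form cs h b b ≠ 0 := mul_ne_zero S.pos.ne' (form_pos cs h S.rootb.ne_zero).ne'
    exact mul_left_cancel₀ h6 h5
  rw [h4, neg_smul, sub_neg_eq_add, S.sub]
  abel

/-- **anisotropy** (494's form): `u ∈ Z b`, `u ≠ 1`, `a ∈ X y₁`, `⁅u, a⁆` commutes with `a`; then `a = 1` -/
theorem gam (C : Cls cs h p T n X R Z z) (hp : p.Prime) (hp2 : p ≠ 2) (S : Sq cs h m₀ y₁ y₂ x b)
    (hxR : x ∈ R) (hbR : b ∈ R) (hX : X x = Z x) (hXb : X b = Z b) {u a : Y} (hu : u ∈ Z b) (hu1 : u ≠ 1)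
    (ha : a ∈ X y₁) (hc : ⁅u, a⁆ * a = a * ⁅u, a⁆) : a = 1 := by
  obtain ⟨l, hl, l', hl', w, hm, -, he⟩ := Nodes.MuSq.exists_mu' C.rgd S.rootb (hXb ▸ hu) hu1
  have heb : rep cs h w b = -b := by rw [he, cpr_self cs h S.rootb]; module
  have hXb' : X (-b) = Z (-b) := by
    have := XZ_of_rp C hm hbR hXb
    rwa [heb] at this
  rw [hXb'] at hl hl'
  have hmc : (l * u * l') * a * (l * u * l')⁻¹ ∈ X y₂ := by
    have h1 := C.rgd.conj_mem hm S.root₁ ha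
    rwa [he, refl_y₁ S] at h1
  obtain ⟨q, hq, e1⟩ := step C S hxR hbR hX hl hl' hu rfl ha hmc
  refine aniso_aux C hp hp2 S hxR hbR hX hl hl' hu hu1 rfl ha hmc ?_
  set c₂ := (l * u * l') * a * (l * u * l')⁻¹ with hc₂
  have x₁ : a * q = q * a :=
    C.cent x hxR y₁ S.root₁ (by rw [form_comm]; exact S.x₁_pos.le) a ha q (hX ▸ hq)
  have h1 : ⁅u, a⁆ = c₂ * q := by
    calc ⁅u, a⁆ = (u * a * u⁻¹) * a⁻¹ := by rw [commutatorElement_def]
      _ = c₂ * q := by rw [e1]; group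
  rw [h1] at hc
  have h2 : c₂ * a * q = a * c₂ * q := by
    calc c₂ * a * q = c₂ * (a * q) := by group
      _ = c₂ * q * a := by rw [x₁]; group
      _ = a * c₂ * q := by rw [hc]; group
  exact mul_right_cancel h2

/-- the element `m` of `Z (-b) u Z (-b)` -/
theorem exists_m (C : Cls cs h p T n X R Z z) (S : Sq cs h m₀ y₁ y₂ x b) (hbR : b ∈ R) (hXb : X b = Z b) {u : Y}
    (hu : u ∈ Z b) (hu1 : u ≠ 1) : ∃ l ∈ Z (-b), ∃ l' ∈ Z (-b), (∀ a, a ∈ X y₁ → (l * u * l') * a * (l * u * l')⁻¹ ∈ X y₂) ∧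
      ∀ v, v ∈ X y₂ → (l * u * l')⁻¹ * v * (l * u * l') ∈ X y₁ := by
  obtain ⟨l, hl, l', hl', w, hm, -, he⟩ := Nodes.MuSq.exists_mu' C.rgd S.rootb (hXb ▸ hu) hu1
  have heb : rep cs h w b = -b := by rw [he, cpr_self cs h S.rootb]; module
  have hXb' : X (-b) = Z (-b) := by
    have := XZ_of_rp C hm hbR hXb
    rwa [heb] at this
  rw [hXb'] at hl hl'
  have h12 : rep cs h w y₁ = y₂ := by rw [he, refl_y₁ S]
  refine ⟨l, hl, l', hl', fun a ha => ?_, fun v hv => ?_⟩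
  · have h1 := C.rgd.conj_mem hm S.root₁ ha
    rwa [h12] at h1
  · have h1 := C.rgd.conj_mem' hm S.root₂ hv
    rwa [← h12, rep_inv_apply] at h1

/-- **surjectivity** (494's form): `⁅u, X y₁⁆` covers `X y₂` modulo `X x` -/
theorem surj (C : Cls cs h p T n X R Z z) (S : Sq cs h m₀ y₁ y₂ x b) (hxR : x ∈ R) (hbR : b ∈ R) (hX : X x = Z x)
    (hXb : X b = Z b) {u v : Y} (hu : u ∈ Z b) (hu1 : u ≠ 1) (hv : v ∈ X y₂) :
    ∃ g ∈ X y₁, ∃ d ∈ X x, ⁅u, g⁆ = v * d := by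
  obtain ⟨l, hl, l', hl', hm, hm'⟩ := exists_m C S hbR hXb hu hu1
  have hg := hm' v hv
  obtain ⟨q, hq, e1⟩ := step C S hxR hbR hX hl hl' hu rfl hg (hm _ hg)
  refine ⟨_, hg, q, hq, ?_⟩
  calc ⁅u, (l * u * l')⁻¹ * v * (l * u * l')⁆ = (u * ((l * u * l')⁻¹ * v * (l * u * l')) * u⁻¹) *
        ((l * u * l')⁻¹ * v * (l * u * l'))⁻¹ := by rw [commutatorElement_def]
    _ = (l * u * l') * ((l * u * l')⁻¹ * v * (l * u * l')) * (l * u * l')⁻¹ * q := by rw [e1]; group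
    _ = v * q := by group

end Cfsg.Agent.LOC.Aniso
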