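import Mathlib
import Cfsg.Agent.Cit.Nil.LO.StdChart
import Cfsg.Agent.Nodes.TyStd
import Cfsg.Agent.Cit.Nil.LO.BetaTor

/-!
# Lie odd sections, the chart part: the transfer to the standard chart of type `B n`

* `maxF_reindex`, `cen_reindex`, `triv_reindex` : change of the index type;
* `triv_B`, `out_B` : `Out` for a chart of type `B n` from the statement for the standard index type `Fin n`;
* `hexp_of_sl` : the root groups `Z r` have exponent `p`.
-/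

set_option autoImplicit false
set_option linter.unusedSectionVars false
set_option linter.dupNamespace false

namespace Cfsg.Agent.LOC.BReidx

open CoxeterSystem Cfsg.Agent.ChevalleyStructure.CoxeterGeom Cfsg.Agent.Tits.Roots Cfsg.Agent.Tits.Core
  Cfsg.Agent.Tits.RootComb Cfsg.Agent.Nodes.Comb Cfsg.Agent.Nodes.SubComb Cfsg.Agent.Nodes.Reps
  Cfsg.Agent.Nodes.Coroot Cfsg.Agent.Nodes.PosPair Cfsg.Agent.Nodes.BNOf Cfsg.Agent.Nodes.RGDLib
  Cfsg.Agent.Nodes.Chart Cfsg.Agent.Nodes.ClsNorm Cfsg.Agent.Nodes.ChartLoc Cfsg.Agent.Nodes.ChartFrame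
  Cfsg.Agent.Nodes.Bruhat Cfsg.Agent.Nodes.Reindex Cfsg.Agent.Nodes.TyStd Cfsg.Agent.LOC.ChartDefs
  Cfsg.Agent.LOC.BetaTor
open Cfsg.Agent.Cit.ParabSL2 Cfsg.Agent.Lib.SL2Mat

section Tr

variable {I J W Y : Type*} [Fintype I] [DecidableEq I] [Fintype J] [DecidableEq J] [Group W] [Fintype W] [Group Y]
  {M : CoxeterMatrix I} {M' : CoxeterMatrix J} {cs : CoxeterSystem M W} {cs' : CoxeterSystem M' W}
  {A : I → I → ℤ} {A' : J → J → ℤ} {h : IsCartan M A} {h' : IsCartan M' A'} {e : I ≃ J}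
  {p : ℕ} {T : Subgroup Y} {n : I → Y} {n' : J → Y}
  {X : (I → ℤ) → Subgroup Y} {R : Set (I → ℤ)} {Z : (I → ℤ) → Subgroup Y} {z : (I → ℤ) → Y}
  {R' : Set (J → ℤ)} {z' : (J → ℤ) → Y}

theorem form_zero_iff (hA : ∀ i j, A i j = A' (e i) (e j)) (hs : ∀ i, cs'.simple (e i) = cs.simple i)
    (hM : ∀ i j, M i j = M' (e i) (e j)) {x y : J → ℤ} (hy : IsRoot cs' h' y) :
    form cs h (fun i => x (e i)) (fun i => y (e i)) = 0 ↔ form cs' h' x y = 0 := by
  have hy' : IsRoot cs h (fun i => y (e i)) := (isRoot_comp_iff e hM hA cs' h').2 hy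
  rw [← cpr_zero_iff cs h _ hy', ← cpr_zero_iff cs' h' _ hy]
  have h1 := cpr_reindex (h := h) (h' := h') hA hs (fun i => x (e i)) hy'
  have h2 : ∀ x : J → ℤ, (fun i => x (e i)) ∘ e.symm = x := fun x => comp_symm (e := e) x
  rw [h2, h2] at h1
  rw [h1]

/-- `MaxF` along a change of the index type -/
theorem maxF_reindex {C : Cls cs h p T n X R Z z} {F : Set (I → ℤ)} (hF : MaxF C F)
    (hA : ∀ i j, A i j = A' (e i) (e j)) (hs : ∀ i, cs'.simple (e i) = cs.simple i)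
    (hM : ∀ i j, M i j = M' (e i) (e j))
    (C' : Cls cs' h' p T n' (fun x => X (fun i => x (e i))) R' (fun x => Z (fun i => x (e i))) z')
    (hR : ∀ x, IsRoot cs' h' x → ((fun i => x (e i)) ∈ R ↔ x ∈ R')) :
    MaxF C' {x | (fun i => x (e i)) ∈ F} := by
  have hroot : ∀ x : J → ℤ, (fun i => x (e i)) ∈ F → IsRoot cs' h' x := fun x hx =>
    (isRoot_comp_iff (cs := cs) (h := h) e hM hA cs' h').1 (C.root _ (hF.sub _ hx))
  refine ⟨fun x hx => (hR x (hroot x hx)).1 (hF.sub _ hx), fun x hx => hF.neg _ hx, fun x hx y hy h1 h2 => ?_,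
    fun x hx => ?_⟩
  · rw [← form_zero_iff (h := h) (h' := h') hA hs hM (hroot y hy)]
    refine hF.orth _ hx _ hy (fun h0 => h1 ?_) fun h0 => h2 ?_
    · funext j
      have := congrFun h0 (e.symm j)
      simpa using this
    · funext j
      have := congrFun h0 (e.symm j)
      simpa using this
  · have hx' : IsRoot cs' h' x := C'.root x hx
    obtain ⟨r, hr, h0⟩ := hF.max _ ((hR x hx').2 hx)
    have e1 : (fun i => (fun j => r (e.symm j)) (e i)) = r := by funext i; simp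
    have hr' : (fun i => (fun j => r (e.symm j)) (e i)) ∈ F := by rw [e1]; exact hr
    refine ⟨fun j => r (e.symm j), hr', fun h1 => h0 ?_⟩
    have h2 := (form_zero_iff (h := h) (h' := h') hA hs hM (hroot _ hr')).2 h1
    rwa [e1] at h2

end Tr

variable {G : Type*} [Group G] {Om : Set (Subgroup G)} {p : ℕ} {L : Subgroup G}

/-- **The transfer to the standard chart of type `B n`** -/
theorem triv_B (c : Chart Om p L) {n : ℕ} (hτ : c.IsTy (.B n)) (hXZ : ∀ r ∈ c.R, c.Z r = c.X r)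
    (hexp : ∀ r ∈ c.R, ∀ x ∈ c.Z r, x ^ p = 1) {F : Set (c.I → ℤ)} (hF : MaxF c.cls F)
    (H : ∀ {W' : Type} [Group W'] [Fintype W'] {cs' : CoxeterSystem (CoxeterMatrix.B n) W'} {T : Subgroup G}
      {nn : Fin n → G} {X Z : (Fin n → ℤ) → Subgroup G} {z : (Fin n → ℤ) → G}
      (C : Cls cs' (Nodes.TypeC.isCartan n) p T nn X (Nodes.KindBC.RB n) Z z) (F : Set (Fin n → ℤ)), MaxF C F →
      T ≤ G1 cs' (Nodes.TypeC.isCartan n) X →
      (∀ J : Set (Fin n), J.Nonempty → J ≠ Set.univ → ∃ a ∈ J, ∃ b, b ∉ J ∧ (CoxeterMatrix.B n) a b ≠ 2) →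
      (∀ r ∈ Nodes.KindBC.RB n, Z r = X r) → (∀ r ∈ Nodes.KindBC.RB n, ∀ x ∈ Z r, x ^ p = 1) →
      ∀ (K : Subgroup G) (e : G), QK K e → Cen C F K → Triv C e) :
    ∀ (K : Subgroup G) (e : G), QK K e → Cen c.cls F K → Triv c.cls e := by
  obtain ⟨e, hA, hl⟩ := hτ
  have hM : ∀ i j, c.M i j = CoxeterMatrix.B n (e i) (e j) := fun i j => c.M_apply (τ := .B n) hA i j
  obtain ⟨cs', hs⟩ := exists_reindex c.cs e (M' := CoxeterMatrix.B n) hM
  have hsr : ∀ i, sr i ∈ c.R ↔ sr (e i) ∈ Nodes.KindBC.RB n := fun i =>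
    (hl i).trans Nodes.RKindsBC.sr_mem_RB.symm
  let c' := reindex c e hM hA cs' (Nodes.TypeC.isCartan n) (R' := Nodes.KindBC.RB n)
    (fun r hr => Nodes.KindBC.root_RB cs' hr) (fun r hr w => Nodes.KindBC.act_RB cs' hr w) hsr
    (Nodes.KindBC.trans_RB cs')
  have hR : ∀ x, IsRoot cs' (Nodes.TypeC.isCartan n) x → ((fun i => x (e i)) ∈ c.R ↔ x ∈ Nodes.KindBC.RB n) :=
    fun x hx => mem_R_iff e hM hA cs' (Nodes.TypeC.isCartan n) c.cls.act
      (fun r hr w => Nodes.KindBC.act_RB cs' hr w) hsr hx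
  have hF' := maxF_reindex hF hA hs hM c'.cls hR
  have hG1 : G1 cs' (Nodes.TypeC.isCartan n) (fun x => c.X (fun i => x (e i))) = G1 c.cs c.h c.X :=
    G1_reindex (cs := c.cs) (h := c.h) e hM hA cs' (Nodes.TypeC.isCartan n) c.X
  have hmem : ∀ r ∈ Nodes.KindBC.RB n, (fun i => r (e i)) ∈ c.R := fun r hr =>
    (hR r (Nodes.KindBC.root_RB cs' hr)).2 hr
  intro K f hK hcen
  have h1 := H c'.cls _ hF' (c'.T_le.trans_eq c'.gen.symm) c'.irr (fun r hr => hXZ _ (hmem r hr))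
    (fun r hr => hexp _ (hmem r hr)) K f hK ⟨fun r hr a ha k hk => hcen.comm _ hr a ha k hk, fun k hk => by
      have := hcen.nor k hk
      rwa [← hG1] at this⟩
  intro l hl'
  rw [← hG1] at hl'
  exact h1 l hl'

theorem out_B (c : Chart Om p L) {n : ℕ} (hτ : c.IsTy (.B n)) (hXZ : ∀ r ∈ c.R, c.Z r = c.X r)
    (hexp : ∀ r ∈ c.R, ∀ x ∈ c.Z r, x ^ p = 1) {F : Set (c.I → ℤ)} (hF : MaxF c.cls F)
    (H : ∀ {W' : Type} [Group W'] [Fintype W'] {cs' : CoxeterSystem (CoxeterMatrix.B n) W'} {T : Subgroup G}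
      {nn : Fin n → G} {X Z : (Fin n → ℤ) → Subgroup G} {z : (Fin n → ℤ) → G}
      (C : Cls cs' (Nodes.TypeC.isCartan n) p T nn X (Nodes.KindBC.RB n) Z z) (F : Set (Fin n → ℤ)), MaxF C F →
      T ≤ G1 cs' (Nodes.TypeC.isCartan n) X →
      (∀ J : Set (Fin n), J.Nonempty → J ≠ Set.univ → ∃ a ∈ J, ∃ b, b ∉ J ∧ (CoxeterMatrix.B n) a b ≠ 2) →
      (∀ r ∈ Nodes.KindBC.RB n, Z r = X r) → (∀ r ∈ Nodes.KindBC.RB n, ∀ x ∈ Z r, x ^ p = 1) →
      ∀ (K : Subgroup G) (e : G), QK K e → Cen C F K → Triv C e) : Out c.cls F :=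
  Out.of_triv (triv_B c hτ hXZ hexp hF H)

/-- the root groups `Z r` have exponent `p` -/
theorem hexp_of_sl [Finite G] (c : Chart Om p L) {K₀ : Type*} [Field K₀] [Fintype K₀] [CharP K₀ p]
    (hsl : ∀ r ∈ c.R, Nonempty (Matrix.SpecialLinearGroup (Fin 2) K₀ ≃* ↥(c.Z r ⊔ c.Z (-r)))) :
    ∀ r ∈ c.R, ∀ x ∈ c.Z r, x ^ p = 1 := by
  have : Fact p.Prime := ⟨c.prime⟩
  intro r hr x hx
  obtain ⟨e⟩ := hsl r hr
  obtain ⟨e', hc⟩ := BetaTor.exists_crd c.cls c.odd hr e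
  obtain ⟨b, rfl⟩ := mem_root.1 (hc.rt.ge hx)
  have h1 : ∀ k : ℕ, (up b : Matrix.SpecialLinearGroup (Fin 2) K₀) ^ k = up ((k : K₀) * b) := by
    intro k
    induction k with
    | zero => rw [pow_zero, Nat.cast_zero, zero_mul, up_zero]
    | succ k ih => rw [pow_succ, ih, up_mul, Nat.cast_succ, add_mul, one_mul]
  rw [← Subgroup.coe_pow, ← map_pow, h1, CharP.cast_eq_zero, zero_mul, up_zero, map_one]
  rfl

end Cfsg.Agent.LOC.BReidx
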