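import Mathlib
import Cfsg.Agent.Cit.Nil.LO.Wt
import Cfsg.Agent.Nodes.BOdd

/-!
# Lie odd sections, the chart part: roots of type `B n` (S1309, (n1), piece (C))

`cf a x` : the signed `ε`-coordinate of `x` at `a : Fin n × Bool`; `dl c a` : its value on `wt a`.

* `eq_rt_of_pos`, `cases_pos` : roots with positive coordinates;
* `fpos`, `fnonneg`, `fzero` : the signs of the form;
* `mate`, `uniq`, `odd_one` : the maximal orthogonal sets of long roots;
* `lam_short`, `mem_lam` : the roots of `Lam F (rt a a)`; `lam_long` : `Lam F (rt a c) = {rt a c}` for paired `a`, `c`.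
-/

set_option autoImplicit false
set_option linter.unusedSectionVars false
set_option linter.dupNamespace false

namespace Cfsg.Agent.LOC.BRoots

open CoxeterSystem Cfsg.Agent.ChevalleyStructure.CoxeterGeom Cfsg.Agent.Tits.Roots Cfsg.Agent.Tits.Core
  Cfsg.Agent.Nodes.Reps Cfsg.Agent.Nodes.Coroot Cfsg.Agent.Nodes.TypeC Cfsg.Agent.Nodes.TypeCForm
  Cfsg.Agent.Nodes.KindBC Cfsg.Agent.Nodes.BOdd Cfsg.Agent.Nodes.Slope Cfsg.Agent.Nodes.Chart
  Cfsg.Agent.LOC.ChartDefs Cfsg.Agent.LOC.Wt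

variable {n : ℕ}

/-- the signed coordinate -/
def cf (a : Fin n × Bool) : (Fin n → ℤ) →+ ℤ where
  toFun x := sn a * ee x a.1
  map_zero' := by
    have := congrFun (ee_smul (n := n) 0 0) a.1
    rw [zero_smul, zero_smul] at this
    rw [this, Pi.zero_apply, mul_zero]
  map_add' x y := by rw [ee_add, Pi.add_apply, mul_add]

theorem cf_apply (a : Fin n × Bool) (x : Fin n → ℤ) : cf a x = sn a * ee x a.1 := rfl

/-- the value of `cf c` on `wt a` -/
def dl (c a : Fin n × Bool) : ℤ := if c.1 = a.1 then sn c * sn a else 0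

theorem dl_self (a : Fin n × Bool) : dl a a = 1 := by rw [dl, if_pos rfl, sn_mul_self]

theorem dl_ne {c a : Fin n × Bool} (h : c.1 ≠ a.1) : dl c a = 0 := by rw [dl, if_neg h]

theorem dl_ng_left (c a : Fin n × Bool) : dl (ng c) a = -dl c a := by
  unfold dl
  rw [ng_fst, sn_ng]
  split_ifs <;> ring

theorem dl_ng_right (c a : Fin n × Bool) : dl c (ng a) = -dl c a := by
  unfold dl
  rw [ng_fst, sn_ng]
  split_ifs <;> ring

theorem dl_comm (c a : Fin n × Bool) : dl c a = dl a c := by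
  unfold dl
  by_cases h : c.1 = a.1
  · rw [if_pos h, if_pos h.symm, mul_comm]
  · rw [if_neg h, if_neg (fun e => h e.symm)]

theorem cf_rt (c a b : Fin n × Bool) : cf c (rt a b) = dl c a + dl c b := by
  rw [cf_apply, ee_rt, Pi.add_apply, mul_add]
  congr 1
  · unfold dl
    rw [wt_apply]
    by_cases h : c.1 = a.1
    · rw [if_pos h, if_pos h]; rfl
    · rw [if_neg h, if_neg h, mul_zero]
  · unfold dl
    rw [wt_apply]
    by_cases h : c.1 = b.1
    · rw [if_pos h, if_pos h]; rfl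
    · rw [if_neg h, if_neg h, mul_zero]

theorem cf_ng (c : Fin n × Bool) (x : Fin n → ℤ) : cf (ng c) x = -cf c x := by
  rw [cf_apply, cf_apply, sn_ng, ng_fst]; ring

theorem eq_of_cf {x y : Fin n → ℤ} (h : ∀ a, cf a x = cf a y) : x = y := by
  apply ee_injective
  funext k
  have := h (k, true)
  rw [cf_apply, cf_apply] at this
  simpa [sn] using this

variable {W : Type*} [Group W] {cs : CoxeterSystem (CoxeterMatrix.B n) W}

theorem isRoot_ne {a b : Fin n × Bool} (h : a.1 ≠ b.1) : IsRoot cs (isCartan n) (rt a b) := isRoot_rt cs (Or.inl h)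

theorem isRoot_self (a : Fin n × Bool) : IsRoot cs (isCartan n) (rt a a) := isRoot_rt cs (Or.inr rfl)

theorem eq_of_fst {a b : Fin n × Bool} (h : a.1 = b.1) : a = b ∨ a = ng b := by
  obtain ⟨i, s⟩ := a
  obtain ⟨j, t⟩ := b
  simp only at h
  subst h
  cases s <;> cases t <;> simp [ng]

/-- a root with a positive coordinate -/
theorem cases_pos {x : Fin n → ℤ} (hx : IsRoot cs (isCartan n) x) {a : Fin n × Bool} (h0 : 0 < cf a x) :
    x = rt a a ∨ ∃ b, b.1 ≠ a.1 ∧ x = rt a b := by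
  obtain ⟨c, d, hcd, rfl⟩ := exists_rt hx
  rw [cf_rt] at h0
  rcases hcd with hcd | hcd
  · by_cases h1 : a.1 = c.1
    · rw [dl_ne (c := a) (a := d) (by rw [h1]; exact hcd), add_zero] at h0
      rcases eq_of_fst h1 with h2 | h2
      · subst h2
        exact Or.inr ⟨d, fun e => hcd e.symm, rfl⟩
      · subst h2
        rw [dl_ng_left, dl_self] at h0
        omega
    · rw [dl_ne h1, zero_add] at h0
      by_cases h2 : a.1 = d.1
      · rcases eq_of_fst h2 with h3 | h3
        · subst h3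
          exact Or.inr ⟨c, hcd, rt_comm _ _⟩
        · subst h3
          rw [dl_ng_left, dl_self] at h0
          omega
      · rw [dl_ne h2] at h0
        omega
  · subst hcd
    by_cases h1 : a.1 = c.1
    · rcases eq_of_fst h1 with h2 | h2
      · subst h2
        exact Or.inl rfl
      · subst h2
        rw [dl_ng_left, dl_self] at h0
        omega
    · rw [dl_ne h1] at h0
      omega

theorem eq_rt_of_pos {x : Fin n → ℤ} (hx : IsRoot cs (isCartan n) x) {a b : Fin n × Bool} (hab : a.1 ≠ b.1)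
    (h0 : 0 < cf a x) (h1 : 0 < cf b x) : x = rt a b := by
  rcases cases_pos hx h0 with rfl | ⟨d, hd, rfl⟩
  · rw [cf_rt, dl_ne (fun e => hab e.symm)] at h1
    omega
  · rw [cf_rt, dl_ne (fun e => hab e.symm), zero_add] at h1
    by_cases h2 : b.1 = d.1
    · rcases eq_of_fst h2 with h3 | h3
      · rw [h3]
      · subst h3
        rw [dl_ng_left, dl_self] at h1
        omega
    · rw [dl_ne h2] at h1
      omega

theorem pos_or (c : Fin n × Bool) (x : Fin n → ℤ) (h : cf c x ≠ 0) : 0 < cf c x ∨ 0 < cf (ng c) x := by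
  rw [cf_ng]
  omega

theorem cpr_ne [Finite W] (x : Fin n → ℤ) {a b : Fin n × Bool} (h : a.1 ≠ b.1) :
    cpr cs (isCartan n) x (rt a b) = cf a x + cf b x := by
  rw [cpr_rt cs x h, cf_apply, cf_apply]; ring

theorem cpr_self' [Finite W] (x : Fin n → ℤ) (a : Fin n × Bool) :
    cpr cs (isCartan n) x (rt a a) = cf a x := by
  rw [cpr_rt_self cs x, cf_apply]; ring

variable [Fintype W]

theorem fpos {x : Fin n → ℤ} {a b : Fin n × Bool} (h : a.1 ≠ b.1) :
    0 < form cs (isCartan n) x (rt a b) ↔ 0 < cf a x + cf b x := by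
  rw [← cpr_pos_iff cs _ x (isRoot_ne h), cpr_ne x h]

theorem fzero {x : Fin n → ℤ} {a b : Fin n × Bool} (h : a.1 ≠ b.1) :
    form cs (isCartan n) x (rt a b) = 0 ↔ cf a x + cf b x = 0 := by
  rw [← cpr_zero_iff cs _ x (isRoot_ne h), cpr_ne x h]

theorem fneg {x : Fin n → ℤ} {a b : Fin n × Bool} (h : a.1 ≠ b.1) :
    form cs (isCartan n) x (rt a b) < 0 ↔ cf a x + cf b x < 0 := by
  have h1 := fpos (cs := cs) (x := x) h
  have h2 := fzero (cs := cs) (x := x) h
  omega

theorem fpos' {x : Fin n → ℤ} {a : Fin n × Bool} : 0 < form cs (isCartan n) x (rt a a) ↔ 0 < cf a x := by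
  rw [← cpr_pos_iff cs _ x (isRoot_self a), cpr_self' x]

theorem fzero' {x : Fin n → ℤ} {a : Fin n × Bool} : form cs (isCartan n) x (rt a a) = 0 ↔ cf a x = 0 := by
  rw [← cpr_zero_iff cs _ x (isRoot_self a), cpr_self' x]

/-! ### Maximal orthogonal sets of long roots -/

section MaxF

variable {Y : Type*} [Group Y] {p : ℕ} {T : Subgroup Y} {nn : Fin n → Y} {X : (Fin n → ℤ) → Subgroup Y}
  {Z : (Fin n → ℤ) → Subgroup Y} {z : (Fin n → ℤ) → Y} {C : Cls cs (isCartan n) p T nn X (RB n) Z z}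
  {F : Set (Fin n → ℤ)} (hF : MaxF C F)

include hF

/-- `rt a b ∈ F` implies `rt a (ng b) ∈ F` -/
theorem mate {a b : Fin n × Bool} (hab : a.1 ≠ b.1) (h : rt a b ∈ F) : rt a (ng b) ∈ F := by
  have h1 : rt a (ng b) ∈ RB n := rt_mem_RB (by rwa [ng_fst])
  obtain ⟨t, ht, h2⟩ := hF.max _ h1
  have htR := root_RB cs (hF.sub t ht)
  rw [form_comm, Ne, fzero (by rwa [ng_fst]), cf_ng] at h2
  by_cases e1 : t = rt a b
  · subst e1
    rw [cf_rt, cf_rt, dl_self, dl_self, dl_ne hab, dl_ne hab.symm] at h2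
    omega
  by_cases e2 : t = -rt a b
  · subst e2
    rw [map_neg, map_neg, cf_rt, cf_rt, dl_self, dl_self, dl_ne hab, dl_ne hab.symm] at h2
    omega
  have h3 := hF.orth _ h t ht e1 e2
  rw [form_comm, fzero hab] at h3
  rcases pos_or a t (by omega) with h4 | h4
  · have h5 : t = rt a (ng b) := eq_rt_of_pos htR (by rwa [ng_fst]) h4 (by rw [cf_ng]; omega)
    rwa [← h5]
  · have h5 : t = rt (ng a) b := eq_rt_of_pos htR (by rwa [ng_fst]) h4 (by rw [cf_ng] at h4; omega)
    have h6 : rt a (ng b) = -t := by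
      rw [h5, ← rt_ng, ng_ng]
    rw [h6]
    exact hF.neg t ht

/-- the mate is unique -/
theorem uniq {a b c : Fin n × Bool} (hab : a.1 ≠ b.1) (hac : a.1 ≠ c.1) (h : rt a b ∈ F) (h' : rt a c ∈ F) :
    c.1 = b.1 := by
  by_contra hcb
  have e1 : cf b (rt a c) = 0 := by rw [cf_rt, dl_ne (fun e => hab e.symm), dl_ne (fun e => hcb e.symm), add_zero]
  have e2 : cf b (rt a b) = 1 := by rw [cf_rt, dl_ne (fun e => hab e.symm), dl_self, zero_add]
  have h3 := hF.orth _ h _ h' (fun e => by rw [e, e2] at e1; omega)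
    (fun e => by rw [e, map_neg, e2] at e1; omega)
  rw [form_comm, fzero hab, cf_rt, cf_rt, dl_self, dl_ne hac, dl_ne hab.symm, dl_ne (fun e => hcb e.symm)] at h3
  omega

/-- at most one unpaired index -/
theorem odd_one {a c : Fin n × Bool} (hac : a.1 ≠ c.1) (ha : ∀ b, a.1 ≠ b.1 → rt a b ∉ F)
    (hc : ∀ b, c.1 ≠ b.1 → rt c b ∉ F) : False := by
  obtain ⟨t, ht, h2⟩ := hF.max _ (rt_mem_RB hac)
  have htR := root_RB cs (hF.sub t ht)
  have key : ∀ {a : Fin n × Bool}, (∀ b, a.1 ≠ b.1 → rt a b ∉ F) → cf a t = 0 := by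
    intro a ha
    by_contra h0
    obtain ⟨u, v, huv, e⟩ := mem_RB.1 (hF.sub t ht)
    have k1 : ∀ {t'}, t' ∈ F → 0 < cf a t' → False := by
      intro t' ht' h1
      rcases cases_pos (root_RB cs (hF.sub t' ht')) h1 with rfl | ⟨d, hd, rfl⟩
      · obtain ⟨u, v, huv, e⟩ := mem_RB.1 (hF.sub _ ht')
        have e1 : cf a (rt u v) = 2 := by rw [← e, cf_rt, dl_self]; rfl
        rw [cf_rt] at e1
        unfold dl at e1
        have hs : ∀ b : Fin n × Bool, sn a * sn b ≤ 1 := fun b => by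
          rcases sn_eq_one_or a with h | h <;> rcases sn_eq_one_or b with h' | h' <;> rw [h, h'] <;> norm_num
        have := hs u
        have := hs v
        by_cases h3 : a.1 = u.1
        · rw [if_pos h3, if_neg (fun h4 => huv (h3.symm.trans h4))] at e1
          omega
        · rw [if_neg h3] at e1
          split_ifs at e1 <;> omega
      · exact ha d (fun e => hd e.symm) ht'
    rcases pos_or a t h0 with h1 | h1
    · exact k1 ht h1
    · refine k1 (hF.neg t ht) ?_
      rw [map_neg, ← cf_ng]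
      exact h1
  have h3 := key ha
  have h4 := key hc
  rw [form_comm, Ne, fzero hac] at h2
  omega

/-- the roots of `Lam F (rt a a)` -/
theorem lam_short {a b : Fin n × Bool} (hab : a.1 ≠ b.1) (h : rt a b ∈ F) {x : Fin n → ℤ}
    (hx : x ∈ Lam cs (isCartan n) F (rt a a)) :
    x = rt a a ∨ ∃ c, c.1 ≠ a.1 ∧ c.1 ≠ b.1 ∧ (∀ d, c.1 ≠ d.1 → rt c d ∉ F) ∧ x = rt a c := by
  obtain ⟨hxr, h1⟩ := hx
  have h2 := (h1 _ h).1 (by rw [fpos hab, cf_rt, cf_rt, dl_self, dl_ne hab.symm]; norm_num)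
  have h3 := (h1 _ (mate hF hab h)).1 (by
    rw [fpos (by rwa [ng_fst]), cf_ng, cf_rt, cf_rt, dl_self, dl_ne hab.symm]; norm_num)
  rw [fpos hab] at h2
  rw [fpos (by rwa [ng_fst]), cf_ng] at h3
  rcases cases_pos hxr (a := a) (by omega) with h4 | ⟨c, hca, rfl⟩
  · exact Or.inl h4
  right
  have hcb : c.1 ≠ b.1 := by
    intro e
    rcases eq_of_fst e with e | e
    · subst e
      rw [cf_rt, cf_rt, dl_self, dl_self, dl_ne hab, dl_ne hab.symm] at h3
      omega
    · subst e
      rw [cf_rt, cf_rt, dl_self, dl_ng_right, dl_ng_right, dl_self, dl_ne hab, dl_ne hab.symm] at h2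
      omega
  refine ⟨c, hca, hcb, fun d hcd hd => ?_, rfl⟩
  have had : a.1 ≠ d.1 := by
    intro e
    -- `d` is `a` up to sign, so `c` is the mate of `a`
    apply hcb
    rcases eq_of_fst e with e | e
    · subst e
      exact uniq hF hab hca.symm h (by rw [rt_comm]; exact hd)
    · have e' : d = ng a := by rw [e, ng_ng]
      subst e'
      have h5 := mate hF (by rw [ng_fst]; exact hca) hd
      rw [ng_ng] at h5
      exact uniq hF hab hca.symm h (by rw [rt_comm]; exact h5)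
  have k1 : ∀ {d}, c.1 ≠ d.1 → a.1 ≠ d.1 → rt c d ∈ F → 0 ≤ form cs (isCartan n) (rt a a) (rt c d) := by
    intro d hcd had _
    rw [(fzero hcd).2]
    rw [cf_rt, cf_rt, dl_ne hca, dl_ne (fun e => had e.symm)]; norm_num
  have k2 : 0 < form cs (isCartan n) (rt a c) (rt c d) := by
    rw [fpos hcd, cf_rt, cf_rt, dl_self, dl_ne hca, dl_ne (fun e => had e.symm), dl_ne (fun e => hcd e.symm)]
    norm_num
  have h5 : form cs (isCartan n) (rt a a) (-rt c d) = 0 := by
    rw [form_neg_right, neg_eq_zero, fzero hcd, cf_rt, cf_rt, dl_ne hca, dl_ne (fun e => had e.symm)]; norm_num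
  have h6 := (h1 _ (hF.neg _ hd)).2 h5.ge
  rw [form_neg_right] at h6
  omega

/-- the value of the form of `rt a c`, `c` unpaired, on `F` -/
theorem sign_short {a c : Fin n × Bool} (hc : ∀ d, c.1 ≠ d.1 → rt c d ∉ F) {t : Fin n → ℤ} (ht : t ∈ F) :
    cpr cs (isCartan n) (rt a a) t = 2 * cpr cs (isCartan n) (rt a c) t := by
  obtain ⟨u, v, huv, rfl⟩ := mem_RB.1 (hF.sub t ht)
  have hcu : ∀ {u v : Fin n × Bool}, u.1 ≠ v.1 → rt u v ∈ F → u.1 ≠ c.1 := by
    intro u v huv ht e
    rcases eq_of_fst e with e | e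
    · subst e
      exact hc v huv ht
    · have e' : c = ng u := by rw [e, ng_ng]
      subst e'
      refine hc (ng v) (by simpa using huv) ?_
      rw [rt_ng]
      exact hF.neg _ ht
  have h1 := hcu huv ht
  have h2 := hcu huv.symm (by rw [rt_comm]; exact ht)
  rw [cpr_ne _ huv, cpr_ne _ huv, cf_rt, cf_rt, cf_rt, cf_rt, dl_ne h1, dl_ne h2]
  ring

theorem mem_lam {a c : Fin n × Bool} (hca : c.1 ≠ a.1) (hc : ∀ d, c.1 ≠ d.1 → rt c d ∉ F) : rt a c ∈ Lam cs (isCartan n) F (rt a a) := by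
  refine ⟨isRoot_ne hca.symm, fun t ht => ?_⟩
  have h1 := sign_short (a := a) hF hc ht
  have htR := root_RB cs (hF.sub t ht)
  have h2 := cpr_pos_iff cs (isCartan n) (rt a a) htR
  have h3 := cpr_pos_iff cs (isCartan n) (rt a c) htR
  have h4 := cpr_zero_iff cs (isCartan n) (rt a a) htR
  have h5 := cpr_zero_iff cs (isCartan n) (rt a c) htR
  constructor <;> intro h0 <;> omega

/-- `a`, `c` paired and not mates of each other: `Lam F (rt a c) = {rt a c}` -/
theorem lam_long {a b c d : Fin n × Bool} (hab : a.1 ≠ b.1) (h : rt a b ∈ F) (hcd : c.1 ≠ d.1) (h' : rt c d ∈ F)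
    (hac : a.1 ≠ c.1) (hbc : b.1 ≠ c.1) {x : Fin n → ℤ} (hx : x ∈ Lam cs (isCartan n) F (rt a c)) : x = rt a c := by
  have had : a.1 ≠ d.1 := by
    intro e
    rcases eq_of_fst e with e | e
    · subst e
      exact hbc (uniq hF hab hac h (by rw [rt_comm]; exact h')).symm
    · have e' : d = ng a := by rw [e, ng_ng]
      subst e'
      have h5 := mate hF hcd h'
      rw [ng_ng] at h5
      exact hbc (uniq hF hab hac h (by rw [rt_comm]; exact h5)).symm
  obtain ⟨hxr, h1⟩ := hx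
  have h2 := (h1 _ h).1 (by
    rw [fpos hab, cf_rt, cf_rt, dl_self, dl_ne hac, dl_ne hab.symm, dl_ne hbc]; norm_num)
  have h3 := (h1 _ (mate hF hab h)).1 (by
    rw [fpos (by rwa [ng_fst]), cf_ng, cf_rt, cf_rt, dl_self, dl_ne hac, dl_ne hab.symm, dl_ne hbc]; norm_num)
  have h4 := (h1 _ h').1 (by
    rw [fpos hcd, cf_rt, cf_rt, dl_self, dl_ne (fun e => hac e.symm), dl_ne (fun e => had e.symm),
      dl_ne hcd.symm]; norm_num)
  have h5 := (h1 _ (mate hF hcd h')).1 (by
    rw [fpos (by rwa [ng_fst]), cf_ng, cf_rt, cf_rt, dl_self, dl_ne (fun e => hac e.symm),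
      dl_ne (fun e => had e.symm), dl_ne hcd.symm]; norm_num)
  rw [fpos hab] at h2
  rw [fpos (by rwa [ng_fst]), cf_ng] at h3
  rw [fpos hcd] at h4
  rw [fpos (by rwa [ng_fst]), cf_ng] at h5
  exact eq_rt_of_pos hxr hac (by omega) (by omega)

end MaxF

end Cfsg.Agent.LOC.BRoots
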