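import Mathlib
import Cfsg.Agent.Cit.Nil.LO.LA

/-!
# LEMMA LA* (helper494): a quaternion group acting by isometries, without singular elements

`M` abelian of odd order, `β : M × M → Z` symmetric and bimultiplicative, `Z` of exponent `p`, `K = Q8` acts by isometries,
no `1 ≠ x ∈ M` inverted by `e` with `β x x = 1`: then `e` centralises `M`.

[`x` inverted by `e`: `x, x ^ a, x ^ b` are pairwise orthogonal of the same norm; `α² + β² + 1 = 0 mod p`: the element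
`x ^ α (x ^ a) ^ β x ^ b` is singular, hence trivial, so `x` is singular.]

* `core`; `star` : for `LA.Frm`; `la` : for the form `[[u, x], y]`.
-/

set_option autoImplicit false
set_option linter.unusedSectionVars false
set_option linter.dupNamespace false

namespace Cfsg.Agent.LOC.LAbs

open Cfsg.Agent.LOC.ChartDefs Cfsg.Agent.LOC.LA
open scoped commutatorElement

variable {Y : Type*} [Group Y]

/-- a symmetric bimultiplicative form -/
structure Bm (M Z : Subgroup Y) (β : Y → Y → Y) : Prop where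
  commM : ∀ u ∈ M, ∀ v ∈ M, u * v = v * u
  oddM : ∀ u ∈ M, u * u = 1 → u = 1
  oddZ : ∀ u ∈ Z, u * u = 1 → u = 1
  mem : ∀ u ∈ M, ∀ v ∈ M, β u v ∈ Z
  mul_left : ∀ u ∈ M, ∀ u' ∈ M, ∀ v ∈ M, β (u * u') v = β u v * β u' v
  symm : ∀ u ∈ M, ∀ v ∈ M, β u v = β v u

variable {M Z K : Subgroup Y} {β : Y → Y → Y} {e : Y}

section

variable (f : Bm M Z β)
include f

theorem Bm.mul_right {u v v' : Y} (hu : u ∈ M) (hv : v ∈ M) (hv' : v' ∈ M) : β u (v * v') = β u v * β u v' := by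
  rw [f.symm u hu _ (mul_mem hv hv'), f.mul_left v hv v' hv' u hu, f.symm v hv u hu, f.symm v' hv' u hu]

theorem Bm.one_left {v : Y} (hv : v ∈ M) : β 1 v = 1 := by
  have h1 := f.mul_left 1 M.one_mem 1 M.one_mem v hv
  rw [one_mul] at h1
  exact mul_left_cancel (a := β 1 v) (by rw [mul_one]; exact h1.symm)

theorem Bm.one_right {u : Y} (hu : u ∈ M) : β u 1 = 1 := by
  rw [f.symm u hu 1 M.one_mem, f.one_left hu]

theorem Bm.inv_right {u v : Y} (hu : u ∈ M) (hv : v ∈ M) : β u v⁻¹ = (β u v)⁻¹ := by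
  have h1 := f.mul_right hu hv (inv_mem hv)
  rw [mul_inv_cancel, f.one_right hu] at h1
  exact (inv_eq_of_mul_eq_one_right h1.symm).symm

theorem Bm.pow_left {u v : Y} (hu : u ∈ M) (hv : v ∈ M) (k : ℕ) : β (u ^ k) v = β u v ^ k := by
  induction k with
  | zero => rw [pow_zero, pow_zero, f.one_left hv]
  | succ k ih => rw [pow_succ, pow_succ, f.mul_left _ (pow_mem hu k) u hu v hv, ih]

theorem Bm.pow_right {u v : Y} (hu : u ∈ M) (hv : v ∈ M) (k : ℕ) : β u (v ^ k) = β u v ^ k := by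
  rw [f.symm u hu _ (pow_mem hv k), f.pow_left hv hu, f.symm v hv u hu]

/-- `β u (u ^ k) = 1` for `u ∈ M_e`, `k² = e` -/
theorem Bm.orth (hKM : ∀ k ∈ K, ∀ u ∈ M, k * u * k⁻¹ ∈ M)
    (hinv : ∀ k ∈ K, ∀ u ∈ M, ∀ v ∈ M, β (k * u * k⁻¹) (k * v * k⁻¹) = β u v) {u k : Y} (hu' : u ∈ M)
    (hue : e * u * e⁻¹ = u⁻¹) (hk : k ∈ K) (hkk : k * k = e) : β u (k * u * k⁻¹) = 1 := by
  have hku := hKM k hk u hu'
  have h1 := hinv k hk u hu' _ hku
  have h2 : k * (k * u * k⁻¹) * k⁻¹ = u⁻¹ := by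
    have : k * (k * u * k⁻¹) * k⁻¹ = (k * k) * u * (k * k)⁻¹ := by group
    rw [this, hkk, hue]
  rw [h2, f.inv_right hku hu', f.symm _ hku u hu'] at h1
  have h3 : β u (k * u * k⁻¹) * β u (k * u * k⁻¹) = 1 := by
    nth_rw 1 [← h1]
    group
  exact f.oddZ _ (f.mem u hu' _ hku) h3

/-- **LEMMA LA***, core -/
theorem Bm.core {p : ℕ} [Fact p.Prime] (hK : QK K e) (hKM : ∀ k ∈ K, ∀ u ∈ M, k * u * k⁻¹ ∈ M)
    (hinv : ∀ k ∈ K, ∀ u ∈ M, ∀ v ∈ M, β (k * u * k⁻¹) (k * v * k⁻¹) = β u v)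
    (hexp : ∀ d ∈ Z, d ^ p = 1) (sing : ∀ u ∈ M, e * u * e⁻¹ = u⁻¹ → β u u = 1 → u = 1) :
    ∀ u ∈ M, e * u = u * e := by
  -- no inverted elements
  have key : ∀ w ∈ Me M e f.commM, w = 1 := by
    intro w hw
    obtain ⟨a, ha, b, hb, h1, h2, -, h4, -⟩ := quad hK
    have hcj : ∀ k ∈ K, k * w * k⁻¹ ∈ Me M e f.commM := by
      intro k hk
      refine ⟨hKM k hk w hw.1, ?_⟩
      have hke := hK.cen k hk
      calc e * (k * w * k⁻¹) * e⁻¹ = (e * k) * w * (e * k)⁻¹ := by group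
        _ = (k * e) * w * (k * e)⁻¹ := by rw [hke]
        _ = k * (e * w * e⁻¹) * k⁻¹ := by group
        _ = (k * w * k⁻¹)⁻¹ := by rw [hw.2]; group
    set u2 := a * w * a⁻¹ with hu2
    set u3 := b * w * b⁻¹ with hu3
    have m2 : u2 ∈ Me M e f.commM := hcj a ha
    have m3 : u3 ∈ Me M e f.commM := hcj b hb
    have o12 : β w u2 = 1 := f.orth hKM hinv hw.1 hw.2 ha h1
    have o13 : β w u3 = 1 := f.orth hKM hinv hw.1 hw.2 hb h2
    have o23 : β u2 u3 = 1 := by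
      have h6 := f.orth hKM hinv hw.1 hw.2 (mul_mem (inv_mem ha) hb) h4
      rw [← hinv a ha w hw.1 _ (hKM _ (mul_mem (inv_mem ha) hb) w hw.1)] at h6
      have h7 : a * (a⁻¹ * b * w * (a⁻¹ * b)⁻¹) * a⁻¹ = b * w * b⁻¹ := by group
      rwa [h7] at h6
    have o21 : β u2 w = 1 := by rw [f.symm u2 m2.1 w hw.1, o12]
    have o31 : β u3 w = 1 := by rw [f.symm u3 m3.1 w hw.1, o13]
    have o32 : β u3 u2 = 1 := by rw [f.symm u3 m3.1 u2 m2.1, o23]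
    have n2 : β u2 u2 = β w w := hinv a ha w hw.1 w hw.1
    have n3 : β u3 u3 = β w w := hinv b hb w hw.1 w hw.1
    obtain ⟨x, y, hxy⟩ := ZMod.sq_add_sq p (-1 : ZMod p)
    have hdvd : p ∣ x.val * x.val + y.val * y.val + 1 := by
      rw [← ZMod.natCast_eq_zero_iff]
      push_cast
      rw [ZMod.natCast_zmod_val, ZMod.natCast_zmod_val]
      linear_combination hxy
    obtain ⟨c, hc⟩ := hdvd
    set k := x.val
    set l := y.val
    set v := w ^ k * u2 ^ l * u3 with hv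
    have p1 : w ^ k ∈ M := pow_mem hw.1 k
    have p2 : u2 ^ l ∈ M := pow_mem m2.1 l
    have p12 : w ^ k * u2 ^ l ∈ M := mul_mem p1 p2
    have hvM : v ∈ Me M e f.commM := mul_mem (mul_mem (pow_mem hw k) (pow_mem m2 l)) m3
    have ev : ∀ g ∈ M, β v g = β w g ^ k * β u2 g ^ l * β u3 g := by
      intro g hg
      rw [hv, f.mul_left _ p12 u3 m3.1 g hg, f.mul_left _ p1 _ p2 g hg, f.pow_left hw.1 hg, f.pow_left m2.1 hg]
    have e1 : β v w = β w w ^ k := by rw [ev w hw.1, o21, o31, one_pow, mul_one, mul_one]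
    have e2 : β v u2 = β w w ^ l := by rw [ev u2 m2.1, o12, o32, n2, one_pow, one_mul, mul_one]
    have e3 : β v u3 = β w w := by rw [ev u3 m3.1, o13, o23, n3, one_pow, one_pow, one_mul, one_mul]
    have hvv : β v v = 1 := by
      have h6 : β v v = β v w ^ k * β v u2 ^ l * β v u3 := by
        conv_lhs => rw [hv]
        rw [f.mul_right hvM.1 p12 m3.1, f.mul_right hvM.1 p1 p2, f.pow_right hvM.1 hw.1, f.pow_right hvM.1 m2.1]
      rw [h6, e1, e2, e3, ← pow_mul, ← pow_mul, ← pow_add, ← pow_succ, hc, pow_mul,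
        hexp _ (f.mem w hw.1 w hw.1), one_pow]
    have hv1 := sing v hvM.1 hvM.2 hvv
    have h8 : β w w = 1 := by
      rw [← e3, hv1, f.one_left m3.1]
    exact sing w hw.1 hw.2 h8
  intro u hu
  have hee : e * e = 1 := hK.sq
  have hw : u⁻¹ * (e * u * e⁻¹) ∈ Me M e f.commM := by
    have heu := hKM e hK.mem u hu
    refine ⟨mul_mem (inv_mem hu) heu, ?_⟩
    have h1 : e * (e * u * e⁻¹) * e⁻¹ = u := by
      have : e * (e * u * e⁻¹) * e⁻¹ = (e * e) * u * (e * e)⁻¹ := by group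
      rw [this, hee]; group
    have h2 : e * (u⁻¹ * (e * u * e⁻¹)) * e⁻¹ = (e * u * e⁻¹)⁻¹ * (e * (e * u * e⁻¹) * e⁻¹) := by group
    rw [h2, h1]
    group
  have h1 := key _ hw
  have h2 : e * u * e⁻¹ = u := by
    rw [inv_mul_eq_one] at h1
    exact h1.symm
  calc e * u = (e * u * e⁻¹) * e := by group
    _ = u * e := by rw [h2]

end

/-- **LEMMA LA*** in the language of `LA.Frm` -/
theorem star {p : ℕ} [Fact p.Prime] (hK : QK K e) (f : Frm M Z β) (hKM : ∀ k ∈ K, ∀ u ∈ M, k * u * k⁻¹ ∈ M)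
    (hinv : ∀ k ∈ K, ∀ u ∈ M, ∀ v ∈ M, β (k * u * k⁻¹) (k * v * k⁻¹) = β u v)
    (hexp : ∀ d ∈ Z, d ^ p = 1) (sing : ∀ u ∈ M, e * u * e⁻¹ = u⁻¹ → β u u = 1 → u = 1) :
    ∀ u ∈ M, e * u = u * e :=
  (Bm.mk f.commM f.oddM f.oddZ f.mem f.mul_left f.symm).core hK hKM hinv hexp sing

/-- **LEMMA LA*** for the form `[[u, x], y]` -/
theorem la [Finite Y] {p : ℕ} [Fact p.Prime] (hp : p ≠ 2) {K N D : Subgroup Y} {e u : Y} (hK : QK K e)
    (hN : ∀ x ∈ N, ∀ y ∈ N, x * y = y * x) (hodd : Odd (Nat.card N)) (hKN : ∀ k ∈ K, ∀ x ∈ N, k * x * k⁻¹ ∈ N)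
    (hKu : ∀ k ∈ K, k * u = u * k) (hKD : ∀ k ∈ K, ∀ d ∈ D, k * d = d * k)
    (hD : ∀ x ∈ N, ∀ y ∈ N, ⁅⁅u, x⁆, y⁆ ∈ D) (hDp : ∀ d ∈ D, d ^ p = 1)
    (_hDc : ∀ d ∈ D, ∀ d' ∈ D, d * d' = d' * d)
    (mulL : ∀ x ∈ N, ∀ y ∈ N, ∀ t ∈ N, ⁅⁅u, x * y⁆, t⁆ = ⁅⁅u, x⁆, t⁆ * ⁅⁅u, y⁆, t⁆)
    (symm : ∀ x ∈ N, ∀ y ∈ N, ⁅⁅u, x⁆, y⁆ = ⁅⁅u, y⁆, x⁆)
    (sing : ∀ x ∈ N, e * x * e⁻¹ = x⁻¹ → ⁅⁅u, x⁆, x⁆ = 1 → x = 1) : ∀ x ∈ N, e * x = x * e := by
  have hpo := (Fact.out : p.Prime).odd_of_ne_two hp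
  have f : Bm N D (fun x y => ⁅⁅u, x⁆, y⁆) := by
    refine ⟨hN, fun x hx h2 => ?_, fun d hd h2 => ?_, hD, mulL, symm⟩
    · have h4 : orderOf (⟨x, hx⟩ : N) ∣ 2 := orderOf_dvd_of_pow_eq_one (by
        apply Subtype.ext
        rw [pow_two]
        exact h2)
      have h5 : orderOf (⟨x, hx⟩ : N) ∣ Nat.card N := orderOf_dvd_natCard _
      have h6 : orderOf (⟨x, hx⟩ : N) = 1 := by
        have h7 := Nat.dvd_gcd h4 h5
        rwa [Nat.Coprime.gcd_eq_one (Nat.coprime_two_left.2 hodd), Nat.dvd_one] at h7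
      exact congrArg Subtype.val (orderOf_eq_one_iff.1 h6)
    · obtain ⟨k, hk⟩ := hpo
      have h3 := hDp d hd
      rw [hk, pow_succ, pow_mul, pow_two, h2, one_pow, one_mul] at h3
      exact h3
  refine f.core (K := K) hK hKN (fun k hk x hx y hy => ?_) hDp sing
  have h1 : ⁅⁅u, k * x * k⁻¹⁆, k * y * k⁻¹⁆ = k * ⁅⁅u, x⁆, y⁆ * k⁻¹ := by
    have e1 : ⁅u, k * x * k⁻¹⁆ = k * ⁅u, x⁆ * k⁻¹ := by
      have e2 : k⁻¹ * u * k = u := by
        rw [mul_assoc, ← hKu k hk]; group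
      calc ⁅u, k * x * k⁻¹⁆ = k * ⁅k⁻¹ * u * k, x⁆ * k⁻¹ := by
            rw [commutatorElement_def, commutatorElement_def]; group
        _ = k * ⁅u, x⁆ * k⁻¹ := by rw [e2]
    rw [e1, commutatorElement_def, commutatorElement_def _ y]
    group
  change ⁅⁅u, k * x * k⁻¹⁆, k * y * k⁻¹⁆ = ⁅⁅u, x⁆, y⁆
  rw [h1, hKD k hk _ (hD x hx y hy), mul_inv_cancel_right]

end Cfsg.Agent.LOC.LAbs
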