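import Mathlib
import Cfsg.Agent.Cit.Nil.LO.BRoots
import Cfsg.Agent.Cit.Nil.LO.LAbs
import Cfsg.Agent.Cit.Nil.LO.Beta
import Cfsg.Agent.Nodes.ShortSum

/-!
# Lie odd sections, the chart part: the form `γ(x, y) = [[u, x], y]` (S1309, (n1), piece (C))

* `Gam N D u` : `γ` maps `N × N` to `D`, is multiplicative and symmetric;
* `gam_abs` : the abstract supply; `gam` : in a chart, `N ≤ VV r` abelian, `u ∈ Z s`, `s ⟂ r`, `u` commutes with all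
  `[u, x]`, `x ∈ N`; `quad_le` : the last condition has to be checked for generators only;
* `surj` : `Sq cs h m y₁ y₂ x b`, `1 ≠ u ∈ X b` : for `v ∈ X y₂` there is `g ∈ X y₁` with `[u, g] ∈ v X x`.
-/

set_option autoImplicit false
set_option linter.unusedSectionVars false
set_option linter.dupNamespace false

namespace Cfsg.Agent.LOC.BGam

open CoxeterSystem Cfsg.Agent.ChevalleyStructure.CoxeterGeom Cfsg.Agent.Tits.Roots Cfsg.Agent.Tits.Core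
  Cfsg.Agent.Tits.RootComb Cfsg.Agent.Nodes.Comb Cfsg.Agent.Nodes.SubComb Cfsg.Agent.Nodes.Reps
  Cfsg.Agent.Nodes.Coroot Cfsg.Agent.Nodes.PosPair Cfsg.Agent.Nodes.BNOf Cfsg.Agent.Nodes.RGDLib
  Cfsg.Agent.Nodes.Chart Cfsg.Agent.Nodes.ClsNorm Cfsg.Agent.Nodes.ChartLoc Cfsg.Agent.Nodes.ChartFrame
  Cfsg.Agent.Nodes.Slope Cfsg.Agent.Nodes.Bruhat Cfsg.Agent.LOC.ChartDefs Cfsg.Agent.LOC.Wt
  Cfsg.Agent.Nodes.ShortSum Cfsg.Agent.Nodes.MuSq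
open scoped commutatorElement

/-! ### Abstract part -/

section Abs

variable {Y : Type*} [Group Y] {V D N : Subgroup Y} {u : Y}

/-- the form `γ(x, y) = [[u, x], y]` -/
structure Gam (N D : Subgroup Y) (u : Y) : Prop where
  mem : ∀ x ∈ N, ∀ y ∈ N, ⁅⁅u, x⁆, y⁆ ∈ D
  mulL : ∀ x ∈ N, ∀ y ∈ N, ∀ t ∈ N, ⁅⁅u, x * y⁆, t⁆ = ⁅⁅u, x⁆, t⁆ * ⁅⁅u, y⁆, t⁆
  symm : ∀ x ∈ N, ∀ y ∈ N, ⁅⁅u, x⁆, y⁆ = ⁅⁅u, y⁆, x⁆

/-- the standing hypotheses on `V` and `u` -/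
structure Std (V D : Subgroup Y) (u : Y) : Prop where
  VD : ∀ x ∈ V, ∀ y ∈ V, ⁅x, y⁆ ∈ D
  DV : ∀ d ∈ D, ∀ x ∈ V, d * x = x * d
  le : D ≤ V
  uV : ∀ x ∈ V, u * x * u⁻¹ ∈ V
  uD : ∀ d ∈ D, u * d = d * u

variable (S : Std V D u)
include S

theorem Std.del {x : Y} (hx : x ∈ V) : ⁅u, x⁆ ∈ V := by
  rw [commutatorElement_def]
  exact mul_mem (S.uV x hx) (inv_mem hx)

theorem Std.commL {v v' t : Y} (hv : v ∈ V) (hv' : v' ∈ V) (ht : t ∈ V) : ⁅v * v', t⁆ = ⁅v, t⁆ * ⁅v', t⁆ := by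
  have h1 := S.VD v' hv' t ht
  have h2 := S.DV _ h1 v hv
  have h3 := S.DV _ h1 _ (S.le (S.VD v hv t ht))
  calc ⁅v * v', t⁆ = v * ⁅v', t⁆ * v⁻¹ * ⁅v, t⁆ := by simp only [commutatorElement_def]; group
    _ = ⁅v', t⁆ * ⁅v, t⁆ := by rw [← h2, mul_inv_cancel_right]
    _ = ⁅v, t⁆ * ⁅v', t⁆ := h3

theorem Std.commR {v t t' : Y} (hv : v ∈ V) (ht : t ∈ V) (ht' : t' ∈ V) : ⁅v, t * t'⁆ = ⁅v, t⁆ * ⁅v, t'⁆ := by
  have h1 := S.DV _ (S.VD v hv t' ht') t ht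
  calc ⁅v, t * t'⁆ = ⁅v, t⁆ * (t * ⁅v, t'⁆ * t⁻¹) := by simp only [commutatorElement_def]; group
    _ = ⁅v, t⁆ * ⁅v, t'⁆ := by rw [← h1, mul_inv_cancel_right]

theorem Std.del_mul {x y : Y} (hx : x ∈ V) (hy : y ∈ V) :
    ⁅u, x * y⁆ = ⁅x, ⁅u, y⁆⁆ * (⁅u, x⁆ * ⁅u, y⁆) := by
  have h1 := S.DV _ (S.VD x hx _ (S.del hy)) _ (S.del hx)
  calc ⁅u, x * y⁆ = ⁅u, x⁆ * (⁅x, ⁅u, y⁆⁆ * ⁅u, y⁆) := by simp only [commutatorElement_def]; group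
    _ = (⁅u, x⁆ * ⁅x, ⁅u, y⁆⁆) * ⁅u, y⁆ := by group
    _ = (⁅x, ⁅u, y⁆⁆ * ⁅u, x⁆) * ⁅u, y⁆ := by rw [h1]
    _ = _ := by group

theorem Std.central {d v t : Y} (hd : d ∈ D) (hv : v ∈ V) (ht : t ∈ V) : ⁅d * v, t⁆ = ⁅v, t⁆ := by
  rw [S.commL (S.le hd) hv ht, commutatorElement_eq_one_iff_mul_comm.2 (S.DV d hd t ht), one_mul]

/-- the elements `x` of `V` such that `u` commutes with `[u, x]` -/
def Quad (S : Std V D u) : Subgroup Y where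
  carrier := {x | x ∈ V ∧ u * ⁅u, x⁆ = ⁅u, x⁆ * u}
  one_mem' := ⟨V.one_mem, by rw [commutatorElement_one_right, mul_one, one_mul]⟩
  mul_mem' := by
    rintro x y ⟨hx, h1⟩ ⟨hy, h2⟩
    refine ⟨mul_mem hx hy, ?_⟩
    have h3 := S.uD _ (S.VD x hx _ (S.del hy))
    rw [S.del_mul hx hy]
    calc u * (⁅x, ⁅u, y⁆⁆ * (⁅u, x⁆ * ⁅u, y⁆)) = (u * ⁅x, ⁅u, y⁆⁆) * (⁅u, x⁆ * ⁅u, y⁆) := by group
      _ = ⁅x, ⁅u, y⁆⁆ * (u * ⁅u, x⁆) * ⁅u, y⁆ := by rw [h3]; group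
      _ = ⁅x, ⁅u, y⁆⁆ * ⁅u, x⁆ * (u * ⁅u, y⁆) := by rw [h1]; group
      _ = _ := by rw [h2]; group
  inv_mem' := by
    rintro x ⟨hx, h1⟩
    refine ⟨inv_mem hx, ?_⟩
    have h2 := S.uD _ (S.VD x⁻¹ (inv_mem hx) _ (inv_mem (S.del hx)))
    have h3 : ⁅u, x⁻¹⁆ = ⁅x⁻¹, ⁅u, x⁆⁻¹⁆ * ⁅u, x⁆⁻¹ := by simp only [commutatorElement_def]; group
    have h4 : u * ⁅u, x⁆⁻¹ = ⁅u, x⁆⁻¹ * u := by
      calc u * ⁅u, x⁆⁻¹ = ⁅u, x⁆⁻¹ * (⁅u, x⁆ * u) * ⁅u, x⁆⁻¹ := by group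
        _ = ⁅u, x⁆⁻¹ * (u * ⁅u, x⁆) * ⁅u, x⁆⁻¹ := by rw [h1]
        _ = _ := by group
    rw [h3]
    calc u * (⁅x⁻¹, ⁅u, x⁆⁻¹⁆ * ⁅u, x⁆⁻¹) = (u * ⁅x⁻¹, ⁅u, x⁆⁻¹⁆) * ⁅u, x⁆⁻¹ := by group
      _ = ⁅x⁻¹, ⁅u, x⁆⁻¹⁆ * (u * ⁅u, x⁆⁻¹) := by rw [h2]; group
      _ = _ := by rw [h4]; group

theorem gam_abs (hNV : N ≤ V) (hN : ∀ x ∈ N, ∀ y ∈ N, x * y = y * x) (hu : ∀ x ∈ N, u * ⁅u, x⁆ = ⁅u, x⁆ * u) :
    Gam N D u where
  mem x hx y hy := S.VD _ (S.del (hNV hx)) y (hNV hy)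
  mulL x hx y hy t ht := by
    rw [S.del_mul (hNV hx) (hNV hy), S.central (S.VD x (hNV hx) _ (S.del (hNV hy)))
      (mul_mem (S.del (hNV hx)) (S.del (hNV hy))) (hNV ht), S.commL (S.del (hNV hx)) (S.del (hNV hy)) (hNV ht)]
  symm x hx y hy := by
    have dx := S.del (hNV hx)
    have dy := S.del (hNV hy)
    -- `[δ x, δ y] = 1`
    have h1 : ⁅⁅u, x⁆, ⁅u, y⁆⁆ = 1 := by
      have h2 := S.uD _ (S.VD _ dx y (hNV hy))
      have h3 : u * ⁅⁅u, x⁆, y⁆ * u⁻¹ = ⁅⁅u, x⁆, ⁅u, y⁆ * y⁆ := by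
        have e1 : u * ⁅⁅u, x⁆, y⁆ * u⁻¹ = ⁅u * ⁅u, x⁆ * u⁻¹, u * y * u⁻¹⁆ := by
          simp only [commutatorElement_def]; group
        have e2 : u * ⁅u, x⁆ * u⁻¹ = ⁅u, x⁆ := by rw [hu x hx, mul_inv_cancel_right]
        have e3 : u * y * u⁻¹ = ⁅u, y⁆ * y := by rw [commutatorElement_def]; group
        rw [e1, e2, e3]
      rw [h2, mul_inv_cancel_right, S.commR dx dy (hNV hy)] at h3
      exact right_eq_mul.1 h3
    have h2 : ⁅⁅u, x⁆ * x, ⁅u, y⁆ * y⁆ = 1 := by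
      have e1 : ⁅u, x⁆ * x = u * x * u⁻¹ := by rw [commutatorElement_def]; group
      have e2 : ⁅u, y⁆ * y = u * y * u⁻¹ := by rw [commutatorElement_def]; group
      rw [e1, e2, commutatorElement_eq_one_iff_mul_comm]
      calc u * x * u⁻¹ * (u * y * u⁻¹) = u * (x * y) * u⁻¹ := by group
        _ = u * (y * x) * u⁻¹ := by rw [hN x hx y hy]
        _ = _ := by group
    rw [S.commL dx (hNV hx) (mul_mem dy (hNV hy)), S.commR dx dy (hNV hy), S.commR (hNV hx) dy (hNV hy), h1,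
      one_mul, commutatorElement_eq_one_iff_mul_comm.2 (hN x hx y hy), mul_one] at h2
    rw [mul_eq_one_iff_eq_inv.1 h2, commutatorElement_inv]

end Abs

namespace Gam

variable {Y : Type*} [Group Y] {D N : Subgroup Y} {u : Y} (g : Gam N D u)
include g

theorem one_left {t : Y} : ⁅⁅u, (1 : Y)⁆, t⁆ = 1 := by
  rw [commutatorElement_one_right, commutatorElement_one_left]

theorem mulR {x y t : Y} (hx : x ∈ N) (hy : y ∈ N) (ht : t ∈ N) :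
    ⁅⁅u, t⁆, x * y⁆ = ⁅⁅u, t⁆, x⁆ * ⁅⁅u, t⁆, y⁆ := by
  rw [g.symm t ht _ (mul_mem hx hy), g.mulL x hx y hy t ht, g.symm x hx t ht, g.symm y hy t ht]

end Gam

/-! ### In a chart -/

variable {I W Y : Type*} [Fintype I] [DecidableEq I] [Group W] [Fintype W] [Group Y] {M : CoxeterMatrix I}
  {cs : CoxeterSystem M W} {A : I → I → ℤ} {h : IsCartan M A} {p : ℕ} {T : Subgroup Y} {n : I → Y}
  {X : (I → ℤ) → Subgroup Y} {R : Set (I → ℤ)} {Z : (I → ℤ) → Subgroup Y} {z : (I → ℤ) → Y}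
  (C : Cls cs h p T n X R Z z)

include C

theorem std [Finite Y] [Fact p.Prime] (hp2 : p ≠ 2) {r s : I → ℤ} (hr : r ∈ R) (hs : s ∈ R)
    (hrs : form cs h r s = 0) {u : Y} (hu : u ∈ Z s) : Std (VV cs h X r) (Z r) u where
  VD x hx y hy := commutator_VV_le C hp2 hr (Subgroup.commutator_mem_commutator hx hy)
  DV d hd x hx := VV_comm C hr hd hx
  le := Z_le_VV C hr
  uV x hx := by
    have h1 : u ∈ Subgroup.normalizer (VV cs h X r : Set Y) :=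
      Nodes.CenVV.X_le_normalizer_VV C (C.root s hs) (by rw [form_comm]; exact hrs) (C.le s hs hu)
    exact (Subgroup.mem_normalizer_iff.1 h1 x).1 hx
  uD d hd := C.cent r hr s (C.root s hs) (by rw [form_comm, hrs]) u (C.le s hs hu) d hd

/-! ### Surjectivity -/

variable {m : ℤ} {y₁ y₂ x b : I → ℤ} (S : Sq cs h m y₁ y₂ x b)

omit C in
/-- `⟨y₁, b⟩ = -m` -/
theorem cpr_y₁ (S : Sq cs h m y₁ y₂ x b) : cpr cs h y₁ b = -m := by
  apply cpr_eq_of_form cs h S.rootb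
  have h1 : m * (m * form cs h b b) = 2 * form cs h y₁ y₁ := by
    rw [← form_smul_left, ← form_smul_right, S.sub, form_sub_right, form_sub_left, form_sub_left,
      form_comm cs h y₂ y₁, S.orth, S.len]
    ring
  have h2 := S.form_b₁
  have h3 : m * (2 * form cs h y₁ b) = m * (-m * form cs h b b) := by
    rw [form_comm cs h y₁ b]
    calc m * (2 * form cs h b y₁) = 2 * (m * form cs h b y₁) := by ring
      _ = -(2 * form cs h y₁ y₁) := by rw [h2]; ring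
      _ = m * (-m * form cs h b b) := by rw [← h1]; ring
  exact mul_left_cancel₀ S.pos.ne' h3

theorem surj [Finite Y] (S : Sq cs h m y₁ y₂ x b) (hxR : x ∈ R) (hbR : b ∈ R) (hX : X x = Z x) (hB : X b = Z b)
    {u : Y} (hu : u ∈ X b) (hu1 : u ≠ 1) {v : Y} (hv : v ∈ X y₂) : ∃ g ∈ X y₁, ∃ d ∈ X x, ⁅u, g⁆ = v * d := by
  have hbn := neg_mem C hbR
  have rb := S.rootb
  -- commutations
  have x₁ : ∀ c ∈ X x, ∀ a ∈ X y₁, a * c = c * a := fun c hc a ha =>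
    C.cent x hxR y₁ S.root₁ (by rw [form_comm]; exact S.x₁_pos.le) a ha c (hX ▸ hc)
  have x₂ : ∀ c ∈ X x, ∀ a ∈ X y₂, a * c = c * a := fun c hc a ha =>
    C.cent x hxR y₂ S.root₂ (by rw [form_comm]; exact S.x₂_pos.le) a ha c (hX ▸ hc)
  have xb' : ∀ c ∈ X x, ∀ a ∈ X (-b), a * c = c * a := fun c hc a ha =>
    C.cent x hxR (-b) rb.neg (by rw [form_neg_left, form_comm, S.xb, neg_zero]) a ha c (hX ▸ hc)
  have hXn : X (-b) = Z (-b) := by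
    obtain ⟨w, i, rfl⟩ := rb
    obtain ⟨k, hk⟩ := exists_rp cs C.rgd.nsys (w * cs.simple i * w⁻¹)
    have h2 : rep cs h (w * cs.simple i * w⁻¹) (rep cs h w (sr i)) = -rep cs h w (sr i) := by
      rw [rep_mul_apply, rep_mul_apply, rep_inv_apply, rep_simple_sr, map_neg]
    have h3 := conj_Z C hk hbR
    have h4 := C.rgd.conj_rp hk S.rootb
    rw [h2] at h3 h4
    rw [← h3, ← h4, hB]
  have b₁ : ∀ c ∈ X (-b), ∀ a ∈ X y₁, a * c = c * a := fun c hc a ha =>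
    C.cent (-b) hbn y₁ S.root₁ (by
      have := S.b₁_neg
      rw [form_neg_right, form_comm]; omega) a ha c (hXn ▸ hc)
  -- the `μ`-element
  obtain ⟨q, hq, q', hq', w, hw, hwi, he⟩ := exists_mu' C.rgd rb hu hu1
  have e1 : rep cs h w y₁ = y₂ := by
    rw [he, cpr_y₁ S, neg_smul, sub_neg_eq_add, S.sub]; abel
  set μ := q * u * q' with hμ
  have hg : μ⁻¹ * v * μ ∈ X y₁ := by
    have h1 := C.rgd.conj_mem' hw S.root₂ hv
    rwa [← e1, rep_inv_apply] at h1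
  set g := μ⁻¹ * v * μ with hgd
  -- `[u, g]`
  obtain ⟨v', hv', d', hd', h1⟩ : ∃ v' ∈ X y₂, ∃ d' ∈ X x, ⁅u, g⁆ = v' * d' := by
    refine mem_sup_of_cm (fun a ha c hc => x₂ c hc a ha) ?_
    refine btw_le ?_ (C.rgd.comm b y₁ rb S.root₁ S.ne_b.1.symm (fun e => S.ne_b.2 (by rw [e, neg_neg])) u hu g hg)
    intro r hr
    rcases S.btwn' hr.symm with rfl | rfl
    · exact le_sup_left
    · exact le_sup_right
  have sw : Sq cs h m y₂ y₁ x (-b) :=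
    { pos := S.pos
      root₁ := S.root₂
      root₂ := S.root₁
      root := S.root
      rootb := S.rootb.neg
      orth := by rw [form_comm]; exact S.orth
      len := S.len.symm
      add := by rw [S.add, add_comm]
      sub := by rw [smul_neg, S.sub]; abel }
  obtain ⟨v₁, hv₁, d₁, hd₁, h2⟩ : ∃ v₁ ∈ X y₁, ∃ d₁ ∈ X x, ⁅q, v'⁆ = v₁ * d₁ := by
    refine mem_sup_of_cm (fun a ha c hc => x₁ c hc a ha) ?_
    refine btw_le ?_ (C.rgd.comm (-b) y₂ rb.neg S.root₂ (fun e => S.ne_b₂.2 e.symm)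
      (fun e => S.ne_b₂.1 (neg_injective e.symm)) q hq v' hv')
    intro r hr
    rcases sw.btwn' hr.symm with rfl | rfl
    · exact le_sup_left
    · exact le_sup_right
  have h3 : ⁅v', g⁆ ∈ X x := by
    refine btw_le ?_ (C.rgd.comm y₂ y₁ S.root₂ S.root₁ S.ne₁.symm (fun e => S.ne₂ (by rw [e, neg_neg])) v' hv' g hg)
    intro r hr
    rw [sw.btwn hr]
  have h4 : v = v₁ * g * (v' * (⁅v', g⁆ * d₁ * d')) := by
    have k1 : v = μ * g * μ⁻¹ := by rw [hgd]; group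
    have k2 : q' * g * q'⁻¹ = g := by rw [← b₁ q' hq' g hg]; group
    have k3 : u * g * u⁻¹ = v' * d' * g := by rw [← h1, commutatorElement_def]; group
    have k4 : q * v' * q⁻¹ = v₁ * d₁ * v' := by rw [← h2, commutatorElement_def]; group
    have k5 : q * d' * q⁻¹ = d' := by rw [xb' d' hd' q hq]; group
    have k6 : q * g * q⁻¹ = g := by rw [← b₁ q hq g hg]; group
    have k7 : v' * g = ⁅v', g⁆ * (g * v') := by rw [commutatorElement_def]; group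
    have k8 := x₁ _ h3 g hg
    have k9 := x₂ _ h3 v' hv'
    have k10 := x₁ _ hd₁ g hg
    have k11 := x₂ _ hd₁ v' hv'
    have k12 := x₁ _ hd' g hg
    have k13 := x₁ _ h3 v₁ hv₁
    have k14 := x₁ _ hd₁ v₁ hv₁
    have hdd : ∀ c ∈ X x, ∀ d ∈ X x, c * d = d * c := fun c hc d hd =>
      (C.cent x hxR x S.root (form_pos cs h S.root.ne_zero).le c hc d (hX ▸ hd))
    calc v = μ * g * μ⁻¹ := k1
      _ = q * (u * (q' * g * q'⁻¹) * u⁻¹) * q⁻¹ := by rw [hμ]; group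
      _ = (q * v' * q⁻¹) * (q * d' * q⁻¹) * (q * g * q⁻¹) := by rw [k2, k3]; group
      _ = v₁ * d₁ * v' * (d' * g) := by rw [k4, k5, k6]; group
      _ = v₁ * d₁ * (v' * g) * d' := by rw [← k12]; group
      _ = v₁ * (d₁ * ⁅v', g⁆) * (g * v') * d' := by rw [k7]; group
      _ = v₁ * (⁅v', g⁆ * d₁) * (g * v') * d' := by rw [hdd _ hd₁ _ h3]
      _ = v₁ * ((⁅v', g⁆ * d₁) * g) * v' * d' := by group
      _ = v₁ * (g * (⁅v', g⁆ * d₁)) * v' * d' := by rw [x₁ _ (mul_mem h3 hd₁) g hg]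
      _ = v₁ * g * ((⁅v', g⁆ * d₁) * v') * d' := by group
      _ = v₁ * g * (v' * (⁅v', g⁆ * d₁)) * d' := by rw [x₂ _ (mul_mem h3 hd₁) v' hv']
      _ = _ := by group
  set d'' := ⁅v', g⁆ * d₁ * d' with hd''
  have hd''X : d'' ∈ X x := mul_mem (mul_mem h3 hd₁) hd'
  -- `v₁ g = 1`
  have h5 : v₁ * g = 1 := by
    refine Cfsg.Agent.Nodes.Slope.sup_inf_sup' C.rgd (Nodes.CenVV.fh cs h y₂) (Nodes.CenVV.fh cs h y₁) (u := v₁ * g) ?_ ?_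
    · have h6 : v₁ * g = v * (v' * d'')⁻¹ := by rw [h4]; group
      rw [h6]
      have k1 : X y₂ ≤ RGD.Sup X {w | IsRoot cs h w ∧ 0 < Nodes.CenVV.fh cs h y₂ w} :=
        RGD.le_Sup (S := {w | IsRoot cs h w ∧ 0 < Nodes.CenVV.fh cs h y₂ w}) ⟨S.root₂, form_pos cs h S.root₂.ne_zero⟩
      have k2 : X x ≤ RGD.Sup X {w | IsRoot cs h w ∧ 0 < Nodes.CenVV.fh cs h y₂ w} :=
        RGD.le_Sup (S := {w | IsRoot cs h w ∧ 0 < Nodes.CenVV.fh cs h y₂ w}) ⟨S.root, S.x₂_pos⟩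
      exact mul_mem (k1 hv) (inv_mem (mul_mem (k1 hv') (k2 hd''X)))
    · have k1 : X y₁ ≤ RGD.Sup X {w | IsRoot cs h w ∧ Nodes.CenVV.fh cs h y₂ w ≤ 0 ∧ 0 < Nodes.CenVV.fh cs h y₁ w} :=
        RGD.le_Sup (S := {w | IsRoot cs h w ∧ Nodes.CenVV.fh cs h y₂ w ≤ 0 ∧ 0 < Nodes.CenVV.fh cs h y₁ w})
          ⟨S.root₁, by rw [Nodes.CenVV.fh_apply, S.orth], form_pos cs h S.root₁.ne_zero⟩
      exact k1 (mul_mem hv₁ hg)
  rw [h5, one_mul] at h4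
  have h6 : v'⁻¹ * v = 1 := by
    have h7 : v'⁻¹ * v ∈ X y₂ ⊓ X x := ⟨(X y₂).mul_mem ((X y₂).inv_mem hv') hv, by rw [h4]; simpa using hd''X⟩
    have h8 : y₂ ≠ x := by
      intro e
      have h9 := S.add
      have h10 := S.x₁_pos
      rw [← e, form_comm, S.orth] at h10
      exact lt_irrefl _ h10
    rwa [Cfsg.Agent.Nodes.OppDec.X_inf_X C.rgd S.root₂ S.root h8, Subgroup.mem_bot] at h7
  have h7 : v' = v := inv_mul_eq_one.1 h6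
  exact ⟨g, hg, d', hd', by rw [h1, h7]⟩

end Cfsg.Agent.LOC.BGam
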