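import Mathlib
import Cfsg.Agent.Cit.Nil.LO.BGam

/-!
# Lie odd sections, the chart part: the weight group of the unpaired index, abstract part (S1309, (n1), piece (C), `B n`)

`N = E₁ E₀ E₂` abelian, `γ(x, y) = [[u, x], y]` : `E₁`, `E₂` isotropic and dual to each other, `E₀` orthogonal to both and
anisotropic.

* `Tri.claim` : `1 ≠ x ∈ E₁`, `y ∈ N`, `γ(x, y) = γ(y, y) = 1` : `y ∈ E₁`;
* `Tri.norm` : if `e` inverts `1 ≠ x ∈ E₁`, then `K` normalises `E₁`;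
* `Tri.move` : a singular element can be moved into `E₁` or `E₂`.
-/

set_option autoImplicit false
set_option linter.unusedSectionVars false
set_option linter.dupNamespace false

namespace Cfsg.Agent.LOC.BTri

open Cfsg.Agent.LOC.ChartDefs Cfsg.Agent.LOC.BGam
open scoped commutatorElement

variable {Y : Type*} [Group Y] {N D E₀ E₁ E₂ : Subgroup Y} {u : Y}

theorem _root_.Cfsg.Agent.LOC.BGam.Gam.inv (g : Gam N D u) {k : Y} (hku : k * u = u * k)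
    (hkD : ∀ d ∈ D, k * d = d * k) {x y : Y} (hx : x ∈ N) (hy : y ∈ N) :
    ⁅⁅u, k * x * k⁻¹⁆, k * y * k⁻¹⁆ = ⁅⁅u, x⁆, y⁆ := by
  have h1 : ⁅⁅u, k * x * k⁻¹⁆, k * y * k⁻¹⁆ = k * ⁅⁅u, x⁆, y⁆ * k⁻¹ := by
    have e1 : ⁅u, k * x * k⁻¹⁆ = k * ⁅u, x⁆ * k⁻¹ := by
      have e2 : k⁻¹ * u * k = u := by
        rw [mul_assoc, ← hku]; group
      calc ⁅u, k * x * k⁻¹⁆ = k * ⁅k⁻¹ * u * k, x⁆ * k⁻¹ := by
            rw [commutatorElement_def, commutatorElement_def]; group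
        _ = k * ⁅u, x⁆ * k⁻¹ := by rw [e2]
    rw [e1, commutatorElement_def, commutatorElement_def _ y]
    group
  rw [h1, hkD _ (g.mem x hx y hy), mul_inv_cancel_right]

/-- `N = E₁ E₀ E₂` -/
structure Tri (N D E₀ E₁ E₂ : Subgroup Y) (u : Y) : Prop where
  g : Gam N D u
  oddD : ∀ d ∈ D, d * d = 1 → d = 1
  le₀ : E₀ ≤ N
  le₁ : E₁ ≤ N
  le₂ : E₂ ≤ N
  dec : ∀ y ∈ N, ∃ a ∈ E₁, ∃ b ∈ E₀, ∃ c ∈ E₂, y = a * b * c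
  iso : ∀ x ∈ E₁, ∀ y ∈ E₁, ⁅⁅u, x⁆, y⁆ = 1
  orth : ∀ x ∈ E₁, ∀ y ∈ E₀, ⁅⁅u, x⁆, y⁆ = 1
  trip : ∀ x ∈ E₁, x ≠ 1 → ∀ y ∈ E₂, ⁅⁅u, x⁆, y⁆ = 1 → y = 1
  aniso : ∀ x ∈ E₀, ⁅⁅u, x⁆, x⁆ = 1 → x = 1

variable (S : Tri N D E₀ E₁ E₂ u)
include S

theorem Tri.sing_aux {a b : Y} (ha : a ∈ E₁) (hb : b ∈ E₀) (h2 : ⁅⁅u, a * b⁆, a * b⁆ = 1) : b = 1 := by
  have hab : a * b ∈ N := mul_mem (S.le₁ ha) (S.le₀ hb)
  have e2 : ⁅⁅u, a * b⁆, a * b⁆ = ⁅⁅u, b⁆, b⁆ := by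
    rw [S.g.mulL a (S.le₁ ha) b (S.le₀ hb) _ hab, S.g.mulR (S.le₁ ha) (S.le₀ hb) (S.le₁ ha),
      S.g.mulR (S.le₁ ha) (S.le₀ hb) (S.le₀ hb), S.iso a ha a ha, S.orth a ha b hb,
      S.g.symm b (S.le₀ hb) a (S.le₁ ha), S.orth a ha b hb]
    simp only [one_mul]
  rw [e2] at h2
  exact S.aniso b hb h2

theorem Tri.claim {x y : Y} (hx : x ∈ E₁) (hx1 : x ≠ 1) (hy : y ∈ N)
    (h1 : ⁅⁅u, x⁆, y⁆ = 1) (h2 : ⁅⁅u, y⁆, y⁆ = 1) : y ∈ E₁ := by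
  obtain ⟨a, ha, b, hb, c, hc, rfl⟩ := S.dec y hy
  have hab : a * b ∈ N := mul_mem (S.le₁ ha) (S.le₀ hb)
  have e1 : ⁅⁅u, x⁆, a * b * c⁆ = ⁅⁅u, x⁆, a⁆ * ⁅⁅u, x⁆, b⁆ * ⁅⁅u, x⁆, c⁆ := by
    rw [S.g.mulR hab (S.le₂ hc) (S.le₁ hx), S.g.mulR (S.le₁ ha) (S.le₀ hb) (S.le₁ hx)]
  rw [S.iso x hx a ha, S.orth x hx b hb, one_mul, one_mul, h1] at e1
  have c1 : c = 1 := S.trip x hx hx1 c hc e1.symm
  rw [c1, mul_one] at h2 ⊢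
  rw [S.sing_aux ha hb h2, mul_one]
  exact ha

theorem Tri.norm {K : Subgroup Y} {e : Y} (hK : QK K e) (hKN : ∀ k ∈ K, ∀ x ∈ N, k * x * k⁻¹ ∈ N)
    (hKu : ∀ k ∈ K, k * u = u * k) (hKD : ∀ k ∈ K, ∀ d ∈ D, k * d = d * k) {x : Y} (hx : x ∈ E₁) (hx1 : x ≠ 1)
    (hex : e * x * e⁻¹ = x⁻¹) : ∀ k ∈ K, ∀ y ∈ E₁, k * y * k⁻¹ ∈ E₁ := by
  intro k hk
  have hxN := S.le₁ hx
  have hkx := hKN k hk x hxN
  have h1 : k * x * k⁻¹ ∈ E₁ := by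
    rcases hK.pow k hk with h2 | h2
    · rcases hK.one k hk h2 with rfl | rfl
      · simpa using hx
      · rw [hex]; exact inv_mem hx
    · refine S.claim hx hx1 hkx ?_ ?_
      · apply S.oddD _ (S.g.mem x hxN _ hkx)
        have e1 := S.g.inv (hKu k hk) (hKD k hk) hxN hkx
        have e2 : k * (k * x * k⁻¹) * k⁻¹ = x⁻¹ := by
          have : k * (k * x * k⁻¹) * k⁻¹ = (k * k) * x * (k * k)⁻¹ := by group
          rw [this, h2, hex]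
        rw [e2] at e1
        have e3 := S.g.mulR (x := x⁻¹) (y := x) (t := k * x * k⁻¹) (inv_mem hxN) hxN hkx
        rw [inv_mul_cancel, commutatorElement_one_right, e1, S.g.symm _ hkx x hxN] at e3
        exact e3.symm
      · rw [S.g.inv (hKu k hk) (hKD k hk) hxN hxN, S.iso x hx x hx]
  have hne : k * x * k⁻¹ ≠ 1 := by
    intro h0
    apply hx1
    calc x = k⁻¹ * (k * x * k⁻¹) * k := by group
      _ = 1 := by rw [h0]; group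
  intro y hy
  have hyN := S.le₁ hy
  refine S.claim h1 hne (hKN k hk y hyN) ?_ ?_
  · rw [S.g.inv (hKu k hk) (hKD k hk) hxN hyN, S.iso x hx y hy]
  · rw [S.g.inv (hKu k hk) (hKD k hk) hyN hyN, S.iso y hy y hy]

theorem Tri.move (S' : Tri N D E₀ E₂ E₁ u) {P : Subgroup Y} (hab : ∀ x ∈ N, ∀ y ∈ N, x * y = y * x)
    (hPu : ∀ g ∈ P, g * u = u * g)
    (hPD : ∀ g ∈ P, ∀ d ∈ D, g * d = d * g) (hP₁ : ∀ g ∈ P, ∀ x ∈ E₁, g * x = x * g)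
    (hP₀ : ∀ g ∈ P, ∀ x ∈ E₀, ⁅g, x⁆ ∈ E₁)
    (hs : ∀ w ∈ E₂, w ≠ 1 → ∀ v ∈ E₀, ∃ g ∈ P, ∃ d ∈ E₁, ⁅w, g⁆ = v * d) {x : Y} (hx : x ∈ N)
    (h1 : ⁅⁅u, x⁆, x⁆ = 1) : x ∈ E₁ ∨ ∃ g ∈ P, g * x * g⁻¹ ∈ E₂ := by
  obtain ⟨a, ha, b, hb, c, hc, rfl⟩ := S.dec x hx
  by_cases hc1 : c = 1
  · left
    rw [hc1, mul_one] at h1 ⊢
    rw [S.sing_aux ha hb h1, mul_one]
    exact ha
  · right
    obtain ⟨g, hg, d, hd, e⟩ := hs c hc hc1 b hb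
    refine ⟨g, hg, ?_⟩
    have hgb := hP₀ g hg b hb
    set a' := a * ⁅g, b⁆ * d⁻¹ with ha'
    have ha'1 : a' ∈ E₁ := mul_mem (mul_mem ha hgb) (inv_mem hd)
    have e1 : g * (a * b * c) * g⁻¹ = a' * c := by
      have k1 : g * a * g⁻¹ = a := by rw [hP₁ g hg a ha]; group
      have k2 : g * b * g⁻¹ = ⁅g, b⁆ * b := by rw [commutatorElement_def]; group
      have k3 : g * c * g⁻¹ = ⁅c, g⁆⁻¹ * c := by rw [commutatorElement_def]; group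
      have k4 : b * d⁻¹ * b⁻¹ = d⁻¹ := by
        rw [hab b (S.le₀ hb) _ (inv_mem (S.le₁ hd))]; group
      calc g * (a * b * c) * g⁻¹ = (g * a * g⁻¹) * (g * b * g⁻¹) * (g * c * g⁻¹) := by group
        _ = a * (⁅g, b⁆ * b) * ((b * d)⁻¹ * c) := by rw [k1, k2, k3, e]
        _ = a * ⁅g, b⁆ * (b * d⁻¹ * b⁻¹) * c := by group
        _ = a' * c := by rw [k4]
    have hcN := S.le₂ hc
    have ha'N := S.le₁ ha'1
    have e2 : ⁅⁅u, a' * c⁆, a' * c⁆ = 1 := by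
      rw [← e1, S.g.inv (hPu g hg) (hPD g hg) hx hx, h1]
    have e3 : ⁅⁅u, a' * c⁆, a' * c⁆ = ⁅⁅u, c⁆, a'⁆ * ⁅⁅u, c⁆, a'⁆ := by
      rw [S.g.mulL a' ha'N c hcN _ (mul_mem ha'N hcN), S.g.mulR ha'N hcN ha'N, S.g.mulR ha'N hcN hcN,
        S.iso a' ha'1 a' ha'1, S'.iso c hc c hc, S.g.symm a' ha'N c hcN]
      simp only [one_mul, mul_one]
    rw [e3] at e2
    have e4 := S'.trip c hc hc1 a' ha'1 (S.oddD _ (S.g.mem c hcN a' ha'N) e2)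
    rw [e1, e4, one_mul]
    exact hc

end Cfsg.Agent.LOC.BTri
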