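import Mathlib
import Cfsg.Agent.Cit.Nil.LO.ChartDefs

/-!
# Endomorphisms commuting with a transitive group of automorphisms commute (Wedderburn)

`comm_of_trans` : `P` a finite abelian group, `T` transitive on `P - 1`, `a`, `b` normalise `P` and commute with `T`:
then `a`, `b` commute on `P`. `QK.cent_of_trans` : the involution of a quaternion group centralises `P`.
-/

set_option autoImplicit false
set_option linter.unusedSectionVars false
set_option linter.dupNamespace false
set_option linter.style.haveILetI false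

namespace Cfsg.Agent.LOC.Irr

open Cfsg.Agent.LOC.ChartDefs

/-- the abstract form -/
theorem comm_of_trans' {P : Type*} [AddCommGroup P] [Finite P] (S : Set (AddMonoid.End P))
    (htr : ∀ x y : P, x ≠ 0 → y ≠ 0 → ∃ s ∈ S, s x = y) {f g : AddMonoid.End P}
    (hf : ∀ s ∈ S, s * f = f * s) (hg : ∀ s ∈ S, s * g = g * s) : f * g = g * f := by
  by_cases hP : Subsingleton P
  · ext x
    exact Subsingleton.elim _ _
  have hnt : Nontrivial P := not_subsingleton_iff_nontrivial.1 hP
  have hfin : Finite (AddMonoid.End P) := Finite.of_injective (fun f : AddMonoid.End P => (f : P → P))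
    DFunLike.coe_injective
  set D := Subring.centralizer S with hD
  have hinj : ∀ f : D, f ≠ 0 → ∀ x : P, (f : AddMonoid.End P) x = 0 → x = 0 := by
    rintro ⟨f, hf⟩ hf0 x hx
    by_contra hx0
    apply hf0
    apply Subtype.ext
    ext y
    by_cases hy : y = 0
    · rw [hy]; simp
    · obtain ⟨s, hs, rfl⟩ := htr x y hx0 hy
      have h1 := Subring.mem_centralizer_iff.1 hf s hs
      have h2 : f (s x) = s (f x) := by
        have := congrArg (fun u : AddMonoid.End P => u x) h1
        exact this.symm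
      change f (s x) = 0
      rw [h2]
      have hx' : f x = 0 := hx
      rw [hx', map_zero]
  have hdom : IsDomain D := by
    haveI : NoZeroDivisors D := ⟨by
      intro a b hab
      by_cases ha : a = 0
      · exact Or.inl ha
      · right
        apply Subtype.ext
        ext y
        have h1 : (a : AddMonoid.End P) ((b : AddMonoid.End P) y) = 0 := by
          have := congrArg (fun u : D => (u : AddMonoid.End P) y) hab
          exact this
        exact hinj a ha _ h1⟩
    haveI : Nontrivial D := ⟨⟨0, 1, fun h0 => by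
      obtain ⟨x, hx⟩ := exists_ne (0 : P)
      apply hx
      have := congrArg (fun u : D => (u : AddMonoid.End P) x) h0
      exact this.symm⟩⟩
    exact NoZeroDivisors.to_isDomain D
  have hfD : Finite D := inferInstance
  have hfield := Finite.isDomain_to_isField D
  have hf' : f ∈ D := Subring.mem_centralizer_iff.2 hf
  have hg' : g ∈ D := Subring.mem_centralizer_iff.2 hg
  exact congrArg Subtype.val (hfield.mul_comm ⟨f, hf'⟩ ⟨g, hg'⟩)

variable {Y : Type*} [Group Y]

/-- conjugation by `a` on an abelian subgroup -/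
def act {P : Subgroup Y} (a : Y) (ha : ∀ x ∈ P, a * x * a⁻¹ ∈ P) : AddMonoid.End (Additive P) where
  toFun x := Additive.ofMul ⟨a * (x.toMul : P) * a⁻¹, ha _ (x.toMul : P).2⟩
  map_zero' := by
    apply Additive.toMul.injective
    apply Subtype.ext
    change a * 1 * a⁻¹ = 1
    group
  map_add' x y := by
    apply Additive.toMul.injective
    apply Subtype.ext
    change a * ((x.toMul : P) * (y.toMul : P) : Y) * a⁻¹ = a * (x.toMul : P) * a⁻¹ * (a * (y.toMul : P) * a⁻¹)
    group

theorem comm_of_trans {P : Subgroup Y} [Finite P] (hab : ∀ x ∈ P, ∀ y ∈ P, x * y = y * x) {S : Set Y}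
    (hS : ∀ t ∈ S, ∀ x ∈ P, t * x * t⁻¹ ∈ P)
    (htr : ∀ x ∈ P, ∀ y ∈ P, x ≠ 1 → y ≠ 1 → ∃ t ∈ S, t * x * t⁻¹ = y) {a b : Y}
    (ha : ∀ x ∈ P, a * x * a⁻¹ ∈ P) (hb : ∀ x ∈ P, b * x * b⁻¹ ∈ P) (hat : ∀ t ∈ S, a * t = t * a)
    (hbt : ∀ t ∈ S, b * t = t * b) {x : Y} (hx : x ∈ P) : a * b * x * (a * b)⁻¹ = b * a * x * (b * a)⁻¹ := by
  letI : AddCommGroup (Additive P) :=
    { (inferInstance : AddGroup (Additive P)) with
      add_comm := fun x y => by
        apply Additive.toMul.injective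
        apply Subtype.ext
        exact hab _ (x.toMul : P).2 _ (y.toMul : P).2 }
  haveI : Finite (Additive P) := ‹Finite P›
  have key := comm_of_trans' (P := Additive P) {f | ∃ t, ∃ ht : t ∈ S, f = act t (hS t ht)} (by
    intro x y hx hy
    obtain ⟨t, ht, e⟩ := htr (x.toMul : P) (x.toMul : P).2 (y.toMul : P) (y.toMul : P).2
      (fun h0 => hx (by apply Additive.toMul.injective; exact Subtype.ext h0))
      (fun h0 => hy (by apply Additive.toMul.injective; exact Subtype.ext h0))
    refine ⟨_, ⟨t, ht, rfl⟩, ?_⟩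
    apply Additive.toMul.injective
    exact Subtype.ext e) (f := act a ha) (g := act b hb) (by
    rintro _ ⟨t, ht, rfl⟩
    refine DFunLike.ext _ _ fun x => ?_
    apply Additive.toMul.injective
    apply Subtype.ext
    change t * (a * (x.toMul : P) * a⁻¹) * t⁻¹ = a * (t * (x.toMul : P) * t⁻¹) * a⁻¹
    have h1 := hat t ht
    calc t * (a * (x.toMul : P) * a⁻¹) * t⁻¹ = (t * a) * (x.toMul : P) * (t * a)⁻¹ := by group
      _ = (a * t) * (x.toMul : P) * (a * t)⁻¹ := by rw [h1]
      _ = a * (t * (x.toMul : P) * t⁻¹) * a⁻¹ := by group) (by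
    rintro _ ⟨t, ht, rfl⟩
    refine DFunLike.ext _ _ fun x => ?_
    apply Additive.toMul.injective
    apply Subtype.ext
    change t * (b * (x.toMul : P) * b⁻¹) * t⁻¹ = b * (t * (x.toMul : P) * t⁻¹) * b⁻¹
    have h1 := hbt t ht
    calc t * (b * (x.toMul : P) * b⁻¹) * t⁻¹ = (t * b) * (x.toMul : P) * (t * b)⁻¹ := by group
      _ = (b * t) * (x.toMul : P) * (b * t)⁻¹ := by rw [h1]
      _ = b * (t * (x.toMul : P) * t⁻¹) * b⁻¹ := by group)
  have h1 := congrArg (fun f : AddMonoid.End (Additive P) => ((f (Additive.ofMul ⟨x, hx⟩)).toMul : P).1) key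
  change a * (b * x * b⁻¹) * a⁻¹ = b * (a * x * a⁻¹) * b⁻¹ at h1
  calc a * b * x * (a * b)⁻¹ = a * (b * x * b⁻¹) * a⁻¹ := by group
    _ = b * (a * x * a⁻¹) * b⁻¹ := h1
    _ = b * a * x * (b * a)⁻¹ := by group

/-- **`e = [a, b]` centralises `P`.** -/
theorem _root_.Cfsg.Agent.LOC.ChartDefs.QK.cent_of_trans {K : Subgroup Y} {e : Y} (hK : QK K e) {P : Subgroup Y} [Finite P]
    (hab : ∀ x ∈ P, ∀ y ∈ P, x * y = y * x) {S : Set Y} (hS : ∀ t ∈ S, ∀ x ∈ P, t * x * t⁻¹ ∈ P)
    (htr : ∀ x ∈ P, ∀ y ∈ P, x ≠ 1 → y ≠ 1 → ∃ t ∈ S, t * x * t⁻¹ = y) (hKP : ∀ k ∈ K, ∀ x ∈ P, k * x * k⁻¹ ∈ P)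
    (hKS : ∀ k ∈ K, ∀ t ∈ S, k * t = t * k) {x : Y} (hx : x ∈ P) : e * x = x * e := by
  obtain ⟨a, ha, b, hb, -, -, h3⟩ := hK.com
  have hx' : (b * a)⁻¹ * x * (b * a) ∈ P := by
    have := hKP _ (inv_mem (mul_mem hb ha)) x hx
    rwa [inv_inv] at this
  have h1 := comm_of_trans hab hS htr (hKP a ha) (hKP b hb) (hKS a ha) (hKS b hb) hx'
  rw [h3] at h1
  have h4 : e * x * e⁻¹ = x := by
    calc e * x * e⁻¹ = e * (b * a) * ((b * a)⁻¹ * x * (b * a)) * (e * (b * a))⁻¹ := by group
      _ = b * a * ((b * a)⁻¹ * x * (b * a)) * (b * a)⁻¹ := h1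
      _ = x := by group
  calc e * x = e * x * e⁻¹ * e := by group
    _ = x * e := by rw [h4]

end Cfsg.Agent.LOC.Irr
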