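import Mathlib
import Cfsg.Agent.Cit.Nil.LO.BTri
import Cfsg.Agent.Cit.Nil.LO.Aniso
import Cfsg.Agent.Cit.Nil.LO.Tor
import Cfsg.Agent.Cit.Nil.LO.Irr
import Cfsg.Agent.Cit.Nil.LO.Phi
import Cfsg.Agent.Cit.Nil.LO.BReidx

/-!
# Lie odd sections, the chart part: type `B n`, the standard chart (S1309, (n1), piece (C))

`F` a maximal set of pairwise orthogonal long roots, `K` a `Q₈` centralising all `Z t`, `t ∈ F`, `e` its involution.
For `rt a b ∈ F`:

* `short` : `e` centralises `MM F (rt b b)` [LEMMA LA*; there is at most one unpaired index `c`, and then singular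
  elements inverted by `e` are moved into `X (rt b c)` or `X (rt b (ng c))`, where `T` is transitive];
* `long` : `e` centralises `X (rt b c)`, `c` paired [`T` is transitive];
* `Hyp.triv` : `e` centralises `L`;
* `triv`, `out` : charts of type `B n`, `n ≥ 2`.
-/

set_option autoImplicit false
set_option linter.unusedSectionVars false
set_option linter.dupNamespace false

namespace Cfsg.Agent.LOC.TypeB

open CoxeterSystem Cfsg.Agent.ChevalleyStructure.CoxeterGeom Cfsg.Agent.Tits.Roots Cfsg.Agent.Tits.Core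
  Cfsg.Agent.Tits.RootComb Cfsg.Agent.Nodes.Comb Cfsg.Agent.Nodes.SubComb Cfsg.Agent.Nodes.Reps
  Cfsg.Agent.Nodes.Coroot Cfsg.Agent.Nodes.PosPair Cfsg.Agent.Nodes.BNOf Cfsg.Agent.Nodes.RGDLib
  Cfsg.Agent.Nodes.Chart Cfsg.Agent.Nodes.ClsNorm Cfsg.Agent.Nodes.ChartLoc Cfsg.Agent.Nodes.ChartFrame
  Cfsg.Agent.Nodes.Slope Cfsg.Agent.Nodes.Bruhat Cfsg.Agent.LOC.ChartDefs Cfsg.Agent.LOC.Wt
  Cfsg.Agent.Nodes.ShortSum Cfsg.Agent.Nodes.MuSq Cfsg.Agent.Nodes.TypeC Cfsg.Agent.Nodes.TypeCForm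
  Cfsg.Agent.Nodes.KindBC Cfsg.Agent.Nodes.BOdd Cfsg.Agent.LOC.BRoots Cfsg.Agent.LOC.BGam Cfsg.Agent.LOC.BTri
open scoped commutatorElement

variable {n : ℕ} {W : Type*} [Group W] [Fintype W] {cs : CoxeterSystem (CoxeterMatrix.B n) W}

/-! ### Roots -/

theorem form_self_eq (a b : Fin n × Bool) :
    form cs (isCartan n) (rt a a) (rt a a) = form cs (isCartan n) (rt b b) (rt b b) := by
  obtain ⟨w, hw⟩ := trans_RC (cs := cs) _ (rt_mem_RC b) _ (rt_mem_RC a)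
  rw [hw, form_rep]

theorem form_long_eq {a b c d : Fin n × Bool} (hab : a.1 ≠ b.1) (hcd : c.1 ≠ d.1) :
    form cs (isCartan n) (rt a b) (rt a b) = form cs (isCartan n) (rt c d) (rt c d) := by
  obtain ⟨w, hw⟩ := trans_RB (cs := cs) _ (rt_mem_RB hcd) _ (rt_mem_RB hab)
  rw [hw, form_rep]

theorem sq {a b : Fin n × Bool} (hab : a.1 ≠ b.1) :
    Sq cs (isCartan n) 2 (rt b b) (rt a a) (rt a b) (rt a (ng b)) where
  pos := by norm_num
  root₁ := isRoot_self b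
  root₂ := isRoot_self a
  root := isRoot_ne hab
  rootb := isRoot_ne (by rwa [ng_fst])
  orth := by rw [fzero', cf_rt, dl_ne hab]; rfl
  len := form_self_eq b a
  add := by
    apply eq_of_cf
    intro c
    rw [map_zsmul, map_add, cf_rt, cf_rt, cf_rt, smul_eq_mul]; ring
  sub := by
    apply eq_of_cf
    intro c
    rw [map_zsmul, map_sub, cf_rt, cf_rt, cf_rt, dl_ng_right, smul_eq_mul]; ring

theorem ne_of_cf {x y : Fin n → ℤ} (c : Fin n × Bool) (h1 : cf c x ≠ 0) (h2 : cf c y = 0) : x ≠ y ∧ x ≠ -y := by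
  constructor
  · rintro rfl; exact h1 h2
  · rintro rfl; apply h1; rw [map_neg, h2, neg_zero]

theorem fbb {a b : Fin n × Bool} (hab : a.1 ≠ b.1) : 0 < form cs (isCartan n) (rt b b) (rt a b) := by
  rw [fpos hab, cf_rt, cf_rt, dl_self, dl_ne hab]; norm_num

theorem orth_mate {a b : Fin n × Bool} (hab : a.1 ≠ b.1) :
    form cs (isCartan n) (rt a b) (rt a (ng b)) = 0 := by
  rw [fzero (by rwa [ng_fst]), cf_ng, cf_rt, cf_rt, dl_self, dl_self, dl_ne hab, dl_ne hab.symm]; norm_num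

theorem neg_rt (a b : Fin n × Bool) : -rt a (ng b) = rt (ng a) b := by
  rw [← rt_ng, ng_ng]

variable {Y : Type*} [Group Y] {p : ℕ} {T : Subgroup Y} {nn : Fin n → Y} {X : (Fin n → ℤ) → Subgroup Y}
  {Z : (Fin n → ℤ) → Subgroup Y} {z : (Fin n → ℤ) → Y} (C : Cls cs (isCartan n) p T nn X (RB n) Z z)

include C

/-- `[X (a - b), X (b + d)] ≤ X (a + d)` -/
theorem comm_ll {a b d : Fin n × Bool} (hab : a.1 ≠ b.1) (hbd : b.1 ≠ d.1) (had : a.1 ≠ d.1) {u x : Y}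
    (hu : u ∈ X (rt a (ng b))) (hx : x ∈ X (rt b d)) : ⁅u, x⁆ ∈ X (rt a d) := by
  have hab' : a.1 ≠ (ng b).1 := by rwa [ng_fst]
  obtain ⟨h1, h2⟩ := ne_of_cf (x := rt a (ng b)) (y := rt b d) a
    (by rw [cf_rt, dl_self, dl_ne hab']; norm_num) (by rw [cf_rt, dl_ne hab, dl_ne had]; rfl)
  refine comm_in C.rgd (isRoot_ne hab') (isRoot_ne hbd) h1 h2 (fun w hw => ?_) hu hx
  refine eq_rt_of_pos hw.1 had (btwn_pos' hw (cf a) ?_ ?_) (btwn_pos' hw.symm (cf d) ?_ ?_)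
  · simp only [cf_rt, dl_self, dl_ne hab']; norm_num
  · simp only [cf_rt, dl_ne hab, dl_ne had]; norm_num
  · simp only [cf_rt, dl_self, dl_ne hbd.symm]; norm_num
  · simp only [cf_rt, dl_ng_right, dl_ne hbd.symm, dl_ne had.symm]; norm_num

/-- and this is injective -/
theorem one_ll {a b d : Fin n × Bool} (hab : a.1 ≠ b.1) (hbd : b.1 ≠ d.1) (had : a.1 ≠ d.1) {u x : Y}
    (hu : u ∈ X (rt a (ng b))) (hu1 : u ≠ 1) (hx : x ∈ X (rt b d)) (h0 : ⁅u, x⁆ = 1) : x = 1 := by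
  have hab' : a.1 ≠ (ng b).1 := by rwa [ng_fst]
  have hna : (ng a).1 ≠ d.1 := by rwa [ng_fst]
  have hnb : (ng a).1 ≠ b.1 := by rwa [ng_fst]
  obtain ⟨h1, h2⟩ := ne_of_cf (x := rt a (ng b)) (y := rt b d) a
    (by rw [cf_rt, dl_self, dl_ne hab']; norm_num) (by rw [cf_rt, dl_ne hab, dl_ne had]; rfl)
  refine eq_one_of_comm C.rgd (isRoot_ne hab') (isRoot_ne hbd) h1 h2 (fun w hw => ?_) ?_ hu hu1 hx
    (commutatorElement_eq_one_iff_mul_comm.1 h0)
  · rw [neg_rt] at hw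
    have k1 : w = rt (ng a) d := by
      refine eq_rt_of_pos hw.1 hna (btwn_pos' hw (cf (ng a)) ?_ ?_) (btwn_pos' hw.symm (cf d) ?_ ?_)
      · simp only [cf_rt, dl_self, dl_ne hnb]; norm_num
      · simp only [cf_rt, dl_ne hnb, dl_ne hna]; norm_num
      · simp only [cf_rt, dl_self, dl_ne hbd.symm]; norm_num
      · simp only [cf_rt, dl_ng_right, dl_ne hbd.symm, dl_ne had.symm]; norm_num
    have k2 : 0 < cf b w := by
      refine btwn_pos' hw (cf b) ?_ ?_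
      · simp only [cf_rt, dl_self, dl_ne hnb.symm]; norm_num
      · simp only [cf_rt, dl_self, dl_ne hbd]; norm_num
    rw [k1, cf_rt, dl_ne hnb.symm, dl_ne hbd] at k2
    omega
  · rw [cpr_ne _ hab', cf_ng, cf_rt, cf_rt, dl_self, dl_ne hab, dl_ne had, dl_ne hbd]; norm_num

omit C in
/-- the standing hypotheses -/
structure Hyp (C : Cls cs (isCartan n) p T nn X (RB n) Z z) (F : Set (Fin n → ℤ)) : Prop where
  hF : MaxF C F
  hp : p ≠ 2
  hT : T ≤ G1 cs (isCartan n) X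
  XZ : ∀ r ∈ RB n, Z r = X r
  exp : ∀ r ∈ RB n, ∀ x ∈ Z r, x ^ p = 1

variable {C}
variable {F : Set (Fin n → ℤ)} (H : Hyp C F)
include H

theorem Hyp.symm {a b : Fin n × Bool} (h : rt a b ∈ F) : rt b a ∈ F := by rwa [rt_comm]

theorem Hyp.mate_neg {a b : Fin n × Bool} (hab : a.1 ≠ b.1) (h : rt a b ∈ F) : rt a (ng b) ∈ F := mate H.hF hab h

/-- the orthogonality of `rt c c`, `c` unpaired, to `F` -/
theorem Hyp.orth {c : Fin n × Bool} (hc : ∀ d, c.1 ≠ d.1 → rt c d ∉ F) {t : Fin n → ℤ} (ht : t ∈ F) :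
    form cs (isCartan n) (rt c c) t = 0 := by
  obtain ⟨u, v, huv, rfl⟩ := mem_RB.1 (H.hF.sub t ht)
  have hcu : ∀ {u v : Fin n × Bool}, u.1 ≠ v.1 → rt u v ∈ F → u.1 ≠ c.1 := by
    intro u v huv ht e
    rcases eq_of_fst e with e | e
    · subst e
      exact hc v huv ht
    · have e' : c = ng u := by rw [e, ng_ng]
      subst e'
      refine hc (ng v) (by simpa using huv) ?_
      rw [rt_ng]
      exact H.hF.neg _ ht
  have h1 := hcu huv ht
  have h2 := hcu huv.symm (by rw [rt_comm]; exact ht)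
  rw [fzero huv, cf_rt, cf_rt, dl_ne h1, dl_ne h2]; norm_num

theorem Hyp.un_ng {c : Fin n × Bool} (hc : ∀ d, c.1 ≠ d.1 → rt c d ∉ F) : ∀ d, (ng c).1 ≠ d.1 → rt (ng c) d ∉ F := by
  intro d hd h
  refine hc (ng d) (by simpa using hd) ?_
  have h1 := H.hF.neg _ h
  rwa [← rt_ng, ng_ng] at h1

theorem Hyp.le_VV {y t : Fin n → ℤ} (ht : 0 < form cs (isCartan n) y t) (htF : t ∈ F) :
    MM cs (isCartan n) X F y ≤ VV cs (isCartan n) X t :=
  RGD.Sup_mono fun _ hx => ⟨hx.1, (hx.2 t htF).1 ht⟩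

variable [Finite Y] [Fact p.Prime]

theorem Hyp.odd_Z {r : Fin n → ℤ} (hr : r ∈ RB n) {d : Y} (hd : d ∈ Z r) (h2 : d * d = 1) : d = 1 := by
  obtain ⟨k, hk⟩ := (Fact.out : p.Prime).odd_of_ne_two H.hp
  have h3 := H.exp r hr d hd
  rw [hk, pow_succ, pow_mul, pow_two, h2, one_pow, one_mul] at h3
  exact h3

theorem Hyp.comm {a b : Fin n × Bool} (hab : a.1 ≠ b.1) (h : rt a b ∈ F) :
    ∀ x ∈ MM cs (isCartan n) X F (rt b b), ∀ y ∈ MM cs (isCartan n) X F (rt b b), x * y = y * x := by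
  intro x hx y hy
  have hna : (ng a).1 ≠ b.1 := by rwa [ng_fst]
  have h' : rt (ng a) b ∈ F := by
    rw [rt_comm]
    exact mate H.hF hab.symm (by rw [rt_comm]; exact h)
  have k1 : ⁅x, y⁆ ∈ X (rt a b) := by
    rw [← H.XZ _ (H.hF.sub _ h)]
    exact commutator_VV_le C H.hp (H.hF.sub _ h) (Subgroup.commutator_mem_commutator
      (H.le_VV (fbb hab) h hx) (H.le_VV (fbb hab) h hy))
  have k2 : ⁅x, y⁆ ∈ X (rt (ng a) b) := by
    rw [← H.XZ _ (H.hF.sub _ h')]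
    exact commutator_VV_le C H.hp (H.hF.sub _ h') (Subgroup.commutator_mem_commutator
      (H.le_VV (fbb hna) h' hx) (H.le_VV (fbb hna) h' hy))
  have hne : rt a b ≠ rt (ng a) b := by
    intro e
    have := congrArg (cf a) e
    rw [cf_rt, cf_rt, dl_ng_right, dl_self, dl_ne hab] at this
    omega
  have k3 : ⁅x, y⁆ ∈ X (rt a b) ⊓ X (rt (ng a) b) := ⟨k1, k2⟩
  rw [Cfsg.Agent.Nodes.OppDec.X_inf_X C.rgd (isRoot_ne hab) (isRoot_ne hna) hne, Subgroup.mem_bot] at k3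
  exact commutatorElement_eq_one_iff_mul_comm.1 k3

theorem Hyp.std {a b : Fin n × Bool} (hab : a.1 ≠ b.1) (h : rt a b ∈ F) {u : Y} (hu : u ∈ Z (rt a (ng b))) :
    Std (VV cs (isCartan n) X (rt a b)) (Z (rt a b)) u :=
  BGam.std C H.hp (H.hF.sub _ h) (H.hF.sub _ (mate H.hF hab h)) (orth_mate hab) hu

theorem Hyp.quad {a b : Fin n × Bool} (hab : a.1 ≠ b.1) (h : rt a b ∈ F) {u : Y} (hu : u ∈ Z (rt a (ng b))) :
    ∀ x ∈ MM cs (isCartan n) X F (rt b b), u * ⁅u, x⁆ = ⁅u, x⁆ * u := by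
  have hs : rt a (ng b) ∈ F := mate H.hF hab h
  have hsR := H.hF.sub _ hs
  have hab' : a.1 ≠ (ng b).1 := by rwa [ng_fst]
  suffices h1 : MM cs (isCartan n) X F (rt b b) ≤ Quad (H.std hab h hu) from fun x hx => (h1 hx).2
  refine RGD.Sup_le fun y hy => ?_
  intro x hx
  have hy0 : 0 < form cs (isCartan n) y (rt a b) := (hy.2 _ h).1 (fbb hab)
  have hcase := lam_short H.hF hab.symm (H.symm h) hy
  have hya : cf a y = 0 := by
    rcases hcase with rfl | ⟨c, h1, h2, -, rfl⟩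
    · rw [cf_rt, dl_ne hab]; rfl
    · rw [cf_rt, dl_ne hab, dl_ne h2.symm]; rfl
  refine ⟨RGD.le_Sup (S := {y | IsRoot cs (isCartan n) y ∧ 0 < form cs (isCartan n) y (rt a b)}) ⟨hy.1, hy0⟩ hx, ?_⟩
  have key : ∀ w, Btwn cs (isCartan n) (rt a (ng b)) y w → 0 ≤ form cs (isCartan n) w (rt a (ng b)) := by
    intro w hw
    rcases hcase with rfl | ⟨c, h1, h2, -, rfl⟩
    · rcases (sq (cs := cs) hab).btwn' hw.symm with rfl | rfl
      · exact ((fpos hab').2 (by rw [cf_ng, cf_rt, cf_rt, dl_self, dl_ne hab.symm]; norm_num)).le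
      · exact (orth_mate hab).ge
    · have e : w = rt a c := by
        refine eq_rt_of_pos hw.1 h2.symm (btwn_pos' hw (cf a) ?_ ?_) (btwn_pos' hw.symm (cf c) ?_ ?_)
        · simp only [cf_rt, dl_self, dl_ne hab']; norm_num
        · simp only [cf_rt, dl_ne hab, dl_ne h2.symm]; norm_num
        · simp only [cf_rt, dl_self, dl_ne h1]; norm_num
        · simp only [cf_rt, dl_ng_right, dl_ne h1, dl_ne h2]; norm_num
      rw [e]
      exact ((fpos hab').2 (by rw [cf_ng, cf_rt, cf_rt, dl_self, dl_ne hab.symm, dl_ne h1.symm, dl_ne h2.symm]; norm_num)).le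
  obtain ⟨n1, n2⟩ := ne_of_cf (x := rt a (ng b)) (y := y) a (by rw [cf_rt, dl_self, dl_ne hab']; norm_num) hya
  have h2 : ⁅u, x⁆ ∈ Subgroup.centralizer {u} := by
    refine btw_le (fun w hw => ?_) (C.rgd.comm (rt a (ng b)) y (isRoot_ne hab') hy.1 n1 n2 u (C.le _ hsR hu) x hx)
    intro d hd
    rw [Subgroup.mem_centralizer_singleton_iff]
    exact C.cent _ hsR w hw.1 (key w hw) d hd u hu
  exact (Subgroup.mem_centralizer_singleton_iff.1 h2).symm

theorem Hyp.gam {a b : Fin n × Bool} (hab : a.1 ≠ b.1) (h : rt a b ∈ F) {u : Y} (hu : u ∈ Z (rt a (ng b))) :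
    Gam (MM cs (isCartan n) X F (rt b b)) (Z (rt a b)) u :=
  gam_abs (H.std hab h hu) (H.le_VV (fbb hab) h) (H.comm hab h) (H.quad hab h hu)

theorem Hyp.aniso {a b : Fin n × Bool} (hab : a.1 ≠ b.1) {u x : Y} (hu : u ∈ Z (rt a (ng b)))
    (hu1 : u ≠ 1) (hx : x ∈ X (rt b b)) (h1 : ⁅⁅u, x⁆, x⁆ = 1) : x = 1 := by
  have hab' : a.1 ≠ (ng b).1 := by rwa [ng_fst]
  exact Aniso.gam C Fact.out H.hp (sq hab) (rt_mem_RB hab) (rt_mem_RB hab') (H.XZ _ (rt_mem_RB hab)).symm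
    (H.XZ _ (rt_mem_RB hab')).symm hu hu1 hx (commutatorElement_eq_one_iff_mul_comm.1 h1)

theorem Hyp.tri {a b c : Fin n × Bool} (hab : a.1 ≠ b.1) (h : rt a b ∈ F) (hcb : c.1 ≠ b.1) (hca : c.1 ≠ a.1)
    (hc : ∀ d, c.1 ≠ d.1 → rt c d ∉ F) {u : Y} (hu : u ∈ Z (rt a (ng b))) (hu1 : u ≠ 1) :
    Tri (MM cs (isCartan n) X F (rt b b)) (Z (rt a b)) (X (rt b b)) (X (rt b c)) (X (rt b (ng c))) u := by
  have hab' : a.1 ≠ (ng b).1 := by rwa [ng_fst]
  have hcb' : (ng c).1 ≠ b.1 := by rwa [ng_fst]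
  have hca' : (ng c).1 ≠ a.1 := by rwa [ng_fst]
  have huX : u ∈ X (rt a (ng b)) := by rw [← H.XZ _ (rt_mem_RB hab')]; exact hu
  have hgX : ∀ x ∈ X (rt b c), ⁅u, x⁆ ∈ Z (rt a c) := fun x hx => by
    rw [H.XZ _ (rt_mem_RB hca.symm)]
    exact comm_ll C hab hcb.symm hca.symm huX hx
  have l0 : X (rt b b) ≤ MM cs (isCartan n) X F (rt b b) := X_le_MM (mem_Lam_self (isRoot_self b))
  have l1 : X (rt b c) ≤ MM cs (isCartan n) X F (rt b b) := X_le_MM (mem_lam H.hF hcb hc)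
  have l2 : X (rt b (ng c)) ≤ MM cs (isCartan n) X F (rt b b) := X_le_MM (mem_lam H.hF hcb' (H.un_ng hc))
  refine ⟨H.gam hab h hu, fun d hd => H.odd_Z (H.hF.sub _ h) hd, l0, l1, l2, ?_, ?_, ?_, ?_, fun x hx => H.aniso hab hu hu1 hx⟩
  · intro y hy
    have k1 : MM cs (isCartan n) X F (rt b b) ≤ (X (rt b c) ⊔ X (rt b b)) ⊔ X (rt b (ng c)) := by
      refine RGD.Sup_le fun t ht => ?_
      rcases lam_short H.hF hab.symm (H.symm h) ht with rfl | ⟨c', h1, h2, h3, rfl⟩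
      · exact le_sup_right.trans le_sup_left
      · have e : c'.1 = c.1 := by
          by_contra hne
          exact odd_one H.hF hne h3 hc
        rcases eq_of_fst e with e | e
        · rw [e]; exact le_sup_left.trans le_sup_left
        · rw [e]; exact le_sup_right
    have hcm := H.comm hab h
    obtain ⟨v, hv, d, hd, e⟩ := mem_sup_of_cm (fun s hs t ht => hcm s (sup_le l1 l0 hs) t (l2 ht)) (k1 hy)
    obtain ⟨v', hv', d', hd', e'⟩ := mem_sup_of_cm (fun s hs t ht => hcm s (l1 hs) t (l0 ht)) hv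
    exact ⟨v', hv', d', hd', d, hd, by rw [e, e']⟩
  · intro x hx y hy
    rw [commutatorElement_eq_one_iff_mul_comm]
    refine (C.cent _ (rt_mem_RB hca.symm) (rt b c) (isRoot_ne hcb.symm) ?_ y hy _ (hgX x hx)).symm
    exact ((fpos hca.symm).2 (by rw [cf_rt, cf_rt, dl_self, dl_ne hab, dl_ne hca.symm, dl_ne hcb]; norm_num)).le
  · intro x hx y hy
    rw [commutatorElement_eq_one_iff_mul_comm]
    refine (C.cent _ (rt_mem_RB hca.symm) (rt b b) (isRoot_self b) ?_ y hy _ (hgX x hx)).symm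
    exact ((fzero hca.symm).2 (by rw [cf_rt, cf_rt, dl_ne hab, dl_ne hcb]; norm_num)).ge
  · intro x hx hx1 y hy h1
    have k1 : ⁅u, x⁆ ≠ 1 := fun h0 => hx1 (one_ll C hab hcb.symm hca.symm huX hu1 hx h0)
    have k2 : ⁅u, x⁆ ∈ X (rt a (ng (ng c))) := by
      rw [ng_ng]
      exact comm_ll C hab hcb.symm hca.symm huX hx
    exact one_ll C hca'.symm hcb' hab k2 k1 (by rw [rt_comm]; exact hy) h1

/-! ### Transitivity -/

theorem Hyp.th {a b d : Fin n × Bool} (hab : a.1 ≠ b.1) (hbd : b.1 ≠ d.1) (had : a.1 ≠ d.1) :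
    Tor.TH C (rt a b) (rt b d) where
  hr := rt_mem_RB hab
  hy := isRoot_ne hbd
  one := by
    rw [two_form_cpr cs (isCartan n) _ (isRoot_ne hab), cpr_ne _ hab, cf_rt, cf_rt, dl_ne hab, dl_ne had, dl_self, dl_ne hbd]
    norm_num
  len := by
    have h1 := form_pos cs (isCartan n) (isRoot_ne (cs := cs) hbd).ne_zero
    have h2 := form_long_eq (cs := cs) hab hbd
    omega
  btw := by
    intro w hw
    rw [← rt_ng] at hw
    have hna : (ng a).1 ≠ d.1 := by rwa [ng_fst]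
    have k1 : w = rt (ng a) d := by
      refine eq_rt_of_pos hw.1 hna (btwn_pos' hw (cf (ng a)) ?_ ?_) (btwn_pos' hw.symm (cf d) ?_ ?_)
      · simp only [cf_rt, dl_self, dl_ng_right, dl_ng_left, dl_ne hab]; norm_num
      · simp only [cf_rt, dl_ng_left, dl_ne hab, dl_ne had]; norm_num
      · simp only [cf_rt, dl_self, dl_ne hbd.symm]; norm_num
      · simp only [cf_rt, dl_ng_right, dl_ne hbd.symm, dl_ne had.symm]; norm_num
    rw [k1]
    refine ((fneg hab).2 ?_).le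
    simp only [cf_rt, dl_ng_right, dl_self, dl_ne hab.symm, dl_ne hbd, dl_ne had]; norm_num
  btw' := by
    intro w hw
    have k1 : w = rt b d := by
      refine eq_rt_of_pos hw.1 hbd (btwn_pos' hw (cf b) ?_ ?_) (btwn_pos' hw.symm (cf d) ?_ ?_)
      · simp only [cf_rt, dl_self, dl_ne hab.symm]; norm_num
      · simp only [map_sub, cf_rt, dl_self, dl_ne hab.symm, dl_ne hbd]; norm_num
      · simp only [map_sub, cf_rt, dl_self, dl_ne hbd.symm, dl_ne had.symm]; norm_num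
      · simp only [cf_rt, dl_ne hbd.symm, dl_ne had.symm]; norm_num
    rw [k1]
    refine ((fpos hab).2 ?_).le
    simp only [cf_rt, dl_self, dl_ne hab, dl_ne hbd, dl_ne had]; norm_num
  XZ := (H.XZ _ (rt_mem_RB hab)).symm
  XZ' := (H.XZ _ (Nodes.ClsNorm.neg_mem C (rt_mem_RB hab))).symm

theorem Hyp.card {a b c d : Fin n × Bool} (hab : a.1 ≠ b.1) (hcd : c.1 ≠ d.1) :
    Nat.card (X (rt c d)) = Nat.card (Z (rt a b)) := by
  obtain ⟨w, hw⟩ := trans_RB (cs := cs) _ (rt_mem_RB hab) _ (rt_mem_RB hcd)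
  obtain ⟨k, hk⟩ := exists_rp cs C.rgd.nsys w
  have h1 := conj_Z C hk (rt_mem_RB hab)
  rw [← hw] at h1
  rw [← H.XZ _ (rt_mem_RB hcd), ← h1]
  exact Nat.card_congr (Subgroup.equivMapOfInjective _ _ (MulAut.conj k).injective).toEquiv.symm

/-- `e` centralises `X (rt b d)` if `K` normalises it -/
theorem Hyp.cent {a b d : Fin n × Bool} (hab : a.1 ≠ b.1) (h : rt a b ∈ F) (hbd : b.1 ≠ d.1) (had : a.1 ≠ d.1)
    {K : Subgroup Y} {e : Y} (hK : QK K e) (hcen : Cen C F K)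
    (hKP : ∀ k ∈ K, ∀ x ∈ X (rt b d), k * x * k⁻¹ ∈ X (rt b d)) {x : Y} (hx : x ∈ X (rt b d)) : e * x = x * e := by
  have hTH := H.th hab hbd had
  refine hK.cent_of_trans (P := X (rt b d)) (fun s hs t ht => ?_)
    (S := ((T ⊓ (Z (rt a b) ⊔ Z (-rt a b)) : Subgroup Y) : Set Y)) (fun t ht s hs => ?_)
    (fun s hs t ht hs1 ht1 => hTH.trans (H.card hab hbd) hs hs1 ht ht1) hKP (fun k hk t ht => ?_) hx
  · exact C.cent _ (rt_mem_RB hbd) _ (isRoot_ne hbd) (form_pos cs (isCartan n) (isRoot_ne (cs := cs) hbd).ne_zero).le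
      s hs t (by rw [H.XZ _ (rt_mem_RB hbd)]; exact ht)
  · have h1 := C.rgd.tor _ (isRoot_ne hbd) t ht.1
    rw [← h1, mem_cj]
    have : t⁻¹ * (t * s * t⁻¹) * t = s := by group
    rwa [this]
  · have h1 : Z (rt a b) ⊔ Z (-rt a b) ≤ Subgroup.centralizer {k} := by
      refine sup_le (fun s hs => ?_) (fun s hs => ?_)
      · exact Subgroup.mem_centralizer_singleton_iff.2 (hcen.comm _ h s hs k hk).symm
      · exact Subgroup.mem_centralizer_singleton_iff.2 (hcen.comm _ (H.hF.neg _ h) s hs k hk).symm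
    exact (Subgroup.mem_centralizer_singleton_iff.1 (h1 ht.2)).symm

/-- `e` centralises `X (rt b c)`, `c` paired -/
theorem Hyp.long {a b c d : Fin n × Bool} (hab : a.1 ≠ b.1) (h : rt a b ∈ F) (hcd : c.1 ≠ d.1) (h' : rt c d ∈ F)
    (hbc : b.1 ≠ c.1) (hac : a.1 ≠ c.1) {K : Subgroup Y} {e : Y} (hK : QK K e) (hcen : Cen C F K) {x : Y}
    (hx : x ∈ X (rt b c)) : e * x = x * e := by
  have hM : MM cs (isCartan n) X F (rt b c) = X (rt b c) := by
    apply le_antisymm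
    · refine RGD.Sup_le fun t ht => ?_
      rw [lam_long H.hF hab.symm (H.symm h) hcd h' hbc hac ht]
    · exact X_le_MM (mem_Lam_self (isRoot_ne hbc))
  refine H.cent hab h hbc hac hK hcen (fun k hk y hy => ?_) hx
  rw [← hM] at hy ⊢
  refine wt_inv C H.hT H.hF.sub h ?_ hcen hk hy
  rw [fpos hab, cf_rt, cf_rt, dl_self, dl_ne hab, dl_ne hac, dl_ne hbc]; norm_num

/-! ### The unpaired index -/

theorem Hyp.cen_conj {c : Fin n × Bool} (hc : ∀ d, c.1 ≠ d.1 → rt c d ∉ F) {g : Y} (hg : g ∈ X (rt c c))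
    {K : Subgroup Y} (hcen : Cen C F K) : Cen C F (cj g K) := by
  have hgZ : ∀ t ∈ F, ∀ a ∈ Z t, g * a = a * g := fun t ht a ha =>
    C.cent t (H.hF.sub _ ht) (rt c c) (isRoot_self c) (H.orth hc ht).ge g hg a ha
  refine ⟨fun t ht a ha k hk => ?_, fun k hk => ?_⟩
  · rw [mem_cj] at hk
    have h1 := hcen.comm t ht a ha _ hk
    have h2 := hgZ t ht a ha
    have h3 : g⁻¹ * a = a * g⁻¹ := by
      calc g⁻¹ * a = g⁻¹ * (a * g) * g⁻¹ := by group
        _ = g⁻¹ * (g * a) * g⁻¹ := by rw [h2]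
        _ = a * g⁻¹ := by group
    calc k * a = g * (g⁻¹ * k * g) * (g⁻¹ * a) := by group
      _ = g * ((g⁻¹ * k * g) * a) * g⁻¹ := by rw [h3]; group
      _ = (g * a) * (g⁻¹ * k * g) * g⁻¹ := by rw [h1]; group
      _ = a * k := by rw [h2]; group
  · rw [mem_cj] at hk
    have h1 := hcen.nor _ hk
    have h2 : g ∈ Subgroup.normalizer (G1 cs (isCartan n) X : Set Y) :=
      Subgroup.le_normalizer (X_le_G1 (isRoot_self c) hg)
    have h3 : k = g * (g⁻¹ * k * g) * g⁻¹ := by group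
    rw [h3]
    exact mul_mem (mul_mem h2 h1) (inv_mem h2)

/-- no element of `X (rt b c)`, `c` unpaired, is inverted by `e` -/
theorem Hyp.key {a b c : Fin n × Bool} (hab : a.1 ≠ b.1) (h : rt a b ∈ F) (hcb : c.1 ≠ b.1) (hca : c.1 ≠ a.1)
    (hc : ∀ d, c.1 ≠ d.1 → rt c d ∉ F) {u : Y} (hu : u ∈ Z (rt a (ng b))) (hu1 : u ≠ 1)
    {K : Subgroup Y} {e : Y} (hK : QK K e) (hcen : Cen C F K) {x : Y} (hx : x ∈ X (rt b c))
    (hex : e * x * e⁻¹ = x⁻¹) : x = 1 := by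
  by_contra hx1
  have hs : rt a (ng b) ∈ F := mate H.hF hab h
  have S := H.tri hab h hcb hca hc hu hu1
  have h1 := S.norm hK (fun k hk y hy => wt_inv C H.hT H.hF.sub h (fbb hab) hcen hk hy)
    (fun k hk => hcen.comm _ hs u hu k hk) (fun k hk d hd => hcen.comm _ h d hd k hk) hx hx1 hex
  have h2 := H.cent hab h hcb.symm hca.symm hK hcen h1 hx
  rw [h2, mul_inv_cancel_right] at hex
  apply hx1
  refine H.odd_Z (rt_mem_RB hcb.symm) (by rw [H.XZ _ (rt_mem_RB hcb.symm)]; exact hx) ?_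
  nth_rw 1 [hex]
  exact inv_mul_cancel x

theorem Hyp.sing {a b : Fin n × Bool} (hab : a.1 ≠ b.1) (h : rt a b ∈ F) {u : Y} (hu : u ∈ Z (rt a (ng b)))
    (hu1 : u ≠ 1) {K : Subgroup Y} {e : Y} (hK : QK K e) (hcen : Cen C F K) {x : Y}
    (hx : x ∈ MM cs (isCartan n) X F (rt b b)) (hex : e * x * e⁻¹ = x⁻¹) (h1 : ⁅⁅u, x⁆, x⁆ = 1) : x = 1 := by
  have hab' : a.1 ≠ (ng b).1 := by rwa [ng_fst]
  by_cases hc : ∃ c : Fin n × Bool, c.1 ≠ b.1 ∧ c.1 ≠ a.1 ∧ ∀ d, c.1 ≠ d.1 → rt c d ∉ F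
  · obtain ⟨c, hcb, hca, hc⟩ := hc
    have hcb' : (ng c).1 ≠ b.1 := by rwa [ng_fst]
    have hca' : (ng c).1 ≠ a.1 := by rwa [ng_fst]
    have hc' := H.un_ng hc
    have S := H.tri hab h hcb hca hc hu hu1
    have S' := H.tri hab h hcb' hca' hc' hu hu1
    rw [ng_ng] at S'
    have hPZ : ∀ g ∈ X (rt c c), ∀ t ∈ F, ∀ d ∈ Z t, g * d = d * g := fun g hg t ht d hd =>
      C.cent t (H.hF.sub _ ht) (rt c c) (isRoot_self c) (H.orth hc ht).ge g hg d hd
    have hmove : x ∈ X (rt b c) ∨ ∃ g ∈ X (rt c c), g * x * g⁻¹ ∈ X (rt b (ng c)) := by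
      refine S.move S' (P := X (rt c c)) (H.comm hab h) (fun g hg => hPZ g hg _ (mate H.hF hab h) u hu)
        (fun g hg d hd => hPZ g hg _ h d hd) (fun g hg y hy => ?_) (fun g hg y hy => ?_)
        (fun w hw hw1 v hv => ?_) hx h1
      · -- `X (rt c c)` commutes with `X (rt b c)`
        refine C.cent _ (rt_mem_RB hcb.symm) (rt c c) (isRoot_self c) ?_ g hg y
          (by rw [H.XZ _ (rt_mem_RB hcb.symm)]; exact hy)
        exact ((fpos hcb.symm).2 (by rw [cf_rt, cf_rt, dl_self, dl_ne hcb.symm]; norm_num)).le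
      · have Sc := sq (cs := cs) hcb.symm
        exact comm_in C.rgd (isRoot_self c) (isRoot_self b) Sc.ne₁ Sc.ne₂ (fun w hw => Sc.btwn hw) hg hy
      · have hbc' : b.1 ≠ (ng c).1 := by rwa [ng_fst, ne_comm]
        exact BGam.surj C (sq hcb.symm) (rt_mem_RB hcb.symm) (rt_mem_RB hbc') (H.XZ _ (rt_mem_RB hcb.symm)).symm
          (H.XZ _ (rt_mem_RB hbc')).symm hw hw1 hv
    rcases hmove with h2 | ⟨g, hg, h2⟩
    · exact H.key hab h hcb hca hc hu hu1 hK hcen h2 hex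
    · have h3 : g * x * g⁻¹ = 1 := by
        refine H.key hab h hcb' hca' hc' hu hu1 (hK.conj g) (H.cen_conj hc hg hcen) h2 ?_
        calc g * e * g⁻¹ * (g * x * g⁻¹) * (g * e * g⁻¹)⁻¹ = g * (e * x * e⁻¹) * g⁻¹ := by group
          _ = _ := by rw [hex]; group
      calc x = g⁻¹ * (g * x * g⁻¹) * g := by group
        _ = 1 := by rw [h3]; group
  · push Not at hc
    have k1 : MM cs (isCartan n) X F (rt b b) ≤ X (rt b b) := by
      refine RGD.Sup_le fun t ht => ?_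
      rcases lam_short H.hF hab.symm (H.symm h) ht with rfl | ⟨c', h1, h2, h3, rfl⟩
      · exact le_rfl
      · obtain ⟨d, h4, h5⟩ := hc c' h1 h2
        exact absurd h5 (h3 d h4)
    exact H.aniso hab hu hu1 (k1 hx) h1

/-- **`e` centralises the weight group of a short root.** -/
theorem Hyp.short {a b : Fin n × Bool} (hab : a.1 ≠ b.1) (h : rt a b ∈ F)
    {K : Subgroup Y} {e : Y} (hK : QK K e) (hcen : Cen C F K) :
    ∀ x ∈ MM cs (isCartan n) X F (rt b b), e * x = x * e := by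
  have hs : rt a (ng b) ∈ F := mate H.hF hab h
  obtain ⟨u, hu, hu1⟩ : ∃ u ∈ Z (rt a (ng b)), u ≠ 1 := by
    by_contra hcon
    push Not at hcon
    exact C.ne_bot _ (H.hF.sub _ hs) ((Subgroup.eq_bot_iff_forall _).2 hcon)
  have g := H.gam hab h hu
  refine LAbs.la H.hp hK (H.comm hab h) ?_ (fun k hk y hy => wt_inv C H.hT H.hF.sub h (fbb hab) hcen hk hy)
    (fun k hk => hcen.comm _ hs u hu k hk) (fun k hk d hd => hcen.comm _ h d hd k hk) g.mem
    (H.exp _ (H.hF.sub _ h)) (fun d hd d' hd' => ?_) g.mulL g.symm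
    (fun x hx hex h1 => H.sing hab h hu hu1 hK hcen hx hex h1)
  · exact (odd_card_VV C H.hp (rt a b)).of_dvd_nat (Subgroup.card_dvd_of_le (H.le_VV (fbb hab) h))
  · exact VV_comm C (H.hF.sub _ h) hd (Z_le_VV C (H.hF.sub _ h) hd')

/-- **`e` centralises `L`.** -/
theorem Hyp.triv (hn : 2 ≤ n)
    (hirr : ∀ J : Set (Fin n), J.Nonempty → J ≠ Set.univ → ∃ a ∈ J, ∃ b, b ∉ J ∧ (CoxeterMatrix.B n) a b ≠ 2)
    {K : Subgroup Y} {e : Y} (hK : QK K e) (hcen : Cen C F K) : Triv C e := by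
  have hpos : ∀ {a b : Fin n × Bool}, a.1 ≠ b.1 → rt a b ∈ F → ∀ y, IsRoot cs (isCartan n) y → 0 < cf b y →
      Phi.Fx X e y := by
    intro a b hab h y hy h0 x hx
    rcases cases_pos hy h0 with rfl | ⟨c, hcb, rfl⟩
    · exact H.short hab h hK hcen x (X_le_MM (mem_Lam_self (isRoot_self b)) hx)
    · by_cases hca : c.1 = a.1
      · have h1 : rt b c ∈ F := by
          rcases eq_of_fst hca with rfl | rfl
          · exact H.symm h
          · exact mate H.hF hab.symm (H.symm h)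
        exact hcen.comm _ h1 x (by rw [H.XZ _ (H.hF.sub _ h1)]; exact hx) e hK.mem
      · by_cases hc : ∃ d : Fin n × Bool, c.1 ≠ d.1 ∧ rt c d ∈ F
        · obtain ⟨d, hcd, hd⟩ := hc
          exact H.long hab h hcd hd hcb.symm (fun e => hca e.symm) hK hcen hx
        · push Not at hc
          exact H.short hab h hK hcen x (X_le_MM (mem_lam H.hF hcb hc) hx)
  have h01 : ((⟨0, by omega⟩, true) : Fin n × Bool).1 ≠ ((⟨1, by omega⟩, true) : Fin n × Bool).1 := by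
    simp
  obtain ⟨r, hr, -⟩ := H.hF.max _ (rt_mem_RB h01)
  obtain ⟨a, b, hab, rfl⟩ := mem_RB.1 (H.hF.sub r hr)
  have hneg : rt (ng a) (ng b) ∈ F := by rw [rt_ng]; exact H.hF.neg _ hr
  have hab' : (ng a).1 ≠ (ng b).1 := by simpa using hab
  refine Phi.triv_of_ne hirr C (isRoot_ne hab) fun y hy h0 => ?_
  rw [Ne, fzero hab] at h0
  by_cases h1 : cf b y = 0
  · rcases pos_or a y (by omega) with h2 | h2
    · exact hpos hab.symm (H.symm hr) y hy h2
    · exact hpos hab'.symm (H.symm hneg) y hy h2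
  · rcases pos_or b y h1 with h2 | h2
    · exact hpos hab hr y hy h2
    · exact hpos hab' hneg y hy h2

end Cfsg.Agent.LOC.TypeB

/-! ### Charts of type `B n` -/

namespace Cfsg.Agent.LOC.TypeB

open Cfsg.Agent.Nodes.Chart Cfsg.Agent.LOC.ChartDefs

variable {G : Type*} [Group G] [Finite G] {Om : Set (Subgroup G)} {p : ℕ} {L : Subgroup G} (c : Chart Om p L) {n : ℕ}

/-- **Type `B n`, `n ≥ 2`: `e` centralises `L`.** -/
theorem triv (hτ : c.IsTy (.B n)) (hn : 2 ≤ n) (hXZ : ∀ r ∈ c.R, c.Z r = c.X r)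
    (hexp : ∀ r ∈ c.R, ∀ x ∈ c.Z r, x ^ p = 1) {F : Set (c.I → ℤ)} (hF : MaxF c.cls F) :
    ∀ (K : Subgroup G) (e : G), QK K e → Cen c.cls F K → Triv c.cls e := by
  have : Fact p.Prime := ⟨c.prime⟩
  refine BReidx.triv_B c hτ hXZ hexp hF ?_
  intro W' _ _ cs' T nn X Z z C F hF hT hirr hZX hexp K e hK hcen
  exact (Hyp.mk hF c.odd hT hZX hexp : Hyp C F).triv hn hirr hK hcen

/-- **Type `B n`, `n ≥ 2`.** -/
theorem out (hτ : c.IsTy (.B n)) (hn : 2 ≤ n) (hXZ : ∀ r ∈ c.R, c.Z r = c.X r)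
    (hexp : ∀ r ∈ c.R, ∀ x ∈ c.Z r, x ^ p = 1) {F : Set (c.I → ℤ)} (hF : MaxF c.cls F) : Out c.cls F :=
  Out.of_triv (triv c hτ hn hXZ hexp hF)

/-- the form with `SL₂` -/
theorem out_of_sl {K₀ : Type*} [Field K₀] [Fintype K₀] [CharP K₀ p] (hτ : c.IsTy (.B n)) (hn : 2 ≤ n)
    (hXZ : ∀ r ∈ c.R, c.Z r = c.X r)
    (hsl : ∀ r ∈ c.R, Nonempty (Matrix.SpecialLinearGroup (Fin 2) K₀ ≃* ↥(c.Z r ⊔ c.Z (-r))))
    {F : Set (c.I → ℤ)} (hF : MaxF c.cls F) : Out c.cls F :=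
  out c hτ hn hXZ (BReidx.hexp_of_sl c hsl) hF

end Cfsg.Agent.LOC.TypeB
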