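import Mathlib
import Cfsg.Agent.Cit.Nil.LO.ChartSimply

/-!
# Lie odd sections, the chart part: two commuting `Q₈` with the same involution (S1309, (CV), helper542 #18852)

* `Out2 C F` : `K`, `K'` commute and have the same involution `e`: `e` centralises `L`; `Out2.of_triv`;
* `alt_two` : on a plane with an alternating form: `a a'` and `b a'` are involutions, so `± 1` on `M / N` (`alt_grp`), so
  `a = ± b` there and `e = [a, b]` is trivial;
* `Simply.out2` : `Out2` for the simply laced types.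
-/

set_option autoImplicit false
set_option linter.unusedSectionVars false
set_option linter.dupNamespace false

namespace Cfsg.Agent.LOC.OutTwo

open CoxeterSystem Cfsg.Agent.ChevalleyStructure.CoxeterGeom Cfsg.Agent.Tits.Roots Cfsg.Agent.Tits.Core
  Cfsg.Agent.Tits.RootComb Cfsg.Agent.Nodes.Comb Cfsg.Agent.Nodes.Reps Cfsg.Agent.Nodes.BNOf
  Cfsg.Agent.Nodes.RGDLib Cfsg.Agent.Nodes.PosPair Cfsg.Agent.Nodes.Chart
  Cfsg.Agent.Nodes.Coroot Cfsg.Agent.Nodes.SimplyLaced Cfsg.Agent.Nodes.OppDec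
  Cfsg.Agent.LOC.ChartDefs Cfsg.Agent.LOC.Wt Cfsg.Agent.LOC.FormGrp Cfsg.Agent.LOC.SL Cfsg.Agent.LOC.Simply
open scoped commutatorElement

/-! ### The plane -/

section plane

variable {G : Type*} [Group G]

/-- **Two commuting `Q₈` with the same involution on a plane with an alternating form.** -/
theorem alt_two [Finite G] {M N : Subgroup G} (D : AltD M N) {K K' : Subgroup G} {e : G} (hK : QK K e)
    (hK' : QK K' e) (hKM : K ≤ Subgroup.normalizer (M : Set G)) (hKM' : K' ≤ Subgroup.normalizer (M : Set G))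
    (hKN : ∀ k ∈ K, ∀ c ∈ N, k * c = c * k) (hKN' : ∀ k ∈ K', ∀ c ∈ N, k * c = c * k)
    (hKK : ∀ a ∈ K, ∀ b ∈ K', a * b = b * a) : ∀ m ∈ M, e * m * e⁻¹ * m⁻¹ ∈ N := by
  obtain ⟨a, ha, b, hb, haa, hbb, hab⟩ := hK.com
  obtain ⟨c, hc, -, -, hcc, -, -⟩ := hK'.com
  -- an involution `x c`
  have key : ∀ x ∈ K, x * x = e → (∀ m ∈ M, (x * c) * m * (x * c)⁻¹ * m⁻¹ ∈ N) ∨
      ∀ m ∈ M, (x * c) * m * (x * c)⁻¹ * m ∈ N := by
    intro x hx hxx
    have h1 : x * c * (x * c) = 1 := by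
      calc x * c * (x * c) = x * (c * x) * c := by group
        _ = (x * x) * (c * c) := by rw [← hKK x hx c hc]; group
        _ = 1 := by rw [hxx, hcc, hK.sq]
    refine alt_grp D.le D.cen D.comm D.odd D.card D.nd h1 (mul_mem (hKM hx) (hKM' hc)) (fun d hd => ?_)
    calc x * c * d = x * (c * d) := by group
      _ = (x * d) * c := by rw [hKN' c hc d hd]; group
      _ = d * (x * c) := by rw [hKN x hx d hd]; group
  -- `s = a b⁻¹` is `± 1` on `M / N`
  have conjN : ∀ g : G, (∀ d ∈ N, g * d = d * g) → ∀ d ∈ N, g * d * g⁻¹ = d := fun g hg d hd => by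
    rw [hg d hd]; group
  have hcN : ∀ x ∈ K, ∀ d ∈ N, (x * c) * d = d * (x * c) := by
    intro x hx d hd
    calc x * c * d = x * (c * d) := by group
      _ = (x * d) * c := by rw [hKN' c hc d hd]; group
      _ = d * (x * c) := by rw [hKN x hx d hd]; group
  have hs : (∀ m ∈ M, (a * b⁻¹) * m * (a * b⁻¹)⁻¹ * m⁻¹ ∈ N) ∨ ∀ m ∈ M, (a * b⁻¹) * m * (a * b⁻¹)⁻¹ * m ∈ N := by
    have e1 : a * b⁻¹ = (a * c) * (b * c)⁻¹ := by group
    -- the action of `(b c)⁻¹`
    have hbM : ∀ m ∈ M, (b * c)⁻¹ * m * (b * c) ∈ M := by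
      intro m hm
      have := conj_mem (inv_mem (mul_mem (hKM hb) (hKM' hc))) hm
      rwa [inv_inv] at this
    have hinv : (∀ m ∈ M, (b * c)⁻¹ * m * (b * c) * m⁻¹ ∈ N) ∨ ∀ m ∈ M, (b * c)⁻¹ * m * (b * c) * m ∈ N := by
      rcases key b hb hbb with h2 | h2
      · left
        intro m hm
        have h3 := h2 _ (hbM m hm)
        have h4 : b * c * ((b * c)⁻¹ * m * (b * c)) * (b * c)⁻¹ * ((b * c)⁻¹ * m * (b * c))⁻¹ =
            ((b * c)⁻¹ * m * (b * c) * m⁻¹)⁻¹ := by group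
        rw [h4] at h3
        exact inv_mem_iff.1 h3
      · right
        intro m hm
        have h3 := h2 _ (hbM m hm)
        have h4 : b * c * ((b * c)⁻¹ * m * (b * c)) * (b * c)⁻¹ * ((b * c)⁻¹ * m * (b * c)) =
            m * ((b * c)⁻¹ * m * (b * c)) := by group
        rw [h4] at h3
        have h5 : (b * c)⁻¹ * m * (b * c) * m = m * ((b * c)⁻¹ * m * (b * c)) * m * m⁻¹ := by
          have h6 : m * ((b * c)⁻¹ * m * (b * c)) * m = m * (m * ((b * c)⁻¹ * m * (b * c))) := by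
            have := D.cen _ h3 m hm
            rw [this]
          have h7 : (b * c)⁻¹ * m * (b * c) * m = m⁻¹ * (m * ((b * c)⁻¹ * m * (b * c)) * m) := by group
          rw [h7, h6]
          have h8 : m * ((b * c)⁻¹ * m * (b * c)) * m * m⁻¹ = m * ((b * c)⁻¹ * m * (b * c)) := by group
          rw [← mul_assoc m⁻¹, inv_mul_cancel, one_mul]
          rw [← h6]
          group
        rw [h5]
        have h8 : m * ((b * c)⁻¹ * m * (b * c)) * m * m⁻¹ = m * ((b * c)⁻¹ * m * (b * c)) := by group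
        rw [h8]
        exact h3
    have step : ∀ m ∈ M, (a * b⁻¹) * m * (a * b⁻¹)⁻¹ =
        (a * c) * ((b * c)⁻¹ * m * (b * c)) * (a * c)⁻¹ := by
      intro m _
      rw [e1]; group
    have swapN : ∀ d ∈ N, ∀ m ∈ M, d * m = m * d := D.cen
    rcases key a ha haa with h2 | h2 <;> rcases hinv with h3 | h3
    · left
      intro m hm
      rw [step m hm]
      have h4 := h2 _ (hbM m hm)
      have h5 := h3 m hm
      have h6 : a * c * ((b * c)⁻¹ * m * (b * c)) * (a * c)⁻¹ * m⁻¹ =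
          (a * c * ((b * c)⁻¹ * m * (b * c)) * (a * c)⁻¹ * ((b * c)⁻¹ * m * (b * c))⁻¹) *
            ((b * c)⁻¹ * m * (b * c) * m⁻¹) := by group
      rw [h6]
      exact mul_mem h4 h5
    · right
      intro m hm
      rw [step m hm]
      have h4 := h2 _ (hbM m hm)
      have h5 := h3 m hm
      have h6 : a * c * ((b * c)⁻¹ * m * (b * c)) * (a * c)⁻¹ * m =
          (a * c * ((b * c)⁻¹ * m * (b * c)) * (a * c)⁻¹ * ((b * c)⁻¹ * m * (b * c))⁻¹) *
            ((b * c)⁻¹ * m * (b * c) * m) := by group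
      rw [h6]
      exact mul_mem h4 h5
    · right
      intro m hm
      rw [step m hm]
      set w := (b * c)⁻¹ * m * (b * c) with hw
      have h4 := h2 w (hbM m hm)
      have h5 := h3 m hm
      -- `(a c) w (a c)⁻¹ = d w⁻¹`, `w = d' m`
      have h6 : a * c * w * (a * c)⁻¹ * m = (a * c * w * (a * c)⁻¹ * w) * (w⁻¹ * m) := by group
      have h7 : w⁻¹ * m = ((w * m⁻¹)⁻¹ : G) := by
        have h8 : w * m⁻¹ * m = m * (w * m⁻¹) := swapN _ h5 m hm
        have h9 : w * m⁻¹ = m⁻¹ * w := by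
          calc w * m⁻¹ = m⁻¹ * (m * (w * m⁻¹)) := by group
            _ = m⁻¹ * (w * m⁻¹ * m) := by rw [h8]
            _ = m⁻¹ * w := by group
        rw [h9]; group
      rw [h6, h7]
      exact mul_mem h4 (inv_mem h5)
    · left
      intro m hm
      rw [step m hm]
      set w := (b * c)⁻¹ * m * (b * c) with hw
      have h4 := h2 w (hbM m hm)
      have h5 := h3 m hm
      have h6 : a * c * w * (a * c)⁻¹ * m⁻¹ = (a * c * w * (a * c)⁻¹ * w) * (w⁻¹ * m⁻¹) := by group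
      have h7 : w⁻¹ * m⁻¹ = ((m * w)⁻¹ : G) := by group
      have h8 : m * w = w * m := by
        have h9 : w * m * m = m * (w * m) := swapN _ h5 m hm
        calc m * w = (m * (w * m)) * m⁻¹ := by group
          _ = (w * m * m) * m⁻¹ := by rw [h9]
          _ = w * m := by group
      rw [h6, h7, h8]
      exact mul_mem h4 (inv_mem h5)
  -- `e = [a b⁻¹, b]` is trivial on `M / N`
  have hee : e = (a * b⁻¹) * b * (a * b⁻¹)⁻¹ * b⁻¹ := by
    have : (a * b⁻¹) * b * (a * b⁻¹)⁻¹ * b⁻¹ = (a * b) * (b * a)⁻¹ := by group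
    rw [this, hab]; group
  intro m hm
  set s := a * b⁻¹ with hsd
  have hsM : s ∈ Subgroup.normalizer (M : Set G) := mul_mem (hKM ha) (inv_mem (hKM hb))
  have hbN : ∀ d ∈ N, b * d * b⁻¹ = d := conjN b (hKN b hb)
  have hbN' : ∀ d ∈ N, b⁻¹ * d * b = d := by
    intro d hd
    have := hbN d hd
    calc b⁻¹ * d * b = b⁻¹ * (b * d * b⁻¹) * b := by rw [this]
      _ = d := by group
  -- `u = b⁻¹ m b`, `s⁻¹ u s`
  set u := b⁻¹ * m * b with hu
  have huM : u ∈ M := by
    have := conj_mem (inv_mem (hKM hb)) hm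
    rwa [inv_inv] at this
  set w := s⁻¹ * u * s with hw
  have hwM : w ∈ M := by
    have := conj_mem (inv_mem hsM) huM
    rwa [inv_inv] at this
  have e1 : e * m * e⁻¹ = s * (b * w * b⁻¹) * s⁻¹ := by
    rw [hw, hu, hee]; group
  have e2 : s * w * s⁻¹ = u := by rw [hw]; group
  have hbw : b * w * b⁻¹ ∈ M := conj_mem (hKM hb) hwM
  rcases hs with hs | hs
  · -- `s` trivial
    have h3 := hs w hwM
    rw [e2] at h3
    have h4 := hs _ hbw
    have h5 : e * m * e⁻¹ * m⁻¹ = (s * (b * w * b⁻¹) * s⁻¹ * (b * w * b⁻¹)⁻¹) * (b * (w * u⁻¹) * b⁻¹) := by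
      rw [e1, hu]; group
    have h6 : w * u⁻¹ ∈ N := by
      have : w * u⁻¹ = (u * w⁻¹)⁻¹ := by group
      rw [this]
      exact inv_mem h3
    rw [h5, hbN _ h6]
    exact mul_mem h4 h6
  · -- `s` inverts
    have h3 := hs w hwM
    rw [e2] at h3
    have h4 := hs _ hbw
    have h5 : e * m * e⁻¹ * m⁻¹ = (s * (b * w * b⁻¹) * s⁻¹ * (b * w * b⁻¹)) * (b * (u * w)⁻¹ * b⁻¹) := by
      rw [e1, hu]; group
    rw [h5, hbN _ (inv_mem h3)]
    exact mul_mem h4 (inv_mem h3)

end plane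

variable {I W Y : Type*} [Fintype I] [DecidableEq I] [Group W] [Fintype W] [Group Y] {M : CoxeterMatrix I}
  {cs : CoxeterSystem M W} {A : I → I → ℤ} {h : IsCartan M A} {p : ℕ} {T : Subgroup Y} {n : I → Y}
  {X : (I → ℤ) → Subgroup Y} {R : Set (I → ℤ)} {Z : (I → ℤ) → Subgroup Y} {z : (I → ℤ) → Y}

/-- **The second output for a type**: two commuting `Q₈` with the same involution `e`: `e` centralises `L`. -/
def Out2 (C : Cls cs h p T n X R Z z) (F : Set (I → ℤ)) : Prop :=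
  ∀ (K K' : Subgroup Y) (e : Y), QK K e → QK K' e → Cen C F K → Cen C F K' →
    (∀ a ∈ K, ∀ b ∈ K', a * b = b * a) → Triv C e

theorem Out2.of_triv {C : Cls cs h p T n X R Z z} {F : Set (I → ℤ)}
    (H : ∀ (K : Subgroup Y) (e : Y), QK K e → Cen C F K → Triv C e) : Out2 C F :=
  fun K _ e hK _ hc _ _ => H K e hK hc

section simply

variable {C : Cls cs h p T n X R Z z} {F : Set (I → ℤ)} [Finite Y] [Fact p.Prime] (S : SLC C) (hF : MaxF C F)
include S hF

theorem out2_cls : Out2 C F := by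
  intro K K' e hK hK' hc hc' hKK
  have hall : ∀ y, IsRoot cs h y → ∀ v ∈ X y, e * v * e⁻¹ = v := by
    intro y hy
    rcases dich S hF hK hc hy with h1 | ⟨h1, r, hr, hr1, h0⟩
    · exact h1
    exfalso
    have hrr := C.root r (hF.sub r hr)
    have D := S.alt_data hF hy hr hr1 h0
    have hpos := (cpr_pos_iff cs h y hrr).1 (by omega : 0 < cpr cs h y r)
    have h2 := alt_two D hK hK' (wt_nor C S.hT hF.sub hr hpos hc) (wt_nor C S.hT hF.sub hr hpos hc')
      (fun k hk c hc1 => hc.comm r hr c hc1 k hk) (fun k hk c hc1 => hc'.comm r hr c hc1 k hk) hKK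
    obtain ⟨v, hv, hv1⟩ := S.ne_one hy
    have h3 := h2 v (X_le_MM (mem_Lam_self hy) hv)
    rw [h1 v hv, S.ZX r hrr] at h3
    have h4 : v⁻¹ * v⁻¹ ∈ X y := mul_mem (inv_mem hv) (inv_mem hv)
    have h5 : v⁻¹ * v⁻¹ ∈ X y ⊓ X r := Subgroup.mem_inf.2 ⟨h4, h3⟩
    rw [X_inf_X C.rgd hy hrr (ne_of_cpr hrr (by omega)), Subgroup.mem_bot] at h5
    apply hv1
    exact inv_eq_one.1 (sq_eq_one (S.odd_X hy) (inv_mem hv) h5)
  have h1 : G1 cs h X ≤ Subgroup.centralizer ({e} : Set Y) := by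
    refine RGD.Sup_le fun x hx a ha => Subgroup.mem_centralizer_iff.2 fun b hb => ?_
    rw [Set.mem_singleton_iff.1 hb]
    calc e * a = (e * a * e⁻¹) * e := by group
      _ = a * e := by rw [hall x hx a ha]
  intro l hl
  exact Subgroup.mem_centralizer_iff.1 (h1 hl) e rfl

end simply

section chart

variable {G : Type*} [Group G] [Finite G] {Om : Set (Subgroup G)} {q : ℕ} {L : Subgroup G}

/-- **The simply laced types.** -/
theorem out2 (c : Chart Om q L) {τ : Ty} (hτ : c.IsTy τ) (hs : Simply τ) (F : Set (c.I → ℤ))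
    (hF : MaxF c.cls F) : Out2 c.cls F := by
  have : Fact q.Prime := ⟨c.prime⟩
  exact out2_cls (slc_of c hτ hs) hF

end chart

end Cfsg.Agent.LOC.OutTwo
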