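import Mathlib
import Cfsg.Agent.Cit.Nil.LO.OutTwo

/-!
# Lie odd sections: two commuting `Q₈` over the same involution (S1309, (n8), helper818)

Continuation of `OutTwo.lean` (helper320).

* `pair` : **PAIR LEMMA**: `x` centralises or inverts `M / N`, `x^b = e x`: `e` centralises `M / N`
  [`x = a a'`, `a ∈ K`, `a' ∈ K'`, `a² = a'² = e` is an involution];
* `cent_of_mod`, `exists_x`, `cen_sup`;
* `inn_pair` : the same, if the involutions centralising a subgroup `N` act as `1` or as `z₀ ∈ N`;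
* `frame2` : the plug.
-/

set_option autoImplicit false
set_option linter.unusedSectionVars false
set_option linter.dupNamespace false

namespace Cfsg.Agent.LOC.OutTwo

open CoxeterSystem Cfsg.Agent.ChevalleyStructure.CoxeterGeom Cfsg.Agent.Tits.Roots Cfsg.Agent.Tits.Core
  Cfsg.Agent.Tits.RootComb Cfsg.Agent.Nodes.Comb Cfsg.Agent.Nodes.SubComb Cfsg.Agent.Nodes.Reps
  Cfsg.Agent.Nodes.Coroot Cfsg.Agent.Nodes.PosPair Cfsg.Agent.Nodes.BNOf Cfsg.Agent.Nodes.RGDLib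
  Cfsg.Agent.Nodes.Chart Cfsg.Agent.Nodes.ClsNorm Cfsg.Agent.Nodes.ChartLoc Cfsg.Agent.Nodes.ChartFrame
  Cfsg.Agent.Nodes.SimplyLaced Cfsg.Agent.LOC.ChartDefs Cfsg.Agent.LOC.Wt Cfsg.Agent.LOC.FormGrp Cfsg.Agent.LOC.SL
  Cfsg.Agent.LOC.Simply

/-! ### Groups -/

section grp

variable {G : Type*} [Group G]

/-- **PAIR LEMMA** -/
theorem pair {M N : Subgroup G} {b e x : G} (hx : b * x * b⁻¹ = e * x) (hbM : ∀ m ∈ M, b⁻¹ * m * b ∈ M)
    (hbN : ∀ c ∈ N, b * c * b⁻¹ ∈ N) (hxM : ∀ m ∈ M, x⁻¹ * m * x ∈ M)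
    (hd : (∀ m ∈ M, x * m * x⁻¹ * m⁻¹ ∈ N) ∨ ∀ m ∈ M, x * m * x⁻¹ * m ∈ N) :
    ∀ m ∈ M, e * m * e⁻¹ * m⁻¹ ∈ N := by
  have he : e = b * x * b⁻¹ * x⁻¹ := by rw [hx]; group
  intro m hm
  have hm' := hxM m hm
  have hm'' := hbM _ hm'
  rcases hd with hd | hd
  · have h1 := hbN _ (hd _ hm'')
    have h2 := hd _ hm'
    have h3 := mul_mem h1 (inv_mem h2)
    convert h3 using 1
    rw [he]; group
  · have h1 := hbN _ (hd _ hm'')
    have h2 := hd _ hm'
    have h3 := mul_mem h1 (inv_mem h2)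
    convert h3 using 1
    rw [he]; group

/-- an involution centralising `N` and `M / N` centralises `M` -/
theorem cent_of_mod {M N : Subgroup G} [Finite G] {e : G} (hodd : Odd (Nat.card N)) (he : e * e = 1)
    (hN : ∀ c ∈ N, e * c = c * e) (h : ∀ m ∈ M, e * m * e⁻¹ * m⁻¹ ∈ N) : ∀ m ∈ M, e * m = m * e := by
  have hei : e⁻¹ = e := inv_eq_of_mul_eq_one_right he
  intro m hm
  have h5 := h m hm
  set c := e * m * e⁻¹ * m⁻¹ with hcd
  have e1 : e * m * e⁻¹ = c * m := by rw [hcd]; group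
  have e2 : c * c = 1 := by
    have e3 : e * (e * m * e⁻¹) * e⁻¹ = c * (c * m) := by
      calc e * (e * m * e⁻¹) * e⁻¹ = e * (c * m) * e⁻¹ := by rw [e1]
        _ = (e * c) * m * e⁻¹ := by group
        _ = c * (e * m * e⁻¹) := by rw [hN c h5]; group
        _ = c * (c * m) := by rw [e1]
    have e4 : e * (e * m * e⁻¹) * e⁻¹ = m := by
      rw [hei]
      calc e * (e * m * e) * e = (e * e) * m * (e * e) := by group
        _ = m := by rw [he]; group
    rw [e4, ← mul_assoc] at e3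
    calc c * c = (c * c * m) * m⁻¹ := by group
      _ = 1 := by rw [← e3]; group
  have e3 : c = 1 := sq_eq_one hodd h5 e2
  calc e * m = e * m * e⁻¹ * e := by group
    _ = m * e := by rw [e1, e3, one_mul]

/-- the involution `x = a a'` and the element `b` -/
theorem exists_x {K K' : Subgroup G} {e : G} (hK : QK K e) (hK' : QK K' e) (hc : ∀ a ∈ K, ∀ b ∈ K', a * b = b * a) :
    ∃ x ∈ K ⊔ K', ∃ b ∈ K, x * x = 1 ∧ b * x * b⁻¹ = e * x := by
  obtain ⟨a, ha, b, hb, haa, -, hab⟩ := hK.com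
  obtain ⟨c, hc', -, -, hcc, -, -⟩ := hK'.com
  have h1 := hc a ha c hc'
  have h2 := hc b hb c hc'
  refine ⟨a * c, mul_mem (Subgroup.mem_sup_left ha) (Subgroup.mem_sup_right hc'), b, hb, ?_, ?_⟩
  · calc a * c * (a * c) = a * (c * a) * c := by group
      _ = (a * a) * (c * c) := by rw [← h1]; group
      _ = 1 := by rw [haa, hcc, hK.sq]
  · have h3 : b * a = e * (a * b) := by
      rw [hab, ← mul_assoc, hK.sq, one_mul]
    calc b * (a * c) * b⁻¹ = (b * a) * c * b⁻¹ := by group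
      _ = e * a * (b * c) * b⁻¹ := by rw [h3]; group
      _ = e * (a * c) := by rw [h2]; group

/-- the involutions centralising `N` act as `1` or as `z₀ ∈ N` -/
theorem inn_pair {A : Type*} [Group A] (φ : G →* A) {N : Subgroup G} {z₀ : G} (hz : z₀ ∈ N)
    (inn : ∀ x : G, x * x = 1 → (∀ a ∈ N, x * a = a * x) → φ x = 1 ∨ φ x = φ z₀)
    {K K' : Subgroup G} {e : G} (hK : QK K e) (hK' : QK K' e) (hc : ∀ a ∈ K, ∀ b ∈ K', a * b = b * a)
    (hN : ∀ k ∈ K, ∀ a ∈ N, k * a = a * k) (hN' : ∀ k ∈ K', ∀ a ∈ N, k * a = a * k) : φ e = 1 := by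
  obtain ⟨x, hx, b, hb, hxx, hbx⟩ := exists_x hK hK' hc
  have hxN : ∀ a ∈ N, x * a = a * x := by
    have h1 : K ⊔ K' ≤ Subgroup.centralizer (N : Set G) := sup_le
      (fun k hk => Subgroup.mem_centralizer_iff.2 fun a ha => (hN k hk a ha).symm)
      (fun k hk => Subgroup.mem_centralizer_iff.2 fun a ha => (hN' k hk a ha).symm)
    exact fun a ha => (Subgroup.mem_centralizer_iff.1 (h1 hx) a ha).symm
  have h2 : φ b * φ x * (φ b)⁻¹ = φ e * φ x := by
    rw [← map_mul, ← map_inv, ← map_mul, hbx, map_mul]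
  have h3 : φ b * φ x * (φ b)⁻¹ = φ x := by
    rcases inn x hxx hxN with h | h
    · rw [h, mul_one, mul_inv_cancel]
    · rw [h, ← map_mul, hN b hb z₀ hz, map_mul, mul_inv_cancel_right]
  rw [h3] at h2
  exact (mul_eq_right.1 h2.symm)

end grp

/-! ### Charts -/

variable {I W Y : Type*} [Fintype I] [DecidableEq I] [Group W] [Fintype W] [Group Y] {M : CoxeterMatrix I}
  {cs : CoxeterSystem M W} {A : I → I → ℤ} {h : IsCartan M A} {p : ℕ} {T : Subgroup Y} {n : I → Y}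
  {X : (I → ℤ) → Subgroup Y} {R : Set (I → ℤ)} {Z : (I → ℤ) → Subgroup Y} {z : (I → ℤ) → Y}
  {C : Cls cs h p T n X R Z z} {F : Set (I → ℤ)} {K K' : Subgroup Y} {e : Y}

theorem cen_sup (h1 : Cen C F K) (h2 : Cen C F K') : Cen C F (K ⊔ K') where
  comm := fun r hr a ha => by
    have h3 : K ⊔ K' ≤ Subgroup.centralizer ({a} : Set Y) := sup_le
      (fun k hk => Subgroup.mem_centralizer_singleton_iff.2 (h1.comm r hr a ha k hk))
      (fun k hk => Subgroup.mem_centralizer_singleton_iff.2 (h2.comm r hr a ha k hk))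
    exact fun k hk => Subgroup.mem_centralizer_singleton_iff.1 (h3 hk)
  nor := by
    have h3 : K ⊔ K' ≤ Subgroup.normalizer (G1 cs h X : Set Y) := sup_le h1.nor h2.nor
    exact fun k hk => h3 hk

/-! ### The plug -/

section Plug

variable {G : Type*} [Group G] {Om : Set (Subgroup G)} {q : ℕ} {L : Subgroup G}

/-- **Plug**: `K`, `K'` are commuting `Q8`'s over the same involution normalising `L` and centralising a maximal frame
of members of `Om` in `L`. -/
theorem frame2 (C : Chart Om q L) (hO : ∀ K ∈ Om, ∀ g, Cfsg.Agent.Cit.cj g K ∈ Om)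
    (hout : ∀ F, MaxF C.cls F → Out2 C.cls F)
    {κ : Type*} [Finite κ] (J : κ → Subgroup G) (hJ : ∀ i, J i ∈ Om) (hJL : ∀ i, J i ≤ L)
    (hc : ∀ i j, i ≠ j → Cfsg.Agent.Cit.TypeDet.cm (J i) (J j)) (hmax : ∀ P ∈ Om, P ≤ L → ¬ ∀ k, Cfsg.Agent.Cit.TypeDet.cm P (J k))
    {K K' : Subgroup G} {e : G} (hK : QK K e) (hK' : QK K' e) (hKK : ∀ a ∈ K, ∀ b ∈ K', a * b = b * a)
    (hKL : ∀ k ∈ K, k ∈ Subgroup.normalizer (L : Set G)) (hKL' : ∀ k ∈ K', k ∈ Subgroup.normalizer (L : Set G))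
    (hKJ : ∀ i, ∀ a ∈ J i, ∀ k ∈ K, k * a = a * k) (hKJ' : ∀ i, ∀ a ∈ J i, ∀ k ∈ K', k * a = a * k) :
    ∀ l ∈ L, e * l = l * e := by
  obtain ⟨s, d, FI⟩ := exists_frameIn C (K := J) (fun i => ⟨hJ i, hJL i⟩) hc
  have hmax' := FI.max hO (fun P hP hh => hmax P hP.1 hP.2 hh)
  set F : Set (C.I → ℤ) := {r | ∃ i, r = s i ∨ r = -s i} with hF
  have hFR : ∀ r ∈ F, r ∈ C.R := by
    rintro r ⟨i, rfl | rfl⟩
    · exact FI.R i
    · exact Nodes.ClsNorm.neg_mem C.cls (FI.R i)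
  have hM : MaxF C.cls F := by
    refine ⟨hFR, ?_, ?_, ?_⟩
    · rintro r ⟨i, rfl | rfl⟩
      · exact ⟨i, Or.inr rfl⟩
      · exact ⟨i, Or.inl (neg_neg _)⟩
    · rintro r ⟨i, hi⟩ t ⟨j, hj⟩ h1 h2
      have hij : i ≠ j := by
        rintro rfl
        rcases hi with rfl | rfl <;> rcases hj with rfl | rfl
        · exact h1 rfl
        · exact h2 rfl
        · exact h2 (neg_neg _).symm
        · exact h1 rfl
      have h0 := FI.orth i j hij
      rcases hi with rfl | rfl <;> rcases hj with rfl | rfl <;>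
        simp only [form_neg_left, form_neg_right, h0, neg_zero]
    · intro x hx
      by_contra hcon
      push Not at hcon
      exact hmax' x hx fun k => hcon _ ⟨k, Or.inl rfl⟩
  have hcc : ∀ (K : Subgroup G), (∀ k ∈ K, k ∈ Subgroup.normalizer (L : Set G)) →
      (∀ i, ∀ a ∈ J i, ∀ k ∈ K, k * a = a * k) → Cen C.cls F (cj d K) := by
    intro K h1 h2
    refine ⟨?_, ?_⟩
    · intro r hr a ha k hk
      obtain ⟨i, hi⟩ := hr
      have ha' : a ∈ cj d (J i) := by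
        rw [FI.eq]
        unfold Nodes.Perp.KK
        rcases hi with h3 | h3
        · rw [← h3]; exact (le_sup_left : C.Z r ≤ _) ha
        · have h4 : s i = -r := by rw [h3, neg_neg]
          rw [h4, neg_neg]
          exact (le_sup_right : C.Z r ≤ _) ha
      rw [mem_cj] at ha' hk
      have h3 := h2 _ _ ha' _ hk
      have h4 : k * a = d * ((d⁻¹ * k * d) * (d⁻¹ * a * d)) * d⁻¹ := by group
      have h5 : a * k = d * ((d⁻¹ * a * d) * (d⁻¹ * k * d)) * d⁻¹ := by group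
      rw [h4, h3, ← h5]
    · intro k hk
      rw [C.gen]
      rw [mem_cj] at hk
      have h3 := h1 _ hk
      have hdn : d ∈ Subgroup.normalizer (L : Set G) := Subgroup.le_normalizer FI.mem
      have h5 : k = d * (d⁻¹ * k * d) * d⁻¹ := by group
      rw [h5]
      exact mul_mem (mul_mem hdn h3) (inv_mem hdn)
  have h0 := hout F hM (cj d K) (cj d K') _ (hK.conj d) (hK'.conj d) (hcc K hKL hKJ) (hcc K' hKL' hKJ') (by
    intro a ha b hb
    rw [mem_cj] at ha hb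
    have h3 := hKK _ ha _ hb
    have h4 : a * b = d * ((d⁻¹ * a * d) * (d⁻¹ * b * d)) * d⁻¹ := by group
    have h5 : b * a = d * ((d⁻¹ * b * d) * (d⁻¹ * a * d)) * d⁻¹ := by group
    rw [h4, h3, ← h5])
  intro l hl
  have h1 := h0 (d * l * d⁻¹) (by
    rw [C.gen]
    exact mul_mem (mul_mem FI.mem hl) (inv_mem FI.mem))
  have h2 : d * (e * l) * d⁻¹ = d * (l * e) * d⁻¹ := by
    have e1 : d * (e * l) * d⁻¹ = d * e * d⁻¹ * (d * l * d⁻¹) := by group
    have e2 : d * (l * e) * d⁻¹ = d * l * d⁻¹ * (d * e * d⁻¹) := by group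
    rw [e1, h1, ← e2]
  exact mul_left_cancel (mul_right_cancel h2)

end Plug

end Cfsg.Agent.LOC.OutTwo
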