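import Mathlib
import Cfsg.Agent.Cit.Nil.LO.TypeCn
import Cfsg.Agent.Cit.Nil.LO.OutTwoAll
import Cfsg.Agent.Cit.Nil.LO.Irr

/-!
# Lie odd sections, the chart part: two commuting `Q₈` over the same involution, type `C n` (S1309, (n1), piece (C))

* `abs` : two commuting involutory automorphisms `f`, `g` of an abelian group: `f`, `g` or `f g` is `± 1`, or three of the
  four weights occur (the version with a count);
* `pm` : **LEMMA S**: `g`, `g'` induce commuting involutions on the short root group `X y`, normalise `X (r - y)`, `X r` and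
  centralise `Z (r - 2 y)`: one of `g`, `g'`, `g g'` is `± 1` on `X y`
  [`|X (r - y)| ≤ |Z r|²`, a vector of a weight of `X y` gives a subgroup of order `|Z r|` of `X (r - y)` of this weight];
* `e_cent`, `out2_C` : **`Out2` for the type `C n`, `n ≥ 2`**.
-/

set_option autoImplicit false
set_option linter.unusedSectionVars false
set_option linter.dupNamespace false
set_option linter.style.haveILetI false

namespace Cfsg.Agent.LOC.CnPair

open CoxeterSystem Cfsg.Agent.ChevalleyStructure.CoxeterGeom Cfsg.Agent.Tits.Roots Cfsg.Agent.Tits.Core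
  Cfsg.Agent.Tits.RootComb Cfsg.Agent.Nodes.Comb Cfsg.Agent.Nodes.SubComb Cfsg.Agent.Nodes.Reps
  Cfsg.Agent.Nodes.Coroot Cfsg.Agent.Nodes.PosPair Cfsg.Agent.Nodes.BNOf Cfsg.Agent.Nodes.RGDLib
  Cfsg.Agent.Nodes.Chart Cfsg.Agent.Nodes.ClsNorm Cfsg.Agent.Nodes.ChartLoc Cfsg.Agent.Nodes.ChartFrame
  Cfsg.Agent.Nodes.Bruhat Cfsg.Agent.Nodes.CenVV Cfsg.Agent.LOC.ChartDefs Cfsg.Agent.LOC.LemS Cfsg.Agent.LOC.Wt
  Cfsg.Agent.LOC.ShortAll Cfsg.Agent.LOC.CnNd Cfsg.Agent.LOC.StdChart Cfsg.Agent.LOC.OutTwo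
  Cfsg.Agent.LOC.TypeCn
open scoped commutatorElement

/-! ### Weights -/

section abs

variable {V W : Type*} [AddCommGroup V] [AddCommGroup W]

/-- the sign -/
def sgn {V : Type*} [AddCommGroup V] (b : Bool) (v : V) : V := cond b v (-v)

theorem dbl {v : V} (hV : ∀ v : V, v + v = 0 → v = 0) {u : V} (h : v + v = u + u) : v = u := by
  have h1 : (v - u) + (v - u) = 0 := by
    calc (v - u) + (v - u) = (v + v) - (u + u) := by abel
      _ = 0 := by rw [h, sub_self]
  exact sub_eq_zero.1 (hV _ h1)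

/-- the projection -/
def prj (f g : AddMonoid.End V) (b c : Bool) (v : V) : V := v + sgn b (f v) + sgn c (g v) + sgn b (sgn c (f (g v)))

theorem f_prj {f g : AddMonoid.End V} (hf : ∀ v, f (f v) = v) (b c : Bool) (v : V) :
    f (prj f g b c v) = sgn b (prj f g b c v) := by
  cases b <;> cases c <;> simp only [prj, sgn, cond_true, cond_false, map_add, map_neg, hf] <;> abel

theorem g_prj {f g : AddMonoid.End V} (hg : ∀ v, g (g v) = v) (hfg : ∀ v, f (g v) = g (f v)) (b c : Bool) (v : V) :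
    g (prj f g b c v) = sgn c (prj f g b c v) := by
  have h1 : ∀ v, g (f (g v)) = f v := fun v => by rw [← hfg, hg]
  have h2 : ∀ v, g (f v) = f (g v) := fun v => (hfg v).symm
  cases b <;> cases c <;> simp only [prj, sgn, cond_true, cond_false, map_add, map_neg, hg, h1, h2] <;> abel

/-- vectors of the four weights are independent -/
theorem indep (hW : ∀ w : W, w + w = 0 → w = 0) {f g : AddMonoid.End W} {w : Bool → Bool → W}
    (hf : ∀ b c, f (w b c) = sgn b (w b c)) (hg : ∀ b c, g (w b c) = sgn c (w b c))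
    (h0 : w true true + w true false + w false true + w false false = 0) (b c : Bool) : w b c = 0 := by
  have e1 := congrArg f h0
  simp only [map_add, hf, map_zero, sgn, cond_true, cond_false] at e1
  have e2 : w true true + w true false = 0 := by
    apply hW
    calc _ = (w true true + w true false + w false true + w false false) +
        (w true true + w true false + -w false true + -w false false) := by abel
      _ = 0 := by rw [h0, e1, add_zero]
  have e3 : w false true + w false false = 0 := by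
    calc _ = (w true true + w true false + w false true + w false false) - (w true true + w true false) := by abel
      _ = 0 := by rw [h0, e2, sub_zero]
  have e4 := congrArg g e2
  have e5 := congrArg g e3
  simp only [map_add, hg, map_zero, sgn, cond_true, cond_false] at e4 e5
  have e6 : w true true = 0 := by
    apply hW
    calc _ = (w true true + w true false) + (w true true + -w true false) := by abel
      _ = 0 := by rw [e2, e4, add_zero]
  have e7 : w false true = 0 := by
    apply hW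
    calc _ = (w false true + w false false) + (w false true + -w false false) := by abel
      _ = 0 := by rw [e3, e5, add_zero]
  have e8 : w true false = 0 := by rwa [e6, zero_add] at e2
  have e9 : w false false = 0 := by rwa [e7, zero_add] at e3
  cases b <;> cases c <;> assumption

theorem card_four [Finite W] (hW : ∀ w : W, w + w = 0 → w = 0) {f g : AddMonoid.End W}
    (L : Bool → Bool → AddSubgroup W) (hf : ∀ b c, ∀ w ∈ L b c, f w = sgn b w) (hg : ∀ b c, ∀ w ∈ L b c, g w = sgn c w) :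
    Nat.card (L true true) * Nat.card (L true false) * (Nat.card (L false true) * Nat.card (L false false)) ≤
      Nat.card W := by
  rw [← Nat.card_prod, ← Nat.card_prod, ← Nat.card_prod]
  refine Nat.card_le_card_of_injective (fun x => (x.1.1 : W) + x.1.2 + x.2.1 + x.2.2) ?_
  rintro ⟨⟨x1, x2⟩, x3, x4⟩ ⟨⟨y1, y2⟩, y3, y4⟩ h
  change (x1 : W) + x2 + x3 + x4 = (y1 : W) + y2 + y3 + y4 at h
  set w : Bool → Bool → W := fun b c => cond b (cond c ((x1 - y1 : L true true) : W) ((x2 - y2 : L true false) : W))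
    (cond c ((x3 - y3 : L false true) : W) ((x4 - y4 : L false false) : W)) with hw
  have hmem : ∀ b c, w b c ∈ L b c := by
    intro b c
    cases b <;> cases c
    · exact (x4 - y4).2
    · exact (x3 - y3).2
    · exact (x2 - y2).2
    · exact (x1 - y1).2
  have h1 := indep hW (w := w) (fun b c => hf b c _ (hmem b c)) (fun b c => hg b c _ (hmem b c)) (by
    change ((x1 - y1 : L true true) : W) + ((x2 - y2 : L true false) : W) + ((x3 - y3 : L false true) : W) +
      ((x4 - y4 : L false false) : W) = 0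
    simp only [AddSubgroup.coe_sub]
    calc _ = ((x1 : W) + x2 + x3 + x4) - ((y1 : W) + y2 + y3 + y4) := by abel
      _ = 0 := by rw [h, sub_self])
  have k1 : x1 = y1 := sub_eq_zero.1 (Subtype.ext (h1 true true))
  have k2 : x2 = y2 := sub_eq_zero.1 (Subtype.ext (h1 true false))
  have k3 : x3 = y3 := sub_eq_zero.1 (Subtype.ext (h1 false true))
  have k4 : x4 = y4 := sub_eq_zero.1 (Subtype.ext (h1 false false))
  rw [k1, k2, k3, k4]

/-- **At most two weights.** -/
theorem abs [Finite W] (hV : ∀ v : V, v + v = 0 → v = 0) (hW : ∀ w : W, w + w = 0 → w = 0)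
    {f g : AddMonoid.End V} {f' g' : AddMonoid.End W} (hf : ∀ v, f (f v) = v) (hg : ∀ v, g (g v) = v)
    (hfg : ∀ v, f (g v) = g (f v)) {q : ℕ}
    (H : ∀ v : V, v ≠ 0 → ∀ b c : Bool, f v = sgn b v → g v = sgn c v →
      ∃ L : AddSubgroup W, q ≤ Nat.card L ∧ ∀ w ∈ L, f' w = sgn b w ∧ g' w = sgn c w)
    (hq : Nat.card W < q * q * q) :
    ((∀ v, f v = v) ∨ ∀ v, f v = -v) ∨ ((∀ v, g v = v) ∨ ∀ v, g v = -v) ∨ (∀ v, f (g v) = v) ∨ ∀ v, f (g v) = -v := by
  have key : ∀ b c, (∀ v : V, prj f g b c v = 0) ∨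
      ∃ L : AddSubgroup W, q ≤ Nat.card L ∧ ∀ w ∈ L, f' w = sgn b w ∧ g' w = sgn c w := by
    intro b c
    by_cases h0 : ∀ v : V, prj f g b c v = 0
    · exact Or.inl h0
    · right
      push Not at h0
      obtain ⟨v, hv⟩ := h0
      exact H _ hv b c (f_prj hf b c v) (g_prj hg hfg b c v)
  have hL : ∀ b c, ∃ L : AddSubgroup W, ((∀ v : V, prj f g b c v = 0) ∨ q ≤ Nat.card L) ∧
      ∀ w ∈ L, f' w = sgn b w ∧ g' w = sgn c w := by
    intro b c
    rcases key b c with h1 | ⟨L, h1, h2⟩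
    · refine ⟨⊥, Or.inl h1, fun w hw => ?_⟩
      rw [AddSubgroup.mem_bot] at hw
      subst hw
      constructor <;> [cases b; cases c] <;> simp [sgn]
    · exact ⟨L, Or.inr h1, h2⟩
  choose L hL1 hL2 using hL
  have hc := card_four hW L (fun b c w hw => (hL2 b c w hw).1) (fun b c w hw => (hL2 b c w hw).2)
  have pos : ∀ b c, 1 ≤ Nat.card (L b c) := fun b c => Nat.card_pos
  have two : ∀ {x y : V}, x + x = y + y → x = y := fun {x y} h => dbl hV h
  -- two weights do not occur
  have tt := hL1 true true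
  have tf := hL1 true false
  have ft := hL1 false true
  have ff := hL1 false false
  have p1 := pos true true
  have p2 := pos true false
  have p3 := pos false true
  have p4 := pos false false
  have three : ∀ {a b c d : ℕ}, q ≤ a → q ≤ b → q ≤ c → 1 ≤ d → a * b * c * d ≤ Nat.card W → False := by
    intro a b c d ha hb hc hd h
    have h1 : q * q * q ≤ a * b * c := Nat.mul_le_mul (Nat.mul_le_mul ha hb) hc
    have h2 : a * b * c * 1 ≤ a * b * c * d := Nat.mul_le_mul_left _ hd
    omega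
  have fin : ∀ {x y A B : V}, A = 0 → B = 0 → (x + x) - (y + y) = A + B → x = y := by
    intro x y A B hA hB h
    exact two (sub_eq_zero.1 (by rw [h, hA, hB, add_zero]))
  simp only [prj, sgn, cond_true, cond_false] at tt tf ft ff
  rcases tt with tt | tt
  · rcases tf with tf | tf
    · left; right; intro v
      exact (fin (tt v) (tf v) (by abel : (v + v) - (-f v + -f v) = _) : v = -f v) |> fun h => by
        rw [← neg_neg (f v), ← h]
    · rcases ft with ft | ft
      · right; left; right; intro v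
        have h := fin (x := v) (y := -g v) (tt v) (ft v) (by abel)
        rw [← neg_neg (g v), ← h]
      · rcases ff with ff | ff
        · right; right; right; intro v
          have h := fin (x := v) (y := -f (g v)) (tt v) (ff v) (by abel)
          rw [← neg_neg (f (g v)), ← h]
        · refine (three ff ft tf p1 ?_).elim
          refine le_trans (le_of_eq ?_) hc
          ring
  · rcases tf with tf | tf
    · rcases ft with ft | ft
      · right; right; left; intro v
        exact (fin (x := v) (y := f (g v)) (tf v) (ft v) (by abel)).symm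
      · rcases ff with ff | ff
        · right; left; left; intro v
          exact (fin (x := v) (y := g v) (tf v) (ff v) (by abel)).symm
        · refine (three ff ft tt p2 ?_).elim
          refine le_trans (le_of_eq ?_) hc
          ring
    · rcases ft with ft | ft
      · rcases ff with ff | ff
        · left; left; intro v
          exact (fin (x := v) (y := f v) (ft v) (ff v) (by abel)).symm
        · refine (three ff tf tt p3 ?_).elim
          refine le_trans (le_of_eq ?_) hc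
          ring
      · refine (three tt tf ft p4 ?_).elim
        refine le_trans (le_of_eq ?_) hc
        ring

end abs

/-! ### Lemma S -/

section pl

variable {I W Y : Type*} [Fintype I] [DecidableEq I] [Group W] [Fintype W] [Group Y] {M : CoxeterMatrix I}
  {cs : CoxeterSystem M W} {A : I → I → ℤ} {h : IsCartan M A} {p : ℕ} {T : Subgroup Y} {n : I → Y}
  {X : (I → ℤ) → Subgroup Y} {R : Set (I → ℤ)} {Z : (I → ℤ) → Subgroup Y} {z : (I → ℤ) → Y}
  {r y : I → ℤ}

/-- `g` normalises `X y`, `X (r - y)`, `X r` and centralises `Z (r - 2 y)` -/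
structure Nm (X Z : (I → ℤ) → Subgroup Y) (r y : I → ℤ) (g : Y) : Prop where
  ny : ∀ u ∈ X y, g * u * g⁻¹ ∈ X y
  nw : ∀ u ∈ X (r - y), g * u * g⁻¹ ∈ X (r - y)
  nr : ∀ u ∈ X r, g * u * g⁻¹ ∈ X r
  cq : ∀ x ∈ Z (r - (2 : ℤ) • y), g * x = x * g

variable (P : Pl cs h R r y) (C : Cls cs h p T n X R Z z)

/-- the weight of `LL u` -/
theorem LL_fix {u k g : Y} (D : UK X Z r y u k) (N : Nm X Z r y g) (hg : g * u * g⁻¹ = u) {c : Y}
    (hc : c ∈ LL P C u k) : g * c * g⁻¹ = c := by
  obtain ⟨x, hx, rfl⟩ := (mem_LL P C D).1 hc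
  have hxX := C.le _ (P.memq C) hx
  have h1 := cc_eq u k x
  set c := cc u k x with hcd
  have h2 : u * x * u⁻¹ = x * (g * c * g⁻¹) * (g * (k * x * k⁻¹) * g⁻¹) := by
    have hx' := N.cq x hx
    calc u * x * u⁻¹ = (g * u * g⁻¹) * x * (g * u * g⁻¹)⁻¹ := by rw [hg]
      _ = g * u * g⁻¹ * (x * g) * u⁻¹ * g⁻¹ := by group
      _ = g * u * g⁻¹ * (g * x) * u⁻¹ * g⁻¹ := by rw [hx']
      _ = g * (u * x * u⁻¹) * g⁻¹ := by group
      _ = (g * x) * c * (k * x * k⁻¹) * g⁻¹ := by rw [h1]; group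
      _ = x * (g * c * g⁻¹) * (g * (k * x * k⁻¹) * g⁻¹) := by rw [hx']; group
  exact (cc_of_eq P C D hxX (N.nw _ (D.c x hxX)) (N.nr _ (D.d x hxX)) h2).1.symm

theorem LL_inv [Finite Y] [Fact p.Prime] (hp2 : p ≠ 2) {u k g : Y} (D : UK X Z r y u k) (N : Nm X Z r y g)
    (hg : g * u * g⁻¹ = u⁻¹) {c : Y} (hc : c ∈ LL P C u k) : g * c * g⁻¹ = c⁻¹ := by
  obtain ⟨x, hx, rfl⟩ := (mem_LL P C D).1 hc
  have hxX := C.le _ (P.memq C) hx
  have h1 := cc_eq u k x
  have hcw := D.c x hxX
  have hdr := D.d x hxX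
  set c := cc u k x with hcd
  set d := k * x * k⁻¹ with hdd
  have hc' := N.nw _ hcw
  have hd' := N.nr _ hdr
  set c' := g * c * g⁻¹ with hcd'
  set d' := g * d * g⁻¹ with hdd'
  have h2 : u⁻¹ * x * u = x * c' * d' := by
    have hx' := N.cq x hx
    calc u⁻¹ * x * u = (g * u * g⁻¹) * x * (g * u * g⁻¹)⁻¹ := by rw [hg]; group
      _ = g * u * g⁻¹ * (x * g) * u⁻¹ * g⁻¹ := by group
      _ = g * u * g⁻¹ * (g * x) * u⁻¹ * g⁻¹ := by rw [hx']
      _ = g * (u * x * u⁻¹) * g⁻¹ := by group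
      _ = (g * x) * c * d * g⁻¹ := by rw [h1]; group
      _ = x * c' * d' := by rw [hx', hcd', hdd']; group
  -- `κ = [u, c']`
  have hκ : ⁅u, c'⁆ ∈ Z r := commutator_VV_le C hp2 P.mem
    (Subgroup.commutator_mem_commutator (P.X_y_le (X := X) D.mem) (P.X_w_le (X := X) hc'))
  have hκr := C.le _ P.mem hκ
  have cd' := P.cyr C.rgd D.mem hd'
  have h3 : (1 : Y) = c * d * ⁅u, c'⁆ * c' * d' := by
    have h4 : x = x * (c * d * ⁅u, c'⁆ * c' * d') := by
      calc x = u * (u⁻¹ * x * u) * u⁻¹ := by group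
        _ = u * (x * c' * d') * u⁻¹ := by rw [h2]
        _ = (u * x * u⁻¹) * (u * c' * u⁻¹) * ((u * d') * u⁻¹) := by group
        _ = (x * c * d) * (u * c' * u⁻¹) * ((d' * u) * u⁻¹) := by rw [h1, cd']
        _ = _ := by rw [commutatorElement_def]; group
    exact (mul_eq_left.1 h4.symm).symm
  have k1 : c' * (d * ⁅u, c'⁆) = (d * ⁅u, c'⁆) * c' := P.cwr C.rgd hc' (mul_mem hdr hκr)
  have h5 : (c * c') * (d * ⁅u, c'⁆ * d') = 1 * 1 := by
    calc (c * c') * (d * ⁅u, c'⁆ * d') = c * (c' * (d * ⁅u, c'⁆)) * d' := by group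
      _ = c * ((d * ⁅u, c'⁆) * c') * d' := by rw [k1]
      _ = c * d * ⁅u, c'⁆ * c' * d' := by group
      _ = 1 := h3.symm
      _ = 1 * 1 := (one_mul 1).symm
  have h6 := (uniq P C.rgd (mul_mem hcw hc') (mul_mem (mul_mem hdr hκr) hd') (one_mem _) (one_mem _) h5).1
  exact eq_inv_of_mul_eq_one_right h6

variable [Finite Y] [Fact p.Prime] (hp2 : p ≠ 2) (hexp : ∀ x ∈ Z r, x ^ p = 1)

include P C hp2 hexp

/-- **LEMMA S.** -/
theorem pm {g g' : Y} (N : Nm X Z r y g) (N' : Nm X Z r y g') (hg : ∀ u ∈ X y, g * (g * u * g⁻¹) * g⁻¹ = u)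
    (hg' : ∀ u ∈ X y, g' * (g' * u * g'⁻¹) * g'⁻¹ = u)
    (hgg : ∀ u ∈ X y, g * (g' * u * g'⁻¹) * g⁻¹ = g' * (g * u * g⁻¹) * g'⁻¹) :
    ((∀ u ∈ X y, g * u * g⁻¹ = u) ∨ ∀ u ∈ X y, g * u * g⁻¹ = u⁻¹) ∨
    ((∀ u ∈ X y, g' * u * g'⁻¹ = u) ∨ ∀ u ∈ X y, g' * u * g'⁻¹ = u⁻¹) ∨
    (∀ u ∈ X y, g * (g' * u * g'⁻¹) * g⁻¹ = u) ∨ ∀ u ∈ X y, g * (g' * u * g'⁻¹) * g⁻¹ = u⁻¹ := by
  letI : AddCommGroup (Additive (X y)) :=
    { (inferInstance : AddGroup (Additive (X y))) with
      add_comm := fun a b => by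
        apply Additive.toMul.injective
        apply Subtype.ext
        exact P.aby C (a.toMul : X y).2 (b.toMul : X y).2 }
  letI : AddCommGroup (Additive (X (r - y))) :=
    { (inferInstance : AddGroup (Additive (X (r - y)))) with
      add_comm := fun a b => by
        apply Additive.toMul.injective
        apply Subtype.ext
        exact P.abw C (a.toMul : X (r - y)).2 (b.toMul : X (r - y)).2 }
  haveI : Finite (Additive (X (r - y))) := inferInstanceAs (Finite (X (r - y)))
  have odd : ∀ {x : I → ℤ}, IsRoot cs h x → ∀ {a : Y}, a ∈ X x → a * a = 1 → a = 1 := fun hx a ha h1 =>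
    eq_one_of_sq hp2 (C.rgd.pgrp' hx) ha h1
  have hfix : ∀ {x : I → ℤ} {g : Y} (hg : ∀ u ∈ X x, g * u * g⁻¹ ∈ X x) (v : Additive (X x)),
      (((Irr.act g hg v).toMul : X x) : Y) = g * ((v.toMul : X x) : Y) * g⁻¹ := fun _ _ => rfl
  have key := abs (V := Additive (X y)) (W := Additive (X (r - y))) (f := Irr.act g N.ny) (g := Irr.act g' N'.ny)
    (f' := Irr.act g N.nw) (g' := Irr.act g' N'.nw) (q := Nat.card (Z r)) ?_ ?_ ?_ ?_ ?_ ?_ ?_
  · rcases key with (k | k) | (k | k) | k | k
    · refine Or.inl (Or.inl fun u hu => ?_)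
      exact congrArg (fun v : Additive (X y) => ((v.toMul : X y) : Y)) (k (Additive.ofMul ⟨u, hu⟩))
    · refine Or.inl (Or.inr fun u hu => ?_)
      exact congrArg (fun v : Additive (X y) => ((v.toMul : X y) : Y)) (k (Additive.ofMul ⟨u, hu⟩))
    · refine Or.inr (Or.inl (Or.inl fun u hu => ?_))
      exact congrArg (fun v : Additive (X y) => ((v.toMul : X y) : Y)) (k (Additive.ofMul ⟨u, hu⟩))
    · refine Or.inr (Or.inl (Or.inr fun u hu => ?_))
      exact congrArg (fun v : Additive (X y) => ((v.toMul : X y) : Y)) (k (Additive.ofMul ⟨u, hu⟩))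
    · refine Or.inr (Or.inr (Or.inl fun u hu => ?_))
      exact congrArg (fun v : Additive (X y) => ((v.toMul : X y) : Y)) (k (Additive.ofMul ⟨u, hu⟩))
    · refine Or.inr (Or.inr (Or.inr fun u hu => ?_))
      exact congrArg (fun v : Additive (X y) => ((v.toMul : X y) : Y)) (k (Additive.ofMul ⟨u, hu⟩))
  · intro v hv
    apply Additive.toMul.injective
    apply Subtype.ext
    exact odd P.root (v.toMul : X y).2 (congrArg (fun v : Additive (X y) => ((v.toMul : X y) : Y)) hv)
  · intro v hv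
    apply Additive.toMul.injective
    apply Subtype.ext
    exact odd P.rootw (v.toMul : X (r - y)).2
      (congrArg (fun v : Additive (X (r - y)) => ((v.toMul : X (r - y)) : Y)) hv)
  · intro v
    apply Additive.toMul.injective
    apply Subtype.ext
    exact hg _ (v.toMul : X y).2
  · intro v
    apply Additive.toMul.injective
    apply Subtype.ext
    exact hg' _ (v.toMul : X y).2
  · intro v
    apply Additive.toMul.injective
    apply Subtype.ext
    exact hgg _ (v.toMul : X y).2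
  · intro v hv b c hb hc
    set u : Y := ((v.toMul : X y) : Y) with hu
    have hu1 : u ≠ 1 := by
      intro h0
      apply hv
      apply Additive.toMul.injective
      exact Subtype.ext h0
    obtain ⟨k, D⟩ := exists_uk P C (v.toMul : X y).2 hu1
    refine ⟨Subgroup.toAddSubgroup ((LL P C u k).subgroupOf (X (r - y))), ?_, ?_⟩
    · have h1 : Nat.card (Subgroup.toAddSubgroup ((LL P C u k).subgroupOf (X (r - y)))) = Nat.card (LL P C u k) :=
        Nat.card_congr (Subgroup.subgroupOfEquivOfLe (LL_le P C D)).toEquiv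
      rw [h1, card_LL P C D, card_Zq P C]
    · intro w hw
      have hw' : ((w.toMul : X (r - y)) : Y) ∈ LL P C u k := hw
      constructor
      · apply Additive.toMul.injective
        apply Subtype.ext
        cases b
        · exact LL_inv P C hp2 D N
            (congrArg (fun v : Additive (X y) => ((v.toMul : X y) : Y)) hb) hw'
        · exact LL_fix P C D N
            (congrArg (fun v : Additive (X y) => ((v.toMul : X y) : Y)) hb) hw'
      · apply Additive.toMul.injective
        apply Subtype.ext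
        cases c
        · exact LL_inv P C hp2 D N'
            (congrArg (fun v : Additive (X y) => ((v.toMul : X y) : Y)) hc) hw'
        · exact LL_fix P C D N'
            (congrArg (fun v : Additive (X y) => ((v.toMul : X y) : Y)) hc) hw'
  · have h1 : Nat.card (Additive (X (r - y))) = Nat.card (X y) := card_w P C
    have h2 := card_y P C hp2 hexp
    have h3 : 1 < Nat.card (Z r) := by
      by_contra hcon
      push Not at hcon
      exact C.ne_bot _ P.mem (Subgroup.eq_bot_of_card_le _ hcon)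
    rw [h1]
    refine lt_of_le_of_lt h2 ?_
    rw [pow_two]
    exact lt_mul_of_one_lt_right (Nat.mul_pos (by omega) (by omega)) h3

/-- an involution which is `± 1` on `X (r - y)` acts on `X r` as `1` or `z r` -/
theorem one_or_z (hne : ∃ t ∈ X (r - (2 : ℤ) • y), t ∉ Z (r - (2 : ℤ) • y)) {g : Y} (hg : g * g = 1)
    (nr : ∀ u ∈ X r, g * u * g⁻¹ ∈ X r) (nq : ∀ u ∈ X (r - (2 : ℤ) • y), g * u * g⁻¹ ∈ X (r - (2 : ℤ) • y))
    (cr : ∀ a ∈ Z r, g * a = a * g) (cz : g * z r = z r * g)
    (hpm : (∀ u ∈ X (r - y), g * u * g⁻¹ = u) ∨ ∀ u ∈ X (r - y), g * u * g⁻¹ = u⁻¹) :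
    (∀ x ∈ X r, g * x * g⁻¹ = x) ∨ ∀ x ∈ X r, g * x * g⁻¹ = z r * x * z r := by
  have hzz := C.z_sq r P.mem
  have hzi : (z r)⁻¹ = z r := inv_eq_of_mul_eq_one_left hzz
  have tor : ∀ {x : I → ℤ}, IsRoot cs h x → ∀ u ∈ X x, z r * u * z r ∈ X x := by
    intro x hx u hu
    have h1 := C.rgd.tor x hx _ (C.z_torus r P.mem)
    rw [← h1]
    have h2 : z r * u * z r = z r * u * (z r)⁻¹ := by rw [hzi]
    rw [h2]
    exact conj_mem_cj.2 hu
  rcases hpm with h1 | h1
  · rcases dich P C hp2 hexp hne hg nr nq cr (fun a ha => by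
      calc g * a = (g * a * g⁻¹) * g := by group
        _ = a * g := by rw [h1 a ha]) cz with h2 | h2
    · left
      intro x hx
      rw [h2 x hx]; group
    · exact Or.inr h2
  · have hgg : (g * z r) * (g * z r) = 1 := by
      calc (g * z r) * (g * z r) = g * (z r * g) * z r := by group
        _ = (g * g) * (z r * z r) := by rw [← cz]; group
        _ = 1 := by rw [hg, hzz, one_mul]
    have hconj : ∀ x, (g * z r) * x * (g * z r)⁻¹ = g * (z r * x * z r) * g⁻¹ := by
      intro x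
      rw [mul_inv_rev, hzi]; group
    have hw0 : r - y ≠ r := P.ne 1 (-1) 1 0 (by module) (by module) (by omega)
    have hw0' : r - y ≠ -r := P.ne 1 (-1) (-1) 0 (by module) (by module) (by omega)
    rcases dich P C hp2 hexp hne hgg (fun x hx => by rw [hconj]; exact nr _ (tor P.L.root x hx))
      (fun x hx => by rw [hconj]; exact nq _ (tor P.rootq x hx))
      (fun a ha => by rw [mul_assoc, C.z_cent r P.mem a ha, ← mul_assoc, cr a ha, mul_assoc])
      (fun a ha => by
        have h2 : (g * z r) * a * (g * z r)⁻¹ = a := by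
          rw [hconj, C.z_inv r P.mem _ P.rootw hw0 hw0' (by rw [P.fwr]; exact P.pos.ne') a ha, h1 _ (inv_mem ha),
            inv_inv]
        calc (g * z r) * a = ((g * z r) * a * (g * z r)⁻¹) * (g * z r) := by group
          _ = a * (g * z r) := by rw [h2])
      (by rw [mul_assoc, ← mul_assoc (z r) g, ← cz, mul_assoc]) with h2 | h2
    · right
      intro x hx
      have hx' := tor P.L.root x hx
      have h3 := h2 _ hx'
      have h4 : (g * z r) * (z r * x * z r) * (g * z r)⁻¹ = z r * x * z r := by rw [h3]; group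
      rw [hconj] at h4
      have h5 : z r * (z r * x * z r) * z r = x := by
        calc z r * (z r * x * z r) * z r = (z r * z r) * x * (z r * z r) := by group
          _ = x := by rw [hzz, one_mul, mul_one]
      rwa [h5] at h4
    · left
      intro x hx
      have hx' := tor P.L.root x hx
      have h4 := h2 _ hx'
      rw [hconj] at h4
      have h5 : z r * (z r * x * z r) * z r = x := by
        calc z r * (z r * x * z r) * z r = (z r * z r) * x * (z r * z r) := by group
          _ = x := by rw [hzz, one_mul, mul_one]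
      rwa [h5] at h4

/-- **`e` centralises `X r`.** -/
theorem e_cent (hne : ∃ t ∈ X (r - (2 : ℤ) • y), t ∉ Z (r - (2 : ℤ) • y)) {A : Subgroup Y}
    (nor : ∀ x, IsRoot cs h x → ∀ g ∈ A, ∀ u ∈ X x, g * u * g⁻¹ ∈ X x)
    (cen : ∀ x ∈ R, ∀ g ∈ A, ∀ u ∈ Z x, g * u = u * g) {K K' : Subgroup Y} {e : Y} (hK : QK K e) (hK' : QK K' e)
    (hKK : ∀ a ∈ K, ∀ b ∈ K', a * b = b * a) (hA : K ≤ A) (hA' : K' ≤ A)
    (hew : ∀ u ∈ X (r - y), e * u = u * e) : ∀ x ∈ X r, e * x = x * e := by
  have hq := P.memq C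
  have cz : ∀ g ∈ A, g * z r = z r * g := by
    intro g hg
    have h3 : Z r ⊔ Z (-r) ≤ Subgroup.centralizer {g} := by
      refine sup_le (fun a ha => ?_) (fun a ha => ?_)
      · rw [Subgroup.mem_centralizer_singleton_iff]; exact (cen r P.mem g hg a ha).symm
      · rw [Subgroup.mem_centralizer_singleton_iff]
        exact (cen (-r) (Nodes.ClsNorm.neg_mem C P.mem) g hg a ha).symm
    have h4 := h3 (C.z_mem r P.mem)
    rw [Subgroup.mem_centralizer_singleton_iff] at h4
    exact h4.symm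
  have hee := hK.sq
  have hei : e⁻¹ = e := inv_eq_of_mul_eq_one_left hee
  -- the conclusion from an involution
  have fin : ∀ x₀ ∈ A, x₀ * x₀ = 1 → ∀ b₀ ∈ A, b₀ * x₀ * b₀⁻¹ = e * x₀ →
      ((∀ u ∈ X (r - y), x₀ * u * x₀⁻¹ = u) ∨ ∀ u ∈ X (r - y), x₀ * u * x₀⁻¹ = u⁻¹) → ∀ x ∈ X r, e * x = x * e := by
    intro x₀ hx₀ h1 b₀ hb₀ h2 hpm x hx
    have hxi : x₀⁻¹ = x₀ := inv_eq_of_mul_eq_one_left h1
    have he : e = b₀ * x₀ * b₀⁻¹ * x₀⁻¹ := by rw [h2]; group
    have hd := one_or_z P C hp2 hexp hne h1 (nor r P.L.root x₀ hx₀) (nor _ P.rootq x₀ hx₀) (cen r P.mem x₀ hx₀)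
      (cz x₀ hx₀) hpm
    have hcon : ∀ v ∈ X r, b₀ * (x₀ * v * x₀⁻¹) * b₀⁻¹ = x₀ * (b₀ * v * b₀⁻¹) * x₀⁻¹ := by
      intro v hv
      have hv' := nor r P.L.root b₀ hb₀ v hv
      rcases hd with hd | hd
      · rw [hd v hv, hd _ hv']
      · rw [hd v hv, hd _ hv']
        have hc := cz b₀ hb₀
        have hc' : b₀⁻¹ * z r = z r * b₀⁻¹ := by
          calc b₀⁻¹ * z r = b₀⁻¹ * (z r * b₀) * b₀⁻¹ := by group
            _ = b₀⁻¹ * (b₀ * z r) * b₀⁻¹ := by rw [hc]
            _ = z r * b₀⁻¹ := by group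
        calc b₀ * (z r * v * z r) * b₀⁻¹ = (b₀ * z r) * v * (z r * b₀⁻¹) := by group
          _ = (z r * b₀) * v * (b₀⁻¹ * z r) := by rw [hc, hc']
          _ = z r * (b₀ * v * b₀⁻¹) * z r := by group
    have hx1 : x₀⁻¹ * x * x₀ ∈ X r := by
      have := nor r P.L.root x₀⁻¹ (inv_mem hx₀) x hx
      rwa [inv_inv] at this
    have hx2 : b₀⁻¹ * (x₀⁻¹ * x * x₀) * b₀ ∈ X r := by
      have := nor r P.L.root b₀⁻¹ (inv_mem hb₀) _ hx1
      rwa [inv_inv] at this
    have h3 := hcon _ hx2
    have h4 : e * x * e⁻¹ = x := by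
      calc e * x * e⁻¹ = b₀ * (x₀ * (b₀⁻¹ * (x₀⁻¹ * x * x₀) * b₀) * x₀⁻¹) * b₀⁻¹ := by
            rw [he]; group
        _ = x₀ * (b₀ * (b₀⁻¹ * (x₀⁻¹ * x * x₀) * b₀) * b₀⁻¹) * x₀⁻¹ := h3
        _ = x := by group
    calc e * x = (e * x * e⁻¹) * e := by group
      _ = x * e := by rw [h4]
  -- Lemma S for `X (r - y)`
  have hfl : r - (r - y) = y := sub_sub_cancel r y
  have hfq : r - (2 : ℤ) • (r - y) = -(r - (2 : ℤ) • y) := by module
  have nm : ∀ g ∈ A, Nm X Z r (r - y) g := fun g hg =>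
    { ny := nor _ P.rootw g hg
      nw := nor _ (by rw [hfl]; exact P.root) g hg
      nr := nor _ P.L.root g hg
      cq := cen _ (by rw [hfq]; exact Nodes.ClsNorm.neg_mem C hq) g hg }
  have cew : ∀ u ∈ X (r - y), e * u * e⁻¹ = u := fun u hu => by rw [hew u hu]; group
  have S : ∀ g ∈ A, ∀ g' ∈ A, g * g = 1 → g' * g' = 1 → (g * g' = g' * g ∨ g * g' = e * (g' * g)) →
      ((∀ u ∈ X (r - y), g * u * g⁻¹ = u) ∨ ∀ u ∈ X (r - y), g * u * g⁻¹ = u⁻¹) ∨
      ((∀ u ∈ X (r - y), g' * u * g'⁻¹ = u) ∨ ∀ u ∈ X (r - y), g' * u * g'⁻¹ = u⁻¹) ∨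
      (∀ u ∈ X (r - y), (g * g') * u * (g * g')⁻¹ = u) ∨ ∀ u ∈ X (r - y), (g * g') * u * (g * g')⁻¹ = u⁻¹ := by
    intro g hg g' hg' h1 h2 h3
    have hc : ∀ u, g * (g' * u * g'⁻¹) * g⁻¹ = (g * g') * u * (g * g')⁻¹ := fun u => by group
    have hc' : ∀ u, g' * (g * u * g⁻¹) * g'⁻¹ = (g' * g) * u * (g' * g)⁻¹ := fun u => by group
    have h4 := pm (flip P) C hp2 hexp (nm g hg) (nm g' hg')
      (fun u _ => by
        calc g * (g * u * g⁻¹) * g⁻¹ = (g * g) * u * (g * g)⁻¹ := by group
          _ = u := by rw [h1]; group)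
      (fun u _ => by
        calc g' * (g' * u * g'⁻¹) * g'⁻¹ = (g' * g') * u * (g' * g')⁻¹ := by group
          _ = u := by rw [h2]; group)
      (fun u hu => by
        rw [hc, hc']
        rcases h3 with h3 | h3
        · rw [h3]
        · have h5 : (g' * g) * u * (g' * g)⁻¹ ∈ X (r - y) := nor _ P.rootw _ (mul_mem hg' hg) u hu
          rw [h3]
          calc e * (g' * g) * u * (e * (g' * g))⁻¹ = e * ((g' * g) * u * (g' * g)⁻¹) * e⁻¹ := by group
            _ = _ := cew _ h5)
    simpa only [hc] using h4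
  obtain ⟨a, ha, b, hb, haa, hbb, hab⟩ := hK.com
  obtain ⟨c, hc, d, hd, hcc, hdd, hcd⟩ := hK'.com
  have ac := hKK a ha c hc
  have bc := hKK b hb c hc
  have ad := hKK a ha d hd
  have bd := hKK b hb d hd
  have ec : e * c = c * e := by
    rw [← hcc]; group
  have ea : e * a = a * e := by
    rw [← haa]; group
  have eb : e * b = b * e := by
    rw [← hbb]; group
  have sqr : ∀ {x x' : Y}, x * x = e → x' * x' = e → x * x' = x' * x → (x * x') * (x * x') = 1 := by
    intro x x' h1 h2 h3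
    calc (x * x') * (x * x') = x * (x' * x) * x' := by group
      _ = (x * x) * (x' * x') := by rw [← h3]; group
      _ = 1 := by rw [h1, h2, hee]
  -- `b a = e a b`
  have hba : b * a = e * (a * b) := by
    rw [hab, ← mul_assoc, hee, one_mul]
  have hbab : b * a * b⁻¹ = e * a := by rw [hba]; group
  have haba : a * b * a⁻¹ = e * b := by rw [hab]; group
  have hmem : ∀ {x x' : Y}, x ∈ K → x' ∈ K' → x * x' ∈ A := fun h1 h2 => mul_mem (hA h1) (hA' h2)
  have f1 := fin (a * c) (hmem ha hc) (sqr haa hcc ac) b (hA hb) (by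
    calc b * (a * c) * b⁻¹ = (b * a) * (c * b⁻¹) := by group
      _ = (b * a * b⁻¹) * (b * c * b⁻¹) := by group
      _ = e * a * c := by rw [hbab, bc]; group
      _ = e * (a * c) := by group)
  have f2 := fin (b * c) (hmem hb hc) (sqr hbb hcc bc) a (hA ha) (by
    calc a * (b * c) * a⁻¹ = (a * b * a⁻¹) * (a * c * a⁻¹) := by group
      _ = e * b * c := by rw [haba, ac]; group
      _ = e * (b * c) := by group)
  have f3 := fin (a * d) (hmem ha hd) (sqr haa hdd ad) b (hA hb) (by
    calc b * (a * d) * b⁻¹ = (b * a * b⁻¹) * (b * d * b⁻¹) := by group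
      _ = e * a * d := by rw [hbab, bd]; group
      _ = e * (a * d) := by group)
  have habs : (a * b) * (a * b) = e := by
    calc (a * b) * (a * b) = a * (b * a) * b := by group
      _ = a * (e * (a * b)) * b := by rw [hba]
      _ = (a * e) * a * (b * b) := by group
      _ = e * (a * a) * (b * b) := by rw [← ea]; group
      _ = e := by rw [haa, hbb, hee, one_mul]
  have ed : e * d = d * e := by
    rw [← hdd]; group
  have hdc : d * c = e * (c * d) := by
    rw [hcd, ← mul_assoc, hee, one_mul]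
  have hcds : (c * d) * (c * d) = e := by
    calc (c * d) * (c * d) = c * (d * c) * d := by group
      _ = c * (e * (c * d)) * d := by rw [hdc]
      _ = (c * e) * c * (d * d) := by group
      _ = e * (c * c) * (d * d) := by rw [← ec]; group
      _ = e := by rw [hcc, hdd, hee, one_mul]
  have f4 := fin ((a * b) * (c * d)) (hmem (mul_mem ha hb) (mul_mem hc hd))
    (sqr habs hcds (hKK _ (mul_mem ha hb) _ (mul_mem hc hd))) a (hA ha) (by
      have h1 := hKK a ha _ (mul_mem hc hd)
      calc a * ((a * b) * (c * d)) * a⁻¹ = a * (a * b * a⁻¹) * (a * (c * d) * a⁻¹) := by group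
        _ = a * (e * b) * (c * d) := by rw [haba, h1]; group
        _ = (a * e) * b * (c * d) := by group
        _ = e * ((a * b) * (c * d)) := by rw [← ea]; group)
  rcases S (a * c) (hmem ha hc) (b * c) (hmem hb hc) (sqr haa hcc ac) (sqr hbb hcc bc) (Or.inr (by
    calc (a * c) * (b * c) = a * (c * b) * c := by group
      _ = (a * b) * (c * c) := by rw [← bc]; group
      _ = e * (b * a) * (c * c) := by rw [hab]
      _ = e * (b * (a * c) * c) := by group
      _ = e * (b * (c * a) * c) := by rw [ac]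
      _ = e * ((b * c) * (a * c)) := by group)) with h1 | h1 | h1
  · exact f1 h1
  · exact f2 h1
  rcases S (a * c) (hmem ha hc) (a * d) (hmem ha hd) (sqr haa hcc ac) (sqr haa hdd ad) (Or.inr (by
    calc (a * c) * (a * d) = a * (c * a) * d := by group
      _ = (a * a) * (c * d) := by rw [← ac]; group
      _ = (a * a) * (e * (d * c)) := by rw [hcd]
      _ = e * ((a * a) * (d * c)) := by rw [haa]
      _ = e * (a * (a * d) * c) := by group
      _ = e * (a * (d * a) * c) := by rw [ad]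
      _ = e * ((a * d) * (a * c)) := by group)) with h2 | h2 | h2
  · exact f1 h2
  · exact f3 h2
  -- `a b` and `c d` are `± 1`
  have e1 : (a * c) * (b * c) = e * (a * b) := by
    calc (a * c) * (b * c) = a * (c * b) * c := by group
      _ = (a * b) * (c * c) := by rw [← bc]; group
      _ = (a * b) * e := by rw [hcc]
      _ = a * (e * b) := by rw [mul_assoc, ← eb]
      _ = e * (a * b) := by rw [← mul_assoc, ← ea, mul_assoc]
  have e2 : (a * c) * (a * d) = e * (c * d) := by
    calc (a * c) * (a * d) = a * (c * a) * d := by group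
      _ = (a * a) * (c * d) := by rw [← ac]; group
      _ = e * (c * d) := by rw [haa]
  have drop : ∀ g ∈ A, ∀ u ∈ X (r - y), (e * g) * u * (e * g)⁻¹ = g * u * g⁻¹ := by
    intro g hg u hu
    calc (e * g) * u * (e * g)⁻¹ = e * (g * u * g⁻¹) * e⁻¹ := by group
      _ = _ := cew _ (nor _ P.rootw g hg u hu)
  have habA : a * b ∈ A := hA (mul_mem ha hb)
  have hcdA : c * d ∈ A := hA' (mul_mem hc hd)
  rw [e1] at h1
  rw [e2] at h2
  have h1' : (∀ u ∈ X (r - y), (a * b) * u * (a * b)⁻¹ = u) ∨ ∀ u ∈ X (r - y), (a * b) * u * (a * b)⁻¹ = u⁻¹ := by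
    rcases h1 with h1 | h1
    · exact Or.inl fun u hu => by rw [← drop _ habA u hu]; exact h1 u hu
    · exact Or.inr fun u hu => by rw [← drop _ habA u hu]; exact h1 u hu
  have h2' : (∀ u ∈ X (r - y), (c * d) * u * (c * d)⁻¹ = u) ∨ ∀ u ∈ X (r - y), (c * d) * u * (c * d)⁻¹ = u⁻¹ := by
    rcases h2 with h2 | h2
    · exact Or.inl fun u hu => by rw [← drop _ hcdA u hu]; exact h2 u hu
    · exact Or.inr fun u hu => by rw [← drop _ hcdA u hu]; exact h2 u hu
  apply f4
  have hcj : ∀ u, (a * b) * (c * d) * u * ((a * b) * (c * d))⁻¹ = (a * b) * ((c * d) * u * (c * d)⁻¹) * (a * b)⁻¹ :=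
    fun u => by group
  rcases h1' with h1 | h1 <;> rcases h2' with h2 | h2
  · left
    intro u hu
    rw [hcj, h2 u hu, h1 u hu]
  · right
    intro u hu
    rw [hcj, h2 u hu, h1 _ (inv_mem hu)]
  · right
    intro u hu
    rw [hcj, h2 u hu, h1 u hu]
  · left
    intro u hu
    rw [hcj, h2 u hu, h1 _ (inv_mem hu), inv_inv]

end pl

/-! ### Charts -/

section chart

variable {G : Type*} [Group G] [Finite G] {Om : Set (Subgroup G)} {p : ℕ} {L : Subgroup G}

/-- the type `F₄` -/
theorem out2_F4 (c : Chart Om p L) (hτ : c.IsTy .F4) (hXZ : ∀ r ∈ c.R, c.Z r = c.X r)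
    {F : Set (c.I → ℤ)} (hF : MaxF c.cls F) : Out2 c.cls F := by
  have : Fact p.Prime := ⟨c.prime⟩
  have S := std_of_isTy c hτ (Or.inr rfl)
  have ns : ∀ x, IsRoot c.cs c.h x → ∃ r ∈ F, form c.cs c.h x r ≠ 0 := fun x hx => ns_F4 c hτ hF hx
  have hT : c.T ≤ G1 c.cs c.h c.X := c.T_le.trans_eq c.gen.symm
  refine Out2.of_triv fun K e hK hcen => triv_of_X c.cls fun x hx => ?_
  by_cases hxR : x ∈ c.R
  · obtain ⟨y, hyR, P⟩ := exists_pl_of_isTy c hτ (Or.inr rfl) hxR
    exact long_triv S hF ns c.odd hT hK hcen P hyR (fun r hr => (hXZ r hr).symm)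
  · exact short_triv S hF ns c.odd hT hK hcen hx hxR

/-- the type `C n`, `X = Z` for long roots -/
theorem out2_C_eq (c : Chart Om p L) {n : ℕ} (hτ : c.IsTy (.C n)) (hXZ : ∀ r ∈ c.R, c.Z r = c.X r)
    {F : Set (c.I → ℤ)} (hF : MaxF c.cls F) : Out2 c.cls F := by
  have : Fact p.Prime := ⟨c.prime⟩
  have S := std_of_isTy c hτ (Or.inl ⟨n, rfl⟩)
  have ns : ∀ x, IsRoot c.cs c.h x → ∃ r ∈ F, form c.cs c.h x r ≠ 0 := fun x hx => ns_C c hτ hF hx
  have hT : c.T ≤ G1 c.cs c.h c.X := c.T_le.trans_eq c.gen.symm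
  refine Out2.of_triv fun K e hK hcen => triv_of_X c.cls fun x hx => ?_
  by_cases hxR : x ∈ c.R
  · intro u hu
    rw [← hXZ x hxR] at hu
    exact hcen.comm x (by rw [F_eq_C c hτ hF]; exact hxR) u hu e hK.mem
  · exact short_triv S hF ns c.odd hT hK hcen hx hxR

/-- **`Out2` for the type `C n`, `n ≥ 2`.** -/
theorem out2_C (c : Chart Om p L) {n : ℕ} (hn : 2 ≤ n) (hτ : c.IsTy (.C n))
    (hexp : ∀ r ∈ c.R, ∀ x ∈ c.Z r, x ^ p = 1) {F : Set (c.I → ℤ)} (hF : MaxF c.cls F) : Out2 c.cls F := by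
  by_cases hXZ : ∀ r ∈ c.R, c.Z r = c.X r
  · exact out2_C_eq c hτ hXZ hF
  push Not at hXZ
  obtain ⟨r₀, hr₀, hne₀⟩ := hXZ
  have : Fact p.Prime := ⟨c.prime⟩
  have S := std_of_isTy c hτ (Or.inl ⟨n, rfl⟩)
  have ns : ∀ x, IsRoot c.cs c.h x → ∃ r ∈ F, form c.cs c.h x r ≠ 0 := fun x hx => ns_C c hτ hF hx
  have hT : c.T ≤ G1 c.cs c.h c.X := c.T_le.trans_eq c.gen.symm
  have hFR := F_eq_C c hτ hF
  have hne : ∀ r ∈ c.R, ∃ t ∈ c.X r, t ∉ c.Z r := by
    intro r hr
    by_contra hcon
    push Not at hcon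
    have h1 : c.Z r = c.X r := le_antisymm (c.cls.le r hr) hcon
    obtain ⟨w, hw⟩ := c.trans r hr r₀ hr₀
    obtain ⟨g, hg⟩ := exists_rp c.cs c.cls.rgd.nsys w
    have h2 := Nodes.ClsNorm.conj_Z c.cls hg hr
    have h3 := c.cls.rgd.conj_rp hg (c.cls.root r hr)
    rw [← hw] at h2 h3
    exact hne₀ (by rw [← h2, ← h3, h1])
  intro K K' e hK hK' hc hc' hKK
  have hcc := cen_sup hc hc'
  have nor : ∀ x, IsRoot c.cs c.h x → ∀ g ∈ K ⊔ K', ∀ u ∈ c.X x, g * u * g⁻¹ ∈ c.X x := by
    intro x hx g hg u hu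
    by_cases hxR : x ∈ c.R
    · have hxF : x ∈ F := by rw [hFR]; exact hxR
      rw [← MM_eq_C c hτ hF hxF] at hu ⊢
      exact wt_inv c.cls hT hF.sub hxF (S.lg x hxR).pos hcc hg hu
    · obtain ⟨r, hr, P⟩ := exists_pl S hF ns hx hxR
      rw [← MM_eq (X := c.X) S hF ns hx hxR] at hu ⊢
      exact wt_inv c.cls hT hF.sub hr (by rw [P.fyr]; exact P.pos) hcc hg hu
  have cen : ∀ x ∈ c.R, ∀ g ∈ K ⊔ K', ∀ u ∈ c.Z x, g * u = u * g := by
    intro x hx g hg u hu
    exact hcc.comm x (by rw [hFR]; exact hx) u hu g hg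
  refine triv_of_X c.cls fun x hx => ?_
  by_cases hxR : x ∈ c.R
  · obtain ⟨y, hyR, P⟩ := exists_pl_of_isTy c hτ (Or.inl ⟨n, hn, rfl⟩) hxR
    have hwR : x - y ∉ c.R := by
      intro h0
      have h1 := S.same P.mem h0
      have h2 := (flip P).h2
      have h3 := (S.lg _ h0).pos
      omega
    exact e_cent P c.cls c.odd (hexp x hxR) (hne _ (P.memq c.cls)) nor cen hK hK' hKK le_sup_left le_sup_right
      (short_triv S hF ns c.odd hT hK hc P.rootw hwR)
  · exact short_triv S hF ns c.odd hT hK hc hx hxR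

end chart

end Cfsg.Agent.LOC.CnPair
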