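import Cfsg.Agent.Cit.Nil.LO.MainTwo
import Cfsg.Agent.Cit.Nil.LO.CnPair
import Cfsg.Agent.Cit.Nil.LO.TypeB
import Cfsg.Agent.Cit.CoreOneEnd
import Cfsg.Agent.Cit.OneIdentMain

/-!
# S1309 (n1), piece (C): all charts

* `chartOut` : **`ChartOut`**; `chartOut2` : **`ChartOut2`**, for the simple groups of Lie type in odd characteristic
  (from `CoreOne.IdentStmt`, used in rank one only); `allOut`, `allOut2` : without hypotheses.
-/

set_option autoImplicit false
set_option linter.dupNamespace false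

open Subgroup Cfsg
open Cfsg.Agent.LOC.ChartDefs (MaxF Out QK)

namespace Cfsg.Agent.Cit.Nil.LO.Charts

open Cfsg.Agent.Cit.Nil.LO

universe u

/-- **All charts.** -/
theorem chartOut (hI : CoreOne.IdentStmt.{u}) : ChartOut.{u} := by
  intro H _ _ L F _ _ t J f hL hs hna p c τ hτ ok small hch sl zx R hR
  have hexp := Cfsg.Agent.LOC.BReidx.hexp_of_sl c sl
  cases τ with
  | A n => exact Cfsg.Agent.LOC.Simply.out c hτ ok R hR
  | D n => exact Cfsg.Agent.LOC.Simply.out c hτ trivial R hR
  | E6 => exact Cfsg.Agent.LOC.Simply.out c hτ trivial R hR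
  | E7 => exact Cfsg.Agent.LOC.Simply.out c hτ trivial R hR
  | E8 => exact Cfsg.Agent.LOC.Simply.out c hτ trivial R hR
  | G2 => exact absurd ok (by intro h; exact h)
  | B n =>
    rcases zx with h | ⟨m, hm⟩
    · exact Cfsg.Agent.LOC.TypeB.out c hτ (le_trans (by norm_num) (show 3 ≤ n from ok)) h hexp hR
    · cases hm
  | F4 =>
    rcases zx with h | ⟨m, hm⟩
    · exact Cfsg.Agent.LOC.StdChart.out_F4 c hτ h hR
    · cases hm
  | C n =>
    have hn : 1 ≤ n := ok
    by_cases h1 : n = 1
    · subst h1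
      obtain ⟨e, -⟩ := hτ
      refine TypeC1.out_of_card_one hI f hL hs c ?_ hR
      rw [Fintype.card_congr e]
      exact Fintype.card_fin _
    · exact Cfsg.Agent.LOC.TypeCn.out_C c (by omega) hτ hexp hR

/-- **All charts, two members over the same involution.** -/
theorem chartOut2 (hI : CoreOne.IdentStmt.{u}) : ChartOut2.{u} := by
  intro H _ _ L F _ _ t J f hL hs hna p c τ hτ ok small hch sl zx R hR
  have hexp := Cfsg.Agent.LOC.BReidx.hexp_of_sl c sl
  cases τ with
  | A n => exact Cfsg.Agent.LOC.OutTwo.out2 c hτ ok R hR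
  | D n => exact Cfsg.Agent.LOC.OutTwo.out2 c hτ trivial R hR
  | E6 => exact Cfsg.Agent.LOC.OutTwo.out2 c hτ trivial R hR
  | E7 => exact Cfsg.Agent.LOC.OutTwo.out2 c hτ trivial R hR
  | E8 => exact Cfsg.Agent.LOC.OutTwo.out2 c hτ trivial R hR
  | G2 => exact absurd ok (by intro h; exact h)
  | B n =>
    rcases zx with h | ⟨m, hm⟩
    · exact Cfsg.Agent.LOC.OutTwo.Out2.of_triv
        (Cfsg.Agent.LOC.TypeB.triv c hτ (le_trans (by norm_num) (show 3 ≤ n from ok)) h hexp hR)
    · cases hm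
  | F4 =>
    rcases zx with h | ⟨m, hm⟩
    · exact Cfsg.Agent.LOC.CnPair.out2_F4 c hτ h hR
    · cases hm
  | C n =>
    have hn : 1 ≤ n := ok
    by_cases h1 : n = 1
    · subst h1
      obtain ⟨e, -⟩ := hτ
      refine out2_of_card_one hI f hL hs c ?_ hR
      rw [Fintype.card_congr e]
      exact Fintype.card_fin _
    · exact Cfsg.Agent.LOC.CnPair.out2_C c (by omega) hτ hexp hR

/-- **`ChartOut`**, without hypotheses -/
theorem allOut : ChartOut.{u} := chartOut (OneIdentMain.identStmt CoreOneEnd.ext)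

/-- **`ChartOut2`**, without hypotheses -/
theorem allOut2 : ChartOut2.{u} := chartOut2 (OneIdentMain.identStmt CoreOneEnd.ext)

end Cfsg.Agent.Cit.Nil.LO.Charts
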