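import Cfsg.Agent.Cit.Nil.LO.PropEnd
import Cfsg.Agent.Cit.Nil.CompR.TPm

/-!
# S1309, node (n2), corollary: `T'` for the points and for the members, `1 ≠ s ∈ T_S`

* `tpm` : `TPm Om s` for `1 ≠ s ∈ TT (ZZ Om) (RR Om) S`;  `tp` : `TP (ZZ Om) (RR Om)`.
-/

set_option autoImplicit false
set_option linter.style.haveILetI false
set_option linter.unusedSectionVars false

namespace Cfsg.Agent.Cit.Nil.LO

open Subgroup Cfsg Cit RG IndDefs
open Cfsg.Agent.Cit.Nil.Three (H8 TG)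
open Cfsg.Agent.Cit.Nil.ROne (CP CS TT)
open Cfsg.Agent.Cit.Nil.CompR (GW TP TPm tpm_of_ih)

universe u

variable {G : Type u} [Group G] [Finite G] {Om : Set (Subgroup G)} {s : G}

theorem TT_le_TG {S : Subgroup G} : ROne.TT (RG.ZZ Om) (RR Om) S ≤ TG Om S := by
  refine (closure_le _).2 ?_
  rintro z ⟨⟨K, hK⟩, hz⟩
  exact subset_closure ⟨K, hK.1, (WR.le_RR hK).trans hz, hK.2⟩

/-- **`T'` for the members in `C(s)`** -/
theorem tpm (h1311 : P11.{u}) (h7 : Sock.{u}) (w : SCW G Om)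
    (hcore : ∀ v : G, orderOf v = 2 → centralizerPPrimeCore 2 v = ⊥) {T₀ : Subgroup G} (hT₀ : IsPGroup 2 T₀)
    (hs : s ∈ TG Om T₀) (hs1 : s ≠ 1) : TPm Om s := by
  have h2 : orderOf s = 2 := orderOf_eq_prime (by rw [pow_two]; exact TG_sq w.t0 hT₀ hs) hs1
  exact tpm_of_ih w hs1 (pPrimeCore_cent (hcore s h2)) (no_three h1311 h7 w hcore hT₀ hs)

/-- **`T'` for the points** -/
theorem tp (h1311 : P11.{u}) (h7 : Sock.{u}) (w : SCW G Om)
    (hcore : ∀ v : G, orderOf v = 2 → centralizerPPrimeCore 2 v = ⊥) : TP (RG.ZZ Om) (RR Om) := by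
  intro S s hs hs1
  exact (tpm h1311 h7 w hcore S.isPGroup' (TT_le_TG hs) hs1).tps (WR.of_hyp w.t0.hyp w.t0.card) w.t0.hyp

end Cfsg.Agent.Cit.Nil.LO
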