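import Cfsg.Agent.Cit.Nil.LO.Main
import Cfsg.Agent.Cit.HexFactBMain

/-!
# S1309 (n1), piece (C), `G₂(q)`, `³D₄(q)`: the socket `ExcOut`

By `HexBase.facts_of_iso` an involutory automorphism of `L`, trivial on a member `J'`, is trivial or induced by the
involution of `J'`. A Sylow 2-subgroup containing `E_z`, `E_u` has some `J' ∈ Om_c(S)`, centralised by `z`, `u`.
-/

set_option autoImplicit false
set_option linter.dupNamespace false

open Subgroup Cfsg
open Cfsg.Agent.OddHalf.NI.FTwo (SL)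

namespace Cfsg.Agent.Cit.Nil.LO

universe u

open RG

variable {H : Type u} [Group H] [Finite H] {L : Subgroup H} {F : Type} [Field F] [Fintype F] {t : H}
  {J : Subgroup H}

/-- the members of the classical class as members in the group `L` -/
theorem mem_of_front (f : Front L F t J) {K : Subgroup H} (hK : K ∈ cls J) :
    HexBase.Mem ↥L (K.subgroupOf L) ⟨zz K, f.le K hK (f.hyp.zz_mem hK)⟩ := by
  have hKL := f.le K hK
  have hs := f.sl_mem hK
  have hs' : SL F ↥(K.subgroupOf L) := hs.congr (subgroupOfEquivOfLe hKL).symm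
  refine ⟨f.hyp.zz_mem hK, Subtype.ext (f.hyp.zz_mul hK), fun h => f.hyp.zz_ne hK (congrArg Subtype.val h), ?_, ?_, ?_⟩
  · intro x hx
    rw [mem_centralizer_singleton_iff]
    exact Subtype.ext (mem_centralizer_singleton_iff.1 (f.hyp.le_centralizer hK hx))
  · have h1 := f.hyp.sub K hK
    set C : Subgroup ↥L := centralizer {(⟨zz K, f.le K hK (f.hyp.zz_mem hK)⟩ : ↥L)} with hC
    let g : ↥C →* ↥(centralizer ({zz K} : Set H)) :=
      { toFun := fun x => ⟨((x : ↥L) : H), mem_centralizer_singleton_iff.2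
          (congrArg Subtype.val (mem_centralizer_singleton_iff.1 x.2))⟩
        map_one' := rfl
        map_mul' := fun _ _ => rfl }
    exact h1.comap g
  · obtain ⟨e⟩ := hs'.equiv
    have h2 : (2 : F) ≠ 0 := SignalizersComponents.SLQuasisimple.two_ne_zero_of_odd hs.odd
    exact HexBase.isType_of_equiv h2 e

/-- **`ExcOut`**: the socket for `G₂(q)`, `³D₄(q)`. -/
theorem excOut : ExcOut.{u} := by
  intro H _ _ L F _ _ t J f hL hs hna _ p hp hp2 iso _ _ Om w z u K K' hK hK' hne hc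
  have hz : z ∈ RG.ZZ Om := ⟨K, hK⟩
  have hu : u ∈ RG.ZZ Om := ⟨K', hK'⟩
  obtain ⟨-, S, hzS, huS⟩ := exists_sylow w hK hu hne (fun k hk => (hc k hk u (w.Ov_mem hK')).symm)
  have hS : IsPGroup 2 (S : Subgroup H) := S.isPGroup'
  obtain ⟨P, hP⟩ : ∃ P, P ∈ OmS (cls J) (S : Subgroup H) := by
    by_contra hcon
    push Not at hcon
    exact not_comm_all f.hyp S (self_mem_cls J) fun P' hP' => absurd hP' (hcon P')
  have inn := (HexBase.facts_of_iso HexFactBMain.h4_all HexFactBMain.h5_all (X := ↥L) ⟨p, hp, hp2, iso⟩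
    (mem_of_front f hP.1)).1.inn
  set v : ↥L := ⟨zz P, f.le P hP.1 (f.hyp.zz_mem hP.1)⟩ with hv
  have key : ∀ x : H, x * x = 1 → (∀ a ∈ P, x * a = a * x) →
      (MulAut.conjNormal x : MulAut ↥L) = 1 ∨ (MulAut.conjNormal x : MulAut ↥L) = MulAut.conj v := by
    intro x hx hxP
    refine inn _ (by rw [← map_mul, hx, map_one]) fun y hy => ?_
    apply Subtype.ext
    rw [MulAut.conjNormal_apply]
    have h1 : x * (y : H) = y * x := hxP _ hy
    rw [h1, mul_inv_cancel_right]
  have back : ∀ x : H, (MulAut.conjNormal x : MulAut ↥L) = 1 → ∀ l ∈ L, x * l = l * x := by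
    intro x hx l hl
    have h1 := congrArg Subtype.val (DFunLike.congr_fun hx (⟨l, hl⟩ : ↥L))
    rw [MulAut.conjNormal_apply, MulAut.one_apply] at h1
    have h2 : x * l * x⁻¹ = l := h1
    rwa [mul_inv_eq_iff_eq_mul] at h2
  have hPz : ∀ a ∈ P, z * a = a * z := fun a ha =>
    sl_centralizer w f.hyp f.sls hz hS hzS hP z (WR.le_RR hK (w.Ov_mem hK)) a ha
  have hPu : ∀ a ∈ P, u * a = a * u := fun a ha =>
    sl_centralizer w f.hyp f.sls hu hS huS hP u (WR.le_RR hK' (w.Ov_mem hK')) a ha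
  rcases key z (w.zz_sq hz) hPz with h1 | h1
  · exact Or.inl (back z h1)
  rcases key u (w.zz_sq hu) hPu with h2 | h2
  · exact Or.inr (Or.inl (back u h2))
  refine Or.inr (Or.inr (back (z * u) ?_))
  have hvv : v * v = 1 := Subtype.ext (f.hyp.zz_mul hP.1)
  rw [map_mul, h1, h2, ← map_mul, hvv, map_one]

end Cfsg.Agent.Cit.Nil.LO
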