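import Cfsg.Agent.Cit.Nil.LO.SevDef

/-!
# S1309 (n2), section 7 of LieOdd: the plug of `Sev` for a frame

`sev_frame` : `K i` quaternion groups with involutions `e i`, all centralising a maximal frame of members in `L`,
`g` of odd order commutes with the `K i`, `s` is a product of the `e i` and `g` commutes with the `p`-elements of
`C_L(s)`: then `g` centralises `L`.
-/

set_option autoImplicit false
set_option linter.unusedSectionVars false
set_option linter.dupNamespace false

namespace Cfsg.Agent.LOC.SevFrame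

open CoxeterSystem Cfsg.Agent.ChevalleyStructure.CoxeterGeom Cfsg.Agent.Tits.Roots Cfsg.Agent.Tits.Core
  Cfsg.Agent.Tits.RootComb Cfsg.Agent.Nodes.Comb Cfsg.Agent.Nodes.SubComb Cfsg.Agent.Nodes.Reps
  Cfsg.Agent.Nodes.Coroot Cfsg.Agent.Nodes.PosPair Cfsg.Agent.Nodes.BNOf Cfsg.Agent.Nodes.RGDLib
  Cfsg.Agent.Nodes.Chart Cfsg.Agent.Nodes.ClsNorm Cfsg.Agent.Nodes.ChartLoc Cfsg.Agent.Nodes.ChartFrame
  Cfsg.Agent.LOC.ChartDefs Cfsg.Agent.LOC.SevDef

variable {G : Type*} [Group G]

/-- products of elements acting on `L` as `1` or as the involution `e` -/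
theorem closure_alt {L : Subgroup G} {e : G} (he : e * e = 1) (hn : e ∈ Subgroup.normalizer (L : Set G)) {T : Set G}
    (hT : ∀ x ∈ T, x ∈ Subgroup.centralizer (L : Set G) ∨ x * e ∈ Subgroup.centralizer (L : Set G)) {s : G}
    (hs : s ∈ Subgroup.closure T) :
    s ∈ Subgroup.centralizer (L : Set G) ∨ s * e ∈ Subgroup.centralizer (L : Set G) := by
  have hei : e⁻¹ = e := inv_eq_of_mul_eq_one_right he
  have hc : ∀ x, x ∈ Subgroup.centralizer (L : Set G) → e * x * e ∈ Subgroup.centralizer (L : Set G) := by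
    intro x hx
    rw [Subgroup.mem_centralizer_iff] at hx ⊢
    intro l hl
    have h1 : e * l * e⁻¹ ∈ L := (Subgroup.mem_normalizer_iff.1 hn l).1 hl
    have h2 := hx _ h1
    rw [hei] at h2
    calc l * (e * x * e) = (e * e) * l * (e * x * e) := by rw [he, one_mul]
      _ = e * ((e * l * e) * x) * e := by group
      _ = e * (x * (e * l * e)) * e := by rw [h2]
      _ = e * x * e * l * (e * e) := by group
      _ = e * x * e * l := by rw [he, mul_one]
  induction hs using Subgroup.closure_induction with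
  | mem x hx => exact hT x hx
  | one => exact Or.inl (one_mem _)
  | mul x y _ _ hx hy =>
    rcases hx with hx | hx <;> rcases hy with hy | hy
    · exact Or.inl (mul_mem hx hy)
    · refine Or.inr ?_
      rw [mul_assoc]
      exact mul_mem hx hy
    · refine Or.inr ?_
      have h1 : x * y * e = (x * e) * (e * y * e) := by
        calc x * y * e = x * (e * e) * y * e := by rw [he, mul_one]
          _ = _ := by group
      rw [h1]
      exact mul_mem hx (hc y hy)
    · refine Or.inl ?_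
      have h1 : x * y = (x * e) * (e * (y * e) * e) := by
        calc x * y = x * (e * e) * y * (e * e) := by rw [he, mul_one, mul_one]
          _ = _ := by group
      rw [h1]
      exact mul_mem hx (hc _ hy)
  | inv x _ hx =>
    rcases hx with hx | hx
    · exact Or.inl (inv_mem hx)
    · refine Or.inr ?_
      have h1 : x⁻¹ * e = e * (x * e)⁻¹ * e := by
        rw [mul_inv_rev, hei]
        calc x⁻¹ * e = (e * e) * x⁻¹ * e := by rw [he, one_mul]
          _ = _ := by group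
      rw [h1]
      exact hc _ (inv_mem hx)

variable {Om : Set (Subgroup G)} {q : ℕ} {L : Subgroup G}

/-- elements commuting with all `q`-elements of `L` -/
theorem cent_of_pel (C : Chart Om q L) {g : G} (H : ∀ l ∈ L, IsPGroup q (Subgroup.zpowers l) → g * l = l * g) :
    ∀ l ∈ L, g * l = l * g := by
  have : Fact q.Prime := ⟨C.prime⟩
  have h1 : L ≤ Subgroup.centralizer {g} := by
    have h2 : G1 C.cs C.h C.X ≤ Subgroup.centralizer {g} := by
      unfold G1
      refine iSup_le ?_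
      rintro ⟨y, hy⟩ a ha
      rw [Subgroup.mem_centralizer_singleton_iff]
      have hX : C.X y ≤ L := (X_le_G1 hy).trans C.gen.le
      exact (H a (hX ha) ((C.cls.rgd.pgrp' hy).to_le (Subgroup.zpowers_le.2 ha))).symm
    rwa [C.gen] at h2
  intro l hl
  exact (Subgroup.mem_centralizer_singleton_iff.1 (h1 hl)).symm

/-- **The plug.** -/
theorem sev_frame (C : Chart Om q L) (hO : ∀ K ∈ Om, ∀ g, Cfsg.Agent.Cit.cj g K ∈ Om)
    (hout : ∀ F, MaxF C.cls F → Out C.cls F) (hsev : ∀ F, MaxF C.cls F → Sev C.cls F)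
    {κ : Type*} [Finite κ] (J : κ → Subgroup G) (hJ : ∀ i, J i ∈ Om) (hJL : ∀ i, J i ≤ L)
    (hc : ∀ i j, i ≠ j → Cfsg.Agent.Cit.TypeDet.cm (J i) (J j)) (hmax : ∀ P ∈ Om, P ≤ L → ¬ ∀ k, Cfsg.Agent.Cit.TypeDet.cm P (J k))
    {ι : Type*} {K : ι → Subgroup G} {e : ι → G} (hK : ∀ i, QK (K i) (e i))
    (hKL : ∀ i, ∀ k ∈ K i, k ∈ Subgroup.normalizer (L : Set G))
    (hKJ : ∀ i j, ∀ a ∈ J j, ∀ k ∈ K i, k * a = a * k) {g s : G} (hg : Odd (orderOf g))
    (hgL : g ∈ Subgroup.normalizer (L : Set G)) (hgK : ∀ i, ∀ k ∈ K i, g * k = k * g)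
    (hs : s ∈ Subgroup.closure (Set.range e))
    (hfix : ∀ l ∈ L, IsPGroup q (Subgroup.zpowers l) → s * l = l * s → g * l = l * g) :
    ∀ l ∈ L, g * l = l * g := by
  by_cases hall : ∀ i, ∀ l ∈ L, e i * l = l * e i
  · refine cent_of_pel C fun l hl hp => hfix l hl hp ?_
    have h1 : Subgroup.closure (Set.range e) ≤ Subgroup.centralizer (L : Set G) := by
      rw [Subgroup.closure_le]
      rintro _ ⟨i, rfl⟩
      exact Subgroup.mem_centralizer_iff.2 fun l hl => (hall i l hl).symm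
    exact (Subgroup.mem_centralizer_iff.1 (h1 hs) l hl).symm
  push Not at hall
  obtain ⟨i₀, l₀, hl₀, hne⟩ := hall
  have hnt : ¬ ∀ l ∈ L, e i₀ * l = l * e i₀ := fun h => hne (h l₀ hl₀)
  have he := (hK i₀).sq
  have hn := hKL i₀ _ (hK i₀).mem
  rcases closure_alt (L := L) he hn (T := Set.range e) (by
    rintro _ ⟨i, rfl⟩
    rcases KL_frame C hO hout J hJ hJL hc hmax (hK i) (hK i₀) (hKL i) (hKL i₀) (hKJ i) (hKJ i₀) with h | h | h
    · exact Or.inl (Subgroup.mem_centralizer_iff.2 fun l hl => (h l hl).symm)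
    · exact absurd h hnt
    · exact Or.inr (Subgroup.mem_centralizer_iff.2 fun l hl => (h l hl).symm)) hs with h | h
  · exact cent_of_pel C fun l hl hp => hfix l hl hp (Subgroup.mem_centralizer_iff.1 h l hl).symm
  -- `s` acts as `e`
  have hse : ∀ l ∈ L, e i₀ * l = l * e i₀ → s * l = l * s := by
    intro l hl h1
    have h2 := Subgroup.mem_centralizer_iff.1 h l hl
    have h3 : s * l * e i₀ = l * s * e i₀ := by
      calc s * l * e i₀ = s * (l * e i₀) := by group
        _ = s * e i₀ * l := by rw [← h1]; group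
        _ = l * s * e i₀ := by rw [← h2]; group
    exact mul_right_cancel h3
  obtain ⟨r, d, FI⟩ := exists_frameIn C (K := J) (fun i => ⟨hJ i, hJL i⟩) hc
  have hmax' := FI.max hO (fun P hP hh => hmax P hP.1 hP.2 hh)
  obtain ⟨F, hF⟩ : ∃ F : Set (C.I → ℤ), F = {x | ∃ i, x = r i ∨ x = -r i} := ⟨_, rfl⟩
  have hmemF : ∀ x, x ∈ F ↔ ∃ i, x = r i ∨ x = -r i := fun x => by rw [hF]; rfl
  have hFR : ∀ x ∈ F, x ∈ C.R := by
    intro x hx
    obtain ⟨i, rfl | rfl⟩ := (hmemF x).1 hx
    · exact FI.R i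
    · exact Nodes.ClsNorm.neg_mem C.cls (FI.R i)
  have hM : MaxF C.cls F := by
    refine ⟨hFR, ?_, ?_, ?_⟩
    · intro x hx
      obtain ⟨i, rfl | rfl⟩ := (hmemF x).1 hx
      · exact (hmemF _).2 ⟨i, Or.inr rfl⟩
      · exact (hmemF _).2 ⟨i, Or.inl (neg_neg _)⟩
    · intro x hx t ht h1 h2
      obtain ⟨i, hi⟩ := (hmemF x).1 hx
      obtain ⟨j, hj⟩ := (hmemF t).1 ht
      have hij : i ≠ j := by
        rintro rfl
        rcases hi with rfl | rfl <;> rcases hj with rfl | rfl
        · exact h1 rfl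
        · exact h2 rfl
        · exact h2 (neg_neg _).symm
        · exact h1 rfl
      have h0 := FI.orth i j hij
      rcases hi with rfl | rfl <;> rcases hj with rfl | rfl <;>
        simp only [form_neg_left, form_neg_right, h0, neg_zero]
    · intro x hx
      by_contra hcon
      push Not at hcon
      exact hmax' x hx fun k => hcon _ ((hmemF _).2 ⟨k, Or.inl rfl⟩)
  have hdn : d ∈ Subgroup.normalizer (L : Set G) := Subgroup.le_normalizer FI.mem
  have cjn : ∀ k, k ∈ Subgroup.normalizer (L : Set G) → d * k * d⁻¹ ∈ Subgroup.normalizer (L : Set G) :=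
    fun k hk => mul_mem (mul_mem hdn hk) (inv_mem hdn)
  have hcc : Cen C.cls F (cj d (K i₀)) := by
    refine ⟨?_, ?_⟩
    · intro x hx a ha k hk
      obtain ⟨i, hi⟩ := (hmemF x).1 hx
      have ha' : a ∈ cj d (J i) := by
        rw [FI.eq]
        unfold Nodes.Perp.KK
        rcases hi with h3 | h3
        · rw [← h3]; exact (le_sup_left : C.Z x ≤ _) ha
        · have h4 : r i = -x := by rw [h3, neg_neg]
          rw [h4, neg_neg]
          exact (le_sup_right : C.Z x ≤ _) ha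
      rw [mem_cj] at ha' hk
      have h3 := hKJ i₀ i _ ha' _ hk
      have h4 : k * a = d * ((d⁻¹ * k * d) * (d⁻¹ * a * d)) * d⁻¹ := by group
      have h5 : a * k = d * ((d⁻¹ * a * d) * (d⁻¹ * k * d)) * d⁻¹ := by group
      rw [h4, h3, ← h5]
    · intro k hk
      rw [C.gen]
      rw [mem_cj] at hk
      have h5 : k = d * (d⁻¹ * k * d) * d⁻¹ := by group
      rw [h5]
      exact cjn _ (hKL i₀ _ hk)
  have back : ∀ x : G, Triv C.cls (d * x * d⁻¹) → ∀ l ∈ L, x * l = l * x := by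
    intro x hx l hl
    have h1 := hx (d * l * d⁻¹) (by
      rw [C.gen]
      exact mul_mem (mul_mem FI.mem hl) (inv_mem FI.mem))
    have h2 : d * (x * l) * d⁻¹ = d * (l * x) * d⁻¹ := by
      have e1 : d * (x * l) * d⁻¹ = d * x * d⁻¹ * (d * l * d⁻¹) := by group
      have e2 : d * (l * x) * d⁻¹ = d * l * d⁻¹ * (d * x * d⁻¹) := by group
      rw [e1, h1, ← e2]
    exact mul_left_cancel (mul_right_cancel h2)
  have : Fact q.Prime := ⟨C.prime⟩
  refine back g (hsev F hM (cj d (K i₀)) (d * e i₀ * d⁻¹) (d * g * d⁻¹) ((hK i₀).conj d) hcc ?_ ?_ ?_ ?_ fun h1 =>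
    hnt (back _ h1))
  · have h1 : orderOf (d * g * d⁻¹) = orderOf g := (MulAut.conj d).orderOf_eq g
    rw [h1]
    exact hg
  · rw [C.gen]
    exact cjn g hgL
  · intro k hk
    rw [mem_cj] at hk
    have h3 := hgK i₀ _ hk
    have h4 : d * g * d⁻¹ * k = d * (g * (d⁻¹ * k * d)) * d⁻¹ := by group
    have h5 : k * (d * g * d⁻¹) = d * ((d⁻¹ * k * d) * g) * d⁻¹ := by group
    rw [h4, h3, ← h5]
  · intro y hy a ha h1
    have hX : C.X y ≤ L := (X_le_G1 hy).trans C.gen.le
    have haL : d⁻¹ * a * d ∈ L := mul_mem (mul_mem (inv_mem FI.mem) (hX ha)) FI.mem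
    have h2 : e i₀ * (d⁻¹ * a * d) = d⁻¹ * a * d * e i₀ := by
      have h3 : e i₀ * (d⁻¹ * a * d) = d⁻¹ * (d * e i₀ * d⁻¹ * a) * d := by group
      have h4 : d⁻¹ * a * d * e i₀ = d⁻¹ * (a * (d * e i₀ * d⁻¹)) * d := by group
      rw [h3, h1, ← h4]
    have hp : IsPGroup q (Subgroup.zpowers (d⁻¹ * a * d)) := by
      have h3 : IsPGroup q (Subgroup.zpowers a) := (C.cls.rgd.pgrp' hy).to_le (Subgroup.zpowers_le.2 ha)
      obtain ⟨k, hk⟩ := h3 ⟨a, Subgroup.mem_zpowers a⟩
      have hk' : a ^ q ^ k = 1 := congrArg Subtype.val hk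
      obtain ⟨m, -, hm⟩ := (Nat.dvd_prime_pow C.prime).1 (orderOf_dvd_of_pow_eq_one (n := q ^ k)
        (x := d⁻¹ * a * d) (by
          have h4 : d⁻¹ * a * d = d⁻¹ * a * d⁻¹⁻¹ := by rw [inv_inv]
          rw [h4, conj_pow, hk']; group))
      exact IsPGroup.of_card (n := m) (by rw [Nat.card_zpowers, hm])
    have h3 := hfix _ haL hp (hse _ haL h2)
    have h4 : d * g * d⁻¹ * a = d * (g * (d⁻¹ * a * d)) * d⁻¹ := by group
    have h5 : a * (d * g * d⁻¹) = d * ((d⁻¹ * a * d) * g) * d⁻¹ := by group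
    rw [h4, h3, ← h5]

end Cfsg.Agent.LOC.SevFrame
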