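import Cfsg.Agent.Cit.Nil.LO.SevExc
import Cfsg.Agent.Cit.Nil.LO.SevFrame
import Cfsg.Agent.Cit.Nil.LO.Exc
import Cfsg.Agent.FixBN.Transport
import Cfsg.Agent.Cit.FixComp
import Cfsg.Agent.Cit.CoreOne

/-!
# S1309 (n2), section 7 of LieOdd: `c` centralises the components of Lie type in odd characteristic

`seven` : the world `TW`, `L` a component of `H` with `s` nontrivial on `L`, `L / Z(L)` of Lie type in odd
characteristic, not `PSL₂(q)`, `²G₂(q)`: then `c` centralises `L`. Sockets: `TStmt`, `ChartOut`, `ChartSev`.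
-/

set_option autoImplicit false
set_option linter.dupNamespace false
set_option linter.unusedSectionVars false

open Subgroup Cfsg
open Cfsg.Agent.OddHalf.NI (LieBig)
open Cfsg.Agent.UGT.Iface (IsL2)
open Cfsg.Agent.OddHalf.NI.FTwo (SL)
open Cfsg.Agent.LOC.ChartDefs (MaxF Out QK)
open Cfsg.Agent.LOC.SevDef (Sev)

namespace Cfsg.Agent.Cit.Nil.LO

open RG SevX SevFront SevPair SevExc

universe u

/-- **SOCKET**: the output `Sev` for all maximal frames of the charts of `L` (`L` not `G₂(q)`, `³D₄(q)`) -/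
def ChartSev : Prop :=
  ∀ (H : Type u) [Group H] [Finite H] (L : Subgroup H) (F : Type) [Field F] [Fintype F] (t : H) (J : Subgroup H),
    Front L F t J → L.Normal → IsSimpleGroup ↥L → ¬ IsMulCommutative ↥L → ¬ CoreOne.G2D4 ↥L →
    ∀ (p : ℕ) (c : Nodes.Chart.Chart (cls J) p L) (τ : Nodes.Chart.Ty), c.IsTy τ → KindOk τ →
      (Fintype.card c.I ≤ 2 → IsLieTypeChar p ↥L) → CharP F p →
      (∀ r ∈ c.R, Nonempty (Matrix.SpecialLinearGroup (Fin 2) F ≃* ↥(c.Z r ⊔ c.Z (-r)))) →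
      ((∀ r ∈ c.R, c.Z r = c.X r) ∨ ∃ n, τ = .C n) → ∀ R, MaxF c.cls R → Sev c.cls R

namespace SevX

section lift

variable {H : Type*} [Group H] [Finite H] {X : Type*} [Group X] {L : Subgroup H}
  {π : ↥(normalizer (L : Set H)) →* X}

theorem NX.cext (h : NX L π) (h2 : IsPGroup 2 ↥(center ↥L)) : GH.Cov.Lft.CExt (rho π) := by
  have h0 : ∀ c, rho π c = 1 → c ∈ center ↥L := fun c hc => by
    rw [← h.ker_rho]; exact hc
  refine ⟨rho_surj, ?_, ?_⟩
  · intro c hc x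
    exact (mem_center_iff.mp (h0 c hc) x).symm
  · intro c hc
    obtain ⟨n, hn⟩ := h2 ⟨c, h0 c hc⟩
    exact ⟨n, congrArg Subtype.val hn⟩

/-- **Elements of odd order of `im π L` commuting with `s` lift to elements commuting with `s`.** -/
theorem NX.lift_fixed (h : NX L π) (h2 : IsPGroup 2 ↥(center ↥L)) {s : H} (hs : s ∈ normalizer (L : Set H)) {y : X}
    (hy : y ∈ im π L) (ho : Odd (orderOf y)) (hc : π ⟨s, hs⟩ * y = y * π ⟨s, hs⟩) :
    ∃ (v : H) (hv : v ∈ L), π ⟨v, le_normalizer hv⟩ = y ∧ orderOf v = orderOf y ∧ v * s = s * v := by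
  have hf := h.cext h2
  have ho' : Odd (orderOf (⟨y, hy⟩ : ↥(im π L))) := by rw [Subgroup.orderOf_mk]; exact ho
  obtain ⟨v, hv, hvo⟩ := hf.exists_lift ho'
  have hvy : π ⟨v, le_normalizer v.2⟩ = y := congrArg Subtype.val hv
  have hov : Odd (orderOf v) := by rw [hvo]; exact ho'
  have h1 : CT.nAut hs v = v := by
    refine hf.unique ?_ hov ?_
    · rw [(CT.nAut hs).orderOf_eq]; exact hov
    · apply Subtype.ext
      rw [coe_rho, coe_rho, hvy]
      have h3 : (⟨(CT.nAut hs v : ↥L), le_normalizer (CT.nAut hs v).2⟩ : ↥(normalizer (L : Set H))) =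
          ⟨s, hs⟩ * ⟨v, le_normalizer v.2⟩ * ⟨s, hs⟩⁻¹ := rfl
      rw [h3, map_mul, map_mul, map_inv, hvy, hc, mul_inv_cancel_right]
  refine ⟨v, v.2, hvy, ?_, ?_⟩
  · rw [Subgroup.orderOf_coe, hvo, Subgroup.orderOf_mk]
  · have h3 : s * (v : H) * s⁻¹ = v := congrArg Subtype.val h1
    calc (v : H) * s = s * v * s⁻¹ * s := by rw [h3]
      _ = s * v := by group

/-- the image of a quaternion group -/
theorem qk_im {K : Subgroup H} {e : H} (hK : QK K e) (hKN : K ≤ normalizer (L : Set H))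
    (hne : π ⟨e, hKN hK.mem⟩ ≠ 1) : QK (im π K) (π ⟨e, hKN hK.mem⟩) := by
  have up : ∀ {a b : H} (ha : a ∈ normalizer (L : Set H)) (hb : b ∈ normalizer (L : Set H)),
      π ⟨a, ha⟩ * π ⟨b, hb⟩ = π ⟨a * b, mul_mem ha hb⟩ := fun ha hb => (map_mul π _ _).symm
  have ec : ∀ {a b : H} (ha : a ∈ normalizer (L : Set H)) (hb : b ∈ normalizer (L : Set H)), a = b →
      π ⟨a, ha⟩ = π ⟨b, hb⟩ := by
    rintro a _ ha hb rfl
    rfl
  have e1 : ∀ (h1 : (1 : H) ∈ normalizer (L : Set H)), π ⟨1, h1⟩ = 1 := fun _ => map_one π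
  refine ⟨mem_im.2 ⟨e, _, hK.mem, rfl⟩, hne, ?_, ?_, ?_, ?_, ?_⟩
  · rw [up, ec _ (one_mem _) hK.sq, e1]
  · intro x hx
    obtain ⟨k, hk, h1, rfl⟩ := mem_im.1 hx
    rw [up, up]
    exact ec _ _ (hK.cen k h1)
  · intro x hx
    obtain ⟨k, hk, h1, rfl⟩ := mem_im.1 hx
    rcases hK.pow k h1 with h2 | h2
    · left; rw [up, ec _ (one_mem _) h2, e1]
    · right; rw [up]; exact ec _ _ h2
  · intro x hx hxx
    obtain ⟨k, hk, h1, rfl⟩ := mem_im.1 hx
    rcases hK.pow k h1 with h2 | h2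
    · rcases hK.one k h1 h2 with h3 | h3
      · left; rw [ec _ (one_mem _) h3, e1]
      · right; exact ec _ _ h3
    · exfalso
      rw [up, ec _ (hKN hK.mem) h2] at hxx
      exact hne hxx
  · obtain ⟨a, ha, b, hb, h1, h2, h3⟩ := hK.com
    refine ⟨π ⟨a, hKN ha⟩, mem_im.2 ⟨a, _, ha, rfl⟩, π ⟨b, hKN hb⟩, mem_im.2 ⟨b, _, hb, rfl⟩, ?_, ?_, ?_⟩
    · rw [up]; exact ec _ _ h1
    · rw [up]; exact ec _ _ h2
    · rw [up, up, up]; exact ec _ _ h3

end lift

end SevX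

section seven

theorem BigG.congr {X Y : Type*} [Group X] [Group Y] (e : X ≃* Y) (h : BigG X) : BigG Y := by
  obtain ⟨F, i1, i2, ho, h⟩ := h
  refine ⟨F, i1, i2, ho, ?_⟩
  rcases h with ⟨h3, ⟨f⟩⟩ | ⟨q, hq, hqo, h3, hc, ⟨f⟩⟩
  · exact Or.inl ⟨h3, ⟨e.symm.trans f⟩⟩
  · exact Or.inr ⟨q, hq, hqo, h3, hc, ⟨e.symm.trans f⟩⟩

variable {H : Type u} [Group H] [Finite H] {Om : Set (Subgroup H)} {S : Sylow 2 H} {N L : Subgroup H} {s c a : H}

/-- **`N(L) / C(L)`** -/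
theorem exists_nx (L : Subgroup H) : ∃ (X : Type u) (_ : Group X) (_ : Finite X)
    (π : ↥(normalizer (L : Set H)) →* X), NX L π := by
  refine ⟨↥(L.normalizerMonoidHom).range, inferInstance, Finite.of_surjective _
    (L.normalizerMonoidHom).rangeRestrict_surjective, (L.normalizerMonoidHom).rangeRestrict,
    (L.normalizerMonoidHom).rangeRestrict_surjective, fun n => ?_⟩
  have h1 : (L.normalizerMonoidHom).rangeRestrict n = 1 ↔ n ∈ (L.normalizerMonoidHom).ker := by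
    rw [MonoidHom.mem_ker, ← OneMemClass.coe_eq_one, MonoidHom.coe_rangeRestrict]
  rw [h1, normalizerMonoidHom_ker, mem_subgroupOf]

section chart

variable {X : Type u} [Group X] [Finite X] {π : ↥(normalizer (L : Set H)) →* X} {F : Type} [Field F] [Fintype F]
  {j : H} {J : Subgroup H} {tX : X}

/-- the image of `s` is a product of images of the involutions acting nontrivially -/
theorem s_mem_closure (t : TW Om S N (RR Om a) s c) (h : NX L π) (hL : IsComponent L) :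
    π ⟨s, t.s_norm hL⟩ ∈ closure {x | ∃ (K : Subgroup H) (hK : K ∈ Om) (_ : K ≤ (S : Subgroup H)),
      ¬ Cen L (zz K) ∧ x = π ⟨zz K, mem_normalizer_iff_cj.2 (t.zz_norm hL hK)⟩} := by
  obtain ⟨T, hT⟩ : ∃ T : Set X, T = {x | ∃ (K : Subgroup H) (hK : K ∈ Om) (_ : K ≤ (S : Subgroup H)),
      ¬ Cen L (zz K) ∧ x = π ⟨zz K, mem_normalizer_iff_cj.2 (t.zz_norm hL hK)⟩} := ⟨_, rfl⟩
  rw [← hT]
  have h1 : closure {z | ∃ K ∈ Om, K ≤ (S : Subgroup H) ∧ zz K = z} ≤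
      ((closure T).comap π).map (normalizer (L : Set H)).subtype := by
    rw [closure_le]
    rintro _ ⟨K, hK, hKS, rfl⟩
    refine ⟨⟨zz K, mem_normalizer_iff_cj.2 (t.zz_norm hL hK)⟩, ?_, rfl⟩
    rw [SetLike.mem_coe, mem_comap]
    by_cases hc : Cen L (zz K)
    · rw [(h.ker _).2 (mem_centralizer_iff.2 fun x hx => (hc x hx).symm)]
      exact one_mem _
    · refine subset_closure ?_
      rw [hT]
      exact ⟨K, hK, hKS, hc, rfl⟩
  obtain ⟨⟨x, hx⟩, h2, h3⟩ := h1 t.sT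
  have h4 : (⟨s, t.s_norm hL⟩ : ↥(normalizer (L : Set H))) = ⟨x, hx⟩ := Subtype.ext h3.symm
  rw [h4]
  exact h2

/-- **The chart case.** -/
theorem seven_chart (t : TW Om S N (RR Om a) s c) (ha : ∀ x : H, a * x = x * a) (h : NX L π) (hL : IsComponent L)
    (cl : Cl F j J) (hJL : J ≤ L) (f : Front (im π L) F tX (im π J)) {p : ℕ}
    (C : Nodes.Chart.Chart (cls (im π J)) p (im π L)) (hout : ∀ R, MaxF C.cls R → Out C.cls R)
    (hsev : ∀ R, MaxF C.cls R → Sev C.cls R) : Cen L c := by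
  have hq := hL.2
  have h2 := t.two_center hL
  have hLL : ⁅L, L⁆ = L := OddHalf.NI.FTwo.commutator_eq_of_quasisimple hq
  have hn := im_normal h
  have hs' := h.simple hq
  have hna := h.nc hq
  have hp : Fact p.Prime := ⟨C.prime⟩
  have hsplit : FixBN.HasSplit p (↥L ⧸ center ↥L) :=
    FixBN.Transport.hasSplit_congr ((quoEquiv hs' hna).trans h.quo.symm) (CT.hasSplit_of_chart C (quasi_of_simple hs' hna))
  have hF : CT.FixP p L := CT.fixP_of_hasSplit C.odd h2 hsplit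
  have hcn := t.c_norm ha hL
  have hsn := t.s_norm hL
  have hnorm : ∀ x : X, x ∈ normalizer (im π L : Set X) := fun x => by
    rw [normalizer_eq_top_iff.2 hn]; exact mem_top x
  have hKN : ∀ {K : Subgroup H}, K ∈ Om → K ≤ (S : Subgroup H) → K ≤ normalizer (L : Set H) :=
    fun hK hKS => (WR.le_RR (z := zz _) ⟨hK, rfl⟩).trans (RR_norm t h hL cl hJL hK hKS)
  have hnt : ∀ {K : Subgroup H} (hK : K ∈ Om) (_ : ¬ Cen L (zz K)),
      π ⟨zz K, mem_normalizer_iff_cj.2 (t.zz_norm hL hK)⟩ ≠ 1 := by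
    intro K hK hnc h1
    apply hnc
    intro x hx
    exact (mem_centralizer_iff.1 ((h.ker _).1 h1) x hx).symm
  have main := LOC.SevFrame.sev_frame C (fun K hK g => f.hyp.conj K hK g) hout hsev
    (κ := {Q : Subgroup H // Q ∈ OmS (cls J) (S : Subgroup H) ∧ Q ≤ L}) (fun Q => im π Q.1)
    (fun Q => im_mem_cls hL cl hJL Q.2.1.1 Q.2.2) (fun Q => im_mono Q.2.2)
    (fun Q Q' hne => im_comm (sl_comm cl.hyp_zz.1 cl.sls S.isPGroup' Q.2.1 Q'.2.1 fun h' => hne (Subtype.ext h')))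
    (fun P hP _ hcon => frame_max h hL cl hJL S hP fun Q hQ hQL => hcon ⟨Q, hQ, hQL⟩)
    (ι := {K : Subgroup H // K ∈ Om ∧ K ≤ (S : Subgroup H) ∧ ¬ Cen L (zz K)}) (K := fun K => im π K.1)
    (e := fun K => π ⟨zz K.1, mem_normalizer_iff_cj.2 (t.zz_norm hL K.2.1)⟩)
    (fun K => qk_im (qk t.w ⟨K.2.1, rfl⟩) (hKN K.2.1 K.2.2.1) (hnt K.2.1 K.2.2.2))
    (fun K k _ => hnorm k)
    (fun K Q x hx k hk => by
      obtain ⟨x, hxn, hxQ, rfl⟩ := mem_im.1 hx
      obtain ⟨k, hkn, hkK, rfl⟩ := mem_im.1 hk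
      rw [← map_mul, ← map_mul]
      congr 1
      exact Subtype.ext (RR_cent t cl K.2.1 K.2.2.1 Q.2.1 k (WR.le_RR ⟨K.2.1, rfl⟩ hkK) x hxQ))
    (g := π ⟨c, hcn⟩) (s := π ⟨s, hsn⟩)
    (Odd.of_dvd_nat t.odd ((orderOf_map_dvd π _).trans (by rw [Subgroup.orderOf_mk])))
    (hnorm _)
    (fun K k hk => by
      obtain ⟨k, hkn, hkK, rfl⟩ := mem_im.1 hk
      rw [← map_mul, ← map_mul]
      congr 1
      refine Subtype.ext ?_
      rcases t.fix K.1 K.2.1 K.2.2.1 with h3 | h3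
      · exact h3 k hkK
      · exfalso
        exact K.2.2.2 fun x hx => (comp_pCore hL (h3 (t.w.zm K.2.1)) hx).symm)
    (by
      refine closure_mono ?_ (s_mem_closure t h hL)
      rintro _ ⟨K, hK, hKS, hnc, rfl⟩
      exact ⟨⟨K, hK, hKS, hnc⟩, rfl⟩)
    (by
      intro l hl hlp hls
      have hpo : Odd p := (Fact.out : p.Prime).odd_of_ne_two C.odd
      obtain ⟨k, hk⟩ := hlp ⟨l, mem_zpowers l⟩
      have hk' : l ^ p ^ k = 1 := congrArg Subtype.val hk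
      have hlo : Odd (orderOf l) := Odd.of_dvd_nat (hpo.pow (n := k)) (orderOf_dvd_of_pow_eq_one hk')
      obtain ⟨v, hv, rfl, hvo, hvs⟩ := h.lift_fixed h2 hsn hl hlo hls
      have hvp : IsPGroup p (zpowers v) := by
        obtain ⟨m, -, hm⟩ := (Nat.dvd_prime_pow C.prime).1 (orderOf_dvd_of_pow_eq_one hk')
        exact IsPGroup.of_card (n := m) (by rw [Nat.card_zpowers, hvo, hm])
      have h3 := t.comm_p hL hcn hsn C.odd hF hv hvs hvp
      rw [← map_mul, ← map_mul]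
      congr 1
      exact Subtype.ext h3.symm)
  have h3 := h.mem_centralizer hLL hcn main
  intro x hx
  exact (mem_centralizer_iff.1 h3 x hx).symm

/-- **`G₂(q)`, `³D₄(q)`.** -/
theorem seven_exc (t : TW Om S N (RR Om a) s c) (h : NX L π) (hL : IsComponent L) (hs : ¬ Cen L s)
    (cl : Cl F j J) (hJL : J ≤ L) (f : Front (im π L) F tX (im π J)) (hG : BigG ↥(im π L)) : False := by
  have hq := hL.2
  have h2 := t.two_center hL
  have hLL : ⁅L, L⁆ = L := OddHalf.NI.FTwo.commutator_eq_of_quasisimple hq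
  have hn := im_normal h
  have hC := h.centralizer_im hLL
  obtain ⟨K, hK, hKS, hnc, -⟩ := t.exists_w hL hs
  obtain ⟨Q, hQ, hQL⟩ := exists_frame h hL cl hJL S
  obtain ⟨Q2, D⟩ := exists_duo hG (mem_of_front f (im_mem_cls hL cl hJL hQ.1 hQL))
  have hzn : zz K ∈ normalizer (L : Set H) := mem_normalizer_iff_cj.2 (t.zz_norm hL hK)
  have hRN := RR_norm t h hL cl hJL hK hKS
  have hz1 : π ⟨zz K, hzn⟩ ≠ 1 := by
    intro h1
    apply hnc
    intro x hx
    exact (mem_centralizer_iff.1 ((h.ker _).1 h1) x hx).symm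
  have hKz : K ∈ Ov Om (zz K) := ⟨hK, rfl⟩
  have hzR : zz K ∈ RR Om (zz K) := WR.le_RR hKz (t.w.Ov_mem hKz)
  have hEP : ∀ e ∈ im π (RR Om (zz K)), ∀ x ∈ (im π Q).subgroupOf (im π L), e * (x : X) = x * e := by
    intro e he x hx
    obtain ⟨e, hen, heR, rfl⟩ := mem_im.1 he
    obtain ⟨y, hyn, hyQ, hyx⟩ := mem_im.1 (mem_subgroupOf.1 hx)
    rw [← hyx, ← map_mul, ← map_mul]
    congr 1
    exact Subtype.ext (RR_cent t cl hK hKS hQ e heR y hyQ)
  obtain ⟨k, hk, -, -, hkk, -, -⟩ := (qk t.w hKz).com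
  have hkR : k ∈ RR Om (zz K) := WR.le_RR hKz hk
  have hkn := hRN hkR
  have hkk' : π ⟨k, hkn⟩ * π ⟨k, hkn⟩ = π ⟨zz K, hzn⟩ := by
    rw [← map_mul]
    congr 1
    exact Subtype.ext hkk
  have hzz : π ⟨zz K, hzn⟩ * π ⟨zz K, hzn⟩ = 1 := by
    rw [← map_mul, ← map_one π]
    congr 1
    exact Subtype.ext (t.w.zz_sq ⟨K, hKz⟩)
  have hzw : π ⟨zz K, hzn⟩ = _ := (D.dich hC hzz (hEP _ (mem_im.2 ⟨_, hzn, hzR, rfl⟩))).resolve_left hz1
  refine false_of_duo hn hC D (E := im π (RR Om (zz K))) (im_isPGroup (t.w.RR_two ⟨K, hKz⟩)) hEP ?_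
    (k := π ⟨k, hkn⟩) (mem_im.2 ⟨k, hkn, hkR, rfl⟩) (by rw [hkk']; exact hz1) (by rw [hkk', hzz])
  -- `Q2` normalises the image of `E_z`
  have hgen := OddHalf.NI3.K.LiftY.le_closure_odd D.quasi.1.commutator_eq_top
  have hle : Q2 ≤ (normalizer (im π (RR Om (zz K)) : Set X)).comap (im π L).subtype := by
    refine hgen.trans ?_
    rw [closure_le]
    rintro y ⟨hy, ho⟩
    rw [SetLike.mem_coe, mem_comap]
    change (y : X) ∈ normalizer (im π (RR Om (zz K)) : Set X)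
    have hzy : π ⟨zz K, hzn⟩ * (y : X) = y * π ⟨zz K, hzn⟩ := by
      rw [hzw]
      exact congrArg Subtype.val (D.comm _ (mem_of_front f (im_mem_cls hL cl hJL hQ.1 hQL)).mem y hy)
    obtain ⟨v, hv, hvy, -, hvz⟩ := h.lift_fixed h2 hzn y.2 (by rw [Subgroup.orderOf_coe]; exact ho) hzy
    rw [← hvy]
    have key : ∀ {v : H} (hv : v ∈ normalizer (L : Set H)), v * zz K = zz K * v → ∀ x ∈ im π (RR Om (zz K)),
        π ⟨v, hv⟩ * x * (π ⟨v, hv⟩)⁻¹ ∈ im π (RR Om (zz K)) := by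
      intro v hv hvz x hx
      obtain ⟨e, hen, heR, rfl⟩ := mem_im.1 hx
      rw [← map_inv, ← map_mul, ← map_mul]
      exact mem_im.2 ⟨v * e * v⁻¹, _, WR.RR_cj' t.w heR hvz, rfl⟩
    rw [mem_normalizer_iff]
    intro x
    refine ⟨key _ hvz x, fun hx => ?_⟩
    have h3 := key (inv_mem (le_normalizer hv)) (by
      calc v⁻¹ * zz K = v⁻¹ * (zz K * v) * v⁻¹ := by group
        _ = zz K * v⁻¹ := by rw [← hvz]; group) _ hx
    have h4 : π ⟨v⁻¹, inv_mem (le_normalizer hv)⟩ = (π ⟨v, le_normalizer hv⟩)⁻¹ :=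
      map_inv π (⟨v, le_normalizer hv⟩ : ↥(normalizer (L : Set H)))
    rw [h4] at h3
    have h5 : (π ⟨v, le_normalizer hv⟩)⁻¹ * (π ⟨v, le_normalizer hv⟩ * x * (π ⟨v, le_normalizer hv⟩)⁻¹) *
        (π ⟨v, le_normalizer hv⟩)⁻¹⁻¹ = x := by group
    rwa [h5] at h3
  exact fun y hy => hle hy

end chart

/-- **Section 7 of LieOdd.** -/
theorem seven (hT : TStmt.{u}) (hOut : ChartOut.{u}) (hSev : ChartSev.{u}) (t : TW Om S N (RR Om a) s c)
    (ha : ∀ x : H, a * x = x * a) (hL : IsComponent L) (hs : ¬ Cen L s)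
    (hLie : ∃ p : ℕ, p.Prime ∧ p ≠ 2 ∧ IsLieTypeChar p (↥L ⧸ center ↥L)) (hL2 : ¬ IsL2 (↥L ⧸ center ↥L))
    (hRee : ¬ Lie.IsoRee (↥L ⧸ center ↥L)) : Cen L c := by
  by_contra hc
  have hq := hL.2
  have h2 := t.two_center hL
  have hLL : ⁅L, L⁆ = L := OddHalf.NI.FTwo.commutator_eq_of_quasisimple hq
  obtain ⟨τ, D, pr⟩ := exists_pr t ha hL hs hc
  have hbig := lieBig_of_pr hq h2 hLie hL2 hRee pr
  obtain ⟨X, i1, i2, π, h⟩ := exists_nx L
  have hs' := h.simple hq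
  have hna := h.nc hq
  have hn := im_normal h
  have hC1 := h.centralizer_im hLL
  obtain ⟨F, i3, i4, tX, JX, f⟩ := exists_front_simple hT hn hs' hna hC1 (lieBig_congr h.quo hbig)
    (fun h' => hL2 (UGT.L2i.isL2_congr h' h.quo.symm))
  obtain ⟨j, J, cl, hJL, rfl⟩ := h.exists_J h2 hL.1 f
  have key : ∀ p : ℕ, p.Prime → p ≠ 2 → IsG2D4 p ↥(im π L) → False := fun p hp hp2 iso =>
    seven_exc t h hL hs cl hJL f (BigG.congr h.quo (big_of_pr hq h2 hp hp2 (isG2D4_congr h.quo.symm iso) pr))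
  refine f.elim ?_ ?_
  · intro p C τ' hτ ok small hch sl zx
    have small' : Fintype.card C.I ≤ 2 → IsLieTypeChar p ↥(im π L) :=
      fun h' => OddHalf.Known.isLieTypeChar_congr (quoEquiv hs' hna) (small h')
    exact hc (seven_chart t ha h hL cl hJL f C
      (hOut X (im π L) F tX (im π J) f hn hs' hna p C τ' hτ ok small' hch sl zx)
      (hSev X (im π L) F tX (im π J) f hn hs' hna (fun ⟨p, hp, hp2, iso⟩ => key p hp hp2 iso) p C τ' hτ ok small' hch
        sl zx))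
  · intro p hp hp2 iso _ _
    exact key p hp hp2 (isG2D4_simple hs' hna iso)

end seven

end Cfsg.Agent.Cit.Nil.LO
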