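import Cfsg.Agent.Cit.Nil.LO.Prop
import Cfsg.Agent.Cit.Nil.LO.Seven

/-!
# S1309 (n2): the socket of `Prop.lean` from THEOREM T and the chart outputs
-/

set_option autoImplicit false

namespace Cfsg.Agent.Cit.Nil.LO

universe u

/-- **The socket of (n2).** -/
theorem sock (hT : TStmt.{u}) (hOut : ChartOut.{u}) (hSev : ChartSev.{u}) : Sock.{u} where
  seven _ _ _ _ _ _ _ _ _ _ t ha hL hs hLie hL2 hRee := seven hT hOut hSev t ha hL hs hLie hL2 hRee

end Cfsg.Agent.Cit.Nil.LO
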