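import Cfsg.Agent.Cit.Nil.LO.Cores
import Cfsg.Agent.OddHalf.NI.FTwo.Main
import Cfsg.Agent.OddHalf.LongSL.All

/-!
# S1309 (n1), piece (E1): the classical class of a normal quasisimple subgroup of Lie type

`L ⊴ H` quasisimple, `Z(L)` and `C_H(L)` 2-groups, `L / Z(L)` `LieBig`, not `PSL₂(q)`. Then there is `J ≤ L`,
`J ≃ SL₂(F)`, `|F| > 3` odd, `t ∈ J` the involution, `J` subnormal in `C_H(t)`, and the `H`-class `cls J` satisfies
the hypothesis `Hyp`. With THEOREM T: `L` is a piece of `cls J`, namely a chart or of type `G₂(q)`, `³D₄(q)`.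

* `Front L F t J` : all this. `exists_front` : existence. `Front.elim` : the two cases.
-/

set_option autoImplicit false
set_option linter.dupNamespace false

open Subgroup Cfsg
open Cfsg.Agent.OddHalf.NI (LieBig)
open Cfsg.Agent.UGT.Iface (IsL2)
open Cfsg.Agent.OddHalf.NI.FTwo (SL)

namespace Cfsg.Agent.Cit.Nil.LO

universe u

section piece

variable {H : Type*} [Group H]

/-- **The piece of a normal quasisimple subgroup**: if all members lie in `L ⊴ H`, then `L` is a piece. -/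
theorem piece_of_normal [Finite H] {L : Subgroup H} (hL : L.Normal) (hq : IsQuasisimple ↥L)
    {Om : Set (Subgroup H)} (hOm : Hyp Om) (hle : ∀ K ∈ Om, K ≤ L) (hne : Om.Nonempty) (hp : HasPieces Om) :
    Piece Om L := by
  obtain ⟨K₀, hK₀⟩ := hne
  obtain ⟨𝒟, h1, h2, h3⟩ := hp.fam
  obtain ⟨D, hD, hKD⟩ := h3 K₀ hK₀
  have hS : sSup Om = L := hOm.eq_sSup_of_quasisimple hq (C := Om) (fun K hK => ⟨hK, hle K hK⟩) ⟨K₀, hK₀⟩
    (fun K hK g _ => hOm.conj K hK g)
  have hLD : L ≤ normalizer (D : Set H) := by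
    rw [← hS]
    refine sSup_le fun K hK => ?_
    obtain ⟨E, hE, hKE⟩ := h3 K hK
    by_cases hED : E = D
    · rw [hED] at hKE; exact hKE.trans le_normalizer
    · exact (hKE.trans (h2 E hE D hD hED)).trans (Nodes.ClsNorm.centralizer_le_normalizer' _)
  have hDL : D ≤ L := by
    by_cases hmem : D ∈ Om
    · exact hle D hmem
    have hDq := ((h1 D hD).quasisimple hmem).1
    have hn : (L.subgroupOf D).Normal := hL.comap _
    rcases SignalizersComponents.LayerBasic.quasisimple_normal hDq _ hn with h4 | h4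
    · exact subgroupOf_eq_top.1 h4
    · exfalso
      refine hOm.not_le_centralizer_self hK₀ fun x hx => ?_
      rw [mem_centralizer_iff]
      intro y hy
      have h5 : (⟨x, hKD hx⟩ : D) ∈ center D := h4 (hle K₀ hK₀ hx : x ∈ L)
      exact congrArg Subtype.val ((mem_center_iff.1 h5) ⟨y, hKD hy⟩)
  have hDN : (D.subgroupOf L).Normal := (normal_subgroupOf_iff_le_normalizer hDL).2 hLD
  rcases SignalizersComponents.LayerBasic.quasisimple_normal hq _ hDN with h4 | h4
  · rw [← le_antisymm hDL (subgroupOf_eq_top.1 h4)]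
    exact h1 D hD
  · exfalso
    refine hOm.not_le_centralizer_self hK₀ fun x hx => ?_
    rw [mem_centralizer_iff]
    intro y hy
    have h5 : (⟨x, hle K₀ hK₀ hx⟩ : L) ∈ center L := h4 (hKD hx : x ∈ D)
    exact congrArg Subtype.val ((mem_center_iff.1 h5) ⟨y, hle K₀ hK₀ hy⟩)

end piece

/-- The classical class of `L`: see the head of the file. -/
structure Front {H : Type*} [Group H] (L : Subgroup H) (F : Type) [Field F] [Fintype F] (t : H) (J : Subgroup H) :
    Prop where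
  sl : SL F ↥J
  ord : orderOf t = 2
  mem : t ∈ J
  cent : J ≤ centralizer ({t} : Set H)
  sub : (J.subgroupOf (centralizer ({t} : Set H))).IsSubnormal
  le : ∀ K ∈ cls J, K ≤ L
  hyp : Hyp (cls J)
  zz_eq : zz J = t
  ty : ∀ K ∈ cls J, Ty K
  uni : Uni (cls J)
  core : pPrimeCore 2 H = ⊥
  piece : Piece (cls J) L
  nmem : L ∉ cls J

namespace Front

variable {H : Type*} [Group H] {L : Subgroup H} {F : Type} [Field F] [Fintype F] {t : H} {J : Subgroup H}

theorem J_le (h : Front L F t J) : J ≤ L := h.le J (self_mem_cls J)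

theorem sl_mem (h : Front L F t J) {K : Subgroup H} (hK : K ∈ cls J) : SL F ↥K := by
  obtain ⟨g, rfl⟩ := hK
  exact h.sl.cj g

theorem not_isT [Finite H] (h : Front L F t J) {K : Subgroup H} (hK : K ∈ cls J) : ¬ SolvTwo.IsT K :=
  OddHalf.NI.FTwo.SL.not_isT (h.sl_mem hK)

open Nodes.Chart in
/-- **The two cases**: a chart, or `G₂(q)`, `³D₄(q)`. -/
theorem elim [Finite H] (h : Front L F t J) {P : Prop}
    (chart : ∀ (p : ℕ) (c : Chart (cls J) p L) (τ : Nodes.Chart.Ty), c.IsTy τ → KindOk τ →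
      (Fintype.card c.I ≤ 2 → IsLieTypeChar p (↥L ⧸ center ↥L)) → CharP F p →
      (∀ r ∈ c.R, Nonempty (Matrix.SpecialLinearGroup (Fin 2) F ≃* ↥(c.Z r ⊔ c.Z (-r)))) →
      ((∀ r ∈ c.R, c.Z r = c.X r) ∨ ∃ n, τ = .C n) → P)
    (exc : ∀ p : ℕ, p.Prime → p ≠ 2 → IsG2D4 p (↥L ⧸ center ↥L) →
      (∀ K ∈ cls J, ∀ M ∈ cls J, K ≠ M → K ≤ centralizer (M : Set H) →
        ∀ d ∈ L, zz K * zz M * d = d * (zz K * zz M)) →
      (∀ K ∈ cls J, ∀ M ∈ cls J, ∀ N ∈ cls J, K ≤ centralizer (M : Set H) →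
        K ≤ centralizer (N : Set H) → M ≤ centralizer (N : Set H) → K = M ∨ K = N ∨ M = N) → P) : P := by
  rcases h.piece with hmem | ⟨nmem, -, -, p, C, τ, kind, ok, small, ⟨F', _, _, hchar, hsl'⟩, zx⟩ |
    ⟨-, -, p, hp, hp2, iso, -, zzc, three⟩ | ⟨-, -, -, ⟨K, hK, hKD⟩, hm⟩
  · exact absurd hmem h.nmem
  · have hsl : ∀ r ∈ C.R, SL F ↥(C.Z r ⊔ C.Z (-r)) := fun r hr => h.sl_mem (C.om r hr)
    obtain ⟨r, hr⟩ := C.Rne
    have hcard : Fintype.card F' = Fintype.card F := by
      obtain ⟨e⟩ := hsl' r hr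
      have h1 := (hsl r hr).card
      have h2 : Nat.card (Matrix.SpecialLinearGroup (Fin 2) F') = Nat.card ↥(C.Z r ⊔ C.Z (-r)) :=
        Nat.card_congr e.toEquiv
      rw [h1, Cfsg.Agent.S0276.card_sl_two rfl] at h2
      exact OddHalf.NI.FTwo.card_inj Fintype.one_lt_card (by have := h.sl.three; omega) h2
    refine chart p C τ kind ok small (OddHalf.NI.FTwo.charP_of_equiv hcard) (fun r hr => ?_) zx
    obtain ⟨e⟩ := (hsl r hr).equiv
    exact ⟨e.symm⟩
  · exact exc p hp hp2 iso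
      (fun K hK M hM hne hc => zzc K hK M hM (h.le K hK) (h.le M hM) hne hc)
      (fun K hK M hM N hN h1 h2 h3 => three K hK M hM N hN (h.le K hK) (h.le M hM) (h.le N hN) h1 h2 h3)
  · exact absurd (hm K hK hKD) (h.not_isT hK)

end Front

/-- the odd core of `H` is trivial -/
theorem pPrimeCore_eq_bot {H : Type*} [Group H] [Finite H] {L : Subgroup H} (hL : L.Normal)
    (hq : IsQuasisimple ↥L) (h2 : IsPGroup 2 ↥(center ↥L)) (hC : IsPGroup 2 ↥(centralizer (L : Set H))) :
    pPrimeCore 2 H = ⊥ := by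
  have hn : (pPrimeCore 2 H).Normal := Lib.Cores.pPrimeCore_normal 2
  have hodd : ¬ 2 ∣ Nat.card ↥(pPrimeCore 2 H) := Cit.not_two_dvd_oddCore H
  have hb : pPrimeCore 2 H ⊓ L = ⊥ := by
    refine eq_bot_of_odd hq h2 inf_le_right ?_ fun h => hodd (h.trans (Subgroup.card_dvd_of_le inf_le_left))
    have h3 : (pPrimeCore 2 H ⊓ L).Normal := inferInstance
    rw [Subgroup.normalizer_eq_top]
    exact le_top
  have hc : pPrimeCore 2 H ≤ centralizer (L : Set H) := by
    rw [← Subgroup.commutator_eq_bot_iff_le_centralizer, eq_bot_iff, ← hb]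
    exact le_inf (Subgroup.commutator_le_left _ _) (Subgroup.commutator_le_right _ _)
  exact eq_bot_of_two_odd (hC.to_le hc) hodd

/-- a simple quotient `L / Z(L)` of a copy of `SL₂(F)` is `PSL₂(F)` -/
theorem isL2_of_sl {L : Type*} [Group L] {F : Type} [Field F] [Fintype F] (h : SL F L) : IsL2 (L ⧸ center L) := by
  obtain ⟨e⟩ := h.equiv
  refine ⟨F, inferInstance, inferInstance, h.odd, ?_, ⟨QuotientGroup.congr _ _ e ?_⟩⟩
  · obtain ⟨k, hk⟩ := h.odd
    have := h.three
    omega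
  · ext x
    rw [Subgroup.mem_map]
    constructor
    · rintro ⟨y, hy, rfl⟩
      rw [mem_center_iff] at hy ⊢
      intro g
      have h1 := congrArg e (hy (e.symm g))
      rw [map_mul, map_mul, e.apply_symm_apply] at h1
      exact h1
    · intro hx
      rw [mem_center_iff] at hx
      refine ⟨e.symm x, mem_center_iff.2 fun g => ?_, e.apply_symm_apply x⟩
      apply e.injective
      rw [map_mul, map_mul, e.apply_symm_apply]
      exact hx (e g)

/-- **(E1).** -/
theorem exists_front (hT : TStmt.{u}) {H : Type u} [Group H] [Finite H] {L : Subgroup H} (hL : L.Normal)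
    (hq : IsQuasisimple ↥L) (h2 : IsPGroup 2 ↥(center ↥L)) (hC : IsPGroup 2 ↥(centralizer (L : Set H)))
    (hbig : LieBig (↥L ⧸ center ↥L)) (hL2 : ¬ IsL2 (↥L ⧸ center ↥L)) :
    ∃ (F : Type) (_ : Field F) (_ : Fintype F) (t : H) (J : Subgroup H), Front L F t J := by
  obtain ⟨q, hq3, hlong⟩ := OddHalf.LongSL.hasLong_of_lieBig hbig
  obtain ⟨j, J₀, h3, h4, h5, h6, F, i1, i2, hF, hqo, ⟨e⟩⟩ : OddHalf.LongSL.HasLong q ↥L :=
    hlong.lift (QuotientGroup.mk' (center ↥L)) (QuotientGroup.mk'_surjective _)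
      (by rw [QuotientGroup.ker_mk']) (by rw [QuotientGroup.ker_mk']; exact h2) hq3
  set J : Subgroup H := J₀.map L.subtype with hJ
  have e' : ↥J₀ ≃* ↥J := J₀.equivMapOfInjective L.subtype L.subtype_injective
  have hsl : SL F ↥J := ⟨by rw [hF]; exact hqo, by rw [hF]; exact hq3, ⟨e'.symm.trans e⟩⟩
  have ht : orderOf (j : H) = 2 := by rw [Subgroup.orderOf_coe]; exact h3
  have htJ : (j : H) ∈ J := mem_map_of_mem L.subtype h4
  have hJL : J ≤ L := map_subtype_le _
  have hcent : J ≤ centralizer ({(j : H)} : Set H) := by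
    rintro _ ⟨x, hx, rfl⟩
    rw [mem_centralizer_singleton_iff]
    exact congrArg Subtype.val (mem_centralizer_singleton_iff.1 (h5 hx))
  have hsub : (J.subgroupOf (centralizer ({(j : H)} : Set H))).IsSubnormal := by
    set C : Subgroup H := centralizer ({(j : H)} : Set H) with hCdef
    let f : ↥(L.subgroupOf C) →* ↥(centralizer ({j} : Set ↥L)) :=
      { toFun := fun x => ⟨⟨(x : ↥C), x.2⟩, mem_centralizer_singleton_iff.2
          (Subtype.ext (mem_centralizer_singleton_iff.1 (x : ↥C).2))⟩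
        map_one' := rfl
        map_mul' := fun _ _ => rfl }
    refine Subgroup.IsSubnormal.trans (K := L.subgroupOf C) (fun x hx => hJL hx) ?_
      (Subgroup.Normal.isSubnormal (hL.comap _))
    have h7 := h6.comap f
    have h8 : (J₀.subgroupOf (centralizer ({j} : Set ↥L))).comap f = (J.subgroupOf C).subgroupOf (L.subgroupOf C) := by
      ext x
      rw [mem_comap, mem_subgroupOf, mem_subgroupOf, mem_subgroupOf]
      constructor
      · intro hx
        exact ⟨_, hx, rfl⟩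
      · rintro ⟨y, hy, hyx⟩
        have h9 : y = ⟨((x : ↥C) : H), x.2⟩ := Subtype.ext hyx
        rw [h9] at hy
        exact hy
    rwa [h8] at h7
  have hO := hsl.oddCore_eq_bot
  have hperf : ⁅J, J⁆ = J := OddHalf.NI.FTwo.commutator_eq_of_quasisimple hsl.quasisimple
  have eO : J ⧸ oddCore J ≃* J := (QuotientGroup.quotientMulEquivOfEq hO).trans QuotientGroup.quotientBot
  have hbigJ : Cit.Seven.IsBig (↥J ⧸ oddCore ↥J) := by
    obtain ⟨f⟩ := hsl.equiv
    exact Or.inl ⟨F, inferInstance, inferInstance, hsl.odd, hsl.three, ⟨eO.trans f⟩⟩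
  have hp2 : Fact (Nat.Prime 2) := ⟨Nat.prime_two⟩
  have hcomp : IsComponent (J.subgroupOf (centralizer ({(j : H)} : Set H))) :=
    ⟨hsub, SignalizersComponents.Components.isQuasisimple_of_mulEquiv (subgroupOfEquivOfLe hcent).symm hsl.quasisimple⟩
  have hpc : IsPComponent 2 (J.subgroupOf (centralizer ({(j : H)} : Set H))) := by
    refine SignalizersComponents.EvenComponent.isPComponent_of_isComponent hcomp ?_
    rw [Nat.card_congr (subgroupOfEquivOfLe hcent).toEquiv, ← ht]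
    have h1 : orderOf (j : H) = orderOf (⟨(j : H), htJ⟩ : J) := by rw [← Subgroup.orderOf_coe]
    rw [h1]
    exact orderOf_dvd_natCard _
  obtain ⟨hOm, hzz⟩ := Cit.Seven.hyp_of_comp (j : H) ht J hcent htJ hpc hbigJ
  have hTyJ : Cit.Ty J := by
    obtain ⟨f⟩ := hsl.equiv
    exact Or.inr ⟨Or.inl ⟨F, inferInstance, inferInstance, hsl.odd, ⟨eO.trans f⟩⟩, hperf⟩
  have hTy : ∀ K ∈ cls J, Ty K := by
    rintro _ ⟨g, rfl⟩
    exact hTyJ.map_of_injective (MulAut.conj g).toMonoidHom (MulAut.conj g).injective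
  have hle : ∀ K ∈ cls J, K ≤ L := by
    rintro _ ⟨g, rfl⟩
    rintro _ ⟨x, hx, rfl⟩
    exact hL.conj_mem x (hJL hx) g
  have hcore := pPrimeCore_eq_bot hL hq h2 hC
  have hTT := hT H (cls J) hOm hTy (Cfsg.Agent.Cit.uni_cls J)
  have hP := piece_of_normal hL hq hOm hle ⟨J, self_mem_cls J⟩ ((Cit.tt_iff_hasPieces hOm hcore).1 hTT)
  refine ⟨F, i1, i2, (j : H), J, hsl, ht, htJ, hcent, hsub, hle, hOm, hzz, hTy, Cfsg.Agent.Cit.uni_cls J, hcore, hP, ?_⟩
  rintro ⟨g, hg⟩
  exact hL2 (isL2_of_sl (by rw [hg]; exact hsl.cj g))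

end Cfsg.Agent.Cit.Nil.LO
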