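import Cfsg.Agent.Cit.Nil.LO.CentSL
import Cfsg.Agent.Cit.Nil.LO.Front
import Cfsg.Agent.Cit.Nil.LO.ChartDefs

/-!
# (n1): (A) + (B) + (E1) + plug of (C) (helper818)

`kl_chart` : `Front L F t J`, a chart `C` of `L`, all its maximal frames with `Out`, commuting members `K`, `K'` of a
nil family over `z ≠ u`: `z`, `u` or `z u` centralises `L`.
-/

set_option autoImplicit false
set_option linter.style.haveILetI false
set_option linter.unusedSectionVars false

namespace Cfsg.Agent.Cit.Nil.LO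

open Subgroup Cfsg Cit RG
open Cfsg.Agent.OddHalf.NI.FTwo (SL)
open Cfsg.Agent.LOC.ChartDefs (QK MaxF Out KL_frame)

variable {H : Type*} [Group H] [Finite H]

/-- a member of a nil family -/
theorem qk {Om : Set (Subgroup H)} {z : H} {K : Subgroup H} (w : WR Om) (hK : K ∈ Ov Om z) : QK K z := by
  obtain ⟨f⟩ := w.q8 K hK.1
  have hz : z ∈ ZZ Om := ⟨K, hK⟩
  exact QK.of_equiv f.symm (w.Ov_mem hK) (w.zz_ne hz) (w.zz_sq hz)

theorem Front.sls {L : Subgroup H} {F : Type} [Field F] [Fintype F] {t : H} {J : Subgroup H} (f : Front L F t J) :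
    SLs (cls J) := fun _ hJ => ⟨F, inferInstance, inferInstance, f.sl_mem hJ⟩

/-- **(KL), chart case** -/
theorem kl_chart {L : Subgroup H} {F : Type} [Field F] [Fintype F] {t : H} {J : Subgroup H} (f : Front L F t J)
    (hL : L.Normal) {p : ℕ} (C : Nodes.Chart.Chart (cls J) p L) (hout : ∀ R, MaxF C.cls R → Out C.cls R)
    {Om : Set (Subgroup H)} (w : WR Om) {z u : H} {K K' : Subgroup H} (hK : K ∈ Ov Om z) (hK' : K' ∈ Ov Om u)
    (hne : z ≠ u) (hc : ∀ a ∈ K, ∀ b ∈ K', a * b = b * a) :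
    (∀ l ∈ L, z * l = l * z) ∨ (∀ l ∈ L, u * l = l * u) ∨ ∀ l ∈ L, z * u * l = l * (z * u) := by
  have hz : z ∈ ZZ Om := ⟨K, hK⟩
  have hu : u ∈ ZZ Om := ⟨K', hK'⟩
  obtain ⟨-, S, hzS, huS⟩ := exists_sylow w hK hu hne (fun k hk => (hc k hk u (w.Ov_mem hK')).symm)
  have hS : IsPGroup 2 (S : Subgroup H) := S.isPGroup'
  have hn : ∀ g : H, g ∈ normalizer (L : Set H) := fun g => by
    rw [normalizer_eq_top_iff.2 hL]; exact mem_top g
  refine KL_frame C f.hyp.conj hout (κ := {P // P ∈ OmS (cls J) (S : Subgroup H)}) (fun P => P.1)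
    (fun P => P.2.1) (fun P => f.le _ P.2.1) (fun P P' hPP => ?_) (fun P hP _ hcon => ?_) (qk w hK) (qk w hK')
    (fun k _ => hn k) (fun k _ => hn k) (fun P a ha k hk => ?_) (fun P a ha k hk => ?_)
  · exact sl_comm f.hyp f.sls hS P.2 P'.2 fun h => hPP (Subtype.ext h)
  · exact not_comm_all f.hyp S hP fun P' hP' => hcon ⟨P', hP'⟩
  · exact sl_centralizer w f.hyp f.sls hz hS hzS P.2 k (WR.le_RR hK hk) a ha
  · exact sl_centralizer w f.hyp f.sls hu hS huS P.2 k (WR.le_RR hK' hk) a ha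

end Cfsg.Agent.Cit.Nil.LO
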