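import Cfsg.Agent.Cit.QModSL
import Cfsg.Agent.LFourB.AutSylow
import Cfsg.Agent.LieRecognition.FieldSemilinear

/-!
# `L₂(q)`, `q` odd: two commuting quaternion groups of order 8 of automorphisms have the same involution

Section 5 of `blueprints/CIT-6b-LieOdd-helper443.md`.

* `QP z a b` : `a² = b² = z`, `a^b = a⁻¹`;
* `glMain` : elements of `PGL(2,F)` of order 4 which commute have the same square;
* `slMain` : in `Aut SL(2,F)`;
* `psl_mem`, `sl_mem` : in a group with a normal subgroup `L ≃* PSL(2,F)`, `SL(2,F)`: `z z' ∈ C(L)`.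
-/

set_option autoImplicit false
set_option linter.unusedSectionVars false
set_option linter.style.haveILetI false

namespace Cfsg.Agent.Cit.Nil.LO

open Matrix Subgroup Cfsg
open Cfsg.Agent.Lib.SL2Mat Cfsg.Agent.Lib.AutSL2 Cfsg.Agent.Classification.QDW.TypeHom
open Cfsg.Agent.LFourA.FieldInv (comm_of_conj exists_scalar conjGL_scalar conjGL_smul gl_det_ne eq_one_of_map)
open Cfsg.Agent.LFourB.AutSylow (scalar_of_noncomm)

local notation "SL2" => Matrix.SpecialLinearGroup (Fin 2)

/-- `a, b` generate a quaternion group of order 8 (or a quotient) over `z` -/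
structure QP {H : Type*} [Group H] (z a b : H) : Prop where
  aa : a * a = z
  bb : b * b = z
  ba : b * a * b⁻¹ = a⁻¹

theorem QP.map {H H' : Type*} [Group H] [Group H'] {z a b : H} (h : QP z a b) (f : H →* H') : QP (f z) (f a) (f b) where
  aa := by rw [← map_mul, h.aa]
  bb := by rw [← map_mul, h.bb]
  ba := by rw [← map_inv, ← map_mul, ← map_mul, h.ba, map_inv]

theorem QP.ab {H : Type*} [Group H] {z a b : H} (h : QP z a b) : (a * b) * (a * b) = z := by
  calc (a * b) * (a * b) = a * (b * a * b⁻¹) * (b * b) := by group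
    _ = z := by rw [h.ba, mul_inv_cancel, one_mul, h.bb]

theorem QP.zz {H : Type*} [Group H] {z a b : H} (h : QP z a b) : z * z = 1 := by
  have h1 : b * z * b⁻¹ = z := by rw [← h.bb]; group
  have h2 : b * z * b⁻¹ = z⁻¹ := by
    calc b * z * b⁻¹ = (b * a * b⁻¹) * (b * a * b⁻¹) := by rw [← h.aa]; group
      _ = z⁻¹ := by rw [h.ba, ← h.aa, _root_.mul_inv_rev]
  rw [h1] at h2
  exact mul_eq_one_iff_eq_inv.2 h2

section gl

variable {F : Type*} [Field F]

/-- a nonscalar matrix with scalar square has trace zero -/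
theorem trace_zero {M : Matrix (Fin 2) (Fin 2) F} {c : F} (hM : M * M = c • (1 : Matrix (Fin 2) (Fin 2) F))
    (hn : ¬ ∃ d : F, M = d • (1 : Matrix (Fin 2) (Fin 2) F)) : M 1 1 = - M 0 0 := by
  have h01 := congrFun (congrFun hM 0) 1
  have h10 := congrFun (congrFun hM 1) 0
  have h00 := congrFun (congrFun hM 0) 0
  have h11 := congrFun (congrFun hM 1) 1
  simp only [Matrix.mul_apply, Fin.sum_univ_two, Matrix.smul_apply, Matrix.one_apply, smul_eq_mul] at h00 h01 h10 h11
  norm_num at h00 h01 h10 h11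
  by_contra hne
  have ht : M 0 0 + M 1 1 ≠ 0 := fun h => hne (by linear_combination h)
  have e01 : M 0 1 = 0 := by
    have : M 0 1 * (M 0 0 + M 1 1) = 0 := by linear_combination h01
    exact (mul_eq_zero.1 this).resolve_right ht
  have e10 : M 1 0 = 0 := by
    have : M 1 0 * (M 0 0 + M 1 1) = 0 := by linear_combination h10
    exact (mul_eq_zero.1 this).resolve_right ht
  have e : M 0 0 = M 1 1 := by
    have : (M 0 0 - M 1 1) * (M 0 0 + M 1 1) = 0 := by
      rw [e01, e10] at h00 h11
      linear_combination h00 - h11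
    exact sub_eq_zero.1 ((mul_eq_zero.1 this).resolve_right ht)
  apply hn
  refine ⟨M 0 0, ?_⟩
  ext i j
  fin_cases i <;> fin_cases j <;> simp [e01, e10, e]

/-- commuting matrices of trace zero are proportional -/
theorem prop_of_comm (h2 : (2 : F) ≠ 0) {M M' : Matrix (Fin 2) (Fin 2) F} (hM : M 1 1 = - M 0 0)
    (hM' : M' 1 1 = - M' 0 0) (h0 : M ≠ 0) (hc : M * M' = M' * M) : ∃ v : F, M' = v • M := by
  have h01 := congrFun (congrFun hc 0) 1
  have h10 := congrFun (congrFun hc 1) 0
  have h00 := congrFun (congrFun hc 0) 0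
  simp only [Matrix.mul_apply, Fin.sum_univ_two] at h00 h01 h10
  rw [hM, hM'] at h01 h10
  have e1 : M 0 1 * M' 1 0 = M' 0 1 * M 1 0 := by linear_combination h00
  have e2 : M 0 0 * M' 0 1 = M' 0 0 * M 0 1 := by
    apply mul_left_cancel₀ h2
    linear_combination h01
  have e3 : M 0 0 * M' 1 0 = M' 0 0 * M 1 0 := by
    apply mul_left_cancel₀ h2
    linear_combination -h10
  by_cases ha : M 0 0 = 0
  · by_cases hb : M 0 1 = 0
    · have hcn : M 1 0 ≠ 0 := by
        intro hcn
        apply h0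
        ext i j
        fin_cases i <;> fin_cases j <;> simp [ha, hb, hcn, hM]
      refine ⟨M' 1 0 / M 1 0, ?_⟩
      have f1 : M' 0 1 = 0 := by
        have : M' 0 1 * M 1 0 = 0 := by rw [← e1, hb, zero_mul]
        exact (mul_eq_zero.1 this).resolve_right hcn
      have f2 : M' 0 0 = 0 := by
        have : M' 0 0 * M 1 0 = 0 := by rw [← e3, ha, zero_mul]
        exact (mul_eq_zero.1 this).resolve_right hcn
      ext i j
      fin_cases i <;> fin_cases j <;> simp [ha, hb, hM, hM', f1, f2, div_mul_cancel₀ _ hcn]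
    · refine ⟨M' 0 1 / M 0 1, ?_⟩
      have f2 : M' 0 0 = 0 := by
        have : M' 0 0 * M 0 1 = 0 := by rw [← e2, ha, zero_mul]
        exact (mul_eq_zero.1 this).resolve_right hb
      have f3 : M' 1 0 = M' 0 1 / M 0 1 * M 1 0 := by
        field_simp
        linear_combination e1
      ext i j
      fin_cases i <;> fin_cases j <;> simp [ha, hM, hM', f2, div_mul_cancel₀ _ hb]
      exact f3
  · refine ⟨M' 0 0 / M 0 0, ?_⟩
    have f1 : M' 0 1 = M' 0 0 / M 0 0 * M 0 1 := by
      field_simp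
      linear_combination e2
    have f2 : M' 1 0 = M' 0 0 / M 0 0 * M 1 0 := by
      field_simp
      linear_combination e3
    ext i j
    fin_cases i <;> fin_cases j <;> simp [hM, hM', div_mul_cancel₀ _ ha]
    · exact f1
    · exact f2

theorem conjGL_eq_one_iff {k : GL (Fin 2) F} :
    conjGL k = 1 ↔ ∃ c : F, k.1 = c • (1 : Matrix (Fin 2) (Fin 2) F) := by
  constructor
  · intro h
    obtain ⟨c, -, hc⟩ := exists_scalar (k := k) (by rw [h]; rfl) (by rw [h]; rfl)
    exact ⟨c, hc⟩
  · rintro ⟨c, hc⟩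
    exact MulEquiv.ext fun x => conjGL_scalar hc x

/-- **two commuting elements of order 4 of `PGL(2,F)` have the same square** -/
theorem glMain (h2 : (2 : F) ≠ 0) {g g' : GL (Fin 2) F} (hc : conjGL g * conjGL g' = conjGL g' * conjGL g)
    (h1 : conjGL (g * g) ≠ 1) (h1' : conjGL (g' * g') ≠ 1) (h4 : conjGL (g * g) * conjGL (g * g) = 1)
    (h4' : conjGL (g' * g') * conjGL (g' * g') = 1) : conjGL (g * g) = conjGL (g' * g') := by
  have hn : ¬ ∃ d : F, (g * g).1 = d • (1 : Matrix (Fin 2) (Fin 2) F) := fun h => h1 (conjGL_eq_one_iff.2 h)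
  have hn' : ¬ ∃ d : F, (g' * g').1 = d • (1 : Matrix (Fin 2) (Fin 2) F) := fun h => h1' (conjGL_eq_one_iff.2 h)
  rw [← map_mul, conjGL_eq_one_iff] at h4 h4'
  obtain ⟨c, hc4⟩ := h4
  obtain ⟨c', hc4'⟩ := h4'
  rw [Units.val_mul] at hc4 hc4'
  have ht := trace_zero hc4 hn
  have ht' := trace_zero hc4' hn'
  -- the commutator is a scalar
  have hcom : ∃ d : F, g.1 * g'.1 = d • (g'.1 * g.1) := by
    have h3 : conjGL (g * g' * (g' * g)⁻¹) = 1 := by
      rw [map_mul, map_inv, map_mul, map_mul, hc, mul_inv_cancel]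
    obtain ⟨d, hd⟩ := conjGL_eq_one_iff.1 h3
    refine ⟨d, ?_⟩
    have h5 : (g * g' * (g' * g)⁻¹).1 * (g' * g).1 = (g * g').1 := by
      rw [← Units.val_mul, inv_mul_cancel_right]
    rw [hd, Matrix.smul_mul, Matrix.one_mul] at h5
    rw [← Units.val_mul, ← Units.val_mul, h5]
  obtain ⟨d, hd⟩ := hcom
  have hdd : d * d = 1 := by
    have h3 := congrArg Matrix.det hd
    rw [Matrix.det_smul, Matrix.det_mul, Matrix.det_mul, Fintype.card_fin] at h3
    have hg := gl_det_ne g
    have hg' := gl_det_ne g'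
    have h5 : (d * d - 1) * (g.1.det * g'.1.det) = 0 := by linear_combination -h3
    exact sub_eq_zero.1 ((mul_eq_zero.1 h5).resolve_right (mul_ne_zero hg hg'))
  have hggc : (g * g).1 * g'.1 = g'.1 * (g * g).1 := by
    rw [Units.val_mul]
    calc g.1 * g.1 * g'.1 = g.1 * (g.1 * g'.1) := by rw [Matrix.mul_assoc]
      _ = d • (g.1 * (g'.1 * g.1)) := by rw [hd, Matrix.mul_smul]
      _ = d • (g.1 * g'.1 * g.1) := by rw [Matrix.mul_assoc]
      _ = d • ((d • (g'.1 * g.1)) * g.1) := by rw [hd]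
      _ = (d * d) • (g'.1 * (g.1 * g.1)) := by rw [Matrix.smul_mul, smul_smul, Matrix.mul_assoc]
      _ = g'.1 * (g.1 * g.1) := by rw [hdd, one_smul]
  have hggg : (g * g).1 * (g' * g').1 = (g' * g').1 * (g * g).1 := by
    rw [Units.val_mul g' g', ← Matrix.mul_assoc, hggc, Matrix.mul_assoc, hggc, Matrix.mul_assoc]
  obtain ⟨v, hv⟩ := prop_of_comm h2 ht ht' (by
    intro h0
    apply hn
    exact ⟨0, by rw [h0, zero_smul]⟩) hggg
  exact (MulEquiv.ext fun x => conjGL_smul hv x).symm

end gl

section Cyc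

/-- three elements of order two do not exist in a cyclic group -/
theorem cyc_two {C : Type*} [Group C] [Finite C] [IsCyclic C] {x y : C} (hx : x * x = 1) (hy : y * y = 1) (hx1 : x ≠ 1)
    (hy1 : y ≠ 1) : x = y := by
  classical
  by_contra hne
  have : Fintype C := Fintype.ofFinite C
  have h1 := IsCyclic.card_pow_eq_one_le (α := C) (n := 2) (by norm_num)
  have h3 : ({1, x, y} : Finset C) ⊆ Finset.univ.filter fun a : C => a ^ 2 = 1 := by
    intro a ha
    rw [Finset.mem_insert, Finset.mem_insert, Finset.mem_singleton] at ha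
    rw [Finset.mem_filter]
    refine ⟨Finset.mem_univ _, ?_⟩
    rcases ha with rfl | rfl | rfl
    · rw [one_pow]
    · rw [pow_two, hx]
    · rw [pow_two, hy]
  have h4 := Finset.card_le_card h3
  have h5 : ({1, x, y} : Finset C).card = 3 := by
    rw [Finset.card_insert_of_notMem, Finset.card_insert_of_notMem, Finset.card_singleton]
    · rw [Finset.mem_singleton]; exact hne
    · rw [Finset.mem_insert, Finset.mem_singleton]
      rintro (h | h)
      · exact hx1 h.symm
      · exact hy1 h.symm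
  omega

end Cyc

section Main

variable {F : Type*} [Field F] [Fintype F]

/-- a quaternion pair of automorphisms contains a root of `z` in `PGL(2,F)` -/
theorem exists_root {z a b : MulAut (SL2 F)} (h : QP z a b) :
    ∃ g : GL (Fin 2) F, (conjGL g = a ∨ conjGL g = b ∨ conjGL g = a * b) ∧ conjGL g * conjGL g = z := by
  haveI : IsCyclic (F ≃+* F) := LieRecognition.FieldSemilinear.isCyclic_ringAut F
  haveI : Finite (F ≃+* F) := Finite.of_injective (fun σ : F ≃+* F => (σ : F → F)) DFunLike.coe_injective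
  have hcom : ∀ x y : F ≃+* F, x * y = y * x := fun x y => Lib.AutSL2Out.ringEquiv_comm x y
  have hta : typ a * typ a = 1 := by
    have h1 := congrArg typ h.ba
    rw [map_mul, map_mul, map_inv, map_inv, hcom (typ b) (typ a), mul_inv_cancel_right] at h1
    exact mul_eq_one_iff_eq_inv.2 h1
  have htz : typ z = 1 := by rw [← h.aa, map_mul, hta]
  have htb : typ b * typ b = 1 := by rw [← map_mul, h.bb, htz]
  have key : ∀ x : MulAut (SL2 F), (x = a ∨ x = b ∨ x = a * b) → x * x = z → typ x = 1 →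
      ∃ g : GL (Fin 2) F, (conjGL g = a ∨ conjGL g = b ∨ conjGL g = a * b) ∧ conjGL g * conjGL g = z := by
    intro x hx hxx hx1
    obtain ⟨g, rfl⟩ := (typ_eq_one_iff x).1 hx1
    exact ⟨g, hx, hxx⟩
  by_cases ha : typ a = 1
  · exact key a (Or.inl rfl) h.aa ha
  by_cases hb : typ b = 1
  · exact key b (Or.inr (Or.inl rfl)) h.bb hb
  · refine key (a * b) (Or.inr (Or.inr rfl)) h.ab ?_
    rw [map_mul, cyc_two hta htb ha hb, htb]

/-- **Two commuting quaternion groups of automorphisms of `SL(2,F)` have the same involution.** -/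
theorem slMain (hF : Odd (Fintype.card F)) {z a b z' a' b' : MulAut (SL2 F)} (h : QP z a b) (h' : QP z' a' b')
    (haa : a * a' = a' * a) (hab : a * b' = b' * a) (hba : b * a' = a' * b) (hbb : b * b' = b' * b)
    (hz : z ≠ 1) (hz' : z' ≠ 1) : z = z' := by
  have h2 : (2 : F) ≠ 0 := TwoFusion.QuatCoverSL.two_ne_zero_of_odd hF
  obtain ⟨g, hg, hgz⟩ := exists_root h
  obtain ⟨g', hg', hgz'⟩ := exists_root h'
  have c1 : ∀ x : MulAut (SL2 F), x * a' = a' * x → x * b' = b' * x → x * conjGL g' = conjGL g' * x := by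
    intro x hx hx'
    rcases hg' with h1 | h1 | h1 <;> rw [h1]
    · exact hx
    · exact hx'
    · rw [← mul_assoc, hx, mul_assoc, hx', mul_assoc]
  have c2 : conjGL g * conjGL g' = conjGL g' * conjGL g := by
    apply c1
    · rcases hg with h1 | h1 | h1 <;> rw [h1]
      · exact haa
      · exact hba
      · rw [mul_assoc, hba, ← mul_assoc, haa, mul_assoc]
    · rcases hg with h1 | h1 | h1 <;> rw [h1]
      · exact hab
      · exact hbb
      · rw [mul_assoc, hbb, ← mul_assoc, hab, mul_assoc]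
  have e1 : conjGL (g * g) = z := by rw [map_mul, hgz]
  have e2 : conjGL (g' * g') = z' := by rw [map_mul, hgz']
  have := glMain h2 c2 (by rw [e1]; exact hz) (by rw [e2]; exact hz') (by rw [e1]; exact h.zz) (by rw [e2]; exact h'.zz)
  rwa [e1, e2] at this

/-- automorphisms of `PSL(2,F)` lift -/
theorem exists_lift_psl (hF : Odd (Fintype.card F)) :
    ∃ f : MulAut (Matrix.ProjectiveSpecialLinearGroup (Fin 2) F) →* MulAut (SL2 F), Function.Injective f := by
  have h2 : (2 : F) ≠ 0 := TwoFusion.QuatCoverSL.two_ne_zero_of_odd hF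
  let π : SL2 F →* Matrix.ProjectiveSpecialLinearGroup (Fin 2) F := QuotientGroup.mk' _
  have hπ : Function.Surjective π := QuotientGroup.mk'_surjective _
  have hk : π.ker ≤ center (SL2 F) := by rw [QuotientGroup.ker_mk']
  have hex : ∀ α : MulAut (Matrix.ProjectiveSpecialLinearGroup (Fin 2) F), ∃ θ : MulAut (SL2 F), ∀ x, α (π x) = π (θ x) := by
    intro α
    obtain ⟨g, σ, h⟩ := exists_gl_ringEquiv π hπ hk α
    exact ⟨conjGL g * fieldAut σ, fun x => by rw [h, MulAut.mul_apply]⟩
  have huniq : ∀ θ θ' : MulAut (SL2 F), (∀ x, π (θ x) = π (θ' x)) → θ = θ' := by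
    intro θ θ' h
    have h3 : ∀ x, (θ'⁻¹ * θ : MulAut (SL2 F)) x = x := by
      intro x
      refine Classification.TypeB.SigAut.eq_of_lift h2 π hk (θ'⁻¹ * θ) (fun y => ?_) x
      have hm : ∀ u v : SL2 F, π u = π v → π (θ'⁻¹ u) = π (θ'⁻¹ v) := by
        intro u v huv
        have h5 : u⁻¹ * v ∈ center (SL2 F) := by
          apply hk
          rw [MonoidHom.mem_ker, map_mul, map_inv, huv, inv_mul_cancel]
        have h6 : θ'⁻¹ (u⁻¹ * v) ∈ center (SL2 F) := by
          have hc : (center (SL2 F)).map (θ'⁻¹ : MulAut (SL2 F)).toMonoidHom = center (SL2 F) :=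
            Subgroup.characteristic_iff_map_eq.1 inferInstance _
          rw [← hc]
          exact ⟨_, h5, rfl⟩
        have h7 : π (θ'⁻¹ (u⁻¹ * v)) = 1 := (QuotientGroup.eq_one_iff _).2 h6
        rw [map_mul, map_mul, map_inv, map_inv, inv_mul_eq_one] at h7
        exact h7
      have h8 := hm _ _ (h y)
      rw [MulAut.inv_apply_self] at h8
      rw [MulAut.mul_apply, h8]
    have h4 : θ'⁻¹ * θ = 1 := MulEquiv.ext h3
    exact (inv_mul_eq_one.1 h4).symm
  choose f hf using hex
  refine ⟨⟨⟨f, ?_⟩, ?_⟩, ?_⟩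
  · apply huniq
    intro x
    rw [← hf]
    rfl
  · intro α β
    apply huniq
    intro x
    rw [← hf, MulAut.mul_apply, MulAut.mul_apply, ← hf, hf β, ← hf]
  · intro α β hαβ
    have h5 : f α = f β := hαβ
    refine MulEquiv.ext fun y => ?_
    obtain ⟨x, rfl⟩ := hπ y
    rw [hf, hf, h5]

/-- the same in `Aut PSL(2,F)` -/
theorem pslMain (hF : Odd (Fintype.card F)) {z a b z' a' b' : MulAut (Matrix.ProjectiveSpecialLinearGroup (Fin 2) F)}
    (h : QP z a b) (h' : QP z' a' b') (haa : a * a' = a' * a) (hab : a * b' = b' * a) (hba : b * a' = a' * b)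
    (hbb : b * b' = b' * b) (hz : z ≠ 1) (hz' : z' ≠ 1) : z = z' := by
  obtain ⟨f, hf⟩ := exists_lift_psl hF
  apply hf
  refine slMain hF (h.map f) (h'.map f) ?_ ?_ ?_ ?_ ?_ ?_
  · rw [← map_mul, haa, map_mul]
  · rw [← map_mul, hab, map_mul]
  · rw [← map_mul, hba, map_mul]
  · rw [← map_mul, hbb, map_mul]
  · exact fun h1 => hz ((map_eq_one_iff f hf).1 h1)
  · exact fun h1 => hz' ((map_eq_one_iff f hf).1 h1)

end Main

section Group

variable {H : Type*} [Group H]

theorem mem_of_aut {L : Subgroup H} [L.Normal] {A : Type*} [Group A] (f : MulAut L →* A)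
    (hf : Function.Injective f) {z z' : H} (h : f (MulAut.conjNormal z) = f (MulAut.conjNormal z')) (hz' : z' * z' = 1) :
    z * z' ∈ centralizer (L : Set H) := by
  have h1 : (MulAut.conjNormal (z * z') : MulAut L) = 1 := by
    rw [map_mul, hf h, ← map_mul, hz', map_one]
  rw [mem_centralizer_iff]
  intro x hx
  have h2 := congrArg Subtype.val (DFunLike.congr_fun h1 (⟨x, hx⟩ : L))
  rw [MulAut.conjNormal_apply, MulAut.one_apply] at h2
  have h3 : z * z' * x * (z * z')⁻¹ = x := h2
  rw [mul_inv_eq_iff_eq_mul] at h3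
  exact h3.symm

theorem conj_ne_one {L : Subgroup H} [L.Normal] {A : Type*} [Group A] (f : MulAut L →* A)
    (hf : Function.Injective f) {z : H} (hz : z ∉ centralizer (L : Set H)) : f (MulAut.conjNormal z) ≠ 1 := by
  intro h
  apply hz
  have h1 := (map_eq_one_iff f hf).1 h
  rw [mem_centralizer_iff]
  intro x hx
  have h2 := congrArg Subtype.val (DFunLike.congr_fun h1 (⟨x, hx⟩ : L))
  rw [MulAut.conjNormal_apply, MulAut.one_apply] at h2
  have h3 : z * x * z⁻¹ = x := h2
  rw [mul_inv_eq_iff_eq_mul] at h3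
  exact h3.symm

variable {F : Type*} [Field F] [Fintype F] {L : Subgroup H} {z a b z' a' b' : H}

/-- **`L₂(q)`** : commuting quaternion groups acting nontrivially on a normal subgroup `L ≃* PSL(2,F)` -/
theorem psl_mem (hF : Odd (Fintype.card F)) (hN : L.Normal) (e : L ≃* Matrix.ProjectiveSpecialLinearGroup (Fin 2) F)
    (h : QP z a b) (h' : QP z' a' b') (haa : a * a' = a' * a) (hab : a * b' = b' * a) (hba : b * a' = a' * b)
    (hbb : b * b' = b' * b) (hz : z ∉ centralizer (L : Set H)) (hz' : z' ∉ centralizer (L : Set H)) :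
    z * z' ∈ centralizer (L : Set H) := by
  let f : MulAut L →* MulAut (Matrix.ProjectiveSpecialLinearGroup (Fin 2) F) := (MulAut.congr e).toMonoidHom
  have hf : Function.Injective f := (MulAut.congr e).injective
  let φ : H →* MulAut (Matrix.ProjectiveSpecialLinearGroup (Fin 2) F) := f.comp MulAut.conjNormal
  refine mem_of_aut f hf (pslMain hF (h.map φ) (h'.map φ) ?_ ?_ ?_ ?_ (conj_ne_one f hf hz) (conj_ne_one f hf hz')) h'.zz
  · rw [← map_mul, haa, map_mul]
  · rw [← map_mul, hab, map_mul]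
  · rw [← map_mul, hba, map_mul]
  · rw [← map_mul, hbb, map_mul]

/-- the same for `L ≃* SL(2,F)` -/
theorem sl_mem (hF : Odd (Fintype.card F)) (hN : L.Normal) (e : L ≃* SL2 F)
    (h : QP z a b) (h' : QP z' a' b') (haa : a * a' = a' * a) (hab : a * b' = b' * a) (hba : b * a' = a' * b)
    (hbb : b * b' = b' * b) (hz : z ∉ centralizer (L : Set H)) (hz' : z' ∉ centralizer (L : Set H)) :
    z * z' ∈ centralizer (L : Set H) := by
  let f : MulAut L →* MulAut (SL2 F) := (MulAut.congr e).toMonoidHom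
  have hf : Function.Injective f := (MulAut.congr e).injective
  let φ : H →* MulAut (SL2 F) := f.comp MulAut.conjNormal
  refine mem_of_aut f hf (slMain hF (h.map φ) (h'.map φ) ?_ ?_ ?_ ?_ (conj_ne_one f hf hz) (conj_ne_one f hf hz')) h'.zz
  · rw [← map_mul, haa, map_mul]
  · rw [← map_mul, hab, map_mul]
  · rw [← map_mul, hba, map_mul]
  · rw [← map_mul, hbb, map_mul]

end Group

end Cfsg.Agent.Cit.Nil.LO
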