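import Cfsg.Agent.Cit.Nil.LO.LTwo
import Cfsg.Agent.Omega.Lie.Out.Exo

/-!
# Sylow 2-subgroups elementary abelian of order 8 (`²G₂(q)`): no quaternion group of automorphisms

Section 5 of `blueprints/CIT-6b-LieOdd-helper443.md`, the Ree groups.

* `sq_eq_one` : an automorphism with `a⁴ = 1` has `a² = 1`;
* `ree_mem` : a quaternion group centralises modulo its ... : `z ∈ C(L)`, `L` normal, `L ≃ ²G₂(q)`.
-/

set_option autoImplicit false
set_option linter.unusedSectionVars false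
set_option linter.style.haveILetI false

namespace Cfsg.Agent.Cit.Nil.LO

open Subgroup Cfsg
open Cfsg.Agent.Omega.Lie.OutT Cfsg.Agent.Omega.Lie.OutT.Small

section

variable {L : Type*} [Group L] [Finite L]

/-- an automorphism which leaves an elementary abelian Sylow 2-subgroup of order 8 invariant and whose square is trivial
on it, is trivial on it -/
theorem triv_on [IsSimpleGroup L] (hL : ¬ IsMulCommutative L) (S : Sylow 2 L) (hc8 : Nat.card (S : Subgroup L) = 8)
    (hexp : ∀ s ∈ S, s * s = 1) {x : MulAut L} (hx : ∀ s ∈ S, x s ∈ S) (hxx : ∀ s ∈ S, x (x s) = s) :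
    ∀ s ∈ S, x s = s := by
  have hinv : ∀ s ∈ S, s⁻¹ = s := fun s hs => inv_eq_of_mul_eq_one_left (hexp s hs)
  have hab : ∀ a ∈ S, ∀ b ∈ S, a * b = b * a := by
    intro a ha b hb
    have h1 := hinv _ ((S : Subgroup L).mul_mem ha hb)
    rw [mul_inv_rev, hinv a ha, hinv b hb] at h1
    exact h1.symm
  obtain ⟨hAo, hA7⟩ := card_act hL S hab hexp hc8
  let _ : CommGroup (S : Subgroup L) := { (inferInstance : Group (S : Subgroup L)) with
    mul_comm := fun a b => Subtype.ext (hab a a.2 b b.2) }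
  let ξ : MulAut (S : Subgroup L) :=
    { toFun := fun s => ⟨x s.1, hx s.1 s.2⟩
      invFun := fun s => ⟨x s.1, hx s.1 s.2⟩
      left_inv := fun s => Subtype.ext (hxx s.1 s.2)
      right_inv := fun s => Subtype.ext (hxx s.1 s.2)
      map_mul' := fun a b => Subtype.ext (map_mul x a.1 b.1) }
  have hξ2 : ξ * ξ = 1 := by
    apply MulEquiv.ext
    intro s
    exact Subtype.ext (hxx s.1 s.2)
  have hξi : ξ⁻¹ = ξ := inv_eq_of_mul_eq_one_left hξ2
  have e1 : ∀ n : L, ∀ y ∈ S, x (n * x y * n⁻¹) = x n * y * (x n)⁻¹ := by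
    intro n y hy
    rw [map_mul, map_mul, map_inv, hxx y hy]
  have hnorm : ∀ n ∈ normalizer ((S : Subgroup L) : Set L), x n ∈ normalizer ((S : Subgroup L) : Set L) := by
    intro n hn
    apply mem_normalizer_fintype
    intro y hy
    rw [← e1 n y hy]
    exact hx _ ((mem_normalizer_iff.1 hn (x y)).1 (hx y hy))
  have h1 : ξ = 1 := by
    refine eight (fun v => ?_) hc8 _ hAo hA7 hξ2 ?_
    · rw [pow_two]; exact Subtype.ext (hexp v v.2)
    · rintro _ ⟨n, rfl⟩
      refine ⟨⟨x n.1, hnorm n.1 n.2⟩, ?_⟩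
      rw [hξi]
      apply MulEquiv.ext
      intro s
      apply Subtype.ext
      show x n.1 * s.1 * (x n.1)⁻¹ = x (n.1 * x s.1 * n.1⁻¹)
      rw [e1 n.1 s.1 s.2]
  intro s hs
  exact congrArg Subtype.val (DFunLike.congr_fun h1 (⟨s, hs⟩ : (S : Subgroup L)))

/-- **automorphisms of order dividing 4 have order dividing 2** -/
theorem sq_eq_one [IsSimpleGroup L] (hL : ¬ IsMulCommutative L)
    (h : ∀ S : Sylow 2 L, Nat.card (S : Subgroup L) = 8 ∧ ∀ s ∈ S, s * s = 1) {a : MulAut L}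
    (ha : (a * a) * (a * a) = 1) : a * a = 1 := by
  have : Fact (Nat.Prime 2) := ⟨Nat.prime_two⟩
  have h4 : a ^ 2 ^ 2 = 1 := by
    rw [show (2 : ℕ) ^ 2 = 2 * 2 by norm_num, pow_mul, pow_two, pow_two, ha]
  have hp : IsPGroup 2 (zpowers a) := by
    rintro ⟨_, m, rfl⟩
    refine ⟨2, Subtype.ext ?_⟩
    change (a ^ m) ^ 2 ^ 2 = 1
    rw [← zpow_natCast, zpow_comm, zpow_natCast, h4, one_zpow]
  obtain ⟨S, hS⟩ := exists_sylow hp
  obtain ⟨h8, hexp⟩ := h S
  have hinv : ∀ s ∈ S, s⁻¹ = s := fun s hs => inv_eq_of_mul_eq_one_left (hexp s hs)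
  have hab : ∀ a ∈ S, ∀ b ∈ S, a * b = b * a := by
    intro a ha b hb
    have h1 := hinv _ ((S : Subgroup L).mul_mem ha hb)
    rw [mul_inv_rev, hinv a ha, hinv b hb] at h1
    exact h1.symm
  have h2 : 2 ∣ Nat.card L := by
    refine Dvd.dvd.trans ?_ (S : Subgroup L).card_subgroup_dvd_card
    rw [h8]; norm_num
  have haS : ∀ s ∈ S, a s ∈ S := hS a (mem_zpowers a)
  have hzS : ∀ s ∈ S, (a * a) s = s :=
    triv_on hL S h8 hexp (fun s hs => haS _ (haS s hs)) (fun s _ => DFunLike.congr_fun ha s)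
  have haS' : ∀ s ∈ S, a s = s := triv_on hL S h8 hexp haS hzS
  obtain ⟨w, rfl⟩ := inner_of_cent hL h2 S hab (k := 2) h4 haS'
  -- `w` is a 2-element
  have hinj := conj_inj hL
  have hw4 : w ^ 2 ^ 2 = 1 := hinj (by rw [map_pow, h4, map_one])
  have hpw : IsPGroup 2 (zpowers w) := by
    rintro ⟨_, m, rfl⟩
    refine ⟨2, Subtype.ext ?_⟩
    change (w ^ m) ^ 2 ^ 2 = 1
    rw [← zpow_natCast, zpow_comm, zpow_natCast, hw4, one_zpow]
  obtain ⟨R, hR⟩ := hpw.exists_le_sylow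
  rw [← map_mul, (h R).2 w (hR (mem_zpowers w)), map_one]

end

section

variable {H : Type*} [Group H] {L : Subgroup H} {z a b : H}

theorem eight_mem [Finite L] [IsSimpleGroup L] (hN : L.Normal) (hL : ¬ IsMulCommutative L)
    (hs : ∀ S : Sylow 2 L, Nat.card (S : Subgroup L) = 8 ∧ ∀ s ∈ S, s * s = 1) (h : QP z a b) :
    z ∈ centralizer (L : Set H) := by
  have h1 := h.map (MulAut.conjNormal (H := L))
  have h3 : (MulAut.conjNormal z : MulAut L) = 1 := by
    rw [← h1.aa]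
    apply sq_eq_one hL hs
    rw [h1.aa, h1.zz]
  rw [mem_centralizer_iff]
  intro x hx
  have h2 := congrArg Subtype.val (DFunLike.congr_fun h3 (⟨x, hx⟩ : L))
  rw [MulAut.conjNormal_apply, MulAut.one_apply] at h2
  have h4 : z * x * z⁻¹ = x := h2
  rw [mul_inv_eq_iff_eq_mul] at h4
  exact h4.symm

/-- **`²G₂(q)`** -/
theorem ree_mem (hN : L.Normal) (hL : Cfsg.Lie.IsoRee L) (h : QP z a b) : z ∈ centralizer (L : Set H) := by
  obtain ⟨F, _, _, m, hm, hF, ⟨e⟩⟩ := hL
  obtain ⟨hs, hc⟩ := Cfsg.Agent.S1073.result hm hF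
  obtain ⟨u, huH, hu1, hu2⟩ := Cfsg.Agent.S1157.exists_involution hF
  obtain ⟨-, hS⟩ := Cfsg.Agent.S1152.result hF u huH hu1 hu2
  have hfin : Finite ↥(Cfsg.Lie.twistedG2 F (3 ^ m)) := inferInstance
  have : Finite L := Finite.of_equiv _ e.symm.toEquiv
  have : IsSimpleGroup L := e.isSimpleGroup
  refine eight_mem hN (fun hcL => hc ?_) (fun S => ?_) h
  · exact ⟨⟨fun x y => e.symm.injective (by rw [map_mul, map_mul]; exact hcL.is_comm.comm _ _)⟩⟩
  · have hfac : Fact (Nat.Prime 2) := ⟨Nat.prime_two⟩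
    obtain ⟨h8, hx⟩ := hS (S.mapSurjective (f := e.toMonoidHom) e.surjective)
    constructor
    · rw [← h8]
      exact Nat.card_congr ((S : Subgroup L).equivMapOfInjective e.toMonoidHom e.injective).toEquiv
    · intro s hs'
      apply e.injective
      rw [map_mul, map_one]
      exact hx _ ⟨s, hs', rfl⟩

end

end Cfsg.Agent.Cit.Nil.LO
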