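import Cfsg.Agent.Cit.Nil.LO.Simple
import Cfsg.Agent.Cit.Nil.LO.KLChart
import Cfsg.Agent.Cit.Nil.LO.LTwo
import Cfsg.Agent.Cit.Nil.LO.ReeQ

/-!
# S1309 (n1), piece (E): no cores in the presence of two commuting members

`G` with `F*(G)` simple, `Om` a nil family (`WR Om`), `K`, `K'` commuting members over `z ≠ u`, an involution `v` with
`O(C(v)) ≠ 1` and `F*(G)` of Lie type in odd characteristic: impossible (`false_of_lie`).
`false_of_core` : the same with S1311 for `G` and the kills of `A_n`, `L₃(4)`, `He`.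

Sockets: `ChartOut` (piece (C), the charts), `ExcOut` (piece (C), `G₂(q)`, `³D₄(q)`).
-/

set_option autoImplicit false
set_option linter.dupNamespace false

open Subgroup Cfsg
open Cfsg.Agent.OddHalf.NI (LieBig)
open Cfsg.Agent.UGT.Iface (IsL2)
open Cfsg.Agent.LOC.ChartDefs (MaxF Out QK)

namespace Cfsg.Agent.Cit.Nil.LO

universe u

open RG

/-- **SOCKET**: the output `Out` for all maximal frames of the charts of `L` -/
def ChartOut : Prop :=
  ∀ (H : Type u) [Group H] [Finite H] (L : Subgroup H) (F : Type) [Field F] [Fintype F] (t : H) (J : Subgroup H),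
    Front L F t J → L.Normal → IsSimpleGroup ↥L → ¬ IsMulCommutative ↥L →
    ∀ (p : ℕ) (c : Nodes.Chart.Chart (cls J) p L) (τ : Nodes.Chart.Ty), c.IsTy τ → KindOk τ →
      (Fintype.card c.I ≤ 2 → IsLieTypeChar p ↥L) → CharP F p →
      (∀ r ∈ c.R, Nonempty (Matrix.SpecialLinearGroup (Fin 2) F ≃* ↥(c.Z r ⊔ c.Z (-r)))) →
      ((∀ r ∈ c.R, c.Z r = c.X r) ∨ ∃ n, τ = .C n) → ∀ R, MaxF c.cls R → Out c.cls R

/-- **SOCKET**: `G₂(q)`, `³D₄(q)` -/
def ExcOut : Prop :=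
  ∀ (H : Type u) [Group H] [Finite H] (L : Subgroup H) (F : Type) [Field F] [Fintype F] (t : H) (J : Subgroup H),
    Front L F t J → L.Normal → IsSimpleGroup ↥L → ¬ IsMulCommutative ↥L → centralizer (L : Set H) = ⊥ →
    ∀ p : ℕ, p.Prime → p ≠ 2 → IsG2D4 p ↥L →
      (∀ K ∈ cls J, ∀ M ∈ cls J, K ≠ M → K ≤ centralizer (M : Set H) →
        ∀ d ∈ L, zz K * zz M * d = d * (zz K * zz M)) →
      (∀ K ∈ cls J, ∀ M ∈ cls J, ∀ N ∈ cls J, K ≤ centralizer (M : Set H) →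
        K ≤ centralizer (N : Set H) → M ≤ centralizer (N : Set H) → K = M ∨ K = N ∨ M = N) →
    ∀ (Om : Set (Subgroup H)), WR Om → ∀ (z u : H) (K K' : Subgroup H), K ∈ Ov Om z → K' ∈ Ov Om u → z ≠ u →
      (∀ a ∈ K, ∀ b ∈ K', a * b = b * a) →
      (∀ l ∈ L, z * l = l * z) ∨ (∀ l ∈ L, u * l = l * u) ∨ ∀ l ∈ L, z * u * l = l * (z * u)

/-- the generators of a quaternion group -/
theorem exists_qp {H : Type*} [Group H] {K : Subgroup H} {e : H} (h : QK K e) :
    ∃ a ∈ K, ∃ b ∈ K, QP e a b := by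
  obtain ⟨a, ha, b, hb, h1, h2, h3⟩ := h.com
  refine ⟨a, ha, b, hb, h1, h2, ?_⟩
  have h4 : e⁻¹ = e := inv_eq_of_mul_eq_one_right h.sq
  have h5 : a⁻¹ = a * e := by
    rw [inv_eq_iff_mul_eq_one]
    calc a * (a * e) = (a * a) * e := by group
      _ = 1 := by rw [h1, h.sq]
  have h6 : b * a = e * (a * b) := by
    rw [h3]
    calc b * a = (e * e) * (b * a) := by rw [h.sq, one_mul]
      _ = _ := by group
  calc b * a * b⁻¹ = e * (a * b) * b⁻¹ := by rw [h6]
    _ = e * a := by group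
    _ = a * e := (h.cen a ha).symm
    _ = a⁻¹ := h5.symm

section main

variable {G : Type u} [Group G] [Finite G]

/-- **(KL) for groups with `F*(G)` simple.** -/
theorem trich (hT : TStmt.{u}) (hC : ChartOut.{u}) (hE : ExcOut.{u}) {L : Subgroup G} (hL : L.Normal)
    (hs : IsSimpleGroup ↥L) (hna : ¬ IsMulCommutative ↥L) (hCL : centralizer (L : Set G) = ⊥)
    {Om : Set (Subgroup G)} (w : WR Om) {z u : G} {K K' : Subgroup G} (hK : K ∈ Ov Om z) (hK' : K' ∈ Ov Om u)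
    (hne : z ≠ u) (hc : ∀ a ∈ K, ∀ b ∈ K', a * b = b * a)
    (hLie : ∃ p : ℕ, p.Prime ∧ p ≠ 2 ∧ IsLieTypeChar p ↥L) {v : G} (hv : v * v = 1)
    (hO : OO (centralizer ({v} : Set G)) ≠ ⊥) :
    (∀ l ∈ L, z * l = l * z) ∨ (∀ l ∈ L, u * l = l * u) ∨ ∀ l ∈ L, z * u * l = l * (z * u) := by
  obtain ⟨a, ha, b, hb, hq⟩ := exists_qp (qk w hK)
  obtain ⟨a', ha', b', hb', hq'⟩ := exists_qp (qk w hK')
  have mem : ∀ x : G, x ∈ centralizer (L : Set G) → ∀ l ∈ L, x * l = l * x :=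
    fun x hx l hl => (mem_centralizer_iff.1 hx l hl).symm
  by_cases hL2 : IsL2 ↥L
  · obtain ⟨F, i1, i2, ho, -, ⟨e⟩⟩ := hL2
    by_cases h1 : z ∈ centralizer (L : Set G)
    · exact Or.inl (mem z h1)
    by_cases h2 : u ∈ centralizer (L : Set G)
    · exact Or.inr (Or.inl (mem u h2))
    exact Or.inr (Or.inr (mem _ (psl_mem ho hL e hq hq' (hc a ha a' ha') (hc a ha b' hb') (hc b hb a' ha')
      (hc b hb b' hb') h1 h2)))
  by_cases hRee : Lie.IsoRee ↥L
  · exact Or.inl (mem z (ree_mem hL hRee hq))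
  obtain ⟨F, i1, i2, t, J, f⟩ := exists_front_of_core hT hL hs hna hCL hv hO hLie hL2 hRee
  refine f.elim ?_ ?_
  · intro p c τ hτ ok small hch sl zx
    exact kl_chart f hL c (hC G L F t J f hL hs hna p c τ hτ ok
      (fun h => OddHalf.Known.isLieTypeChar_congr (quoEquiv hs hna) (small h)) hch sl zx) w hK hK' hne hc
  · intro p hp hp2 iso zzc three
    exact hE G L F t J f hL hs hna hCL p hp hp2 (isG2D4_simple hs hna iso) zzc three Om w z u K K' hK hK' hne hc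

/-- **(n1), the Lie type case.** -/
theorem false_of_lie (hT : TStmt.{u}) (hC : ChartOut.{u}) (hE : ExcOut.{u}) {L : Subgroup G} (hL : L.Normal)
    (hs : IsSimpleGroup ↥L) (hna : ¬ IsMulCommutative ↥L) (hCL : centralizer (L : Set G) = ⊥)
    {Om : Set (Subgroup G)} (w : WR Om) {z u : G} {K K' : Subgroup G} (hK : K ∈ Ov Om z) (hK' : K' ∈ Ov Om u)
    (hne : z ≠ u) (hc : ∀ a ∈ K, ∀ b ∈ K', a * b = b * a)
    (hLie : ∃ p : ℕ, p.Prime ∧ p ≠ 2 ∧ IsLieTypeChar p ↥L) {v : G} (hv : v * v = 1)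
    (hO : OO (centralizer ({v} : Set G)) ≠ ⊥) : False := by
  have one : ∀ x : G, (∀ l ∈ L, x * l = l * x) → x = 1 := by
    intro x hx
    have h1 : x ∈ centralizer (L : Set G) := mem_centralizer_iff.2 fun l hl => (hx l hl).symm
    rwa [hCL, mem_bot] at h1
  have hz : z ∈ ZZ Om := ⟨K, hK⟩
  have hu : u ∈ ZZ Om := ⟨K', hK'⟩
  rcases trich hT hC hE hL hs hna hCL w hK hK' hne hc hLie hv hO with h | h | h
  · exact w.zz_ne hz (one z h)
  · exact w.zz_ne hu (one u h)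
  · apply hne
    calc z = z * u * u := by rw [mul_assoc, w.zz_sq hu, mul_one]
      _ = u := by rw [one _ h, one_mul]

/-- **(n1).** Two commuting members over different involutions: all `O(C(v))`, `v` an involution, are trivial. -/
theorem false_of_core (hT : TStmt.{u}) (hC : ChartOut.{u}) (hE : ExcOut.{u}) (fs : AssemblyNil.FS G)
    (h1311 : AssemblyNil.St1311 G)
    (hU : ((∃ n : ℕ, Odd n ∧ 7 ≤ n ∧ Nonempty (↥(generalizedFittingSubgroup G) ≃* ↥(alternatingGroup (Fin n)))) ∨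
      (∃ (F : Type) (_ : Field F) (_ : Fintype F), Fintype.card F = 4 ∧
        Nonempty (↥(generalizedFittingSubgroup G) ≃* Matrix.ProjectiveSpecialLinearGroup (Fin 3) F)) ∨
      Cfsg.Spor.IsoHe ↥(generalizedFittingSubgroup G)) → False)
    {Om : Set (Subgroup G)} (w : WR Om) {z u : G} {K K' : Subgroup G} (hK : K ∈ Ov Om z) (hK' : K' ∈ Ov Om u)
    (hne : z ≠ u) (hc : ∀ a ∈ K, ∀ b ∈ K', a * b = b * a) {v : G} (hv : orderOf v = 2)
    (hO : centralizerPPrimeCore 2 v ≠ ⊥) : False := by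
  rcases h1311 v hv hO with h | h
  · exact false_of_lie hT hC hE (Lib.GenFitting.genFitting_normal (G := G)) fs.simple fs.na
      (End.centralizer_fstar fs.simple fs.na) w hK hK' hne hc h
      (by rw [← pow_two, ← hv]; exact pow_orderOf_eq_one v) hO
  · exact hU h

/-- **(n1)**, for a family with `Hyp Om`, `|K| = 8`. -/
theorem core_eq_bot_of_hyp (hT : TStmt.{u}) (hC : ChartOut.{u}) (hE : ExcOut.{u}) (fs : AssemblyNil.FS G)
    (h1311 : AssemblyNil.St1311 G)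
    (hU : ((∃ n : ℕ, Odd n ∧ 7 ≤ n ∧ Nonempty (↥(generalizedFittingSubgroup G) ≃* ↥(alternatingGroup (Fin n)))) ∨
      (∃ (F : Type) (_ : Field F) (_ : Fintype F), Fintype.card F = 4 ∧
        Nonempty (↥(generalizedFittingSubgroup G) ≃* Matrix.ProjectiveSpecialLinearGroup (Fin 3) F)) ∨
      Cfsg.Spor.IsoHe ↥(generalizedFittingSubgroup G)) → False)
    {Om : Set (Subgroup G)} (hyp : Hyp Om) (h8 : ∀ K ∈ Om, Nat.card K = 8) {K K' : Subgroup G} (hK : K ∈ Om)
    (hK' : K' ∈ Om) (hne : zz K ≠ zz K') (hc : K ≤ centralizer (K' : Set G)) :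
    ∀ v : G, orderOf v = 2 → centralizerPPrimeCore 2 v = ⊥ := by
  intro v hv
  by_contra hO
  exact false_of_core hT hC hE fs h1311 hU (WR.of_hyp hyp h8) (z := zz K) (u := zz K') ⟨hK, rfl⟩ ⟨hK', rfl⟩ hne
    (fun a ha b hb => (mem_centralizer_iff.1 (hc ha) b hb).symm) hv hO

end main

end Cfsg.Agent.Cit.Nil.LO
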