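import Cfsg.Agent.LFourR.TorusB
import Cfsg.Agent.LFourB.FixQuat

/-!
# S1309, node (n1), piece (A): involutory automorphisms of `SL(2,F)`, `|F| > 3` odd

* `F1` : an involutory automorphism centralising a Sylow 2-subgroup is trivial;
* `sl_cases` : an involutory automorphism `α ≠ 1` of `SL(2,F)` fixes an element `≠ 1` of odd order, or is the inner
  automorphism of an element `e` of order 4 with `C(e) = ⟨τ⟩` a cyclic 2-group inverted by some `j`, `j² = -1`,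
  `α j = -j`;
* `F2` : the same for a subgroup `J ≃* SL(2,F)` of a group and `z ∈ N(J)`, `z²` centralising `J`.
-/

set_option autoImplicit false

namespace Cfsg.Agent.Cit.Nil.LO

open Matrix Cfsg.Agent.Lib.SL2Mat Cfsg.Agent.Lib.AutSL2 Cfsg.Agent.Lib.AutSL2Out
open Cfsg.Agent.Lib.PSL2Circle Cfsg.Agent.Lib.PSL2Inv Cfsg.Agent.Lib.PSL2Torus Cfsg.Agent.Lib.PSL2Outer
open Cfsg.Agent.LFourA.FieldInv Cfsg.Agent.LFourR.Mat2

variable {F : Type*} [Field F] [Finite F]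

/-- **(F1)** `z ∈ N(J)` centralises a Sylow 2-subgroup `Q` of `J ≃* SL(2,F)` and `z²` centralises `J`: `z`
centralises `J`. -/
theorem F1 {H : Type*} [Group H] {J : Subgroup H} (h2 : (2 : F) ≠ 0)
    (e : J ≃* Matrix.SpecialLinearGroup (Fin 2) F) {Q : Subgroup H} (hQp : IsPGroup 2 Q)
    (hQi : Odd (Q.relIndex J)) {z : H} (hz : z ∈ Subgroup.normalizer (J : Set H))
    (hz2 : ∀ a ∈ J, z * z * a = a * (z * z)) (hzQ : ∀ x ∈ Q, z * x = x * z) : ∀ a ∈ J, z * a = a * z :=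
  Cfsg.Agent.LFourB.FixQuat.centralizes h2 e hQp hQi hz hz2 hzQ

omit [Finite F] in
theorem up_pow (n : ℕ) : (up (1 : F)) ^ n = up (n : F) := by
  induction n with
  | zero => rw [pow_zero, Nat.cast_zero, up_zero]
  | succ n ih => rw [pow_succ, ih, up_mul, Nat.cast_succ]

theorem orderOf_up (h2 : (2 : F) ≠ 0) : Odd (orderOf (up (1 : F))) ∧ up (1 : F) ≠ 1 := by
  obtain ⟨p, hp⟩ := CharP.exists F
  have hpp : p.Prime := (CharP.char_is_prime_or_zero F p).resolve_right (by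
    rintro rfl
    have : CharZero F := CharP.charP_to_charZero F
    exact not_finite F)
  have hp2 : p ≠ 2 := by
    rintro rfl
    exact h2 (by exact_mod_cast CharP.cast_eq_zero F 2)
  refine ⟨?_, fun h => ?_⟩
  · refine Odd.of_dvd_nat (hpp.odd_of_ne_two hp2) (orderOf_dvd_of_pow_eq_one ?_)
    rw [up_pow, CharP.cast_eq_zero, up_zero]
  · rw [← up_zero] at h
    exact one_ne_zero (up_inj h)

/-- An involutory automorphism of `SL(2,F)` fixing no element `≠ 1` of odd order is induced by `GL(2,F)`. -/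
theorem exists_form (h2 : (2 : F) ≠ 0) {α : MulAut (Matrix.SpecialLinearGroup (Fin 2) F)}
    (hα : ∀ x, α (α x) = x) (hno : ∀ x, Odd (orderOf x) → α x = x → x = 1) :
    ∃ g : GL (Fin 2) F, ∀ x, α x = conjGL g x := by
  obtain ⟨g, σ, hgσ'⟩ := exists_gl_ringEquiv (MonoidHom.id (Matrix.SpecialLinearGroup (Fin 2) F))
    Function.surjective_id (by
      intro x hx
      rw [MonoidHom.mem_ker] at hx
      rw [show x = 1 from hx]
      exact one_mem _) α
  have hgσ : ∀ x, α x = conjGL g (fieldAut σ x) := hgσ'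
  have hsemi : ∀ (k : GL (Fin 2) F) (x), fieldAut σ (conjGL k x) =
      conjGL (Matrix.GeneralLinearGroup.map σ.toRingHom k) (fieldAut σ x) := by
    intro k x
    have := DFunLike.congr_fun (fieldAut_mul_conjGL σ k) x
    rwa [MulAut.mul_apply, MulAut.mul_apply] at this
  have hsq : ∀ x, conjGL (g * Matrix.GeneralLinearGroup.map σ.toRingHom g) (fieldAut (σ * σ) x) = x ∨
      conjGL (g * Matrix.GeneralLinearGroup.map σ.toRingHom g) (fieldAut (σ * σ) x) = -x := by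
    intro x
    left
    have h1 := hα x
    rw [hgσ, hgσ, hsemi] at h1
    have h5 : conjGL (g * Matrix.GeneralLinearGroup.map σ.toRingHom g) (fieldAut (σ * σ) x) =
        conjGL g (conjGL (Matrix.GeneralLinearGroup.map σ.toRingHom g) (fieldAut σ (fieldAut σ x))) := by
      rw [map_mul, map_mul]; rfl
    rw [h5]
    exact h1
  obtain ⟨hσ, c, hc, hgc⟩ := eq_one_of_map h2 hsq
  have hσ2 : ∀ a, σ (σ a) = a := fun a => DFunLike.congr_fun hσ a
  by_cases hσ1 : σ = 1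
  · subst hσ1
    exact ⟨g, fun x => by rw [hgσ, map_one, MulAut.one_apply]⟩
  exfalso
  have hσne : ∃ a, σ a ≠ a := by
    by_contra hcon
    push Not at hcon
    exact hσ1 (RingEquiv.ext hcon)
  have hmap : (Matrix.GeneralLinearGroup.map σ.toRingHom g).1 = g.1.map σ := rfl
  have hgc' : g.1 * g.1.map σ = c • (1 : Matrix (Fin 2) (Fin 2) F) := by
    rw [← hmap, ← Units.val_mul, hgc]
  -- `c` is fixed by `σ`
  have hgc2 : g.1.map σ * g.1 = σ c • (1 : Matrix (Fin 2) (Fin 2) F) := by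
    have h1 := congrArg (fun M : Matrix (Fin 2) (Fin 2) F => σ.toRingHom.mapMatrix M) hgc'
    simp only [map_mul] at h1
    have h3 : σ.toRingHom.mapMatrix (g.1.map σ) = g.1 := by
      ext i j
      exact hσ2 _
    have h4 : σ.toRingHom.mapMatrix (c • (1 : Matrix (Fin 2) (Fin 2) F)) =
        σ c • (1 : Matrix (Fin 2) (Fin 2) F) := by
      ext i j
      change σ (c * (1 : Matrix (Fin 2) (Fin 2) F) i j) = σ c * (1 : Matrix (Fin 2) (Fin 2) F) i j
      rw [map_mul]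
      congr 1
      by_cases hij : i = j
      · rw [hij, Matrix.one_apply_eq, map_one]
      · rw [Matrix.one_apply_ne hij, map_zero]
    rw [h3, h4] at h1
    exact h1
  have hcσ : σ c = c := by
    have h1 : g.1.map σ * (g.1 * g.1.map σ) = c • g.1.map σ := by
      rw [hgc', Matrix.mul_smul, Matrix.mul_one]
    rw [← Matrix.mul_assoc, hgc2, Matrix.smul_mul, Matrix.one_mul] at h1
    by_contra hne
    have h3 : (σ c - c) • g.1.map σ = 0 := by rw [sub_smul, h1, sub_self]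
    have h4 : g.1.map σ = 0 := (smul_eq_zero.1 h3).resolve_left (sub_ne_zero.2 hne)
    rw [h4, Matrix.mul_zero] at hgc'
    have := congrFun (congrFun hgc' 0) 0
    simp at this
    exact hc this.symm
  have hσid : σ.toRingHom ≠ RingHom.id F := by
    intro h
    obtain ⟨a, ha⟩ := hσne
    exact ha (DFunLike.congr_fun h a)
  obtain ⟨μ, hμ⟩ := Cfsg.Agent.ClassicalGeometry.InvolutiveNorm.exists_mul_sigma_eq
    (σ := σ.toRingHom) hσid hσ2 (a := c⁻¹) (by
      change σ c⁻¹ = c⁻¹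
      rw [map_inv₀, hcσ])
  have hμ' : μ * σ μ = c⁻¹ := hμ
  have hμ0 : μ ≠ 0 := by
    rintro rfl
    rw [zero_mul] at hμ'
    exact inv_ne_zero hc hμ'.symm
  have hA : (μ • g.1) * (μ • g.1).map σ = 1 := by
    have h1 : (μ • g.1).map σ = σ μ • g.1.map σ := by
      ext i j
      change σ (μ * g.1 i j) = σ μ * σ (g.1 i j)
      rw [map_mul]
    rw [h1, Matrix.smul_mul, Matrix.mul_smul, hgc', smul_smul, smul_smul, hμ',
      inv_mul_cancel₀ hc, one_smul]
  obtain ⟨B, hBu, hB⟩ := hilbert σ hσ2 hσne (μ • g.1) hA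
  obtain ⟨h, rfl⟩ := hBu
  have key : ∀ x, α (conjGL h x) = conjGL h (fieldAut σ x) := by
    intro x
    rw [hgσ, hsemi]
    have h1 : conjGL g (conjGL (Matrix.GeneralLinearGroup.map σ.toRingHom h) (fieldAut σ x)) =
        conjGL (g * Matrix.GeneralLinearGroup.map σ.toRingHom h) (fieldAut σ x) := by
      rw [map_mul]; rfl
    rw [h1]
    apply conjGL_smul (c := μ⁻¹)
    have h3 : (Matrix.GeneralLinearGroup.map σ.toRingHom h).1 = h.1.map σ := rfl
    have h5 : μ⁻¹ • h.1 = μ⁻¹ • (μ • g.1 * h.1.map σ) := by rw [hB]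
    rw [Units.val_mul, h3, h5, Matrix.smul_mul, smul_smul, inv_mul_cancel₀ hμ0, one_smul]
  have hfix : fieldAut σ (up (1 : F)) = up 1 := by rw [fieldAut_up, map_one]
  obtain ⟨ho, h1⟩ := orderOf_up (F := F) h2
  have h3 := hno (conjGL h (up 1)) (by rw [MulEquiv.orderOf_eq]; exact ho) (by rw [key, hfix])
  exact h1 ((map_eq_one_iff _ (conjGL h).injective).1 h3)

/-- a finite group whose order is twice an odd number `> 1` has an element `≠ 1` of odd order -/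
theorem exists_odd_elt {A : Type*} [Group A] [Finite A] {m : ℕ} (hA : Nat.card A = 2 * m) (hm : Odd m) (h1 : 1 < m) :
    ∃ c : A, c ≠ 1 ∧ Odd (orderOf c) := by
  obtain ⟨r, hr, hrm⟩ := Nat.exists_prime_and_dvd h1.ne'
  have : Fact r.Prime := ⟨hr⟩
  obtain ⟨c, hc⟩ := exists_prime_orderOf_dvd_card' (G := A) r (by rw [hA]; exact Dvd.dvd.mul_left hrm 2)
  refine ⟨c, ?_, ?_⟩
  · rintro rfl
    rw [orderOf_one] at hc
    exact hr.one_lt.ne hc
  · rw [hc]
    exact hm.of_dvd_nat hrm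

/-- **Involutory automorphisms of `SL(2,F)`, `|F| > 3` odd.** -/
theorem sl_cases (h2 : (2 : F) ≠ 0) (h3 : 3 < Nat.card F) {α : MulAut (Matrix.SpecialLinearGroup (Fin 2) F)}
    (hα : ∀ x, α (α x) = x) (h1 : ∃ x, α x ≠ x) :
    (∃ c, c ≠ 1 ∧ Odd (orderOf c) ∧ α c = c) ∨
    ∃ e τ j : Matrix.SpecialLinearGroup (Fin 2) F, e * e = -1 ∧ (∀ x, α x = e * x * e⁻¹) ∧
      (∃ a, 2 ≤ a ∧ orderOf τ = 2 ^ a) ∧ (∀ x, α x = x ↔ x ∈ Subgroup.zpowers τ) ∧ e ∈ Subgroup.zpowers τ ∧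
      j⁻¹ * τ * j = τ⁻¹ ∧ j * j = -1 ∧ α j = -j := by
  by_cases hodd : ∃ c, c ≠ 1 ∧ Odd (orderOf c) ∧ α c = c
  · exact Or.inl hodd
  right
  have hno : ∀ x, Odd (orderOf x) → α x = x → x = 1 := by
    intro x hx hαx
    by_contra hne
    exact hodd ⟨x, hne, hx, hαx⟩
  obtain ⟨g, hg⟩ := exists_form h2 hα hno
  have hsc : ∀ x : Matrix.SpecialLinearGroup (Fin 2) F, conjGL (g * g) x = x := by
    intro x
    rw [map_mul, MulAut.mul_apply, ← hg, ← hg, hα]
  have hns : ¬ IsSc g.1 := by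
    intro h
    obtain ⟨x, hx⟩ := h1
    exact hx (by rw [hg, conjGL_eq_one_of_isSc h, MulAut.one_apply])
  have htr0 : g.1.trace = 0 := by
    refine trace_eq_zero_of_sq hns ?_
    have h1 : IsSc (g * g).1 := isSc_of_conjGL_eq_one (MulEquiv.ext hsc)
    exact h1
  have htr : g.1 1 1 = - g.1 0 0 := by
    rw [Matrix.trace_fin_two] at htr0
    linear_combination htr0
  let A : Subgroup (Matrix.SpecialLinearGroup (Fin 2) F) :=
    { carrier := {x | α x = x}
      mul_mem' := fun {x y} hx hy => by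
        show α (x * y) = x * y
        rw [map_mul, show α x = x from hx, show α y = y from hy]
      one_mem' := map_one α
      inv_mem' := fun {x} hx => by
        show α x⁻¹ = x⁻¹
        rw [map_inv, show α x = x from hx] }
  have hmemA : ∀ x, x ∈ A ↔ α x = x := fun x => Iff.rfl
  by_cases hsq : IsSquare g.1.det
  swap
  · exfalso
    obtain ⟨-, hcard⟩ := Cfsg.Agent.LFourR.FixTorus.fixed_cyclic h2 g htr hsq A (fun x => by rw [hmemA, hg])
    obtain ⟨m, hm, hm1, hAm⟩ : ∃ m, Odd m ∧ 1 < m ∧ Nat.card A = 2 * m := by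
      rcases hcard with ⟨hq, hc⟩ | ⟨hq, hc⟩
      · exact ⟨(Nat.card F + 1) / 2, by rw [Nat.odd_iff]; omega, by omega, by omega⟩
      · exact ⟨(Nat.card F - 1) / 2, by rw [Nat.odd_iff]; omega, by omega, by omega⟩
    obtain ⟨c, hc1, hco⟩ := exists_odd_elt hAm hm hm1
    apply hc1
    apply Subtype.ext
    refine hno c.1 ?_ c.2
    rwa [Subgroup.orderOf_coe]
  obtain ⟨s, hs⟩ := hsq
  have hd0 : g.1.det ≠ 0 := (Matrix.GeneralLinearGroup.det g).ne_zero
  have hs0 : s ≠ 0 := by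
    rintro rfl
    rw [mul_zero] at hs
    exact hd0 hs
  have hdet : g.1.det = -(g.1 0 0 ^ 2 + g.1 0 1 * g.1 1 0) := by
    rw [det_fin_two, htr]; ring
  rw [hdet] at hs
  have hee : s⁻¹ * s⁻¹ * (g.1 0 0 ^ 2 + g.1 0 1 * g.1 1 0) = -1 := by
    have : g.1 0 0 ^ 2 + g.1 0 1 * g.1 1 0 = -(s * s) := by linear_combination -hs
    rw [this]; field_simp
  set e : Matrix.SpecialLinearGroup (Fin 2) F := mk (s⁻¹ * g.1 0 0) (s⁻¹ * g.1 0 1) (s⁻¹ * g.1 1 0) (s⁻¹ * -g.1 0 0)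
    (by linear_combination -hee) with he
  have hev : e.1 = s⁻¹ • g.1 := by
    ext a b
    fin_cases a <;> fin_cases b
    · rfl
    · rfl
    · rfl
    · change s⁻¹ * -g.1 0 0 = s⁻¹ * g.1 1 1
      rw [htr]
  have he2 : e * e = -1 := by
    refine ext_ent ?_ ?_ ?_ ?_
    · rw [ent_mul]
      change s⁻¹ * g.1 0 0 * (s⁻¹ * g.1 0 0) + s⁻¹ * g.1 0 1 * (s⁻¹ * g.1 1 0) = -1
      linear_combination hee
    · rw [ent_mul]
      change s⁻¹ * g.1 0 0 * (s⁻¹ * g.1 0 1) + s⁻¹ * g.1 0 1 * (s⁻¹ * -g.1 0 0) = -0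
      ring
    · rw [ent_mul]
      change s⁻¹ * g.1 1 0 * (s⁻¹ * g.1 0 0) + s⁻¹ * -g.1 0 0 * (s⁻¹ * g.1 1 0) = -0
      ring
    · rw [ent_mul]
      change s⁻¹ * g.1 1 0 * (s⁻¹ * g.1 0 1) + s⁻¹ * -g.1 0 0 * (s⁻¹ * -g.1 0 0) = -1
      linear_combination hee
  have hαe : ∀ x, α x = e * x * e⁻¹ := by
    intro x
    rw [hg, ← conjGL_toGL]
    symm
    apply conjGL_smul (c := s⁻¹)
    exact hev
  have htre : ent e 1 1 = - ent e 0 0 := tr_of_sq h2 he2
  have hcyc := isCyclic_centralizer h2 htre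
  have hcard := card_centralizer h2 htre
  have hfix : ∀ x, α x = x ↔ x ∈ Subgroup.centralizer ({e} : Set (Matrix.SpecialLinearGroup (Fin 2) F)) := by
    intro x
    rw [hαe, mul_inv_eq_iff_eq_mul, Subgroup.mem_centralizer_singleton_iff]
    exact eq_comm
  obtain ⟨τ, hτ⟩ := hcyc.exists_generator
  have hτz : ∀ x, x ∈ Subgroup.centralizer ({e} : Set (Matrix.SpecialLinearGroup (Fin 2) F)) ↔
      x ∈ Subgroup.zpowers τ.1 := by
    intro x
    constructor
    · intro hx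
      obtain ⟨k, hk⟩ := Subgroup.mem_zpowers_iff.1 (hτ ⟨x, hx⟩)
      exact Subgroup.mem_zpowers_iff.2 ⟨k, congrArg Subtype.val hk⟩
    · intro hx
      obtain ⟨k, rfl⟩ := Subgroup.mem_zpowers_iff.1 hx
      exact Subgroup.zpow_mem _ τ.2 k
  have hoτ : orderOf τ.1 = Nat.card (Circ F) := by
    rw [← hcard, Subgroup.orderOf_coe, ← Nat.card_zpowers, (Subgroup.eq_top_iff' _).2 hτ, Subgroup.card_top]
  have h4 : 4 ∣ orderOf τ.1 := by
    rw [hoτ]
    rcases card_circ (F := F) h2 with ⟨hq, hc⟩ | ⟨hq, hc⟩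
    · rw [hc]; omega
    · rw [hc]; omega
  have hτ0 : orderOf τ.1 ≠ 0 := (orderOf_pos τ.1).ne'
  obtain ⟨a, m, hm, ham⟩ := Nat.exists_eq_two_pow_mul_odd hτ0
  have hm1 : m = 1 := by
    have h5 : orderOf (τ.1 ^ 2 ^ a) = m := by
      rw [orderOf_pow, ham, Nat.gcd_eq_right (Dvd.intro _ rfl), Nat.mul_div_cancel_left _ (by positivity)]
    have h6 := hno (τ.1 ^ 2 ^ a) (by rw [h5]; exact hm) (by
      rw [map_pow, (hfix τ.1).2 τ.2])
    rw [h6, orderOf_one] at h5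
    exact h5.symm
  rw [hm1, mul_one] at ham
  have ha2 : 2 ≤ a := by
    rw [ham] at h4
    by_contra hlt
    interval_cases a <;> omega
  have hei : e⁻¹ = -e := Cfsg.Agent.LFourR.TorusB.inv_eq_neg he2
  have htre' : ent e⁻¹ 1 1 = - ent e⁻¹ 0 0 := tr_of_sq h2 (by rw [hei, neg_mul_neg, he2])
  obtain ⟨j, hj⟩ := exists_conj h2 htre htre'
  have hjτ : j * τ.1 * j⁻¹ = τ.1⁻¹ :=
    Cfsg.Agent.LFourR.TorusB.inv_of h2 he2 hj (Subgroup.mem_centralizer_singleton_iff.1 τ.2)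
  have hje : j * e = -(e * j) := by
    rw [mul_inv_eq_iff_eq_mul, hei] at hj
    rw [hj, neg_mul]
  have hj2 : j * j = -1 := sq_of_tr (anti h2 htre hje).1
  refine ⟨e, τ.1, j, he2, hαe, ⟨a, ha2, ham⟩, fun x => by rw [hfix, hτz], ?_, ?_, hj2, ?_⟩
  · rw [← hτz, Subgroup.mem_centralizer_singleton_iff]
  · have h5 : j * τ.1⁻¹ * j⁻¹ = τ.1 := by
      have := congrArg (·⁻¹) hjτ
      simpa [mul_assoc] using this
    calc j⁻¹ * τ.1 * j = j⁻¹ * (j * τ.1⁻¹ * j⁻¹) * j := by rw [h5]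
      _ = τ.1⁻¹ := by group
  · rw [hαe]
    have h5 : e * j = -(j * e) := by rw [hje, neg_neg]
    rw [h5, neg_mul, mul_inv_cancel_right]

/-- **(F2)** `J ≃* SL(2,F)`, `|F| > 3` odd, `t` the involution of `J`, `z ∈ N(J)` does not centralise `J`, `z²` does:
`z` centralises an element `≠ 1` of odd order of `J`, or acts as an element `e` of order four of `J`, with
`C_J(z) = ⟨τ⟩` a cyclic 2-group inverted by `j`, `j² = t`, `j^z = j t`. -/
theorem F2 {H : Type*} [Group H] {J : Subgroup H} (h2 : (2 : F) ≠ 0) (h3 : 3 < Nat.card F)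
    (e0 : J ≃* Matrix.SpecialLinearGroup (Fin 2) F) {z t : H} (hz : z ∈ Subgroup.normalizer (J : Set H))
    (hz2 : ∀ a ∈ J, z * z * a = a * (z * z)) (ht : t ∈ J) (ht2 : t * t = 1) (ht1 : t ≠ 1)
    (hne : ∃ a ∈ J, z * a ≠ a * z) :
    (∃ c ∈ J, c ≠ 1 ∧ Odd (orderOf c) ∧ c * z = z * c) ∨
    ∃ e ∈ J, ∃ τ ∈ J, ∃ j ∈ J, e * e = t ∧ (∀ x ∈ J, z * x * z⁻¹ = e * x * e⁻¹) ∧
      (∃ a, 2 ≤ a ∧ orderOf τ = 2 ^ a) ∧ τ * z = z * τ ∧ (∀ x ∈ J, x * z = z * x → x ∈ Subgroup.zpowers τ) ∧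
      e ∈ Subgroup.zpowers τ ∧ j⁻¹ * τ * j = τ⁻¹ ∧ j * j = t ∧ z * j * z⁻¹ = j * t ∧ z⁻¹ * j * z = j * t := by
  let α : MulAut (Matrix.SpecialLinearGroup (Fin 2) F) := (e0.symm.trans (Cfsg.Agent.LFourR.nact J hz)).trans e0
  let b : Matrix.SpecialLinearGroup (Fin 2) F →* H := J.subtype.comp e0.symm.toMonoidHom
  have hbJ : ∀ x, b x ∈ J := fun x => (e0.symm x).2
  have hbinj : Function.Injective b := by
    intro x y h
    exact e0.symm.injective (Subtype.ext h)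
  have hbsur : ∀ x ∈ J, ∃ y, b y = x := fun x hx => ⟨e0 ⟨x, hx⟩, by
    show ((e0.symm (e0 ⟨x, hx⟩) : J) : H) = x
    rw [e0.symm_apply_apply]⟩
  have hbα : ∀ x, b (α x) = z * b x * z⁻¹ := by
    intro x
    show ((e0.symm (e0 (Cfsg.Agent.LFourR.nact J hz (e0.symm x))) : J) : H) = _
    rw [e0.symm_apply_apply, Cfsg.Agent.LFourR.coe_nact]
    rfl
  have hα : ∀ x, α (α x) = x := by
    intro x
    apply hbinj
    rw [hbα, hbα]
    calc z * (z * b x * z⁻¹) * z⁻¹ = z * z * b x * (z * z)⁻¹ := by group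
      _ = b x := by rw [hz2 _ (hbJ x), mul_inv_cancel_right]
  have hneα : ∃ x, α x ≠ x := by
    obtain ⟨a, ha, haz⟩ := hne
    obtain ⟨x, rfl⟩ := hbsur a ha
    refine ⟨x, fun h => haz ?_⟩
    have h5 := hbα x
    rw [h, eq_mul_inv_iff_mul_eq] at h5
    exact h5.symm
  have hfix : ∀ x, α x = x ↔ b x * z = z * b x := by
    intro x
    rw [← hbinj.eq_iff, hbα, mul_inv_eq_iff_eq_mul]
    exact eq_comm
  have hbt : b (-1) = t := by
    obtain ⟨y, hy⟩ := hbsur t ht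
    rcases Cfsg.Agent.ClassicalGeometry.PSL2ElemOrder.eq_one_or_of_sq h2 y (by
      apply hbinj
      rw [map_mul, hy, ht2, map_one]) with h | h
    · exact absurd (by rw [← hy, h, map_one]) ht1
    · rw [← h, hy]
  have hbneg : ∀ x, b (-x) = b x * t := by
    intro x
    rw [← hbt, ← map_mul, mul_neg, mul_one]
  rcases sl_cases h2 h3 hα hneα with ⟨c, hc1, hco, hcα⟩ | ⟨e, τ, j, he2, hαe, ⟨a, ha2, ham⟩, hτ, heτ, hjτ, hj2, hjα⟩
  · left
    refine ⟨b c, hbJ c, ?_, ?_, (hfix c).1 hcα⟩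
    · intro h
      exact hc1 (hbinj (by rw [h, map_one]))
    · rwa [orderOf_injective b hbinj]
  · right
    have hbz : ∀ x, x ∈ Subgroup.zpowers τ → b x ∈ Subgroup.zpowers (b τ) := by
      intro x hx
      obtain ⟨k, rfl⟩ := Subgroup.mem_zpowers_iff.1 hx
      exact Subgroup.mem_zpowers_iff.2 ⟨k, by rw [map_zpow]⟩
    have hzj : z * b j * z⁻¹ = b j * t := by rw [← hbα, hjα, hbneg]
    have hzt : z * t * z⁻¹ = t := by
      rw [← hbt, ← hbα]
      congr 1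
      rw [hαe, mul_neg, mul_one, neg_mul, mul_inv_cancel]
    refine ⟨b e, hbJ e, b τ, hbJ τ, b j, hbJ j, ?_, ?_, ⟨a, ha2, ?_⟩, ?_, ?_, hbz e heτ, ?_, ?_, hzj, ?_⟩
    · rw [← map_mul, he2, hbt]
    · intro x hx
      obtain ⟨y, rfl⟩ := hbsur x hx
      rw [← hbα, hαe, map_mul, map_mul, map_inv]
    · rw [orderOf_injective b hbinj, ham]
    · exact (hfix τ).1 ((hτ τ).2 (Subgroup.mem_zpowers τ))
    · intro x hx hxz
      obtain ⟨y, rfl⟩ := hbsur x hx
      exact hbz y ((hτ y).1 ((hfix y).2 hxz))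
    · rw [← map_inv, ← map_mul, ← map_mul, hjτ, map_inv]
    · rw [← map_mul, hj2, hbt]
    · have h5 : z * (b j * t) * z⁻¹ = b j := by
        calc z * (b j * t) * z⁻¹ = (z * b j * z⁻¹) * (z * t * z⁻¹) := by group
          _ = b j := by rw [hzj, hzt, mul_assoc, ht2, mul_one]
      calc z⁻¹ * b j * z = z⁻¹ * (z * (b j * t) * z⁻¹) * z := by rw [h5]
        _ = b j * t := by group

end Cfsg.Agent.Cit.Nil.LO
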