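import Cfsg.Agent.Cit.Nil.LO.Cent
import Cfsg.Agent.Cit.Nil.LO.Sl2
import Cfsg.Agent.Cit.HexType
import Cfsg.Agent.OddHalf.NI.FTwo.Norm

/-!
# (n1), pieces (A) + (B): `E_z` centralises the members `J ≃ SL(2,F)`, `|F| > 3`, of `Om_c(S)` (helper818)

* `fTwo_of_sl` : `(F2)` for `J ≃ SL(2,F)`;
* `CW.of_sl` : the structure `CW`;
* `sl_centralizer` : the result;
* `not_comm_all` : `S` a Sylow 2-subgroup, then no member commutes with all members of `Om_c(S)`.
-/

set_option autoImplicit false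
set_option linter.style.haveILetI false
set_option linter.unusedSectionVars false

namespace Cfsg.Agent.Cit.Nil.LO

open Subgroup Cfsg Cit RG
open Cfsg.Agent.OddHalf.NI.FTwo (SL)

variable {G : Type*} [Group G] [Finite G]

section sl

variable {F : Type*} [Field F] [Fintype F] {Oc : Set (Subgroup G)} {J : Subgroup G}

theorem fTwo_of_sl (h : Hyp Oc) (hJ : J ∈ Oc) (hs : SL F ↥J) : FTwo J := by
  obtain ⟨e⟩ := hs.equiv
  intro z hz hzz hn
  have hn' : ∃ a ∈ J, z * a ≠ a * z := by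
    by_contra hcon
    push Not at hcon
    exact hn hcon
  rcases F2 (SignalizersComponents.SLQuasisimple.two_ne_zero_of_odd hs.odd)
    (by rw [Nat.card_eq_fintype_card]; exact hs.three) e hz
    (fun a _ => by rw [hzz, one_mul, mul_one]) (h.zz_mem hJ) (h.zz_mul hJ) (h.zz_ne hJ) hn' with h1 |
    ⟨e, -, τ, hτ, j, hj, -, -, ha, hτz, -, -, -, -, -, hjz⟩
  · exact Or.inl h1
  · exact Or.inr ⟨τ, hτ, j, hj, ha, hτz, hjz⟩

theorem oo_of_sl (hs : SL F ↥J) : OO J = ⊥ := by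
  obtain ⟨e⟩ := hs.equiv
  exact HexBase.OO_eq_bot_of (HexBase.isTy_sl (SignalizersComponents.SLQuasisimple.two_ne_zero_of_odd hs.odd) e)

end sl

/-- all members of `Oc` are of type `SL(2,F)`, `|F| > 3` odd -/
def SLs (Oc : Set (Subgroup G)) : Prop := ∀ J ∈ Oc, ∃ (F : Type) (_ : Field F) (_ : Fintype F), SL F ↥J

section

variable {Om Oc : Set (Subgroup G)} {z u : G} {S : Subgroup G} {J P K K' : Subgroup G}

theorem CW.of_sl (w : WR Om) (h : Hyp Oc) (hs : SLs Oc) (hz : z ∈ ZZ Om) (hS : IsPGroup 2 S) (hE : RR Om z ≤ S) :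
    CW Om Oc z S where
  w := w
  h := h
  qs J hJ := by
    obtain ⟨F, _, _, h1⟩ := hs J hJ
    exact h1.quasisimple
  oo J hJ := by
    obtain ⟨F, _, _, h1⟩ := hs J hJ
    exact oo_of_sl h1
  f2 J hJ := by
    obtain ⟨F, _, _, h1⟩ := hs J hJ
    exact fTwo_of_sl h hJ h1
  hz := hz
  hS := hS
  hE := hE

/-- **(A) + (B)** : `E_z` centralises all `J ∈ Om_c(S)` -/
theorem sl_centralizer (w : WR Om) (h : Hyp Oc) (hs : SLs Oc) (hz : z ∈ ZZ Om) (hS : IsPGroup 2 S)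
    (hE : RR Om z ≤ S) (hJ : J ∈ OmS Oc S) : ∀ g ∈ RR Om z, ∀ x ∈ J, g * x = x * g :=
  (CW.of_sl w h hs hz hS hE).le_centralizer hJ

/-- different members of `Om_c(S)` commute -/
theorem sl_comm (h : Hyp Oc) (hs : SLs Oc) (hS : IsPGroup 2 S) (hJ : J ∈ OmS Oc S) (hP : P ∈ OmS Oc S) (hne : J ≠ P) :
    ∀ a ∈ J, ∀ b ∈ P, a * b = b * a := by
  obtain ⟨F, _, _, s1⟩ := hs J hJ.1
  obtain ⟨F', _, _, s2⟩ := hs P hP.1
  have h1 := CoresComm.inf_le_centralizer h hS hJ hP hne (oo_of_sl s1)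
  have h3 := CoresComm.le_normalizer h hS hJ hP hne (oo_of_sl s1) (oo_of_sl s2)
  have h5 := CoresComm.le_centralizer_of_quasisimple h hS hP h1 h3 s2.quasisimple
  exact fun a ha b hb => mem_centralizer_iff.1 (h5 hb) a ha

/-- **maximality of `Om_c(S)`** -/
theorem not_comm_all (h : Hyp Oc) (S : Sylow 2 G) (hP : P ∈ Oc) :
    ¬ ∀ J ∈ OmS Oc (S : Subgroup G), ∀ a ∈ P, ∀ b ∈ J, a * b = b * a := by
  intro hc
  haveI : Fact (Nat.Prime 2) := ⟨Nat.prime_two⟩
  have hS : IsPGroup 2 (S : Subgroup G) := S.isPGroup'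
  set D := DD Oc (S : Subgroup G) with hD
  have hPD : ∀ x ∈ P, ∀ d ∈ D, x * d = d * x := by
    intro x hx d hd
    have h1 : D ≤ centralizer {x} := DD_le_iff.2 fun J hJ b hb => by
      rw [mem_centralizer_singleton_iff]
      exact (hc J hJ x hx b hb.1).symm
    exact (mem_centralizer_singleton_iff.1 (h1 hd)).symm
  have hPN : P ≤ normalizer (D : Set G) := by
    intro x hx
    rw [mem_normalizer_iff]
    intro d
    constructor
    · intro hd
      rw [hPD x hx d hd, mul_inv_cancel_right]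
      exact hd
    · intro hd
      have h1 := hPD _ (inv_mem hx) _ hd
      have h2 : d = x * d * x⁻¹ := by
        calc d = x⁻¹ * (x * d * x⁻¹) * x := by group
          _ = (x * d * x⁻¹) * x⁻¹ * x := by rw [h1]
          _ = x * d * x⁻¹ := by group
      rw [h2]
      exact hd
  have hSN : (S : Subgroup G) ≤ normalizer (D : Set G) :=
    le_normalizer.trans (normalizer_le_normalizer_DD h.conj)
  have hSyl : Syl (S : Subgroup G) (normalizer (D : Set G)) := by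
    refine ⟨hSN, hS, fun h2 => S.not_dvd_index (h2.trans ?_)⟩
    rw [← relIndex_top_right, ← relIndex_mul_relIndex (S : Subgroup G) _ ⊤ hSN le_top]
    exact dvd_mul_right _ _
  obtain ⟨Q, hQ⟩ := Hyp.exists_syl P
  obtain ⟨T, hT, hQT⟩ := LB.exists_syl_ge hQ.2.1 (hQ.1.trans hPN)
  obtain ⟨n, hn, hnT⟩ := hT.exists_conj hSyl
  have hJ : cj n P ∈ OmS Oc (S : Subgroup G) := by
    refine mem_OmS_of_le (h.conj P hP n) (hQ.cj n) ?_
    rw [← hnT]
    exact cj_mono n hQT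
  obtain ⟨c, v, m, g⟩ := h.exists_gq hJ.1 (syl_inf hS hJ)
  apply g.not_comm
  have hcD : c ∈ D := (inf_le_DD hJ) g.c_mem
  have h1 : n⁻¹ * v * n ∈ P := mem_cj.1 g.v_mem.1
  have h2 : n⁻¹ * c * n ∈ D := by
    have := (mem_normalizer_iff.1 (inv_mem hn) c).1 hcD
    rwa [inv_inv] at this
  have h3 := hPD _ h1 _ h2
  calc v * c = n * ((n⁻¹ * v * n) * (n⁻¹ * c * n)) * n⁻¹ := by group
    _ = n * ((n⁻¹ * c * n) * (n⁻¹ * v * n)) * n⁻¹ := by rw [h3]
    _ = c * v := by group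

end

end Cfsg.Agent.Cit.Nil.LO
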