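import Cfsg.Agent.Cit.Defs
import Cfsg.Agent.S0205
import Cfsg.Agent.UGT.U2.RL.Quo
import Cfsg.Agent.UGT.U2.FOne.Final
import Cfsg.Agent.SignalizersComponents.LayerBasic

/-!
# S1309 (n1), piece (E0): cores of centralisers of involutions force a field with more than 3 elements

`L ⊴ H` quasisimple, `Z(L)` and `C_H(L)` 2-groups, `v ∈ H`, `v² = 1`, `O(C_H(v)) ≠ 1`, `L / Z(L)` of Lie type in odd
characteristic, not `PSL₂(q)`, not `²G₂(q)`: then `L / Z(L)` is `LieBig` (`lieBig_of_core`); moreover there are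
`o ∈ O(C_H(v))` and a local configuration `Loc` for `v`, `o` (`exists_loc_of_core`).
-/

set_option autoImplicit false

open Subgroup Cfsg
open Cfsg.Agent.OddHalf.NI (LieBig)
open Cfsg.Agent.UGT.Iface (IsL2)
open Cfsg.Agent.UGT.U2.RL (Loc)

namespace Cfsg.Agent.Cit.Nil.LO

universe u

/-- A quasisimple group has even order. -/
theorem two_dvd_card {L : Type*} [Group L] [Finite L] (hq : IsQuasisimple L) : 2 ∣ Nat.card L := by
  by_contra h
  exact SignalizersComponents.Components.quasisimple_not_isSolvable hq (S0205.result (Nat.odd_iff.2 (by omega)))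

section core

variable {H : Type*} [Group H]

/-- a subgroup that is a 2-group and of odd order is trivial -/
theorem eq_bot_of_two_odd [Finite H] {A : Subgroup H} (h2 : IsPGroup 2 ↥A) (ho : ¬ 2 ∣ Nat.card ↥A) : A = ⊥ := by
  have : Fact (Nat.Prime 2) := ⟨Nat.prime_two⟩
  obtain ⟨k, hk⟩ := IsPGroup.iff_card.1 h2
  rcases Nat.eq_zero_or_pos k with h0 | h0
  · rw [h0, pow_zero] at hk
    exact Subgroup.eq_bot_of_card_eq _ hk
  · exact absurd (by rw [hk]; exact dvd_pow_self 2 (by omega)) ho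

/-- a subgroup of odd order of `L` normalised by `L` is trivial (`L` quasisimple, `Z(L)` a 2-group) -/
theorem eq_bot_of_odd [Finite H] {L N : Subgroup H} (hq : IsQuasisimple ↥L) (h2 : IsPGroup 2 ↥(center ↥L))
    (hN : N ≤ L) (hn : L ≤ normalizer (N : Set H)) (ho : ¬ 2 ∣ Nat.card ↥N) : N = ⊥ := by
  have h1 : (N.subgroupOf L).Normal := (normal_subgroupOf_iff_le_normalizer hN).2 hn
  have hc : Nat.card (N.subgroupOf L) = Nat.card N := Nat.card_congr (subgroupOfEquivOfLe hN).toEquiv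
  rcases SignalizersComponents.LayerBasic.quasisimple_normal hq _ h1 with h | h
  · exfalso
    apply ho
    rw [← hc, h, Subgroup.card_top]
    exact two_dvd_card hq
  · have h3 : N.subgroupOf L = ⊥ := eq_bot_of_two_odd (h2.to_le h) (by rw [hc]; exact ho)
    rw [← map_subgroupOf_eq_of_le hN, h3, Subgroup.map_bot]

/-- `O(C(v))` acts faithfully on `L`, if `C(L)` is a 2-group -/
theorem eq_one_of_central [Finite H] {L O : Subgroup H} (hC : IsPGroup 2 ↥(centralizer (L : Set H)))
    (hO : ¬ 2 ∣ Nat.card ↥O) {x : H} (hx : x ∈ O) (hxL : x ∈ centralizer (L : Set H)) : x = 1 := by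
  have h1 : O ⊓ centralizer (L : Set H) = ⊥ := by
    refine eq_bot_of_two_odd (hC.to_le inf_le_right) fun h => hO (h.trans ?_)
    exact Subgroup.card_dvd_of_le inf_le_left
  have h2 : x ∈ O ⊓ centralizer (L : Set H) := ⟨hx, hxL⟩
  rwa [h1, mem_bot] at h2

/-- `v` does not centralise `L`, if `O(C(v)) ≠ 1` -/
theorem not_mem_centralizer [Finite H] {L : Subgroup H} [hL : L.Normal] (hq : IsQuasisimple ↥L)
    (h2 : IsPGroup 2 ↥(center ↥L)) (hC : IsPGroup 2 ↥(centralizer (L : Set H))) {v : H}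
    (hO : OO (centralizer ({v} : Set H)) ≠ ⊥) : v ∉ centralizer (L : Set H) := by
  intro hv
  have hLC : L ≤ centralizer ({v} : Set H) := fun x hx =>
    mem_centralizer_singleton_iff.2 (mem_centralizer_iff.1 hv x hx)
  have hLO : L ≤ normalizer (OO (centralizer ({v} : Set H)) : Set H) := hLC.trans (le_normalizer_OO _)
  have hb : OO (centralizer ({v} : Set H)) ⊓ L = ⊥ := by
    refine eq_bot_of_odd hq h2 inf_le_right ?_ fun h => odd_OO (centralizer ({v} : Set H)) (h.trans ?_)
    · intro x hx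
      rw [mem_normalizer_iff_cj, cj_inf, mem_normalizer_iff_cj.1 (hLO hx), mem_normalizer_iff_cj.1 (le_normalizer hx)]
    · exact Subgroup.card_dvd_of_le inf_le_left
  apply hO
  rw [eq_bot_iff]
  intro x hx
  rw [mem_bot]
  refine eq_one_of_central hC (odd_OO _) hx ?_
  rw [mem_centralizer_iff]
  intro y hy
  have h1 : x * y * x⁻¹ * y⁻¹ ∈ OO (centralizer ({v} : Set H)) ⊓ L := by
    refine ⟨?_, L.mul_mem (hL.conj_mem y hy x) (L.inv_mem hy)⟩
    have h3 := (mem_normalizer_iff.1 (hLO hy) x⁻¹).1 (inv_mem hx)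
    have h4 : x * y * x⁻¹ * y⁻¹ = x * (y * x⁻¹ * y⁻¹) := by group
    rw [h4]
    exact mul_mem hx h3
  rw [hb, mem_bot] at h1
  have h5 : x * y * x⁻¹ * y⁻¹ * (y * x) = y * x := by rw [h1, one_mul]
  rw [← h5]
  group

end core

/-- **(E0), with the local configuration.** -/
theorem exists_loc_of_core {H : Type u} [Group H] [Finite H] {L : Subgroup H} [hL : L.Normal]
    (hq : IsQuasisimple ↥L) (h2 : IsPGroup 2 ↥(center ↥L)) (hC : IsPGroup 2 ↥(centralizer (L : Set H))) {v : H}
    (hv : v * v = 1) (hO : OO (centralizer ({v} : Set H)) ≠ ⊥)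
    (hLie : ∃ p : ℕ, p.Prime ∧ p ≠ 2 ∧ IsLieTypeChar p (↥L ⧸ center ↥L)) (hL2 : ¬ IsL2 (↥L ⧸ center ↥L))
    (hRee : ¬ Lie.IsoRee (↥L ⧸ center ↥L)) :
    LieBig (↥L ⧸ center ↥L) ∧ ∃ o ∈ OO (centralizer ({v} : Set H)), ∃ z S J,
      Loc (MulAut.conjNormal v : MulAut ↥L) (MulAut.conjNormal o) z S J := by
  have hvn := not_mem_centralizer hq h2 hC hO
  have hmem : ∀ x : H, (MulAut.conjNormal x : MulAut ↥L) = 1 → x ∈ centralizer (L : Set H) := by
    intro x hx
    rw [mem_centralizer_iff]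
    intro y hy
    have h1 := congrArg (fun f : MulAut ↥L => ((f ⟨y, hy⟩ : ↥L) : H)) hx
    simp only [MulAut.conjNormal_apply, MulAut.one_apply] at h1
    calc y * x = x * y * x⁻¹ * x := by rw [h1]
      _ = x * y := by group
  set O : Subgroup H := OO (centralizer ({v} : Set H)) with hOdef
  have hOC : O ≤ centralizer ({v} : Set H) := OO_le _
  have hcard : Odd (Nat.card (O.map (MulAut.conjNormal : H →* MulAut ↥L))) := by
    rw [Nat.odd_iff]
    by_contra h
    exact odd_OO (centralizer ({v} : Set H)) (by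
      refine Dvd.dvd.trans (by omega) (Subgroup.card_map_dvd O (MulAut.conjNormal : H →* MulAut ↥L)))
  obtain ⟨h3, δ, ⟨o, ho, rfl⟩, z, S, J, h4⟩ := UGT.U2.RL.exists_loc UGT.U2.FOne.Final.fAll hq h2 hLie hL2 hRee
    (τ := MulAut.conjNormal v) (D := O.map (MulAut.conjNormal : H →* MulAut ↥L))
    (by rw [← map_mul, hv, map_one]) (fun h => hvn (hmem v h)) hcard
    (by
      intro h
      apply hO
      rw [eq_bot_iff]
      intro x hx
      rw [mem_bot]
      refine eq_one_of_central hC (odd_OO _) hx (hmem x ?_)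
      have h1 := mem_map_of_mem (MulAut.conjNormal : H →* MulAut ↥L) hx
      rwa [h, mem_bot] at h1)
    (by
      rintro _ ⟨o, ho, rfl⟩
      rw [← map_mul, ← map_mul, mem_centralizer_singleton_iff.1 (hOC ho)])
    (by
      rintro k hk _ ⟨o, ho, rfl⟩
      have hkv : (k : H) ∈ centralizer ({v} : Set H) := by
        rw [mem_centralizer_singleton_iff]
        have h1 := congrArg Subtype.val hk
        rw [MulAut.conjNormal_apply] at h1
        calc (k : H) * v = v * k * v⁻¹ * v := by rw [h1]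
          _ = v * k := by group
      refine ⟨(k : H) * o * (k : H)⁻¹, (mem_normalizer_iff.1 (le_normalizer_OO _ hkv) o).1 ho, ?_⟩
      rw [map_mul, map_mul, map_inv]
      congr 1
      · congr 1
        exact MulAut.conjNormal_val
      · congr 1
        exact MulAut.conjNormal_val)
  exact ⟨h3, o, ho, z, S, J, h4⟩

/-- **(E0).** -/
theorem lieBig_of_core {H : Type u} [Group H] [Finite H] {L : Subgroup H} (hL : L.Normal)
    (hq : IsQuasisimple ↥L) (h2 : IsPGroup 2 ↥(center ↥L)) (hC : IsPGroup 2 ↥(centralizer (L : Set H))) {v : H}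
    (hv : v * v = 1) (hO : OO (centralizer ({v} : Set H)) ≠ ⊥)
    (hLie : ∃ p : ℕ, p.Prime ∧ p ≠ 2 ∧ IsLieTypeChar p (↥L ⧸ center ↥L)) (hL2 : ¬ IsL2 (↥L ⧸ center ↥L))
    (hRee : ¬ Lie.IsoRee (↥L ⧸ center ↥L)) : LieBig (↥L ⧸ center ↥L) :=
  (exists_loc_of_core hq h2 hC hv hO hLie hL2 hRee).1

end Cfsg.Agent.Cit.Nil.LO
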