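import Mathlib
import Cfsg.Agent.Cit.Nil.LO.Phi
import Cfsg.Agent.Cit.Nil.LO.SLComm

/-!
# Lie odd sections, the chart part: simply laced types, the end (S1309, (n1), piece (C))

`One F y` : at most one pair `± r` of `F` is not orthogonal to `y`.
`Iv X e y` : `e` inverts `X y`.
`out_of_dich` : if for all `K, e` and all roots `y ∉ F` : `e` centralises `X y`, or `One F y` and `e` inverts `X y`,
then `Out C F`.
-/

set_option autoImplicit false
set_option linter.unusedSectionVars false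
set_option linter.dupNamespace false

namespace Cfsg.Agent.LOC.EndOne

open CoxeterSystem Cfsg.Agent.ChevalleyStructure.CoxeterGeom Cfsg.Agent.Tits.Roots Cfsg.Agent.Tits.Core
  Cfsg.Agent.Tits.RootComb Cfsg.Agent.Nodes.Comb Cfsg.Agent.Nodes.SubComb Cfsg.Agent.Nodes.Reps
  Cfsg.Agent.Nodes.Coroot Cfsg.Agent.Nodes.PosPair Cfsg.Agent.Nodes.BNOf Cfsg.Agent.Nodes.RGDLib
  Cfsg.Agent.Nodes.Chart Cfsg.Agent.Nodes.ClsNorm Cfsg.Agent.Nodes.ChartLoc Cfsg.Agent.Nodes.ChartFrame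
  Cfsg.Agent.Nodes.SimplyLaced Cfsg.Agent.LOC.ChartDefs Cfsg.Agent.LOC.Phi Cfsg.Agent.LOC.SL
open scoped commutatorElement

variable {I W Y : Type*} [Fintype I] [DecidableEq I] [Group W] [Fintype W] [Group Y] {M : CoxeterMatrix I}
  {cs : CoxeterSystem M W} {A : I → I → ℤ} {h : IsCartan M A} {p : ℕ} {T : Subgroup Y} {n : I → Y}
  {X : (I → ℤ) → Subgroup Y} {R : Set (I → ℤ)} {Z : (I → ℤ) → Subgroup Y} {z : (I → ℤ) → Y}

/-- at most one pair `± r` of `F` is not orthogonal to `y` -/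
def One (cs : CoxeterSystem M W) (h : IsCartan M A) (F : Set (I → ℤ)) (y : I → ℤ) : Prop :=
  ∃ r ∈ F, ∀ s ∈ F, s ≠ r → s ≠ -r → form cs h y s = 0

/-- `e` inverts `X y` -/
def Iv (X : (I → ℤ) → Subgroup Y) (e : Y) (y : I → ℤ) : Prop := ∀ a ∈ X y, e * a * e⁻¹ = a⁻¹

/-- one of the two -/
def FI (X : (I → ℤ) → Subgroup Y) (e : Y) (y : I → ℤ) : Prop := Fx X e y ∨ Iv X e y

section Rd

variable (Rd : RGD cs h p T n X) (h4 : ∀ i j, M i j ≠ 4) (h6 : ∀ i j, M i j ≠ 6)

include Rd h4 h6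

theorem fx_add {e : Y} {x y : I → ℤ} (hx : IsRoot cs h x) (hy : IsRoot cs h y) (h0 : cpr cs h x y = -1)
    (h1 : Fx X e x) (h2 : Fx X e y) : Fx X e (x + y) := by
  obtain ⟨w, hw⟩ := Subgroup.ne_bot_iff_exists_ne_one.1 (Nodes.Bruhat.X_ne_bot Rd hx)
  intro a ha
  obtain ⟨v, hv, rfl⟩ := nd Rd h4 h6 hx hy h0 w.2 (fun e => hw (Subtype.ext e)) ha
  have k1 := h1 _ w.2
  have k2 := h2 _ hv
  have key : e * ⁅(w : Y), v⁆ * e⁻¹ = ⁅(w : Y), v⁆ := by
    have : e * ⁅(w : Y), v⁆ * e⁻¹ = ⁅e * w * e⁻¹, e * v * e⁻¹⁆ := by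
      rw [commutatorElement_def, commutatorElement_def]; group
    rw [this, k1, k2]; congr 1 <;> group
  calc e * ⁅(w : Y), v⁆ = e * ⁅(w : Y), v⁆ * e⁻¹ * e := by group
    _ = _ := by rw [key]

/-- `[u, v⁻¹] = [u, v]⁻¹` -/
theorem comm_inv_right {x y : I → ℤ} (hx : IsRoot cs h x) (hy : IsRoot cs h y) (h0 : cpr cs h x y = -1) {u v : Y}
    (hu : u ∈ X x) (hv : v ∈ X y) : ⁅u, v⁻¹⁆ = ⁅u, v⁆⁻¹ := by
  have hxy := isRoot_add h4 h6 hx hy h0
  have h1 := comm_mem Rd h4 h6 hx hy h0 hu hv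
  have h2 : v * ⁅u, v⁆ = ⁅u, v⁆ * v := by
    refine comm_pos Rd h4 h6 hy hxy ?_ ?_ hv h1
    · intro e
      apply hx.ne_zero
      have : x = x + y - y := by abel
      rw [this, ← e, sub_self]
    · rw [cpr_symm cs h h4 h6 hy hxy, cpr_add cs h _ _ hy, h0, cpr_self cs h hy]; omega
  have h3 : v⁻¹ * ⁅u, v⁆⁻¹ * v = ⁅u, v⁆⁻¹ := by
    have h4' : ⁅u, v⁆⁻¹ * v = v * ⁅u, v⁆⁻¹ := by
      calc ⁅u, v⁆⁻¹ * v = ⁅u, v⁆⁻¹ * (v * ⁅u, v⁆) * ⁅u, v⁆⁻¹ := by group
        _ = ⁅u, v⁆⁻¹ * (⁅u, v⁆ * v) * ⁅u, v⁆⁻¹ := by rw [h2]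
        _ = v * ⁅u, v⁆⁻¹ := by group
    rw [mul_assoc, h4']; group
  rw [← h3, commutatorElement_def, commutatorElement_def]; group

theorem comm_inv_left {x y : I → ℤ} (hx : IsRoot cs h x) (hy : IsRoot cs h y) (h0 : cpr cs h x y = -1) {u v : Y}
    (hu : u ∈ X x) (hv : v ∈ X y) : ⁅u⁻¹, v⁆ = ⁅u, v⁆⁻¹ := by
  have h0' : cpr cs h y x = -1 := by rw [cpr_symm cs h h4 h6 hy hx, h0]
  have := comm_inv_right Rd h4 h6 hy hx h0' hv hu
  rw [← commutatorElement_inv, this, commutatorElement_inv, commutatorElement_inv]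

theorem iv_add {e : Y} {x y : I → ℤ} (hx : IsRoot cs h x) (hy : IsRoot cs h y) (h0 : cpr cs h x y = -1)
    (h1 : Fx X e x) (h2 : Iv X e y) : Iv X e (x + y) := by
  obtain ⟨w, hw⟩ := Subgroup.ne_bot_iff_exists_ne_one.1 (Nodes.Bruhat.X_ne_bot Rd hx)
  intro a ha
  obtain ⟨v, hv, rfl⟩ := nd Rd h4 h6 hx hy h0 w.2 (fun e => hw (Subtype.ext e)) ha
  have k1 := h1 _ w.2
  have k2 := h2 _ hv
  have : e * ⁅(w : Y), v⁆ * e⁻¹ = ⁅e * w * e⁻¹, e * v * e⁻¹⁆ := by
    rw [commutatorElement_def, commutatorElement_def]; group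
  rw [this, k2, k1, mul_inv_cancel_right, comm_inv_right Rd h4 h6 hx hy h0 w.2 hv]

theorem iv_iv {e : Y} {x y : I → ℤ} (hx : IsRoot cs h x) (hy : IsRoot cs h y) (h0 : cpr cs h x y = -1)
    (h1 : Iv X e x) (h2 : Iv X e y) : Fx X e (x + y) := by
  obtain ⟨w, hw⟩ := Subgroup.ne_bot_iff_exists_ne_one.1 (Nodes.Bruhat.X_ne_bot Rd hx)
  intro a ha
  obtain ⟨v, hv, rfl⟩ := nd Rd h4 h6 hx hy h0 w.2 (fun e => hw (Subtype.ext e)) ha
  have k1 := h1 _ w.2
  have k2 := h2 _ hv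
  have key : e * ⁅(w : Y), v⁆ * e⁻¹ = ⁅(w : Y), v⁆ := by
    have : e * ⁅(w : Y), v⁆ * e⁻¹ = ⁅e * w * e⁻¹, e * v * e⁻¹⁆ := by
      rw [commutatorElement_def, commutatorElement_def]; group
    rw [this, k1, k2, comm_inv_right Rd h4 h6 hx hy h0 (inv_mem w.2) hv,
      comm_inv_left Rd h4 h6 hx hy h0 w.2 hv, inv_inv]
  calc e * ⁅(w : Y), v⁆ = e * ⁅(w : Y), v⁆ * e⁻¹ * e := by group
    _ = _ := by rw [key]

omit h4 h6 in
/-- not both -/
theorem not_both [Finite Y] [Fact p.Prime] (hp2 : p ≠ 2) {e : Y} {y : I → ℤ} (hy : IsRoot cs h y) (h1 : Fx X e y)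
    (h2 : Iv X e y) : False := by
  obtain ⟨w, hw⟩ := Subgroup.ne_bot_iff_exists_ne_one.1 (Nodes.Bruhat.X_ne_bot Rd hy)
  have k1 := h1 _ w.2
  have k2 := h2 _ w.2
  rw [k1, mul_inv_cancel_right] at k2
  have k3 : (w : Y) * w = 1 := by
    nth_rewrite 2 [k2]
    exact mul_inv_cancel _
  obtain ⟨k, hk⟩ := Rd.pgrp' hy w
  have hodd : Odd (p ^ k) := ((Fact.out : p.Prime).odd_of_ne_two hp2).pow
  apply hw
  obtain ⟨j, hj⟩ := hodd
  have k4 : (w : X y) * w = 1 := Subtype.ext k3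
  rw [hj, pow_succ, pow_mul, pow_two, k4, one_pow, one_mul] at hk
  exact hk

end Rd

variable (C : Cls cs h p T n X R Z z) (h4 : ∀ i j, M i j ≠ 4) (h6 : ∀ i j, M i j ≠ 6)
  (hirr : ∀ J : Set I, J.Nonempty → J ≠ Set.univ → ∃ a ∈ J, ∃ b, b ∉ J ∧ M a b ≠ 2)
  [Finite Y] [Fact p.Prime] (hp2 : p ≠ 2) (hall : ∀ x, IsRoot cs h x → x ∈ R) {F : Set (I → ℤ)} (hF : MaxF C F)

/-- the situation for one `e` -/
structure Sg (X : (I → ℤ) → Subgroup Y) (F : Set (I → ℤ)) (cs : CoxeterSystem M W) (h : IsCartan M A) (e : Y) :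
    Prop where
  fx : ∀ y, IsRoot cs h y → y ∈ F → Fx X e y
  di : ∀ y, IsRoot cs h y → Fx X e y ∨ (One cs h F y ∧ Iv X e y)

include C h4 h6 hp2 hall hF

theorem Sg.add_iff {e : Y} (S : Sg X F cs h e) {x y : I → ℤ} (hx : IsRoot cs h x) (hy : IsRoot cs h y)
    (h0 : cpr cs h x y = -1) (h1 : Fx X e x) : Fx X e (x + y) ↔ Fx X e y := by
  have hxy := isRoot_add h4 h6 hx hy h0
  constructor
  · intro h2
    rcases S.di y hy with h3 | h3
    · exact h3
    · exact absurd (iv_add C.rgd h4 h6 hx hy h0 h1 h3.2) (fun h5 => not_both C.rgd hp2 hxy h2 h5)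
  · intro h2
    exact fx_add C.rgd h4 h6 hx hy h0 h1 h2

theorem Sg.neg {e : Y} (S : Sg X F cs h e) {y : I → ℤ} (hy : IsRoot cs h y) : Fx X e (-y) ↔ Fx X e y := by
  have key : ∀ {y : I → ℤ}, IsRoot cs h y → Fx X e y → Fx X e (-y) := by
    intro y hy h1
    obtain ⟨r, hr, h2⟩ := hF.max y (hall y hy)
    have hrr := C.root r (hF.sub r hr)
    by_cases hyF : y ∈ F
    · exact S.fx _ hy.neg (hF.neg y hyF)
    have h3 : y ≠ r := fun e => hyF (by rw [e]; exact hr)
    have h3' : y ≠ -r := fun e => hyF (by rw [e]; exact hF.neg r hr)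
    -- WLOG `cpr y s = -1`
    obtain ⟨s, hs, h5⟩ : ∃ s ∈ F, cpr cs h y s = -1 := by
      have h6' := abs_cpr_le_one cs h h4 h6 hy hrr h3 h3'
      rw [abs_le] at h6'
      have h7 : cpr cs h y r ≠ 0 := fun e => h2 ((cpr_zero_iff cs h y hrr).1 e)
      rcases (by omega : cpr cs h y r = -1 ∨ cpr cs h y r = 1) with h8 | h8
      · exact ⟨r, hr, h8⟩
      · exact ⟨-r, hF.neg r hr, by rw [cpr_neg_right cs h y hrr, h8]⟩
    have hss := C.root s (hF.sub s hs)
    have hsy : cpr cs h s y = -1 := by rw [cpr_symm cs h h4 h6 hss hy, h5]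
    have hsum := isRoot_add h4 h6 hss hy hsy
    have h9 : Fx X e (s + y) := fx_add C.rgd h4 h6 hss hy hsy (S.fx s hss hs) h1
    -- `(s + y) + (-y) = s`
    have h10 : cpr cs h (s + y) (-y) = -1 := by
      rw [cpr_neg_right cs h _ hy, cpr_add cs h _ _ hy, hsy, cpr_self cs h hy]; ring
    refine (Sg.add_iff C h4 h6 hp2 hall hF S hsum hy.neg h10 h9).1 ?_
    have : s + y + -y = s := by abel
    rw [this]
    exact S.fx s hss hs
  constructor
  · intro h1
    have := key hy.neg h1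
    rwa [neg_neg] at this
  · exact key hy

/-- **Orthogonality.** -/
theorem Sg.orth {e : Y} (S : Sg X F cs h e) {y y' : I → ℤ} (hy : IsRoot cs h y) (hy' : IsRoot cs h y')
    (h1 : ¬ Fx X e y) (h2 : Fx X e y') (h3 : One cs h F y') (hyF' : y' ∉ F) : cpr cs h y y' = 0 := by
  by_contra h0
  -- replace `y'` by `- y'`
  have key : ∀ y', IsRoot cs h y' → Fx X e y' → One cs h F y' → y' ∉ F → cpr cs h y y' ≠ -1 := by
    intro y' hy' h2 h3 hyF' h0
    have hsum := isRoot_add h4 h6 hy hy' h0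
    have h0' : cpr cs h y' y = -1 := by rw [cpr_symm cs h h4 h6 hy' hy, h0]
    have h5 : ¬ Fx X e (y + y') := by
      intro h6'
      rw [add_comm] at h6'
      exact h1 ((Sg.add_iff C h4 h6 hp2 hall hF S hy' hy h0' h2).1 h6')
    have hyF : y ∉ F := fun h7 => h1 (S.fx y hy h7)
    obtain ⟨⟨r, hr, hr1⟩, -⟩ := (S.di y hy).resolve_left h1
    obtain ⟨⟨t, ht, ht1⟩, -⟩ := (S.di _ hsum).resolve_left h5
    obtain ⟨s, hs, hs1⟩ := h3
    -- `y` is not orthogonal to `r`, `y'` not to `s`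
    have nz : ∀ {u v : I → ℤ}, IsRoot cs h u → v ∈ F → (∀ s ∈ F, s ≠ v → s ≠ -v → form cs h u s = 0) →
        form cs h u v ≠ 0 := by
      intro u v hu hv huv h8
      obtain ⟨r', hr', h9⟩ := hF.max u (hall u hu)
      apply h9
      by_cases e1 : r' = v
      · rw [e1, h8]
      by_cases e2 : r' = -v
      · rw [e2, form_neg_right, h8, neg_zero]
      exact huv r' hr' e1 e2
    have k1 := nz hy hr hr1
    have k2 := nz hy' hs hs1
    have k3 := nz hsum ht ht1
    by_cases hrs : r = s ∨ r = -s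
    · -- `y + y'` has only `± r`
      have htr : t = r ∨ t = -r := by
        by_contra hcon
        push Not at hcon
        apply k3
        rw [form_add_left, hr1 t ht hcon.1 hcon.2]
        rw [hs1 t ht, add_zero]
        · rcases hrs with e | e
          · rw [← e]; exact hcon.1
          · intro h9; exact hcon.2 (by rw [e, neg_neg, h9])
        · rcases hrs with e | e
          · rw [← e]; exact hcon.2
          · intro h9; exact hcon.1 (by rw [e, h9])
      have hrr := C.root r (hF.sub r hr)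
      have hyr : y ≠ r := fun e => hyF (by rw [e]; exact hr)
      have hyr' : y ≠ -r := fun e => hyF (by rw [e]; exact hF.neg r hr)
      have hy'r : y' ≠ r := fun e => hyF' (by rw [e]; exact hr)
      have hy'r' : y' ≠ -r := fun e => hyF' (by rw [e]; exact hF.neg r hr)
      have c1 := abs_cpr_le_one cs h h4 h6 hy hrr hyr hyr'
      have c2 := abs_cpr_le_one cs h h4 h6 hy' hrr hy'r hy'r'
      rw [abs_le] at c1 c2
      have d1 : cpr cs h y r ≠ 0 := fun e => k1 ((cpr_zero_iff cs h y hrr).1 e)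
      have d2 : cpr cs h y' r ≠ 0 := by
        intro e
        apply k2
        have h9 := (cpr_zero_iff cs h y' hrr).1 e
        rcases hrs with e1 | e1
        · rw [← e1]; exact h9
        · have : s = -r := by rw [e1, neg_neg]
          rw [this, form_neg_right, h9, neg_zero]
      have d3 : cpr cs h (y + y') r ≠ 0 := by
        intro e
        apply k3
        have h9 := (cpr_zero_iff cs h _ hrr).1 e
        rcases htr with e1 | e1
        · rw [e1]; exact h9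
        · rw [e1, form_neg_right, h9, neg_zero]
      rw [cpr_add cs h _ _ hrr] at d3
      -- `cpr (y + y') r = ± 2`
      have d4 : |cpr cs h (y + y') r| = 2 := by
        rw [cpr_add cs h _ _ hrr]
        rcases (by omega : cpr cs h y r = 1 ∧ cpr cs h y' r = 1 ∨ cpr cs h y r = -1 ∧ cpr cs h y' r = -1) with
          ⟨e1, e2⟩ | ⟨e1, e2⟩ <;> rw [e1, e2] <;> norm_num
      by_cases e1 : y + y' = r
      · exact h5 (by rw [e1]; exact S.fx r hrr hr)
      by_cases e2 : y + y' = -r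
      · exact h5 (by rw [e2]; exact S.fx _ hrr.neg (hF.neg r hr))
      have := abs_cpr_le_one cs h h4 h6 hsum hrr e1 e2
      omega
    · push Not at hrs
      -- `y + y'` is not orthogonal to `r`, `s`
      have q1 : form cs h y s = 0 := hr1 s hs (fun e => hrs.1 e.symm) (fun e => hrs.2 (by rw [e, neg_neg]))
      have q2 : form cs h y' r = 0 := hs1 r hr hrs.1 hrs.2
      have w1 : form cs h (y + y') r ≠ 0 := by rw [form_add_left, q2, add_zero]; exact k1
      have w2 : form cs h (y + y') s ≠ 0 := by rw [form_add_left, q1, zero_add]; exact k2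
      have u1 : r = t ∨ r = -t := by
        by_contra hcon
        push Not at hcon
        exact w1 (ht1 r hr hcon.1 hcon.2)
      have u2 : s = t ∨ s = -t := by
        by_contra hcon
        push Not at hcon
        exact w2 (ht1 s hs hcon.1 hcon.2)
      rcases u1 with rfl | rfl
      · rcases u2 with e | e
        · exact hrs.1 e.symm
        · exact hrs.2 (by rw [e, neg_neg])
      · rcases u2 with e | e
        · exact hrs.2 (by rw [e])
        · exact hrs.1 (by rw [e])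
  have hne : y ≠ y' := by
    rintro rfl
    exact h1 h2
  have hne' : y ≠ -y' := by
    rintro rfl
    exact h1 ((Sg.neg C h4 h6 hp2 hall hF S hy').2 h2)
  have h7 := abs_cpr_le_one cs h h4 h6 hy hy' hne hne'
  rw [abs_le] at h7
  rcases (by omega : cpr cs h y y' = -1 ∨ cpr cs h y y' = 1) with h8 | h8
  · exact key y' hy' h2 h3 hyF' h8
  · refine key (-y') hy'.neg ((Sg.neg C h4 h6 hp2 hall hF S hy').2 h2) ?_ ?_ ?_
    · obtain ⟨r, hr, h9⟩ := h3
      exact ⟨r, hr, fun s hs a b => by rw [form_neg_left, h9 s hs a b, neg_zero]⟩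
    · intro h9
      apply hyF'
      have := hF.neg _ h9
      rwa [neg_neg] at this
    · rw [cpr_neg_right cs h y hy', h8]

include hirr

/-- **All or nothing.** -/
theorem Sg.all {e : Y} (S : Sg X F cs h e) {y y' : I → ℤ} (hy : IsRoot cs h y) (hy' : IsRoot cs h y')
    (h1 : ¬ Fx X e y) (h3 : One cs h F y') (hyF' : y' ∉ F) : Iv X e y' := by
  rcases S.di y' hy' with h2 | h2
  swap
  · exact h2.2
  exfalso
  have h0 := Sg.orth C h4 h6 hp2 hall hF S hy hy' h1 h2 h3 hyF'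
  obtain ⟨v, hv, hvy, hvy'⟩ := diam (cs := cs) (h := h) hirr hy hy'
  have cvy' : cpr cs h v y' ≠ 0 := fun e => hvy' ((cpr_zero_iff cs h v hy').1 e)
  have cvy : cpr cs h v y ≠ 0 := fun e => hvy ((cpr_zero_iff cs h v hy).1 e)
  by_cases hfv : Fx X e v
  · have hne : v ≠ y := by
      rintro rfl
      exact h1 hfv
    have hne' : v ≠ -y := by
      rintro rfl
      exact h1 ((Sg.neg C h4 h6 hp2 hall hF S hy).1 hfv)
    have h7 := abs_cpr_le_one cs h h4 h6 hv hy hne hne'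
    rw [abs_le] at h7
    rcases (by omega : cpr cs h v y = -1 ∨ cpr cs h v y = 1) with h8 | h8
    · have hs := isRoot_add h4 h6 hv hy h8
      have h9 : ¬ Fx X e (v + y) := fun h10 => h1 ((Sg.add_iff C h4 h6 hp2 hall hF S hv hy h8 hfv).1 h10)
      have h11 := Sg.orth C h4 h6 hp2 hall hF S hs hy' h9 h2 h3 hyF'
      rw [cpr_add cs h _ _ hy', h0, add_zero] at h11
      exact cvy' h11
    · have hfv' : Fx X e (-v) := (Sg.neg C h4 h6 hp2 hall hF S hv).2 hfv
      have h8' : cpr cs h (-v) y = -1 := by rw [cpr_neg cs h v hy, h8]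
      have hs := isRoot_add h4 h6 hv.neg hy h8'
      have h9 : ¬ Fx X e (-v + y) := fun h10 => h1 ((Sg.add_iff C h4 h6 hp2 hall hF S hv.neg hy h8' hfv').1 h10)
      have h11 := Sg.orth C h4 h6 hp2 hall hF S hs hy' h9 h2 h3 hyF'
      rw [cpr_add cs h _ _ hy', h0, add_zero, cpr_neg cs h v hy', neg_eq_zero] at h11
      exact cvy' h11
  · exact cvy' (Sg.orth C h4 h6 hp2 hall hF S hv hy' hfv h2 h3 hyF')

/-- **The end for the simply laced types.** -/
theorem out_of_dich (hXZ : ∀ r ∈ R, X r = Z r)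
    (hd : ∀ (K : Subgroup Y) (e : Y), QK K e → Cen C F K → ∀ y, IsRoot cs h y → y ∉ F →
      Fx X e y ∨ (One cs h F y ∧ Iv X e y)) : Out C F := by
  intro K K' e e' hK hK' hc hc' ht ht'
  have key : ∀ (K : Subgroup Y) (e : Y), QK K e → Cen C F K → ¬ Triv C e →
      Sg X F cs h e ∧ ∀ y', IsRoot cs h y' → One cs h F y' → y' ∉ F → Iv X e y' := by
    intro K e hK hc ht
    have fx : ∀ y, IsRoot cs h y → y ∈ F → Fx X e y := by
      intro y _ hyF a ha
      rw [hXZ y (hF.sub y hyF)] at ha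
      exact hc.comm y hyF a ha e hK.mem
    have S : Sg X F cs h e := ⟨fx, fun y hy => by
      by_cases hyF : y ∈ F
      · exact Or.inl (fx y hy hyF)
      · exact hd K e hK hc y hy hyF⟩
    refine ⟨S, fun y' hy' h1 h2 => ?_⟩
    have : ∃ y, IsRoot cs h y ∧ ¬ Fx X e y := by
      by_contra hcon
      push Not at hcon
      exact ht (triv_of_fx C hcon)
    obtain ⟨y, hy, h3⟩ := this
    exact Sg.all C h4 h6 hirr hp2 hall hF S hy hy' h3 h1 h2
  obtain ⟨S, a1⟩ := key K e hK hc ht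
  obtain ⟨S', a2⟩ := key K' e' hK' hc' ht'
  refine triv_of_fx C fun y hy => ?_
  have two : Fx X e y → Fx X e' y → Fx X (e * e') y := by
    intro h1 h2 a ha
    rw [mul_assoc, h2 a ha, ← mul_assoc, h1 a ha, mul_assoc]
  by_cases hyF : y ∈ F
  · exact two (S.fx y hy hyF) (S'.fx y hy hyF)
  by_cases h1 : One cs h F y
  · have b1 := a1 y hy h1 hyF
    have b2 := a2 y hy h1 hyF
    intro a ha
    have b3 := b2 a ha
    have b4 := b1 a⁻¹ (inv_mem ha)
    rw [inv_inv] at b4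
    calc e * e' * a = e * (e' * a * e'⁻¹) * e' := by group
      _ = e * a⁻¹ * e' := by rw [b3]
      _ = (e * a⁻¹ * e⁻¹) * e * e' := by group
      _ = a * (e * e') := by rw [b4]; group
  · rcases S.di y hy with c1 | c1
    · rcases S'.di y hy with c2 | c2
      · exact two c1 c2
      · exact absurd c2.1 h1
    · exact absurd c1.1 h1

end Cfsg.Agent.LOC.EndOne
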