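import Cfsg.Agent.Cit.Nil.LO.CentQ
import Cfsg.Agent.Cit.Nil.LO.KLChart

/-!
# THEOREM KL, chart case, for nil families of generalised quaternion groups of any order (helper818)

* `exists_qk` : a member contains a quaternion group of order 8 over the same involution;
* `kl_chart_q` : see `kl_chart`.
-/

set_option autoImplicit false
set_option linter.style.haveILetI false
set_option linter.unusedSectionVars false

namespace Cfsg.Agent.Cit.Nil.LO

open Subgroup Cfsg Cit RG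
open Cfsg.Agent.OddHalf.NI.FTwo (SL)
open Cfsg.Agent.LOC.ChartDefs (QK MaxF Out KL_frame)

variable {H : Type*} [Group H]

/-- the quaternion group generated by `a`, `b` with `a² = b² = z`, `b a b⁻¹ = a⁻¹` -/
def q8 (a b z : H) (haa : a * a = z) (hbb : b * b = z) (hzz : z * z = 1) (hba : b * a * b⁻¹ = a⁻¹) : Subgroup H where
  carrier := {x | ∃ i : ℤ, x = a ^ i ∨ x = b * a ^ i}
  one_mem' := ⟨0, Or.inl (by rw [zpow_zero])⟩
  mul_mem' := by
    have hb : ∀ i : ℤ, a ^ i * b = b * a ^ (-i) := by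
      intro i
      have h1 : b * a ^ (-i) * b⁻¹ = a ^ i := by
        rw [← conj_zpow, hba, inv_zpow', neg_neg]
      rw [← h1]; group
    have ha2 : a ^ (2 : ℤ) = z := by rw [zpow_ofNat, pow_two, haa]
    rintro x y ⟨i, rfl | rfl⟩ ⟨j, rfl | rfl⟩
    · exact ⟨i + j, Or.inl (by rw [zpow_add])⟩
    · exact ⟨-i + j, Or.inr (by rw [← mul_assoc, hb, mul_assoc, ← zpow_add])⟩
    · exact ⟨i + j, Or.inr (by rw [mul_assoc, ← zpow_add])⟩
    · refine ⟨2 + (-i + j), Or.inl ?_⟩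
      calc b * a ^ i * (b * a ^ j) = b * (a ^ i * b) * a ^ j := by group
        _ = b * b * (a ^ (-i) * a ^ j) := by rw [hb]; group
        _ = _ := by rw [hbb, ← zpow_add, zpow_add a 2, ha2]
  inv_mem' := by
    have hb : ∀ i : ℤ, a ^ i * b = b * a ^ (-i) := by
      intro i
      have h1 : b * a ^ (-i) * b⁻¹ = a ^ i := by
        rw [← conj_zpow, hba, inv_zpow', neg_neg]
      rw [← h1]; group
    have ha2 : a ^ (2 : ℤ) = z := by rw [zpow_ofNat, pow_two, haa]
    rintro x ⟨i, rfl | rfl⟩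
    · exact ⟨-i, Or.inl (by rw [zpow_neg])⟩
    · refine ⟨i + 2, Or.inr ?_⟩
      rw [inv_eq_iff_mul_eq_one]
      calc b * a ^ i * (b * a ^ (i + 2)) = b * (a ^ i * b) * a ^ (i + 2) := by group
        _ = b * b * (a ^ (-i) * a ^ (i + 2)) := by rw [hb]; group
        _ = 1 := by rw [hbb, ← zpow_add, neg_add_cancel_left, ha2, hzz]

/-- a member contains a quaternion group of order 8 over the same involution -/
theorem exists_qk [Finite H] {Om : Set (Subgroup H)} {z : H} {K : Subgroup H} (h : NQ Om) (hK : K ∈ Ov Om z) :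
    ∃ K₁ : Subgroup H, K₁ ≤ K ∧ QK K₁ z := by
  obtain ⟨a, ha, b, hb, haa, hbb, hba⟩ := h.pair hK
  have hz : z ∈ ZZ Om := ⟨K, hK⟩
  have hzz := h.zz_sq hz
  have hza := h.Ov_cen hK ha
  have hzb := h.Ov_cen hK hb
  have hai : a⁻¹ = z * a := by
    rw [inv_eq_iff_mul_eq_one, ← mul_assoc, ← hza, mul_assoc, haa, hzz]
  have hba' : b * a * b⁻¹ = a⁻¹ := by
    rw [hba, hai]; group
  refine ⟨q8 a b z haa hbb hzz hba', ?_, ?_⟩
  · rintro x ⟨i, rfl | rfl⟩
    · exact zpow_mem ha i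
    · exact mul_mem hb (zpow_mem ha i)
  have hle : ∀ x ∈ q8 a b z haa hbb hzz hba', x ∈ K := by
    rintro x ⟨i, rfl | rfl⟩
    · exact zpow_mem ha i
    · exact mul_mem hb (zpow_mem ha i)
  have hb' : ∀ i : ℤ, a ^ i * b = b * a ^ (-i) := by
    intro i
    have h1 : b * a ^ (-i) * b⁻¹ = a ^ i := by
      rw [← conj_zpow, hba', inv_zpow', neg_neg]
    rw [← h1]; group
  refine ⟨⟨2, Or.inl ?_⟩, h.zz_ne hz, hzz, ?_, ?_, ?_, ⟨a, ⟨1, Or.inl (zpow_one a).symm⟩, b, ⟨0, Or.inr ?_⟩, haa, hbb, ?_⟩⟩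
  · rw [zpow_ofNat, pow_two, haa]
  · exact fun k hk => (h.Ov_cen hK (hle k hk)).symm
  · rintro x ⟨i, rfl | rfl⟩
    · rw [← (Commute.refl a).mul_zpow, haa]
      rcases Int.even_or_odd' i with ⟨m, rfl | rfl⟩
      · left
        rw [zpow_mul, zpow_ofNat, pow_two, hzz, one_zpow]
      · right
        rw [zpow_add, zpow_mul, zpow_ofNat, pow_two, hzz, one_zpow, one_mul, zpow_one]
    · right
      calc b * a ^ i * (b * a ^ i) = b * (a ^ i * b) * a ^ i := by group
        _ = b * b * (a ^ (-i) * a ^ i) := by rw [hb']; group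
        _ = z := by rw [hbb, ← zpow_add, neg_add_cancel, zpow_zero, mul_one]
  · intro k hk hkk
    by_cases h1 : k = 1
    · exact Or.inl h1
    · right
      have h2 := h.hyp.eq_zz hK.1 (hle k hk) hkk h1
      rwa [hK.2] at h2
  · rw [zpow_zero, mul_one]
  · rw [hba, ← mul_assoc, hzz, one_mul]

variable [Finite H]

/-- **(KL), chart case**, members of any order -/
theorem kl_chart_q {L : Subgroup H} {F : Type} [Field F] [Fintype F] {t : H} {J : Subgroup H} (f : Front L F t J)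
    (hL : L.Normal) {p : ℕ} (C : Nodes.Chart.Chart (cls J) p L) (hout : ∀ R, MaxF C.cls R → Out C.cls R)
    {Om : Set (Subgroup H)} (w : NQ Om) {z u : H} {K K' : Subgroup H} (hK : K ∈ Ov Om z) (hK' : K' ∈ Ov Om u)
    (hne : z ≠ u) (hc : ∀ a ∈ K, ∀ b ∈ K', a * b = b * a) :
    (∀ l ∈ L, z * l = l * z) ∨ (∀ l ∈ L, u * l = l * u) ∨ ∀ l ∈ L, z * u * l = l * (z * u) := by
  have hz : z ∈ ZZ Om := ⟨K, hK⟩
  have hu : u ∈ ZZ Om := ⟨K', hK'⟩
  obtain ⟨-, S, hzS, huS⟩ := exists_sylow_q w hK hK' hne hc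
  have hS : IsPGroup 2 (S : Subgroup H) := S.isPGroup'
  have hn : ∀ g : H, g ∈ normalizer (L : Set H) := fun g => by
    rw [normalizer_eq_top_iff.2 hL]; exact mem_top g
  obtain ⟨K₁, h1, q1⟩ := exists_qk w hK
  obtain ⟨K₁', h1', q1'⟩ := exists_qk w hK'
  refine KL_frame C f.hyp.conj hout (κ := {P // P ∈ OmS (cls J) (S : Subgroup H)}) (fun P => P.1)
    (fun P => P.2.1) (fun P => f.le _ P.2.1) (fun P P' hPP => ?_) (fun P hP _ hcon => ?_) q1 q1'
    (fun k _ => hn k) (fun k _ => hn k) (fun P a ha k hk => ?_) (fun P a ha k hk => ?_)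
  · exact sl_comm f.hyp f.sls hS P.2 P'.2 fun h => hPP (Subtype.ext h)
  · exact not_comm_all f.hyp S hP fun P' hP' => hcon ⟨P', hP'⟩
  · exact slq_centralizer w f.hyp f.sls hz hS hzS P.2 k (WR.le_RR hK (h1 hk)) a ha
  · exact slq_centralizer w f.hyp f.sls hu hS huS P.2 k (WR.le_RR hK' (h1' hk)) a ha

end Cfsg.Agent.Cit.Nil.LO
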