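import Cfsg.Agent.Cit.Nil.LO.LTwoOut
import Cfsg.Agent.Cit.Nil.LO.Sl2

/-!
# `L₂(q)`, `q` odd: automorphisms of odd order of `SL(2,F)` (helper724)

S1309, node (n2), helper981's step (2).

* `conj_of_typ` : an automorphism of odd order of field type `1` is inner;
* `factB` : an involution `w` fixing no element `≠ 1` of odd order: an automorphism of odd order commuting with `w`
  is trivial;
* `root_cases` : two square roots of `z` in `PGL(2,F)` are equal or inverse;
* `factA0` : two commuting quaternion groups over the same `z` do not exist;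
* `factA` : a quaternion group fixing the elements of odd order fixed by `z`: automorphisms of odd order are inner.
-/

set_option autoImplicit false
set_option linter.unusedSectionVars false

namespace Cfsg.Agent.Cit.Nil.LO

open Matrix Subgroup Cfsg
open Cfsg.Agent.Lib.SL2Mat Cfsg.Agent.Lib.AutSL2 Cfsg.Agent.Lib.AutSL2Out Cfsg.Agent.Classification.QDW.TypeHom
open Cfsg.Agent.LFourA.FieldInv (comm_of_conj exists_scalar conjGL_scalar conjGL_smul gl_det_ne eq_one_of_map)

local notation "SL2" => Matrix.SpecialLinearGroup (Fin 2)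

section basic

variable {F : Type*} [Field F]

theorem conj_eq_one (h2 : (2 : F) ≠ 0) {x : SL2 F} (h : MulAut.conj x = 1) : x = 1 ∨ x = -1 := by
  apply Lib.PSL2Inv.sq_eq_one h2
  have h1 : conjGL (Matrix.SpecialLinearGroup.toGL x) = 1 := MulEquiv.ext fun y => by
    rw [conjGL_toGL, ← MulAut.conj_apply, h]
  obtain ⟨c, hc⟩ := conjGL_eq_one_iff.1 h1
  have h3 : x.1 = c • (1 : Matrix (Fin 2) (Fin 2) F) := hc
  have h4 : x.1.det = 1 := x.2
  rw [h3, Matrix.det_smul, Matrix.det_one, Fintype.card_fin, mul_one] at h4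
  apply Subtype.ext
  change x.1 * x.1 = 1
  rw [h3, Matrix.smul_mul, Matrix.one_mul, smul_smul, ← pow_two, h4, one_smul]

theorem conj_odd_eq (h2 : (2 : F) ≠ 0) {x : SL2 F} (h : MulAut.conj x = 1) (hx : Odd (orderOf x)) : x = 1 := by
  rcases conj_eq_one h2 h with h1 | h1
  · exact h1
  · have h3 : x ^ 2 = 1 := by rw [h1, neg_one_sq]
    have h4 : orderOf x ∣ 2 := orderOf_dvd_of_pow_eq_one h3
    obtain ⟨k, hk⟩ := hx
    have h5 : orderOf x ≤ 2 := Nat.le_of_dvd (by norm_num) h4
    have h6 : orderOf x = 1 := by omega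
    exact orderOf_eq_one_iff.1 h6

theorem conj_sq (g : GL (Fin 2) F) : ∃ s : SL2 F, conjGL (g * g) = MulAut.conj s := by
  obtain ⟨s, hs⟩ := conjGL_of_det_sq (g * g) g.1.det (gl_det_ne g) (by
    rw [Units.val_mul, Matrix.det_mul, pow_two])
  exact ⟨s, MulEquiv.ext fun x => by rw [hs, MulAut.conj_apply]⟩

/-- a power of an element `c` with `c ^ n = 1`, `n` odd -/
theorem pow_half {H : Type*} [Group H] {c : H} {n : ℕ} (hn : Odd n) (h : c ^ n = 1) : (c * c) ^ ((n + 1) / 2) = c := by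
  obtain ⟨k, rfl⟩ := hn
  have : (2 * k + 1 + 1) / 2 = k + 1 := by omega
  rw [this, ← pow_two, ← pow_mul]
  have : 2 * (k + 1) = (2 * k + 1) + 1 := by ring
  rw [this, pow_succ, h, one_mul]

variable [Finite F]

theorem conj_of_typ (h2 : (2 : F) ≠ 0) {c : MulAut (SL2 F)} (ht : typ c = 1) (hc : Odd (orderOf c)) :
    ∃ x : SL2 F, Odd (orderOf x) ∧ c = MulAut.conj x := by
  obtain ⟨g, rfl⟩ := (typ_eq_one_iff c).1 ht
  obtain ⟨s, hs⟩ := conj_sq g
  set n := orderOf (conjGL g) with hn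
  have h1 : (conjGL g) ^ n = 1 := pow_orderOf_eq_one _
  have h3 : conjGL g = MulAut.conj (s ^ ((n + 1) / 2)) := by
    rw [map_pow, ← hs, map_mul, pow_half hc h1]
  set x := s ^ ((n + 1) / 2) with hx
  -- `x ^ n` is central
  have h4 : MulAut.conj (x ^ n) = 1 := by rw [map_pow, ← h3, h1]
  have h5 : x ^ n * x ^ n = 1 := by
    rcases conj_eq_one h2 h4 with h | h
    · rw [h, one_mul]
    · rw [h, neg_mul_neg, one_mul]
  obtain ⟨k, hk⟩ := hc
  have h6 : (x ^ (n + 1)) ^ n = 1 := by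
    have e : n + 1 = 2 * (k + 1) := by omega
    have e2 : 2 * (k + 1) * n = (n + n) * (k + 1) := by ring
    calc (x ^ (n + 1)) ^ n = x ^ ((n + n) * (k + 1)) := by rw [← pow_mul, e, e2]
      _ = (x ^ n * x ^ n) ^ (k + 1) := by rw [pow_mul x (n + n) (k + 1), pow_add x n n]
      _ = 1 := by rw [h5, one_pow]
  refine ⟨x ^ (n + 1), ?_, ?_⟩
  · have h7 : orderOf (x ^ (n + 1)) ∣ n := orderOf_dvd_of_pow_eq_one h6
    exact Odd.of_dvd_nat ⟨k, hk⟩ h7
  · rw [map_pow, ← h3, pow_succ, h1, one_mul]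

/-- an element of odd order commuting modulo `±1` commutes -/
theorem comm_of_conj_comm (h2 : (2 : F) ≠ 0) {x e : SL2 F} (hx : Odd (orderOf x))
    (h : MulAut.conj x * MulAut.conj e = MulAut.conj e * MulAut.conj x) : x * e = e * x := by
  have h1 : MulAut.conj ((e * x)⁻¹ * (x * e)) = 1 := by
    rw [map_mul, map_inv, map_mul, map_mul, h, inv_mul_cancel]
  rcases conj_eq_one h2 h1 with h3 | h3
  · exact (inv_mul_eq_one.1 h3).symm
  · have h4 : x * e = -(e * x) := by rw [inv_mul_eq_iff_eq_mul.1 h3, mul_neg, mul_one]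
    have h5 : ∀ k : ℕ, x ^ (2 * k) * e = e * x ^ (2 * k) := by
      intro k
      induction k with
      | zero => rw [mul_zero, pow_zero, one_mul, mul_one]
      | succ k ih =>
        have e1 : x ^ (2 * (k + 1)) = x * x * x ^ (2 * k) := by
          rw [Nat.mul_succ, add_comm, pow_add, pow_two]
        have e2 : x * x * e = e * (x * x) := by
          rw [mul_assoc, h4, mul_neg, ← mul_assoc, h4, neg_mul, neg_neg, mul_assoc]
        rw [e1, mul_assoc, ih, ← mul_assoc, e2, mul_assoc]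
    have h6 : (x * x) ^ ((orderOf x + 1) / 2) = x := pow_half hx (pow_orderOf_eq_one x)
    have h7 := h5 ((orderOf x + 1) / 2)
    rw [pow_mul, pow_two, h6] at h7
    exact h7

end basic

section B

variable {F : Type*} [Field F] [Finite F]

theorem typ_one_of_noOdd (h2 : (2 : F) ≠ 0) (hF : NoOdd (Nat.card F)) {c : MulAut (SL2 F)} (hc : Odd (orderOf c)) :
    typ c = 1 :=
  ringEquiv_one h2 hF (hc.of_dvd_nat (orderOf_map_dvd typ c))

/-- **Fact B** -/
theorem factB (h2 : (2 : F) ≠ 0) (h3 : 3 < Nat.card F) {w c : MulAut (SL2 F)} (hw : w * w = 1) (hw1 : w ≠ 1)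
    (hno : ∀ x, Odd (orderOf x) → w x = x → x = 1) (hc : Odd (orderOf c)) (hcw : c * w = w * c) : c = 1 := by
  have hww : ∀ x, w (w x) = x := fun x => by rw [← MulAut.mul_apply, hw, MulAut.one_apply]
  have hne : ∃ x, w x ≠ x := by
    by_contra hcon
    push Not at hcon
    exact hw1 (MulEquiv.ext hcon)
  rcases sl_cases h2 h3 hww hne with ⟨x, hx1, hx, hwx⟩ | ⟨e, τ, j, he, hwe, ⟨a, -, ha⟩, hτ, -⟩
  · exact absurd (hno x hx hwx) hx1
  have htre : ent e 1 1 = - ent e 0 0 := Lib.PSL2Inv.tr_of_sq h2 he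
  have hcard := Lib.PSL2Circle.card_centralizer h2 htre
  have hcen : Subgroup.centralizer ({e} : Set (SL2 F)) = Subgroup.zpowers τ := by
    ext x
    rw [← hτ, hwe, mul_inv_eq_iff_eq_mul, Subgroup.mem_centralizer_singleton_iff]
    exact eq_comm
  rw [hcen, Nat.card_zpowers, ha] at hcard
  have hNo : NoOdd (Nat.card F) := by
    left
    rcases Lib.PSL2Circle.card_circ (F := F) h2 with ⟨-, hq⟩ | ⟨-, hq⟩
    · refine ⟨1, a, Or.inl rfl, ?_⟩
      rw [hq] at hcard
      have : ((2 ^ a : ℕ) : ℤ) = ((Nat.card F - 1 : ℕ) : ℤ) := by rw [hcard]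
      push_cast [Nat.cast_sub (show 1 ≤ Nat.card F by omega)] at this
      linarith
    · refine ⟨-1, a, Or.inr rfl, ?_⟩
      rw [hq] at hcard
      have : ((2 ^ a : ℕ) : ℤ) = ((Nat.card F + 1 : ℕ) : ℤ) := by rw [hcard]
      push_cast at this
      linarith
  obtain ⟨x, hx, rfl⟩ := conj_of_typ h2 (typ_one_of_noOdd h2 hNo hc) hc
  have hwe' : w = MulAut.conj e := MulEquiv.ext fun y => by rw [hwe, MulAut.conj_apply]
  rw [hwe'] at hcw
  have h4 := comm_of_conj_comm h2 hx hcw
  have h5 : x = 1 := hno x hx (by rw [hwe, mul_inv_eq_iff_eq_mul]; exact h4.symm)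
  rw [h5, map_one]

end B

section roots

variable {F : Type*} [Field F]

/-- **square roots in `PGL(2,F)`** of the same nontrivial involution are equal or inverse -/
theorem root_cases {g g' : GL (Fin 2) F} (h : conjGL (g * g) = conjGL (g' * g')) (h1 : conjGL (g * g) ≠ 1)
    (h4 : conjGL (g * g) * conjGL (g * g) = 1) : conjGL g' = conjGL g ∨ conjGL g' = (conjGL g)⁻¹ := by
  have hn : ¬ ∃ d : F, (g * g).1 = d • (1 : Matrix (Fin 2) (Fin 2) F) := fun h => h1 (conjGL_eq_one_iff.2 h)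
  have h4' := h4
  rw [← map_mul, conjGL_eq_one_iff] at h4'
  obtain ⟨c, hc4⟩ := h4'
  rw [Units.val_mul] at hc4
  have ht := trace_zero hc4 hn
  -- `g' g' = v g g`
  obtain ⟨v, hv⟩ : ∃ v : F, (g' * g').1 = v • (g * g).1 := by
    have h5 : conjGL (g' * g' * (g * g)⁻¹) = 1 := by rw [map_mul, map_inv, h, mul_inv_cancel]
    obtain ⟨v, hv⟩ := conjGL_eq_one_iff.1 h5
    refine ⟨v, ?_⟩
    have h6 : (g' * g' * (g * g)⁻¹).1 * (g * g).1 = (g' * g').1 := by
      rw [← Units.val_mul, inv_mul_cancel_right]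
    rw [← h6, hv, Matrix.smul_mul, Matrix.one_mul]
  set M := (g * g).1 with hM
  have hcay : ∀ k : GL (Fin 2) F, k.1.trace • k.1 = (k * k).1 + k.1.det • (1 : Matrix (Fin 2) (Fin 2) F) := by
    intro k
    rw [Units.val_mul]
    ext i j
    fin_cases i <;> fin_cases j <;>
      simp [Matrix.mul_apply, Fin.sum_univ_two, Matrix.trace_fin_two, Matrix.det_fin_two] <;> ring
  have hMM : M * M = -(g.1.det ^ 2) • (1 : Matrix (Fin 2) (Fin 2) F) := by
    have hdM : M.det = g.1.det ^ 2 := by rw [hM, Units.val_mul, Matrix.det_mul, pow_two]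
    rw [← hdM]
    ext i j
    fin_cases i <;> fin_cases j <;>
      simp [Matrix.mul_apply, Fin.sum_univ_two, Matrix.det_fin_two, ht] <;> ring
  have hd0 := gl_det_ne g
  have hd0' := gl_det_ne g'
  have hdet : g'.1.det ^ 2 = v ^ 2 * g.1.det ^ 2 := by
    have e1 := congrArg Matrix.det hv
    rw [Units.val_mul, Matrix.det_mul, Matrix.det_smul, hM, Units.val_mul, Matrix.det_mul, Fintype.card_fin] at e1
    linear_combination e1
  have hv0 : v ≠ 0 := by
    rintro rfl
    rw [zero_pow (by norm_num), zero_mul] at hdet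
    exact hd0' (pow_eq_zero_iff (by norm_num) |>.1 hdet)
  have e1 := hcay g
  rw [← hM] at e1
  have e2 := hcay g'
  rw [hv] at e2
  have htr' : g'.1.trace ≠ 0 := by
    intro h0
    rw [h0, zero_smul] at e2
    apply hn
    refine ⟨-(v⁻¹ * g'.1.det), ?_⟩
    have e3 : v • M = -(g'.1.det) • (1 : Matrix (Fin 2) (Fin 2) F) := by
      rw [neg_smul]
      exact eq_neg_of_add_eq_zero_left e2.symm
    have e4 : M = v⁻¹ • (v • M) := by rw [smul_smul, inv_mul_cancel₀ hv0, one_smul]
    rw [e4, e3, smul_smul]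
    congr 1
    ring
  have hcases : g'.1.det = v * g.1.det ∨ g'.1.det = -(v * g.1.det) := by
    rw [← mul_pow] at hdet
    exact sq_eq_sq_iff_eq_or_eq_neg.1 hdet
  rcases hcases with h5 | h5
  · left
    have e3 : g'.1.trace • g'.1 = (v * g.1.trace) • g.1 := by
      rw [e2, h5, mul_smul v g.1.trace g.1, e1, smul_add, smul_smul]
    have e4 : g'.1 = (g'.1.trace⁻¹ * (v * g.1.trace)) • g.1 := by
      rw [mul_smul, ← e3, smul_smul, inv_mul_cancel₀ htr', one_smul]
    exact MulEquiv.ext fun x => conjGL_smul e4 x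
  · right
    rw [eq_inv_iff_mul_eq_one, ← map_mul, conjGL_eq_one_iff]
    have htr : g.1.trace ≠ 0 := by
      intro h0
      rw [h0, zero_smul] at e1
      apply hn
      exact ⟨-(g.1.det), by rw [neg_smul]; exact eq_neg_of_add_eq_zero_left e1.symm⟩
    have e3 : (g'.1.trace * g.1.trace) • (g'.1 * g.1) = (-(2 * v * g.1.det ^ 2)) • (1 : Matrix (Fin 2) (Fin 2) F) := by
      have e4 : (g'.1.trace * g.1.trace) • (g'.1 * g.1) = (g'.1.trace • g'.1) * (g.1.trace • g.1) := by
        rw [Matrix.smul_mul, Matrix.mul_smul, smul_smul]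
      rw [e4, e2, e1, h5, add_mul, mul_add, mul_add, Matrix.smul_mul, hMM]
      ext i j
      fin_cases i <;> fin_cases j <;> simp <;> ring
    refine ⟨(g'.1.trace * g.1.trace)⁻¹ * (-(2 * v * g.1.det ^ 2)), ?_⟩
    rw [mul_smul, ← e3, smul_smul, inv_mul_cancel₀ (mul_ne_zero htr' htr), one_smul, Units.val_mul]

end roots

section A

variable {F : Type*} [Field F] [Fintype F]

/-- a root commuting with `a` and `b` -/
theorem QP.false_of_comm {H : Type*} [Group H] {z a b k : H} (h : QP z a b) (hz : z ≠ 1)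
    (hk : k = a ∨ k = b ∨ k = a * b) (ha : k * a = a * k) (hb : k * b = b * k) : False := by
  have hab : a * b = b * a := by
    rcases hk with rfl | rfl | rfl
    · exact hb
    · exact ha.symm
    · have h1 : a * (b * a) = a * (a * b) := by rw [← mul_assoc, ha]
      exact (mul_left_cancel h1).symm
  apply hz
  have h1 := h.ba
  rw [← hab, mul_inv_cancel_right] at h1
  rw [← h.aa]
  nth_rw 2 [h1]
  rw [mul_inv_cancel]

/-- **Fact A0** -/
theorem factA0 {z a b a' b' : MulAut (SL2 F)} (h : QP z a b) (h' : QP z a' b')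
    (haa : a * a' = a' * a) (hab : a * b' = b' * a) (hba : b * a' = a' * b) (hbb : b * b' = b' * b)
    (hz : z ≠ 1) : False := by
  obtain ⟨g, hg, hgz⟩ := exists_root h
  obtain ⟨g', hg', hgz'⟩ := exists_root h'
  have e1 : conjGL (g * g) = z := by rw [map_mul, hgz]
  have e2 : conjGL (g' * g') = z := by rw [map_mul, hgz']
  have ca : conjGL g' * a = a * conjGL g' := by
    rcases hg' with h1 | h1 | h1 <;> rw [h1]
    · exact haa.symm
    · exact hab.symm
    · rw [mul_assoc, ← hab, ← mul_assoc, ← haa, mul_assoc]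
  have cb : conjGL g' * b = b * conjGL g' := by
    rcases hg' with h1 | h1 | h1 <;> rw [h1]
    · exact hba.symm
    · exact hbb.symm
    · rw [mul_assoc, ← hbb, ← mul_assoc, ← hba, mul_assoc]
  have key : ∀ x, conjGL g' * x = x * conjGL g' → conjGL g * x = x * conjGL g := by
    intro x hx
    rcases root_cases (e1.trans e2.symm) (by rw [e1]; exact hz) (by rw [e1]; exact h.zz) with h5 | h5
    · rw [← h5]; exact hx
    · have h6 : conjGL g = (conjGL g')⁻¹ := by rw [h5, inv_inv]
      rw [h6, inv_mul_eq_iff_eq_mul, ← mul_assoc, hx, mul_inv_cancel_right]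
  exact h.false_of_comm hz hg (key a ca) (key b cb)

theorem noOdd_of_div {q r n s : ℕ} (hr : 3 ≤ r) (hq : q = r ^ 2) (hn : q - 1 = 2 ^ s * n) (hno : Odd n)
    (h : n ∣ r - 1 ∨ n ∣ r + 1) : NoOdd q := by
  right
  have hfac : (r - 1) * (r + 1) = 2 ^ s * n := by
    rw [← hn, hq]
    obtain ⟨t, rfl⟩ : ∃ t, r = t + 1 := ⟨r - 1, by omega⟩
    have : (t + 1) ^ 2 - 1 = t * (t + 1 + 1) := by
      have e : (t + 1) ^ 2 = t * (t + 1 + 1) + 1 := by ring
      omega
    rw [this, Nat.add_sub_cancel]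
  have hn0 : 0 < n := hno.pos
  rcases h with ⟨k, hk⟩ | ⟨k, hk⟩
  · -- `r + 1` divides `2 ^ s`
    have h1 : (r + 1) * k = 2 ^ s := by
      rw [hk] at hfac
      have e : n * ((r + 1) * k) = n * 2 ^ s := by rw [mul_comm n (2 ^ s), ← hfac]; ring
      exact Nat.eq_of_mul_eq_mul_left hn0 e
    obtain ⟨a, -, ha⟩ := (Nat.dvd_prime_pow Nat.prime_two).1 (Dvd.intro _ h1)
    refine ⟨r, -1, a, hq, Or.inr rfl, ?_⟩
    have : ((r + 1 : ℕ) : ℤ) = ((2 ^ a : ℕ) : ℤ) := by rw [ha]
    push_cast at this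
    linarith
  · have h1 : (r - 1) * k = 2 ^ s := by
      rw [hk] at hfac
      have e : n * ((r - 1) * k) = n * 2 ^ s := by rw [mul_comm n (2 ^ s), ← hfac]; ring
      exact Nat.eq_of_mul_eq_mul_left hn0 e
    obtain ⟨a, -, ha⟩ := (Nat.dvd_prime_pow Nat.prime_two).1 (Dvd.intro _ h1)
    refine ⟨r, 1, a, hq, Or.inl rfl, ?_⟩
    have : ((r - 1 : ℕ) : ℤ) = ((2 ^ a : ℕ) : ℤ) := by rw [ha]
    push_cast [Nat.cast_sub (show 1 ≤ r by omega)] at this
    linarith

/-- **Fact A** -/
theorem factA (h2 : (2 : F) ≠ 0) (h3 : 3 < Nat.card F) {z a b c : MulAut (SL2 F)} (h : QP z a b) (hz : z ≠ 1)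
    (hfix : ∀ x, Odd (orderOf x) → z x = x → a x = x ∧ b x = x) (hc : Odd (orderOf c)) :
    ∃ x : SL2 F, Odd (orderOf x) ∧ c = MulAut.conj x := by
  apply conj_of_typ h2 _ hc
  refine typ_one_of_noOdd h2 ?_ hc
  -- `z = conj e`
  obtain ⟨g, hg, hgz⟩ := exists_root h
  obtain ⟨e, he⟩ := conj_sq g
  have hze : z = MulAut.conj e := by rw [← he, map_mul, hgz]
  have hee : e * e = -1 := by
    have h1 : MulAut.conj (e * e) = 1 := by rw [map_mul, ← hze, h.zz]
    rcases conj_eq_one h2 h1 with h4 | h4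
    · exfalso
      apply hz
      rcases Lib.PSL2Inv.sq_eq_one h2 h4 with h5 | h5
      · rw [hze, h5, map_one]
      · rw [hze, h5]
        refine MulEquiv.ext fun x => ?_
        rw [MulAut.conj_apply, MulAut.one_apply, neg_one_mul, inv_neg, inv_one, mul_neg, mul_one, neg_neg]
    · exact h4
  have htre : ent e 1 1 = - ent e 0 0 := Lib.PSL2Inv.tr_of_sq h2 hee
  have htz : typ z = 1 := by rw [← hgz, map_mul, typ_conjGL, one_mul]
  -- some element has nontrivial field type
  obtain ⟨k, hkf, hkk, hk1⟩ : ∃ k : MulAut (SL2 F), (∀ x, Odd (orderOf x) → z x = x → k x = x) ∧ k * k = z ∧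
      typ k ≠ 1 := by
    by_cases ha : typ a = 1
    · by_cases hb : typ b = 1
      · exfalso
        obtain ⟨g1, hg1⟩ := (typ_eq_one_iff a).1 ha
        obtain ⟨g2, hg2⟩ := (typ_eq_one_iff b).1 hb
        have e1 : conjGL (g1 * g1) = z := by rw [map_mul, ← hg1, h.aa]
        have e2 : conjGL (g2 * g2) = z := by rw [map_mul, ← hg2, h.bb]
        have hab : a * b = b * a := by
          rcases root_cases (e1.trans e2.symm) (by rw [e1]; exact hz) (by rw [e1]; exact h.zz) with h5 | h5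
          · rw [← hg1, ← hg2] at h5
            rw [h5]
          · rw [← hg1, ← hg2] at h5
            rw [h5, mul_inv_cancel, inv_mul_cancel]
        exact h.false_of_comm hz (Or.inl rfl) rfl hab
      · exact ⟨b, fun x hx hzx => (hfix x hx hzx).2, h.bb, hb⟩
    · exact ⟨a, fun x hx hzx => (hfix x hx hzx).1, h.aa, ha⟩
  set σ := typ k with hσ
  have hσσ : σ * σ = 1 := by rw [hσ, ← map_mul, hkk, htz]
  obtain ⟨K, hK, hcK⟩ := Classification.QDW.TypeHom.exists_fixed_card hσσ hk1
  have hσ2 : ∀ x, σ (σ x) = x := fun x => DFunLike.congr_fun hσσ x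
  have hσne : ∃ x, σ x ≠ x := by
    by_contra hcon
    push Not at hcon
    exact hk1 (RingEquiv.ext hcon)
  have hpow := LFourB.AutSylow.pow_of_involutory σ hσ2 hK hσne
  have hodd : Nat.card F % 2 = 1 := Lib.PSL2Torus.odd_card h2
  have hK3 : 3 ≤ Nat.card K := by
    have h1 : 1 < Nat.card K := Finite.one_lt_card
    have h5 : Nat.card K ≠ 2 := by
      intro h6
      rw [hcK, h6] at hodd
      norm_num at hodd
    omega
  -- `ι ^ 2 = -1`
  have h4q : Nat.card F % 4 = 1 := by
    rw [hcK]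
    have h1 : Nat.card K % 2 = 1 := by
      by_contra hcon
      have : Even (Nat.card K) := by rw [Nat.even_iff]; omega
      have h5 : Even (Nat.card F) := by rw [hcK]; exact this.pow_of_ne_zero (by norm_num)
      rw [Nat.even_iff] at h5
      omega
    have h5 : Nat.card K % 4 = 1 ∨ Nat.card K % 4 = 3 := by omega
    rw [Nat.pow_mod]
    rcases h5 with h5 | h5 <;> rw [h5] 
  obtain ⟨ι, hι⟩ : ∃ ι : F, -1 = ι * ι := by
    have := (FiniteField.isSquare_neg_one_iff (F := F)).2 (by rw [← Nat.card_eq_fintype_card]; omega)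
    exact this
  have hι0 : ι ≠ 0 := by
    rintro rfl
    rw [mul_zero] at hι
    exact neg_ne_zero.2 one_ne_zero hι
  have hιi : ι⁻¹ = -ι := inv_eq_of_mul_eq_one_right (by rw [mul_neg, ← hι, neg_neg])
  obtain ⟨s, hs⟩ := Lib.PSL2Torus.exists_conj h2 (i := dg ι hι0) (j := e) (by rw [dg_11, dg_00, hιi]) htre
  -- elements of the torus
  have htor : ∀ l : F, ∀ hl : l ≠ 0, Odd (orderOf (dg l hl)) → σ (l + l⁻¹) = l + l⁻¹ := by
    intro l hl ho
    set x := s * dg l hl * s⁻¹ with hx
    have hxo : Odd (orderOf x) := by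
      have : orderOf x = orderOf (dg l hl) := by
        rw [hx, ← MulAut.conj_apply, MulEquiv.orderOf_eq]
      rw [this]; exact ho
    have hcomm : dg ι hι0 * dg l hl = dg l hl * dg ι hι0 := by
      refine ext_ent ?_ ?_ ?_ ?_ <;> simp [ent_mul, mul_comm]
    have hze' : z x = x := by
      rw [hze, MulAut.conj_apply, ← hs, hx]
      have : s * dg ι hι0 * s⁻¹ * (s * dg l hl * s⁻¹) * (s * dg ι hι0 * s⁻¹)⁻¹ =
          s * (dg ι hι0 * dg l hl * (dg ι hι0)⁻¹) * s⁻¹ := by group
      rw [this, hcomm, mul_inv_cancel_right]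
    have h5 := hkf x hxo hze'
    have h6 := tr_apply k x
    rw [h5] at h6
    have h7 : tr x = l + l⁻¹ := by
      have h8 : tr x = tr (dg l hl) := by
        have := tr_conjGL (Matrix.SpecialLinearGroup.toGL s) (dg l hl)
        rwa [conjGL_toGL] at this
      rw [h8]
      rfl
    rw [h7] at h6
    exact h6.symm
  have hord : ∀ l : F, ∀ hl : l ≠ 0, ∀ n : ℕ, l ^ n = 1 → (dg l hl) ^ n = 1 := by
    intro l hl n hn
    have h5 : ∀ m : ℕ, (dg l hl) ^ m = dg (l ^ m) (pow_ne_zero m hl) := fun m => LFourB.AutSylow.dg_pow l hl m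
    rw [h5]
    refine ext_ent ?_ ?_ ?_ ?_ <;> simp [hn]
  -- a generator of the odd part
  have hq0 : Nat.card F - 1 ≠ 0 := by omega
  obtain ⟨t, n, hn, htn⟩ := Nat.exists_eq_two_pow_mul_odd hq0
  obtain ⟨u, hu⟩ := IsCyclic.exists_generator (α := Fˣ)
  have hou : orderOf u = Nat.card F - 1 := by
    rw [orderOf_eq_card_of_forall_mem_zpowers hu, Nat.card_units]
  set l : Fˣ := u ^ 2 ^ t with hl
  have hol : orderOf l = n := by
    rw [hl, orderOf_pow, hou, htn, Nat.gcd_eq_right (Dvd.intro _ rfl), Nat.mul_div_cancel_left _ (by positivity)]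
  have hln : (l : F) ^ n = 1 := by
    rw [← Units.val_pow_eq_pow_val, ← hol, pow_orderOf_eq_one, Units.val_one]
  have h5 := htor l l.ne_zero (by
    have : orderOf (dg (l : F) l.ne_zero) ∣ n := orderOf_dvd_of_pow_eq_one (hord _ _ n hln)
    exact hn.of_dvd_nat this)
  rw [map_add, map_inv₀] at h5
  have hl0 : (l : F) ≠ 0 := l.ne_zero
  have hσl0 : σ (l : F) ≠ 0 := by rwa [ne_eq, map_eq_zero]
  have h6 : (σ (l : F) - l) * (σ (l : F) * l - 1) = 0 := by
    field_simp at h5
    linear_combination h5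
  refine noOdd_of_div (r := Nat.card K) (n := n) (s := t) hK3 hcK htn hn ?_
  rcases mul_eq_zero.1 h6 with h7 | h7
  · left
    rw [sub_eq_zero, hpow] at h7
    have h8 : l ^ (Nat.card K - 1) = 1 := by
      apply Units.ext
      rw [Units.val_pow_eq_pow_val, Units.val_one]
      apply mul_right_cancel₀ hl0
      rw [one_mul, ← pow_succ, Nat.sub_add_cancel (by omega)]
      exact h7
    rw [← hol]
    exact orderOf_dvd_of_pow_eq_one h8
  · right
    rw [sub_eq_zero, hpow] at h7
    have h8 : l ^ (Nat.card K + 1) = 1 := by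
      apply Units.ext
      rw [Units.val_pow_eq_pow_val, Units.val_one, pow_succ]
      exact h7
    rw [← hol]
    exact orderOf_dvd_of_pow_eq_one h8

end A

end Cfsg.Agent.Cit.Nil.LO
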