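import Cfsg.Agent.Cit.Nil.LO.LTwoAut
import Cfsg.Agent.Cit.Nil.RG.TZero

/-!
# S1309, node (n2): components `L₂(q)` (helper724; text: helper981, bb R18 #17955 (2))

* `exists_act` : the action of `N(L)` on `SL(2,F)`, `L/Z(L) ≃* PSL(2,F)`;
* `actB`, `actA`, `actA0` : the facts of `LTwoAut.lean` for `L ≤ H`;
* `ltwo_inner` : `WR Om`, `w ∈ ZZ Om` nontrivial on `L`, `c ∈ N(L)` of odd order commuting with `w`: `c` acts on `L`
  as an element of odd order of `L`.
-/

set_option autoImplicit false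
set_option linter.unusedSectionVars false

namespace Cfsg.Agent.Cit.Nil.LO

open Matrix Subgroup Cfsg Cit
open scoped commutatorElement
open Cfsg.Agent.Lib.SL2Mat Cfsg.Agent.Lib.AutSL2 Cfsg.Agent.Lib.AutSL2Out Cfsg.Agent.Classification.QDW.TypeHom

local notation "SL2" => Matrix.SpecialLinearGroup (Fin 2)

section lift

variable {F : Type*} [Field F] [Finite F]

/-- automorphisms of a central quotient of `SL(2,F)` lift -/
theorem exists_lift_hom (h2 : (2 : F) ≠ 0) {X : Type*} [Group X] (π : SL2 F →* X) (hπ : Function.Surjective π)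
    (hk : π.ker ≤ center (SL2 F)) :
    ∃ f : MulAut X →* MulAut (SL2 F), Function.Injective f ∧ ∀ α y, π (f α y) = α (π y) := by
  have hex : ∀ α : MulAut X, ∃ θ : MulAut (SL2 F), ∀ x, α (π x) = π (θ x) := by
    intro α
    obtain ⟨g, σ, h⟩ := exists_gl_ringEquiv π hπ hk α
    exact ⟨conjGL g * fieldAut σ, fun x => by rw [h, MulAut.mul_apply]⟩
  have huniq : ∀ θ θ' : MulAut (SL2 F), (∀ x, π (θ x) = π (θ' x)) → θ = θ' := by
    intro θ θ' h
    have h3 : ∀ x, (θ * θ'⁻¹ : MulAut (SL2 F)) x = x := by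
      intro x
      refine Classification.TypeB.SigAut.eq_of_lift h2 π hk (θ * θ'⁻¹) (fun y => ?_) x
      rw [MulAut.mul_apply, h, MulAut.apply_inv_self]
    have h4 : θ * θ'⁻¹ = 1 := MulEquiv.ext h3
    exact mul_inv_eq_one.1 h4
  choose f hf using hex
  refine ⟨⟨⟨f, ?_⟩, ?_⟩, ?_, fun α y => (hf α y).symm⟩
  · apply huniq
    intro x
    rw [← hf]
    rfl
  · intro α β
    apply huniq
    intro x
    rw [← hf, MulAut.mul_apply, MulAut.mul_apply, ← hf, hf β, ← hf]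
  · intro α β hαβ
    have h5 : f α = f β := hαβ
    refine MulEquiv.ext fun y => ?_
    obtain ⟨x, rfl⟩ := hπ y
    rw [hf, hf, h5]

end lift

section quo

/-- automorphisms of `L` on `L / Z(L)` -/
noncomputable def quoAut (X : Type*) [Group X] : MulAut X →* MulAut (X ⧸ center X) where
  toFun α := QuotientGroup.congr (center X) (center X) α (Subgroup.characteristic_iff_map_eq.1 inferInstance α)
  map_one' := by
    refine MulEquiv.ext fun x => ?_
    induction x using QuotientGroup.induction_on with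
    | H z => rfl
  map_mul' α β := by
    refine MulEquiv.ext fun x => ?_
    induction x using QuotientGroup.induction_on with
    | H z => rfl

theorem quoAut_mk {X : Type*} [Group X] (α : MulAut X) (x : X) :
    quoAut X α (x : X ⧸ center X) = ((α x : X) : X ⧸ center X) := rfl

variable {H : Type*} [Group H] {L : Subgroup H}

/-- `x` acts on `L` -/
def cjL (x : normalizer (L : Set H)) (l : L) : L := ⟨x * l * x⁻¹, (mem_normalizer_iff.1 x.2 l).1 l.2⟩

theorem normalizerMonoidHom_eq (x : normalizer (L : Set H)) (l : L) : L.normalizerMonoidHom x l = cjL x l := rfl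

/-- an element trivial on `L` modulo `Z(L)`, `L` perfect, centralises `L` -/
theorem cent_of_mod (hp : ⁅L, L⁆ = L) {x : H} (h : ∀ l ∈ L, ∃ ζ ∈ L, (∀ m ∈ L, ζ * m = m * ζ) ∧ x * l * x⁻¹ = l * ζ) :
    ∀ l ∈ L, x * l = l * x := by
  have h1 : ⁅L, L⁆ ≤ centralizer {x} := by
    rw [commutator_le]
    intro a ha b hb
    rw [mem_centralizer_singleton_iff]
    obtain ⟨α, hα, hαc, ea⟩ := h a ha
    obtain ⟨β, hβ, hβc, eb⟩ := h b hb
    have h2 : x * ⁅a, b⁆ * x⁻¹ = ⁅a, b⁆ := by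
      rw [commutatorElement_def]
      calc x * (a * b * a⁻¹ * b⁻¹) * x⁻¹ = (x * a * x⁻¹) * (x * b * x⁻¹) * (x * a * x⁻¹)⁻¹ * (x * b * x⁻¹)⁻¹ := by group
        _ = (a * α) * (b * β) * (a * α)⁻¹ * (b * β)⁻¹ := by rw [ea, eb]
        _ = a * (α * b) * β * α⁻¹ * a⁻¹ * β⁻¹ * b⁻¹ := by group
        _ = a * b * (α * β) * α⁻¹ * a⁻¹ * β⁻¹ * b⁻¹ := by rw [hαc b hb]; group
        _ = a * b * (β * (α * α⁻¹)) * a⁻¹ * β⁻¹ * b⁻¹ := by rw [hαc β hβ]; group
        _ = a * b * (β * a⁻¹) * β⁻¹ * b⁻¹ := by rw [mul_inv_cancel, mul_one]; group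
        _ = a * b * (a⁻¹ * β) * β⁻¹ * b⁻¹ := by rw [hβc a⁻¹ (L.inv_mem ha)]
        _ = a * b * a⁻¹ * b⁻¹ := by group
    rw [mul_inv_eq_iff_eq_mul] at h2
    exact h2.symm
  intro l hl
  rw [← hp] at hl
  exact (mem_centralizer_singleton_iff.1 (h1 hl)).symm

/-- odd orders -/
theorem ltwo_odd_mul {x y : H} (hc : x * y = y * x) (hx : Odd (orderOf x)) (hy : Odd (orderOf y)) : Odd (orderOf (x * y)) :=
  (hx.mul hy).of_dvd_nat ((show Commute x y from hc).orderOf_mul_dvd_mul_orderOf)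

theorem odd_inv {x : H} (hx : Odd (orderOf x)) : Odd (orderOf x⁻¹) := by rw [orderOf_inv]; exact hx

theorem eq_one_of_odd_two {x : H} (hx : Odd (orderOf x)) {n : ℕ} (h : x ^ 2 ^ n = 1) : x = 1 := by
  have h1 := orderOf_dvd_of_pow_eq_one h
  obtain ⟨k, -, hk⟩ := (Nat.dvd_prime_pow Nat.prime_two).1 h1
  rcases Nat.eq_zero_or_pos k with rfl | h0
  · rw [pow_zero] at hk
    exact orderOf_eq_one_iff.1 hk
  · exfalso
    have : Even (orderOf x) := by rw [hk]; exact even_two.pow_of_ne_zero (by omega)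
    exact Nat.not_even_iff_odd.2 hx this

/-- lifting elements of odd order -/
theorem exists_odd_lift {X : Type*} [Group X] {N : Subgroup X} [N.Normal] (hN : IsPGroup 2 N) (x : X)
    {n : ℕ} (hn : Odd n) (hx : (x : X ⧸ N) ^ n = 1) :
    ∃ y : X, (y : X ⧸ N) = x ∧ Odd (orderOf y) := by
  have h1 : x ^ n ∈ N := by rw [← QuotientGroup.eq_one_iff]; exact hx
  obtain ⟨k, hk⟩ := hN ⟨x ^ n, h1⟩
  have hk' : (x ^ n) ^ 2 ^ k = 1 := congrArg Subtype.val hk
  have hco : Nat.Coprime n (2 ^ k) := (Nat.coprime_two_right.2 hn).pow_right k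
  obtain ⟨m, hm1, hm2⟩ := Nat.chineseRemainder hco 1 0
  refine ⟨x ^ m, ?_, ?_⟩
  · rw [QuotientGroup.mk_pow]
    rcases Nat.le_total 1 m with h | h
    · obtain ⟨t, ht⟩ : n ∣ m - 1 := (Nat.modEq_iff_dvd' h).1 hm1.symm
      have : m = n * t + 1 := by omega
      rw [this, pow_succ, pow_mul, hx, one_pow, one_mul]
    · obtain ⟨t, ht⟩ : n ∣ 1 - m := (Nat.modEq_iff_dvd' h).1 hm1
      rcases Nat.eq_or_lt_of_le h with h3 | h3
      · rw [h3, pow_one]
      · have hm0 : m = 0 := by omega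
        rw [hm0] at ht
        have hn1 : n = 1 := Nat.dvd_one.1 ⟨t, by omega⟩
        rw [hn1, pow_one] at hx
        rw [hx, one_pow]
  · have h2 : (x ^ m) ^ n = 1 := by
      obtain ⟨t, ht⟩ := (Nat.modEq_zero_iff_dvd).1 hm2
      rw [ht, ← pow_mul]
      have : 2 ^ k * t * n = n * 2 ^ k * t := by ring
      rw [this, pow_mul, pow_mul, hk', one_pow]
    exact hn.of_dvd_nat (orderOf_dvd_of_pow_eq_one h2)

end quo

section act

variable {F : Type*} [Field F] [Fintype F] {H : Type*} [Group H] {L : Subgroup H}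

/-- the action of `N(L)` on `SL(2,F)` -/
structure Act (π : SL2 F →* L ⧸ center L) (ψ : normalizer (L : Set H) →* MulAut (SL2 F)) : Prop where
  surj : Function.Surjective π
  ker : ∀ y, π y = 1 ↔ y = 1 ∨ y = -1
  act : ∀ (x : normalizer (L : Set H)) (y : SL2 F) (l : L), π y = (l : L ⧸ center L) → π (ψ x y) = (cjL x l : L ⧸ center L)

theorem exists_act (h2 : (2 : F) ≠ 0) (e : L ⧸ center L ≃* Matrix.ProjectiveSpecialLinearGroup (Fin 2) F) :
    ∃ (π : SL2 F →* L ⧸ center L) (ψ : normalizer (L : Set H) →* MulAut (SL2 F)), Act π ψ := by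
  obtain ⟨π, hπ, hk⟩ := Lib.PSL2Torus.exists_hom h2 e
  have hk' : π.ker ≤ center (SL2 F) := by
    intro y hy
    rw [MonoidHom.mem_ker, hk] at hy
    rcases hy with rfl | rfl
    · exact one_mem _
    · rw [mem_center_iff]
      intro z
      rw [mul_neg, mul_one, neg_mul, one_mul]
  obtain ⟨f, -, hf⟩ := exists_lift_hom h2 π hπ hk'
  refine ⟨π, f.comp ((quoAut L).comp L.normalizerMonoidHom), hπ, hk, ?_⟩
  intro x y l hl
  rw [MonoidHom.comp_apply, MonoidHom.comp_apply, hf, hl]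
  rfl

namespace Act

variable {π : SL2 F →* L ⧸ center L} {ψ : normalizer (L : Set H) →* MulAut (SL2 F)} (A : Act π ψ) (hp : ⁅L, L⁆ = L)
  (hZ : IsPGroup 2 (center L))

include A

theorem eq_of_eq {x x' : normalizer (L : Set H)} {y : SL2 F} {l l' : L} (h1 : π y = (l : L ⧸ center L))
    (h2 : (cjL x l : L ⧸ center L) = (cjL x' l' : L ⧸ center L)) (h3 : π y = (l' : L ⧸ center L)) :
    π (ψ x y) = π (ψ x' y) := by
  rw [A.act x y l h1, A.act x' y l' h3, h2]

include hp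

/-- two elements of `N(L)` with the same action on `SL(2,F)` -/
theorem comm_of_eq_one {x : normalizer (L : Set H)} (h : ψ x = 1) : ∀ l ∈ L, (x : H) * l = l * x := by
  apply cent_of_mod hp
  intro l hl
  obtain ⟨y, hy⟩ := A.surj ((⟨l, hl⟩ : L) : L ⧸ center L)
  have h1 := A.act x y ⟨l, hl⟩ hy
  rw [h, MulAut.one_apply, hy, QuotientGroup.eq] at h1
  refine ⟨l⁻¹ * ((x : H) * l * (x : H)⁻¹), ?_, ?_, by group⟩
  · exact L.mul_mem (L.inv_mem hl) (cjL x ⟨l, hl⟩).2
  · intro m hm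
    have h3 := mem_center_iff.1 h1 ⟨m, hm⟩
    exact (congrArg Subtype.val h3).symm

/-- inner automorphisms -/
theorem inner_of_conj {x : normalizer (L : Set H)} {y : SL2 F} {l : L} (h : ψ x = MulAut.conj y)
    (hl : π y = (l : L ⧸ center L)) : ∀ m ∈ L, (x : H) * m * (x : H)⁻¹ = l * m * (l : H)⁻¹ := by
  have hlN : (l : H) ∈ normalizer (L : Set H) := le_normalizer l.2
  have key : ∀ m ∈ L, ((l : H)⁻¹ * x) * m = m * ((l : H)⁻¹ * x) := by
    apply cent_of_mod hp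
    intro m hm
    obtain ⟨z, hz⟩ := A.surj ((⟨m, hm⟩ : L) : L ⧸ center L)
    have h1 := A.act x z ⟨m, hm⟩ hz
    rw [h, MulAut.conj_apply, map_mul, map_mul, map_inv, hl, hz, ← QuotientGroup.mk_mul, ← QuotientGroup.mk_inv,
      ← QuotientGroup.mk_mul, QuotientGroup.eq] at h1
    -- `ζ = (l m l⁻¹)⁻¹ (x m x⁻¹)` is central
    have hcen : ∀ u ∈ L, ((l : H) * m * (l : H)⁻¹)⁻¹ * ((x : H) * m * (x : H)⁻¹) * u =
        u * (((l : H) * m * (l : H)⁻¹)⁻¹ * ((x : H) * m * (x : H)⁻¹)) := by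
      intro u hu
      exact (congrArg Subtype.val (mem_center_iff.1 h1 ⟨u, hu⟩)).symm
    set ζ := ((l : H) * m * (l : H)⁻¹)⁻¹ * ((x : H) * m * (x : H)⁻¹) with hζ
    have hζL : ζ ∈ L := L.mul_mem (L.inv_mem (L.mul_mem (L.mul_mem l.2 hm) (L.inv_mem l.2))) (cjL x ⟨m, hm⟩).2
    refine ⟨ζ, hζL, hcen, ?_⟩
    have h4 : (x : H) * m * (x : H)⁻¹ = (l : H) * m * (l : H)⁻¹ * ζ := by rw [hζ]; group
    calc (l : H)⁻¹ * x * m * ((l : H)⁻¹ * x)⁻¹ = (l : H)⁻¹ * ((x : H) * m * (x : H)⁻¹) * l := by group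
      _ = m * ((l : H)⁻¹ * (ζ * l)) := by rw [h4]; group
      _ = m * ζ := by rw [hcen l l.2]; group
  intro m hm
  have h1 := key m hm
  calc (x : H) * m * (x : H)⁻¹ = l * (((l : H)⁻¹ * x) * m) * (x : H)⁻¹ := by group
    _ = l * m * (l : H)⁻¹ := by rw [h1]; group

omit hp

include hZ

/-- lifting elements of odd order -/
theorem exists_odd {y : SL2 F} (hy : Odd (orderOf y)) : ∃ l : L, Odd (orderOf l) ∧ π y = (l : L ⧸ center L) := by
  obtain ⟨l0, hl0⟩ := QuotientGroup.mk_surjective (π y)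
  obtain ⟨l, hl, ho⟩ := exists_odd_lift hZ l0 hy (by rw [hl0, ← map_pow, pow_orderOf_eq_one, map_one])
  exact ⟨l, ho, by rw [hl, hl0]⟩

/-- fixed elements of odd order -/
theorem comm_of_fix {w : normalizer (L : Set H)} {y : SL2 F} (hy : ψ w y = y) {l : L} (ho : Odd (orderOf l))
    (hl : π y = (l : L ⧸ center L)) : (w : H) * l = l * w := by
  have h1 := A.act w y l hl
  rw [hy, hl, QuotientGroup.eq] at h1
  set ζ := l⁻¹ * cjL w l with hζ
  have hc : l * ζ = ζ * l := mem_center_iff.1 h1 l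
  have hcj : cjL w l = l * ζ := by rw [hζ]; group
  have h3 : Odd (orderOf (cjL w l)) := by
    have : orderOf (cjL w l) = orderOf l := by
      rw [← Subgroup.orderOf_coe, ← Subgroup.orderOf_coe]
      have : ((cjL w l : L) : H) = MulAut.conj (w : H) (l : H) := rfl
      rw [this, MulEquiv.orderOf_eq]
    rw [this]; exact ho
  have h4 : Odd (orderOf ζ) := by
    have hcomm : l⁻¹ * cjL w l = cjL w l * l⁻¹ := by
      rw [hcj, ← mul_assoc, inv_mul_cancel, one_mul, hc, mul_inv_cancel_right]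
    rw [hζ]
    exact ltwo_odd_mul hcomm (odd_inv ho) h3
  obtain ⟨k, hk⟩ := hZ ⟨ζ, h1⟩
  have h5 : ζ = 1 := eq_one_of_odd_two h4 (congrArg Subtype.val hk)
  rw [h5, mul_one] at hcj
  have h6 : (w : H) * l * (w : H)⁻¹ = l := congrArg Subtype.val hcj
  rw [mul_inv_eq_iff_eq_mul] at h6
  exact h6

end Act

/-! ### The facts -/

section facts

variable (h2 : (2 : F) ≠ 0) (h3 : 3 < Nat.card F) {π : SL2 F →* L ⧸ center L}
  {ψ : normalizer (L : Set H) →* MulAut (SL2 F)} (A : Act π ψ) (hp : ⁅L, L⁆ = L) (hZ : IsPGroup 2 (center L))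

include h2 h3 A hp hZ

/-- **(B)** -/
theorem actB {w c : normalizer (L : Set H)} (hw : (w : H) * w = 1) (hw1 : ∃ m ∈ L, (w : H) * m ≠ m * w)
    (hno : ∀ l ∈ L, Odd (orderOf l) → (w : H) * l = l * w → l = 1) (hc : Odd (orderOf c))
    (hcw : (c : H) * w = w * c) : ∀ m ∈ L, (c : H) * m = m * c := by
  apply A.comm_of_eq_one hp
  refine factB h2 h3 (w := ψ w) ?_ ?_ ?_ (hc.of_dvd_nat (orderOf_map_dvd ψ c)) ?_
  · rw [← map_mul, show w * w = 1 from Subtype.ext hw, map_one]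
  · intro h
    obtain ⟨m, hm, hne⟩ := hw1
    exact hne (A.comm_of_eq_one hp h m hm)
  · intro y hy hwy
    obtain ⟨l, ho, hl⟩ := A.exists_odd hZ hy
    have h4 := A.comm_of_fix hZ hwy ho hl
    have h5 : (l : H) = 1 := hno l l.2 (by rw [Subgroup.orderOf_coe]; exact ho) h4
    have h6 : π y = 1 := by
      rw [hl, show l = 1 from Subtype.ext h5]
      rfl
    rcases (A.ker y).1 h6 with h7 | h7
    · exact h7
    · refine eq_one_of_odd_two hy (n := 1) ?_
      rw [pow_one, h7, neg_one_sq]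
  · rw [← map_mul, ← map_mul, show c * w = w * c from Subtype.ext hcw]

/-- an action as an element of odd order of `SL(2,F)` -/
theorem act_inner {c : normalizer (L : Set H)} {x : SL2 F} (hx : Odd (orderOf x)) (hc : ψ c = MulAut.conj x) :
    ∃ l ∈ L, Odd (orderOf l) ∧ (∀ m ∈ L, (c : H) * m * (c : H)⁻¹ = l * m * l⁻¹) ∧ (c : H) * l = l * c := by
  obtain ⟨l, ho, hl⟩ := A.exists_odd hZ hx
  have h4 := A.inner_of_conj hp hc hl
  refine ⟨l, l.2, by rw [Subgroup.orderOf_coe]; exact ho, h4, ?_⟩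
  have h5 := h4 l l.2
  rw [mul_inv_cancel_right, mul_inv_eq_iff_eq_mul] at h5
  exact h5

/-- **(A)** -/
theorem actA {z a b c : normalizer (L : Set H)} (hq : QP z a b) (hz1 : ∃ m ∈ L, (z : H) * m ≠ m * z)
    (hfix : ∀ l ∈ L, Odd (orderOf l) → (z : H) * l = l * z →
      (∃ n, (l⁻¹ * ((a : H) * l * (a : H)⁻¹)) ^ 2 ^ n = 1) ∧ ∃ n, (l⁻¹ * ((b : H) * l * (b : H)⁻¹)) ^ 2 ^ n = 1)
    (hc : Odd (orderOf c)) :
    ∃ l ∈ L, Odd (orderOf l) ∧ (∀ m ∈ L, (c : H) * m * (c : H)⁻¹ = l * m * l⁻¹) ∧ (c : H) * l = l * c := by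
  have hz1' : ψ z ≠ 1 := by
    intro h
    obtain ⟨m, hm, hne⟩ := hz1
    exact hne (A.comm_of_eq_one hp h m hm)
  have hq' := hq.map ψ
  -- `ψ z` is inner and the fixed points commute
  obtain ⟨g, hg, hgz⟩ := exists_root hq'
  obtain ⟨e, he⟩ := conj_sq g
  have hze : ψ z = MulAut.conj e := by rw [← he, map_mul, hgz]
  have hee : e * e = -1 := by
    have h1 : MulAut.conj (e * e) = 1 := by rw [map_mul, ← hze, hq'.zz]
    rcases conj_eq_one h2 h1 with h4 | h4
    · exfalso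
      apply hz1'
      rcases Lib.PSL2Inv.sq_eq_one h2 h4 with h5 | h5
      · rw [hze, h5, map_one]
      · rw [hze, h5]
        refine MulEquiv.ext fun x => ?_
        rw [MulAut.conj_apply, MulAut.one_apply, neg_one_mul, inv_neg, inv_one, mul_neg, mul_one, neg_neg]
    · exact h4
  have hab : ∀ x y, ψ z x = x → ψ z y = y → x * y = y * x := by
    intro x y hx hy
    have htre : ent e 1 1 = - ent e 0 0 := Lib.PSL2Inv.tr_of_sq h2 hee
    have hcyc := Lib.PSL2Circle.isCyclic_centralizer h2 htre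
    have hm : ∀ x, ψ z x = x → x ∈ Subgroup.centralizer ({e} : Set (SL2 F)) := by
      intro x hx
      rw [hze, MulAut.conj_apply, mul_inv_eq_iff_eq_mul] at hx
      exact Subgroup.mem_centralizer_singleton_iff.2 hx.symm
    have := hcyc.isMulCommutative.is_comm.comm (⟨x, hm x hx⟩ : Subgroup.centralizer ({e} : Set (SL2 F))) ⟨y, hm y hy⟩
    exact congrArg Subtype.val this
  have key : ∀ k : normalizer (L : Set H), k * z = z * k → (∀ l ∈ L, Odd (orderOf l) → (z : H) * l = l * z →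
      ∃ n, (l⁻¹ * ((k : H) * l * (k : H)⁻¹)) ^ 2 ^ n = 1) → ∀ x, Odd (orderOf x) → ψ z x = x → ψ k x = x := by
    intro k hkz hk x hx hzx
    obtain ⟨l, ho, hl⟩ := A.exists_odd hZ hx
    have hzl := A.comm_of_fix hZ hzx ho hl
    obtain ⟨n, hn⟩ := hk l l.2 (by rw [Subgroup.orderOf_coe]; exact ho) hzl
    have h4 : π (ψ k x) = (cjL k l : L ⧸ center L) := A.act k x l hl
    have h5 : ψ z (ψ k x) = ψ k x := by
      rw [← MulAut.mul_apply, ← map_mul, ← hkz, map_mul, MulAut.mul_apply, hzx]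
    have h6 : x⁻¹ * ψ k x = ψ k x * x⁻¹ := by
      rw [inv_mul_eq_iff_eq_mul, ← mul_assoc, hab x _ hzx h5, mul_inv_cancel_right]
    have h7 : Odd (orderOf (x⁻¹ * ψ k x)) := ltwo_odd_mul h6 (odd_inv hx) (by rw [MulEquiv.orderOf_eq]; exact hx)
    have h8 : π (x⁻¹ * ψ k x) ^ 2 ^ n = 1 := by
      rw [map_mul, map_inv, h4, hl, ← QuotientGroup.mk_inv, ← QuotientGroup.mk_mul, ← QuotientGroup.mk_pow]
      have : (l⁻¹ * cjL k l) ^ 2 ^ n = 1 := Subtype.ext hn
      rw [this]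
      rfl
    have h9 : (x⁻¹ * ψ k x) ^ 2 ^ (n + 1) = 1 := by
      rw [← map_pow, A.ker] at h8
      rw [pow_succ, pow_mul]
      rcases h8 with h | h
      · rw [h, one_pow]
      · rw [h, neg_one_sq]
    have h10 := eq_one_of_odd_two h7 h9
    exact (inv_mul_eq_one.1 h10).symm
  have haz : a * z = z * a := by rw [← hq.aa, mul_assoc]
  have hbz : b * z = z * b := by rw [← hq.bb, mul_assoc]
  obtain ⟨x, hx, hcx⟩ := factA h2 h3 hq' hz1' (fun x hx hzx =>
    ⟨key a haz (fun l hl ho hzl => (hfix l hl ho hzl).1) x hx hzx,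
      key b hbz (fun l hl ho hzl => (hfix l hl ho hzl).2) x hx hzx⟩) (hc.of_dvd_nat (orderOf_map_dvd ψ c))
  exact act_inner h2 h3 A hp hZ hx hcx

omit h2 h3 hZ in
/-- **(A0)** -/
theorem actA0 {z a b a' b' : normalizer (L : Set H)} (h : QP z a b) (h' : QP z a' b')
    (haa : a * a' = a' * a) (hab : a * b' = b' * a) (hba : b * a' = a' * b) (hbb : b * b' = b' * b)
    (hz1 : ∃ m ∈ L, (z : H) * m ≠ m * z) : False := by
  have hz1' : ψ z ≠ 1 := by
    intro h
    obtain ⟨m, hm, hne⟩ := hz1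
    exact hne (A.comm_of_eq_one hp h m hm)
  refine factA0 (h.map ψ) (h'.map ψ) ?_ ?_ ?_ ?_ hz1'
  · rw [← map_mul, haa, map_mul]
  · rw [← map_mul, hab, map_mul]
  · rw [← map_mul, hba, map_mul]
  · rw [← map_mul, hbb, map_mul]

end facts

end act

/-! ### The world -/

section world

open Cfsg.Agent.Cit.Nil.RG

variable {H : Type*} [Group H] [Finite H] {Om : Set (Subgroup H)} {L K : Subgroup H}

/-- a quaternion pair generating a member -/
theorem ltwo_exists_qp (h : WR Om) {z : H} (hK : K ∈ Ov Om z) (hL : K ≤ normalizer (L : Set H)) (hzL : z ∈ normalizer (L : Set H)) :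
    ∃ a b : normalizer (L : Set H), (a : H) ∈ K ∧ (b : H) ∈ K ∧ QP ⟨z, hzL⟩ a b := by
  obtain ⟨a, ha, haa⟩ := h.exists_four hK.1
  obtain ⟨b, hb, hbb, h1, h2⟩ := h.exists_anti hK.1 ha haa
  obtain ⟨h4, -⟩ := h.anti hK.1 ha hb haa hbb h1 h2
  refine ⟨⟨a, hL ha⟩, ⟨b, hL hb⟩, ha, hb, ⟨Subtype.ext ?_, Subtype.ext ?_, Subtype.ext ?_⟩⟩
  · change a * a = z
    rw [haa, hK.2]
  · change b * b = z
    rw [hbb, hK.2]
  · change b * a * b⁻¹ = a⁻¹
    rw [h4, h.inv_eq hK.1 ha haa, ← mul_assoc, mul_inv_cancel_right]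

/-- **S1309 (n2), (2)** : components of type `L₂(q)` -/
theorem ltwo_inner {F : Type*} [Field F] [Fintype F] (h : WR Om) (hp : ⁅L, L⁆ = L) (hZ : IsPGroup 2 (center L))
    (e : L ⧸ center L ≃* Matrix.ProjectiveSpecialLinearGroup (Fin 2) F) (hF : Odd (Fintype.card F))
    (h3 : 3 < Fintype.card F) {w c : H} (hw : w ∈ ZZ Om) (hwL : w ∈ normalizer (L : Set H))
    (hw1 : ∃ m ∈ L, w * m ≠ m * w)
    (hcm : ∀ K ∈ Ov Om w, ∀ k ∈ K, k ∈ normalizer (L : Set H) ∨ ∀ x ∈ L, ∀ y ∈ L, x * (k * y * k⁻¹) = k * y * k⁻¹ * x)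
    (hc : Odd (orderOf c)) (hcL : c ∈ normalizer (L : Set H)) (hcw : c * w = w * c) :
    ∃ l ∈ L, Odd (orderOf l) ∧ (∀ m ∈ L, c * m * c⁻¹ = l * m * l⁻¹) ∧ c * l = l * c := by
  have h2 : (2 : F) ≠ 0 := TwoFusion.QuatCoverSL.two_ne_zero_of_odd hF
  have h3' : 3 < Nat.card F := by rw [Nat.card_eq_fintype_card]; exact h3
  obtain ⟨π, ψ, A⟩ := exists_act h2 e
  have hcN : Odd (orderOf (⟨c, hcL⟩ : normalizer (L : Set H))) := by
    rw [← Subgroup.orderOf_coe]; exact hc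
  -- commutators of the elements of a member over `w` with elements commuting with `w`
  have hcom : ∀ K ∈ Ov Om w, ∀ k ∈ K, ∀ l, w * l = l * w → l⁻¹ * (k * l * k⁻¹) ∈ RR Om w := by
    intro K hK k hk l hl
    have hl' : l⁻¹ * w = w * l⁻¹ := by rw [inv_mul_eq_iff_eq_mul, ← mul_assoc, ← hl, mul_inv_cancel_right]
    have h4 := h.f_mem hK hl' hk
    rw [inv_inv] at h4
    have : l⁻¹ * (k * l * k⁻¹) = l⁻¹ * k * l * k⁻¹ := by group
    rw [this]
    exact h4
  have htwo : ∀ x ∈ RR Om w, ∃ n, x ^ 2 ^ n = 1 := by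
    intro x hx
    obtain ⟨n, hn⟩ := h.RR_two hw ⟨x, hx⟩
    exact ⟨n, congrArg Subtype.val hn⟩
  by_cases hA : ∀ K ∈ Ov Om w, K ≤ normalizer (L : Set H)
  · -- case (A)
    obtain ⟨K, hK1, hK2⟩ := hw
    have hK : K ∈ Ov Om w := ⟨hK1, hK2⟩
    obtain ⟨a, b, ha, hb, hq⟩ := ltwo_exists_qp h hK (hA K hK) hwL
    refine actA h2 h3' A hp hZ (c := ⟨c, hcL⟩) hq hw1 ?_ hcN
    intro l hl ho hwl
    exact ⟨htwo _ (hcom K hK a ha l hwl), htwo _ (hcom K hK b hb l hwl)⟩
  · push Not at hA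
    obtain ⟨K, hK, hKn⟩ := hA
    obtain ⟨k, hk, hkn⟩ := SetLike.not_le_iff_exists.1 hKn
    have hkL := (hcm K hK k hk).resolve_left hkn
    have h4 := actB h2 h3' A hp hZ (w := ⟨w, hwL⟩) (c := ⟨c, hcL⟩) (h.zz_sq hw) hw1 (fun l hl ho hwl => by
      -- `l⁻¹ l^k` is a 2-element of odd order
      have h5 := hcom K hK k hk l hwl
      obtain ⟨n, hn⟩ := htwo _ h5
      have h6 : Odd (orderOf (l⁻¹ * (k * l * k⁻¹))) := by
        refine ltwo_odd_mul (hkL l⁻¹ (L.inv_mem hl) l hl) (odd_inv ho) ?_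
        have : k * l * k⁻¹ = MulAut.conj k l := rfl
        rw [this, MulEquiv.orderOf_eq]
        exact ho
      have h7 : k * l * k⁻¹ = l := (inv_mul_eq_one.1 (eq_one_of_odd_two h6 hn)).symm
      have h8 : (⟨l, hl⟩ : L) ∈ center L := by
        rw [mem_center_iff]
        intro y
        have h9 := hkL y y.2 l hl
        rw [h7] at h9
        exact Subtype.ext h9
      obtain ⟨j, hj⟩ := hZ ⟨_, h8⟩
      exact eq_one_of_odd_two ho (congrArg (fun t : center L => ((t : L) : H)) hj)) hcN hcw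
    refine ⟨1, L.one_mem, by rw [orderOf_one]; exact odd_one, fun m hm => ?_, by rw [mul_one, one_mul]⟩
    rw [h4 m hm, mul_inv_cancel_right, one_mul, inv_one, mul_one]

end world

end Cfsg.Agent.Cit.Nil.LO
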