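import Cfsg.Agent.Cit.Nil.LO.LTwo
import Cfsg.Agent.Lib.PSL2Inv

/-!
# `L₂(q)`, `q` odd: fields without automorphisms of odd order (helper724)

S1309, node (n2), the arithmetic of helper981's step (2).

* `pow_sub_ne` : `x ^ m - δ` is not a power of two, `x ≥ 3` odd, `m > 1` odd, `δ = ±1`;
* `ringEquiv_one_of_pow` : `|F| - δ = 2^a` or `|F| = r²`, `r ± 1 = 2^a`: automorphisms of odd order are trivial.
-/

set_option autoImplicit false
set_option linter.unusedSectionVars false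

namespace Cfsg.Agent.Cit.Nil.LO

open Matrix Subgroup Cfsg
open Cfsg.Agent.Lib.SL2Mat Cfsg.Agent.Lib.AutSL2 Cfsg.Agent.Classification.QDW.TypeHom

section arith

/-- `x ^ m - δ` is not a power of two -/
theorem pow_sub_ne {x δ : ℤ} {m a : ℕ} (hx : 3 ≤ x) (hxo : Odd x) (hδ : δ = 1 ∨ δ = -1) (hm : Odd m) (h1 : 1 < m) :
    x ^ m - δ ≠ 2 ^ a := by
  intro h
  have hδm : δ ^ m = δ := by
    rcases hδ with rfl | rfl
    · rw [one_pow]
    · exact hm.neg_one_pow
  have h2p : Prime (2 : ℤ) := Int.prime_two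
  have hd : x - δ ∣ 2 ^ a := by
    rw [← h, ← hδm]
    nth_rw 1 [hδm]
    have := sub_dvd_pow_sub_pow x δ m
    rwa [hδm] at this ⊢
  have hpos : 0 < x - δ := by rcases hδ with rfl | rfl <;> omega
  obtain ⟨b, hb⟩ : ∃ b : ℕ, x - δ = 2 ^ b := by
    obtain ⟨n, hn⟩ := Int.eq_ofNat_of_zero_le hpos.le
    rw [hn] at hd ⊢
    have h3 : n ∣ 2 ^ a := by exact_mod_cast hd
    obtain ⟨b, -, hb⟩ := (Nat.dvd_prime_pow Nat.prime_two).1 h3
    exact ⟨b, by rw [hb]; push_cast; rfl⟩
  have hmul : emultiplicity 2 (x ^ m - δ ^ m) = emultiplicity 2 (x - δ) := by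
    apply emultiplicity_pow_sub_pow_of_prime h2p
    · obtain ⟨k, hk⟩ := hxo
      rcases hδ with rfl | rfl
      · exact ⟨k, by rw [hk]; ring⟩
      · exact ⟨k + 1, by rw [hk]; ring⟩
    · intro h3
      obtain ⟨k, hk⟩ := hxo
      obtain ⟨l, hl⟩ := h3
      omega
    · intro h3
      obtain ⟨k, hk⟩ := hm
      omega
  rw [hδm, h, hb, emultiplicity_pow_self_of_prime h2p, emultiplicity_pow_self_of_prime h2p] at hmul
  have hab : a = b := by exact_mod_cast hmul
  rw [hab, ← hb] at h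
  have h4 : x ^ m = x := by linarith
  have h5 : x < x ^ m := by
    calc x = x ^ 1 := (pow_one x).symm
      _ < x ^ m := pow_lt_pow_right₀ (by omega) h1
  omega

/-- `r ^ 2 = s ^ m`, `m` odd: `s` is a square and `r` a power of its root -/
theorem exists_root_of_sq {r s m : ℕ} (hr : 0 < r) (hm : Odd m) (h : r ^ 2 = s ^ m) : ∃ t, s = t ^ 2 ∧ r = t ^ m := by
  obtain ⟨k, rfl⟩ := hm
  have h1 : r ^ 2 = s * (s ^ k) ^ 2 := by rw [h]; ring
  have hs : 0 < s := by
    rcases Nat.eq_zero_or_pos s with rfl | hs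
    · rw [zero_mul] at h1
      have := pow_pos hr 2
      omega
    · exact hs
  have h2 : s ^ k ∣ r := by
    rw [← Nat.pow_dvd_pow_iff (n := 2) (by norm_num), h1]
    exact dvd_mul_left _ _
  obtain ⟨t, rfl⟩ := h2
  have h3 : (s ^ k) ^ 2 * t ^ 2 = (s ^ k) ^ 2 * s := by rw [← mul_pow, h1, mul_comm]
  have h4 : t ^ 2 = s := Nat.eq_of_mul_eq_mul_left (by positivity) h3
  refine ⟨t, h4.symm, ?_⟩
  rw [← h4]
  ring

end arith

section field

variable {F : Type*} [Field F] [Finite F]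

/-- the fixed field of an automorphism -/
theorem exists_fixed_card (σ : F ≃+* F) : ∃ q, 1 < q ∧ Nat.card F = q ^ orderOf σ := by
  classical
  have : Finite (F ≃+* F) :=
    Finite.of_injective (fun σ : F ≃+* F => (σ : F → F)) DFunLike.coe_injective
  have : Fintype (Subgroup.zpowers σ) := Fintype.ofFinite _
  let K := FixedPoints.subfield (Subgroup.zpowers σ) F
  have h1 := FixedPoints.finrank_eq_card (Subgroup.zpowers σ) F
  rw [← Nat.card_eq_fintype_card, Nat.card_zpowers] at h1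
  refine ⟨Nat.card K, Finite.one_lt_card, ?_⟩
  rw [← h1]
  exact Module.natCard_eq_pow_finrank

/-- `|F|` is such that the automorphisms of odd order are trivial -/
def NoOdd (q : ℕ) : Prop :=
  (∃ (δ : ℤ) (a : ℕ), (δ = 1 ∨ δ = -1) ∧ (q : ℤ) - δ = 2 ^ a) ∨
  (∃ (r : ℕ) (δ : ℤ) (a : ℕ), q = r ^ 2 ∧ (δ = 1 ∨ δ = -1) ∧ (r : ℤ) - δ = 2 ^ a)

theorem ringEquiv_one {σ : F ≃+* F} (h2 : (2 : F) ≠ 0) (hF : NoOdd (Nat.card F)) (hσ : Odd (orderOf σ)) : σ = 1 := by
  by_contra hne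
  have h1 : orderOf σ ≠ 1 := fun h => hne (orderOf_eq_one_iff.1 h)
  have hm1 : 1 < orderOf σ := by
    obtain ⟨k, hk⟩ := hσ
    omega
  have hcar : Nat.card F % 2 = 1 := Lib.PSL2Torus.odd_card h2
  obtain ⟨q, hq1, hq⟩ := exists_fixed_card σ
  have hqo : Odd q := by
    by_contra hc
    rw [Nat.not_odd_iff_even] at hc
    have : Even (Nat.card F) := by rw [hq]; exact hc.pow_of_ne_zero (by omega)
    rw [Nat.even_iff] at this
    omega
  rcases hF with ⟨δ, a, hδ, ha⟩ | ⟨r, δ, a, hr, hδ, ha⟩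
  · refine pow_sub_ne (x := q) (δ := δ) (m := orderOf σ) (a := a) ?_ ?_ hδ hσ hm1 ?_
    · obtain ⟨k, hk⟩ := hqo
      omega
    · exact_mod_cast hqo
    · rw [← ha, hq]; push_cast; rfl
  · have hr0 : 0 < r := by
      rcases Nat.eq_zero_or_pos r with rfl | h
      · rw [hr] at hcar
        omega
      · exact h
    obtain ⟨t, ht, htr⟩ := exists_root_of_sq hr0 hσ (hr.symm.trans hq)
    have hto : Odd t := by
      by_contra hc
      rw [Nat.not_odd_iff_even] at hc
      have : Even q := by rw [ht]; exact hc.pow_of_ne_zero (by norm_num)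
      exact (Nat.not_even_iff_odd.2 hqo) this
    refine pow_sub_ne (x := t) (δ := δ) (m := orderOf σ) (a := a) ?_ ?_ hδ hσ hm1 ?_
    · obtain ⟨k, hk⟩ := hto
      rcases Nat.eq_zero_or_pos k with rfl | hk0
      · rw [hk] at ht
        norm_num at ht
        omega
      · omega
    · exact_mod_cast hto
    · rw [← ha, htr]; push_cast; rfl

end field

end Cfsg.Agent.Cit.Nil.LO
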