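import Mathlib

/-!
# S1309, (D3), node (n1), piece (C): `Q₈` commuting with a semiregular abelian group of order `q - 1`

Replaces (3.2), (3.4) of blueprints/CIT-6b-LieOdd-helper443.md.

* `lemQ1` : `V` abelian, `|V| = q`, `H ≤ Aut V` abelian of order `q - 1`, semiregular on `V#`, `a`, `b` commute with `H`:
  then `a b = b a`;
* `lemQ2` : `|V| = q²`, `q` odd, `z = [a, b]` an involution centralising `a`, `b`: then `z = 1` or `z = -1` on `V`;

-/

set_option autoImplicit false

namespace Cfsg.Agent.Cit.Nil.LO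

section pure

variable {V : Type*} [CommGroup V]

/-- the orbit of `v ≠ 1` under a semiregular group -/
theorem orbit_inj {H : Subgroup (MulAut V)} (reg : ∀ h ∈ H, h ≠ 1 → ∀ v, h v = v → v = 1) {v : V} (hv : v ≠ 1) :
    Function.Injective (fun h : H => (h : MulAut V) v) := by
  intro h k e
  by_contra hne
  apply hv
  refine reg ((k : MulAut V)⁻¹ * h) (H.mul_mem (H.inv_mem k.2) h.2)
    (fun e' => hne (Subtype.ext (inv_mul_eq_one.1 e').symm)) v ?_
  change (k : MulAut V)⁻¹ ((h : MulAut V) v) = v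
  change (h : MulAut V) v = (k : MulAut V) v at e
  rw [e]
  exact (k : MulAut V).symm_apply_apply v

/-- the nontrivial elements of an invariant subgroup of order at most `|H| + 1` form one orbit -/
theorem exists_of_card [Finite V] {H : Subgroup (MulAut V)} (reg : ∀ h ∈ H, h ≠ 1 → ∀ v, h v = v → v = 1)
    {B : Subgroup V} (hB : ∀ h ∈ H, ∀ v ∈ B, h v ∈ B) (hc : Nat.card B ≤ Nat.card H + 1) {v w : V} (hv : v ∈ B)
    (hw : w ∈ B) (hv1 : v ≠ 1) (hw1 : w ≠ 1) : ∃ h ∈ H, h v = w := by
  by_contra hcon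
  push Not at hcon
  have : Finite H := Finite.of_injective _ (orbit_inj reg hv1)
  -- `Option (Option H)` embeds in `B`
  let f : Option (Option H) → B := fun x => match x with
    | none => 1
    | some none => ⟨w, hw⟩
    | some (some h) => ⟨(h : MulAut V) v, hB h h.2 v hv⟩
  have hne : ∀ h : H, (h : MulAut V) v ≠ 1 := fun h e => hv1 (by
    have := congrArg (h : MulAut V).symm e
    rwa [map_one, MulEquiv.symm_apply_apply] at this)
  have hf : Function.Injective f := by
    intro x y e
    rcases x with - | - | h <;> rcases y with - | - | k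
    · rfl
    · exact absurd (congrArg Subtype.val e).symm hw1
    · exact absurd (congrArg Subtype.val e).symm (hne k)
    · exact absurd (congrArg Subtype.val e) hw1
    · rfl
    · exact absurd (congrArg Subtype.val e).symm (hcon k k.2)
    · exact absurd (congrArg Subtype.val e) (hne h)
    · exact absurd (congrArg Subtype.val e) (hcon h h.2)
    · have := orbit_inj reg hv1 (congrArg Subtype.val e)
      rw [this]
  have h1 := Nat.card_le_card_of_injective f hf
  have h2 : Nat.card (Option (Option H)) = Nat.card H + 2 := by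
    rw [Finite.card_option, Finite.card_option]
  omega

theorem card_ge [Finite V] {H : Subgroup (MulAut V)} (reg : ∀ h ∈ H, h ≠ 1 → ∀ v, h v = v → v = 1)
    {B : Subgroup V} (hB : ∀ h ∈ H, ∀ v ∈ B, h v ∈ B) {v : V} (hv : v ∈ B) (hv1 : v ≠ 1) :
    Nat.card H + 1 ≤ Nat.card B := by
  by_contra hlt
  -- otherwise one more element
  have : Finite H := Finite.of_injective _ (orbit_inj reg hv1)
  let f : Option H → B := fun x => match x with
    | none => 1
    | some h => ⟨(h : MulAut V) v, hB h h.2 v hv⟩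
  have hne : ∀ h : H, (h : MulAut V) v ≠ 1 := fun h e => hv1 (by
    have := congrArg (h : MulAut V).symm e
    rwa [map_one, MulEquiv.symm_apply_apply] at this)
  have hf : Function.Injective f := by
    intro x y e
    rcases x with - | h <;> rcases y with - | k
    · rfl
    · exact absurd (congrArg Subtype.val e).symm (hne k)
    · exact absurd (congrArg Subtype.val e) (hne h)
    · have := orbit_inj reg hv1 (congrArg Subtype.val e)
      rw [this]
  have h1 := Nat.card_le_card_of_injective f hf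
  rw [Finite.card_option] at h1
  omega

/-- two elements commuting with the abelian group `H` commute on an `H`-orbit -/
theorem comm_on {H : Subgroup (MulAut V)} (hc : ∀ h ∈ H, ∀ k ∈ H, h * k = k * h) {a b : MulAut V}
    (ha : ∀ h ∈ H, h * a = a * h) (hb : ∀ h ∈ H, h * b = b * h) {v : V} (h1 : ∃ h ∈ H, h v = a v)
    (h2 : ∃ h ∈ H, h v = b v) : a (b v) = b (a v) := by
  obtain ⟨h, hh, e1⟩ := h1
  obtain ⟨k, hk, e2⟩ := h2
  have c1 : k (a v) = a (k v) := DFunLike.congr_fun (ha k hk) v
  have c2 : h (b v) = b (h v) := DFunLike.congr_fun (hb h hh) v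
  have c3 : h (k v) = k (h v) := DFunLike.congr_fun (hc h hh k hk) v
  calc a (b v) = a (k v) := by rw [e2]
    _ = k (a v) := c1.symm
    _ = k (h v) := by rw [e1]
    _ = h (k v) := c3.symm
    _ = h (b v) := by rw [e2]
    _ = b (h v) := c2
    _ = b (a v) := by rw [e1]

theorem lemQ1 [Finite V] {q : ℕ} (hV : Nat.card V ≤ q) {a b : MulAut V} {H : Subgroup (MulAut V)}
    (hc : ∀ h ∈ H, ∀ k ∈ H, h * k = k * h) (ha : ∀ h ∈ H, h * a = a * h) (hb : ∀ h ∈ H, h * b = b * h)
    (hH : q ≤ Nat.card H + 1) (reg : ∀ h ∈ H, h ≠ 1 → ∀ v, h v = v → v = 1) : a * b = b * a := by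
  ext v
  change a (b v) = b (a v)
  by_cases hv : v = 1
  · rw [hv]; simp
  have hT : ∀ w : V, w ≠ 1 → ∃ h ∈ H, h v = w := fun w hw =>
    exists_of_card reg (B := ⊤) (fun _ _ _ _ => Subgroup.mem_top _) (by rw [Subgroup.card_top]; omega)
      (Subgroup.mem_top v) (Subgroup.mem_top w) hv hw
  have hne : ∀ f : MulAut V, f v ≠ 1 := fun f e => hv (by
    have := congrArg f.symm e
    rwa [map_one, MulEquiv.symm_apply_apply] at this)
  exact comm_on hc ha hb (hT _ (hne a)) (hT _ (hne b))

/-- **LEMMA Q** -/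
theorem lemQ2 [Finite V] {q : ℕ} (hV : Nat.card V = q * q) (hodd : Odd q) {a b z : MulAut V}
    {H : Subgroup (MulAut V)} (hz : z * z = 1) (hab : a * b = z * (b * a)) (hza : z * a = a * z)
    (hzb : z * b = b * z) (hc : ∀ h ∈ H, ∀ k ∈ H, h * k = k * h) (ha : ∀ h ∈ H, h * a = a * h)
    (hb : ∀ h ∈ H, h * b = b * h) (hH : Nat.card H + 1 = q) (reg : ∀ h ∈ H, h ≠ 1 → ∀ v, h v = v → v = 1) :
    z = 1 ∨ ∀ v, z v = v⁻¹ := by
  have hzz : ∀ v, z (z v) = v := fun v => DFunLike.congr_fun hz v
  have hze : z = a * b * (b * a)⁻¹ := by rw [hab]; group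
  have hzH : ∀ h ∈ H, h * z = z * h := by
    intro h hh
    have c1 : Commute h a := ha h hh
    have c2 : Commute h b := hb h hh
    rw [hze]
    exact ((c1.mul_right c2).mul_right (c2.mul_right c1).inv_right).eq
  let A : Subgroup V :=
    { carrier := {v | z v = v}
      mul_mem' := fun {v w} hv hw => by
        change z v = v at hv
        change z w = w at hw
        change z (v * w) = v * w
        rw [map_mul, hv, hw]
      one_mem' := map_one z
      inv_mem' := fun {v} hv => by
        change z v = v at hv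
        change z v⁻¹ = v⁻¹
        rw [map_inv, hv] }
  let B : Subgroup V :=
    { carrier := {v | z v = v⁻¹}
      mul_mem' := fun {v w} hv hw => by
        change z v = v⁻¹ at hv
        change z w = w⁻¹ at hw
        change z (v * w) = (v * w)⁻¹
        rw [map_mul, hv, hw, mul_inv]
      one_mem' := by change z 1 = 1⁻¹; rw [map_one, inv_one]
      inv_mem' := fun {v} hv => by
        change z v = v⁻¹ at hv
        change z v⁻¹ = v⁻¹⁻¹
        rw [map_inv, hv] }
  have hA : ∀ v, v ∈ A ↔ z v = v := fun v => Iff.rfl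
  have hB : ∀ v, v ∈ B ↔ z v = v⁻¹ := fun v => Iff.rfl
  have hAH : ∀ h ∈ H, ∀ v ∈ A, h v ∈ A := by
    intro h hh v hv
    rw [hA] at hv ⊢
    have := DFunLike.congr_fun (hzH h hh) v
    change h (z v) = z (h v) at this
    rw [← this, hv]
  have hBH : ∀ h ∈ H, ∀ v ∈ B, h v ∈ B := by
    intro h hh v hv
    rw [hB] at hv ⊢
    have := DFunLike.congr_fun (hzH h hh) v
    change h (z v) = z (h v) at this
    rw [← this, hv, map_inv]
  -- odd order
  have hsq : ∀ v : V, v * v = 1 → v = 1 := by
    intro v hv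
    have h1 : orderOf v ∣ 2 := orderOf_dvd_of_pow_eq_one (by rw [pow_two]; exact hv)
    have h2 : orderOf v ∣ q * q := by rw [← hV]; exact orderOf_dvd_natCard v
    have h3 : Nat.Coprime 2 (q * q) := (Nat.coprime_two_left.2 (hodd.mul hodd))
    exact orderOf_eq_one_iff.1 (Nat.eq_one_of_dvd_coprimes h3 h1 h2)
  by_cases hB1 : ∀ v ∈ B, v = 1
  · left
    ext v
    change z v = v
    have h1 : z v * v⁻¹ ∈ B := by
      rw [hB, map_mul, map_inv, hzz, mul_inv, inv_inv]
      exact mul_comm _ _
    exact mul_inv_eq_one.1 (hB1 _ h1)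
  by_cases hA1 : ∀ v ∈ A, v = 1
  · right
    intro v
    have h1 : z v * v ∈ A := by
      rw [hA, map_mul, hzz]
      exact mul_comm _ _
    exact mul_eq_one_iff_eq_inv.1 (hA1 _ h1)
  exfalso
  push Not at hA1 hB1
  obtain ⟨u, hu, hu1⟩ := hA1
  obtain ⟨v, hv, hv1⟩ := hB1
  have cA := card_ge reg hAH hu hu1
  have cB := card_ge reg hBH hv hv1
  -- `|A| |B| ≤ |V|`
  have hle : Nat.card A * Nat.card B ≤ Nat.card V := by
    rw [← Nat.card_prod]
    refine Nat.card_le_card_of_injective (fun x : A × B => (x.1 : V) * x.2) ?_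
    rintro ⟨a1, b1⟩ ⟨a2, b2⟩ e
    change (a1 : V) * b1 = a2 * b2 at e
    have e1 : (a2 : V)⁻¹ * a1 = b2 * (b1 : V)⁻¹ := by
      rw [inv_mul_eq_iff_eq_mul, ← mul_assoc, ← e, mul_inv_cancel_right]
    have e2 : (a2 : V)⁻¹ * a1 ∈ A := A.mul_mem (A.inv_mem a2.2) a1.2
    have e3 : (a2 : V)⁻¹ * a1 ∈ B := by rw [e1]; exact B.mul_mem b2.2 (B.inv_mem b1.2)
    have e4 : (a2 : V)⁻¹ * a1 = 1 := by
      rw [hA] at e2
      rw [hB, e2] at e3
      exact hsq _ (by rw [mul_eq_one_iff_eq_inv]; exact e3)
    have e5 : (a1 : V) = a2 := (inv_mul_eq_one.1 e4).symm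
    rw [e5] at e
    have e6 : (b1 : V) = b2 := mul_left_cancel e
    exact Prod.ext (Subtype.ext e5) (Subtype.ext e6)
  have hq0 : 0 < q := hodd.pos
  have cB' : Nat.card B ≤ Nat.card H + 1 := by
    rw [hH]
    rw [hH] at cA
    by_contra hlt
    have h1 : q * q < Nat.card A * Nat.card B := by nlinarith
    omega
  -- `a v`, `b v ∈ B`
  have haB : ∀ w ∈ B, a w ∈ B := by
    intro w hw
    rw [hB] at hw ⊢
    have := DFunLike.congr_fun hza w
    change z (a w) = a (z w) at this
    rw [this, hw, map_inv]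
  have hbB : ∀ w ∈ B, b w ∈ B := by
    intro w hw
    rw [hB] at hw ⊢
    have := DFunLike.congr_fun hzb w
    change z (b w) = b (z w) at this
    rw [this, hw, map_inv]
  have hne : ∀ f : MulAut V, f v ≠ 1 := fun f e => hv1 (by
    have := congrArg f.symm e
    rwa [map_one, MulEquiv.symm_apply_apply] at this)
  have h1 := comm_on hc ha hb (exists_of_card reg hBH cB' hv (haB v hv) hv1 (hne a))
    (exists_of_card reg hBH cB' hv (hbB v hv) hv1 (hne b))
  have h2 : a (b v) = z (b (a v)) := DFunLike.congr_fun hab v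
  have h3 : b (a v) ∈ B := hbB _ (haB v hv)
  rw [hB] at h3
  rw [h1, h3] at h2
  have h4 : b (a v) = 1 := hsq _ (by rw [mul_eq_one_iff_eq_inv]; exact h2)
  apply hv1
  have h5 := congrArg b.symm h4
  rw [map_one, MulEquiv.symm_apply_apply] at h5
  have h6 := congrArg a.symm h5
  rwa [map_one, MulEquiv.symm_apply_apply] at h6

end pure

end Cfsg.Agent.Cit.Nil.LO
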