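import Cfsg.Agent.Cit.Nil.LO.Exc
import Cfsg.Agent.Cit.Nil.LO.KLChartQ

/-!
# (n1), piece (E), for nil families of generalised quaternion groups of any order (helper818)

`Main.lean` (698) with `NQ Om` (`Hyp Om`, all members are 2-groups) instead of `WR Om`: needed for (CV).

* `excOutQ` : `G₂(q)`, `³D₄(q)`; `trich_q` : (KL) for `F*(G)` simple;
* `false_of_lie_q`, `false_of_core_q`, `core_eq_bot_q`.
-/

set_option autoImplicit false
set_option linter.dupNamespace false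

open Subgroup Cfsg
open Cfsg.Agent.OddHalf.NI (LieBig)
open Cfsg.Agent.OddHalf.NI.FTwo (SL)
open Cfsg.Agent.UGT.Iface (IsL2)
open Cfsg.Agent.LOC.ChartDefs (MaxF Out QK)

namespace Cfsg.Agent.Cit.Nil.LO

universe u

open RG

section exc

variable {H : Type u} [Group H] [Finite H] {L : Subgroup H} {F : Type} [Field F] [Fintype F] {t : H}
  {J : Subgroup H}

/-- `G₂(q)`, `³D₄(q)` -/
theorem excOutQ (f : Front L F t J) (hL : L.Normal) {p : ℕ} (hp : p.Prime) (hp2 : p ≠ 2) (iso : IsG2D4 p ↥L)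
    {Om : Set (Subgroup H)} (w : NQ Om) {z u : H} {K K' : Subgroup H} (hK : K ∈ Ov Om z) (hK' : K' ∈ Ov Om u)
    (hne : z ≠ u) (hc : ∀ a ∈ K, ∀ b ∈ K', a * b = b * a) :
    (∀ l ∈ L, z * l = l * z) ∨ (∀ l ∈ L, u * l = l * u) ∨ ∀ l ∈ L, z * u * l = l * (z * u) := by
  have hz : z ∈ RG.ZZ Om := ⟨K, hK⟩
  have hu : u ∈ RG.ZZ Om := ⟨K', hK'⟩
  obtain ⟨-, S, hzS, huS⟩ := exists_sylow_q w hK hK' hne hc
  have hS : IsPGroup 2 (S : Subgroup H) := S.isPGroup'
  obtain ⟨P, hP⟩ : ∃ P, P ∈ OmS (cls J) (S : Subgroup H) := by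
    by_contra hcon
    push Not at hcon
    exact not_comm_all f.hyp S (self_mem_cls J) fun P' hP' => absurd hP' (hcon P')
  have inn := (HexBase.facts_of_iso HexFactBMain.h4_all HexFactBMain.h5_all (X := ↥L) ⟨p, hp, hp2, iso⟩
    (mem_of_front f hP.1)).1.inn
  set v : ↥L := ⟨zz P, f.le P hP.1 (f.hyp.zz_mem hP.1)⟩ with hv
  have key : ∀ x : H, x * x = 1 → (∀ a ∈ P, x * a = a * x) →
      (MulAut.conjNormal x : MulAut ↥L) = 1 ∨ (MulAut.conjNormal x : MulAut ↥L) = MulAut.conj v := by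
    intro x hx hxP
    refine inn _ (by rw [← map_mul, hx, map_one]) fun y hy => ?_
    apply Subtype.ext
    rw [MulAut.conjNormal_apply]
    have h1 : x * (y : H) = y * x := hxP _ hy
    rw [h1, mul_inv_cancel_right]
  have back : ∀ x : H, (MulAut.conjNormal x : MulAut ↥L) = 1 → ∀ l ∈ L, x * l = l * x := by
    intro x hx l hl
    have h1 := congrArg Subtype.val (DFunLike.congr_fun hx (⟨l, hl⟩ : ↥L))
    rw [MulAut.conjNormal_apply, MulAut.one_apply] at h1
    have h2 : x * l * x⁻¹ = l := h1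
    rwa [mul_inv_eq_iff_eq_mul] at h2
  have hPz : ∀ a ∈ P, z * a = a * z := fun a ha =>
    slq_centralizer w f.hyp f.sls hz hS hzS hP z (WR.le_RR hK (w.Ov_mem hK)) a ha
  have hPu : ∀ a ∈ P, u * a = a * u := fun a ha =>
    slq_centralizer w f.hyp f.sls hu hS huS hP u (WR.le_RR hK' (w.Ov_mem hK')) a ha
  rcases key z (w.zz_sq hz) hPz with h1 | h1
  · exact Or.inl (back z h1)
  rcases key u (w.zz_sq hu) hPu with h2 | h2
  · exact Or.inr (Or.inl (back u h2))
  refine Or.inr (Or.inr (back (z * u) ?_))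
  have hvv : v * v = 1 := Subtype.ext (f.hyp.zz_mul hP.1)
  rw [map_mul, h1, h2, ← map_mul, hvv, map_one]

end exc

section main

variable {G : Type u} [Group G] [Finite G]

/-- **(KL) for groups with `F*(G)` simple.** -/
theorem trich_q (hT : TStmt.{u}) (hC : ChartOut.{u}) {L : Subgroup G} (hL : L.Normal)
    (hs : IsSimpleGroup ↥L) (hna : ¬ IsMulCommutative ↥L) (hCL : centralizer (L : Set G) = ⊥)
    {Om : Set (Subgroup G)} (w : NQ Om) {z u : G} {K K' : Subgroup G} (hK : K ∈ Ov Om z) (hK' : K' ∈ Ov Om u)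
    (hne : z ≠ u) (hc : ∀ a ∈ K, ∀ b ∈ K', a * b = b * a)
    (hLie : ∃ p : ℕ, p.Prime ∧ p ≠ 2 ∧ IsLieTypeChar p ↥L) {v : G} (hv : v * v = 1)
    (hO : OO (centralizer ({v} : Set G)) ≠ ⊥) :
    (∀ l ∈ L, z * l = l * z) ∨ (∀ l ∈ L, u * l = l * u) ∨ ∀ l ∈ L, z * u * l = l * (z * u) := by
  obtain ⟨K₁, h1, q1⟩ := exists_qk w hK
  obtain ⟨K₁', h1', q1'⟩ := exists_qk w hK'
  obtain ⟨a, ha, b, hb, hq⟩ := exists_qp q1
  obtain ⟨a', ha', b', hb', hq'⟩ := exists_qp q1'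
  have mem : ∀ x : G, x ∈ centralizer (L : Set G) → ∀ l ∈ L, x * l = l * x :=
    fun x hx l hl => (mem_centralizer_iff.1 hx l hl).symm
  by_cases hL2 : IsL2 ↥L
  · obtain ⟨F, i1, i2, ho, -, ⟨e⟩⟩ := hL2
    by_cases h2 : z ∈ centralizer (L : Set G)
    · exact Or.inl (mem z h2)
    by_cases h3 : u ∈ centralizer (L : Set G)
    · exact Or.inr (Or.inl (mem u h3))
    exact Or.inr (Or.inr (mem _ (psl_mem ho hL e hq hq' (hc a (h1 ha) a' (h1' ha')) (hc a (h1 ha) b' (h1' hb'))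
      (hc b (h1 hb) a' (h1' ha')) (hc b (h1 hb) b' (h1' hb')) h2 h3)))
  by_cases hRee : Lie.IsoRee ↥L
  · exact Or.inl (mem z (ree_mem hL hRee hq))
  obtain ⟨F, i1, i2, t, J, f⟩ := exists_front_of_core hT hL hs hna hCL hv hO hLie hL2 hRee
  refine f.elim ?_ ?_
  · intro p c τ hτ ok small hch sl zx
    exact kl_chart_q f hL c (hC G L F t J f hL hs hna p c τ hτ ok
      (fun h => OddHalf.Known.isLieTypeChar_congr (quoEquiv hs hna) (small h)) hch sl zx) w hK hK' hne hc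
  · intro p hp hp2 iso zzc three
    exact excOutQ f hL hp hp2 (isG2D4_simple hs hna iso) w hK hK' hne hc

/-- **(n1), the Lie type case.** -/
theorem false_of_lie_q (hT : TStmt.{u}) (hC : ChartOut.{u}) {L : Subgroup G} (hL : L.Normal)
    (hs : IsSimpleGroup ↥L) (hna : ¬ IsMulCommutative ↥L) (hCL : centralizer (L : Set G) = ⊥)
    {Om : Set (Subgroup G)} (w : NQ Om) {z u : G} {K K' : Subgroup G} (hK : K ∈ Ov Om z) (hK' : K' ∈ Ov Om u)
    (hne : z ≠ u) (hc : ∀ a ∈ K, ∀ b ∈ K', a * b = b * a)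
    (hLie : ∃ p : ℕ, p.Prime ∧ p ≠ 2 ∧ IsLieTypeChar p ↥L) {v : G} (hv : v * v = 1)
    (hO : OO (centralizer ({v} : Set G)) ≠ ⊥) : False := by
  have one : ∀ x : G, (∀ l ∈ L, x * l = l * x) → x = 1 := by
    intro x hx
    have h1 : x ∈ centralizer (L : Set G) := mem_centralizer_iff.2 fun l hl => (hx l hl).symm
    rwa [hCL, mem_bot] at h1
  have hz : z ∈ RG.ZZ Om := ⟨K, hK⟩
  have hu : u ∈ RG.ZZ Om := ⟨K', hK'⟩
  rcases trich_q hT hC hL hs hna hCL w hK hK' hne hc hLie hv hO with h | h | h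
  · exact w.zz_ne hz (one z h)
  · exact w.zz_ne hu (one u h)
  · apply hne
    calc z = z * u * u := by rw [mul_assoc, w.zz_sq hu, mul_one]
      _ = u := by rw [one _ h, one_mul]

/-- **(n1).** Two commuting members over different involutions: all `O(C(v))`, `v` an involution, are trivial. -/
theorem core_eq_bot_q (hT : TStmt.{u}) (hC : ChartOut.{u}) (fs : AssemblyNil.FS G) (h1311 : AssemblyNil.St1311 G)
    (hU : ((∃ n : ℕ, Odd n ∧ 7 ≤ n ∧ Nonempty (↥(generalizedFittingSubgroup G) ≃* ↥(alternatingGroup (Fin n)))) ∨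
      (∃ (F : Type) (_ : Field F) (_ : Fintype F), Fintype.card F = 4 ∧
        Nonempty (↥(generalizedFittingSubgroup G) ≃* Matrix.ProjectiveSpecialLinearGroup (Fin 3) F)) ∨
      Cfsg.Spor.IsoHe ↥(generalizedFittingSubgroup G)) → False)
    {Om : Set (Subgroup G)} (w : NQ Om) {K K' : Subgroup G} (hK : K ∈ Om) (hK' : K' ∈ Om)
    (hne : zz K ≠ zz K') (hc : ∀ a ∈ K, ∀ b ∈ K', a * b = b * a) :
    ∀ v : G, orderOf v = 2 → centralizerPPrimeCore 2 v = ⊥ := by
  intro v hv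
  by_contra hO
  rcases h1311 v hv hO with h | h
  · exact false_of_lie_q hT hC (Lib.GenFitting.genFitting_normal (G := G)) fs.simple fs.na
      (End.centralizer_fstar fs.simple fs.na) w (z := zz K) (u := zz K') ⟨hK, rfl⟩ ⟨hK', rfl⟩ hne hc h
      (by rw [← pow_two, ← hv]; exact pow_orderOf_eq_one v) hO
  · exact hU h

end main

end Cfsg.Agent.Cit.Nil.LO
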