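import Cfsg.Agent.Cit.Nil.LO.Main
import Cfsg.Agent.Cit.CoreTwoNeFull
import Cfsg.Agent.Cit.CoreOneFull
import Cfsg.Agent.Cit.FrameGood

/-!
# Lie odd sections: charts of rank one (S1309, (n1), piece (C), type `C 1` = `SU₃(q)`)

In a chart of rank one no two members commute, so `|Om(S)| = 1` in `L`; by the identification of the simple groups
with `|Om(S)| = 1` (`IdentStmt`, `FactA`, `FactB`) an involutory automorphism of `L` which centralises a member `K` is
trivial or induced by `zz K`.

* `one_of_card_one` : `One (restr (cls J) L)`; `fact_of_card_one` : `LFact`;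
* `out_of_card_one` : `Out c.cls R` for `|c.I| = 1`.
-/

set_option autoImplicit false
set_option linter.dupNamespace false

open Subgroup Cfsg
open Cfsg.Agent.LOC.ChartDefs (MaxF Out QK Triv)
open Cfsg.Agent.OddHalf.NI.FTwo (SL)

namespace Cfsg.Agent.Cit.Nil.LO.TypeC1

universe u

open Nodes.Chart

/-- no commuting members in a chart of rank one -/
theorem false_of_cm {H : Type*} [Group H] {Om : Set (Subgroup H)} {p : ℕ} {L : Subgroup H} (c : Chart Om p L)
    (h1 : Fintype.card c.I = 1) {A B : Subgroup H} (hA : A ∈ Om) (hB : B ∈ Om) (hAL : A ≤ L) (hBL : B ≤ L)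
    (hc : ∀ a ∈ A, ∀ b ∈ B, a * b = b * a) : False := by
  obtain ⟨d, -, s, hs, -, ho⟩ := FrameGood.frame c (κ := Fin 2) ![A, B]
    (by intro j; fin_cases j; exacts [hA, hB]) (by intro j; fin_cases j; exacts [hAL, hBL])
    (by
      intro i j hij
      fin_cases i <;> fin_cases j
      · exact absurd rfl hij
      · exact hc
      · exact fun b hb a ha => (hc a ha b hb).symm
      · exact absurd rfl hij)
  obtain ⟨i₀, j₀, hne⟩ := FrameGood.exists_ne_of_orth c (c.cls.root _ (hs 0)) (c.cls.root _ (hs 1))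
    (ho 0 1 (by decide))
  exact hne (Fintype.card_le_one_iff.1 h1.le i₀ j₀)

section

variable {H : Type u} [Group H] [Finite H] {L : Subgroup H} {F : Type} [Field F] [Fintype F] {t : H}
  {J : Subgroup H} {p : ℕ}

/-- `|Om(S)| = 1` in `L` -/
theorem one_of_card_one (f : Front L F t J) (c : Chart (cls J) p L) (h1 : Fintype.card c.I = 1) :
    One (restr (cls J) L) where
  hyp := f.hyp.restr L
  one := by
    intro S hS K hK K' hK'
    rw [mem_OmS_restr] at hK hK'
    by_contra hne
    have hne' : K.map L.subtype ≠ K'.map L.subtype := fun h => hne (by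
      rw [Subgroup.map_injective L.subtype_injective h])
    exact false_of_cm c h1 hK.1 hK'.1 (map_subtype_le _) (map_subtype_le _)
      (sl_comm f.hyp f.sls (hS.map _) hK hK' hne')

/-- the facts on the automorphisms of `L` -/
theorem fact_of_card_one (hI : CoreOne.IdentStmt.{u}) (f : Front L F t J) (hs : IsSimpleGroup ↥L)
    (c : Chart (cls J) p L) (h1 : Fintype.card c.I = 1) :
    ∀ K ∈ restr (cls J) L, TwoB.LFact ↥L K (zz K) := by
  have hone := one_of_card_one f c h1
  have hT : ∀ K ∈ restr (cls J) L, Ty K := Ty.restr f.ty L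
  have hO : ∀ K ∈ restr (cls J) L, OO K = ⊥ := by
    intro K hK
    have h2 : SL F ↥(K.map L.subtype) := f.sl_mem hK
    exact oo_of_sl (h2.congr (K.equivMapOfInjective _ L.subtype_injective).symm)
  have hne : (restr (cls J) L).Nonempty := ⟨_, subgroupOf_mem_restr (self_mem_cls J) f.J_le⟩
  obtain ⟨S⟩ : Nonempty (Sylow 2 ↥L) := inferInstance
  obtain ⟨K, hK⟩ := id hne
  have hid := hI ↥L _ hone hne hT S (CoreOne.sylow_type hone hne (fun K hK => (hT K hK).isType.tyTwo)
    (CoreOneFull.s1173Stmt ↥L (CoreOne.oddCore_eq_bot (CoreOne.two_dvd_card hone.hyp hK))) S)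
  intro M hM
  rcases hid with h | h | h | h
  · exact (CoreTwoNe.factA ↥L _ hone hT hO (Or.inl h) M hM).1
  · exact (CoreTwoNe.factA ↥L _ hone hT hO (Or.inr (Or.inl h)) M hM).1
  · exact (CoreTwoNe.factA ↥L _ hone hT hO (Or.inr (Or.inr h)) M hM).1
  · exact (HexFactBMain.factB ↥L _ hone hT hO h M hM).1

/-- **charts of rank one** -/
theorem out_of_card_one (hI : CoreOne.IdentStmt.{u}) (f : Front L F t J) (hL : L.Normal) (hs : IsSimpleGroup ↥L)
    (c : Chart (cls J) p L) (h1 : Fintype.card c.I = 1) {R : Set (c.I → ℤ)} (hM : MaxF c.cls R) :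
    Out c.cls R := by
  obtain ⟨x, hx⟩ := c.Rne
  obtain ⟨r, hr, -⟩ := hM.max x hx
  have hrR := hM.sub r hr
  have hrR' := hM.neg r hr
  set N : Subgroup H := c.Z r ⊔ c.Z (-r) with hN
  have hNO : N ∈ cls J := c.om r hrR
  have hNL : N ≤ L := f.le N hNO
  have hf := fact_of_card_one hI f hs c h1 _ (subgroupOf_mem_restr hNO hNL)
  set z0 := zz (N.subgroupOf L) with hz0
  -- the action of `e`
  have key : ∀ (K : Subgroup H) (e : H), QK K e → Cfsg.Agent.LOC.ChartDefs.Cen c.cls R K → ¬ Triv c.cls e →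
      ∀ l : L, e * l * e⁻¹ = z0 * l * z0⁻¹ := by
    intro K e hK hc hnt
    have hcN : ∀ a ∈ N, e * a = a * e := by
      have h2 : N ≤ centralizer {e} := by
        refine sup_le ?_ ?_
        · exact fun a ha => mem_centralizer_singleton_iff.2 (hc.comm r hr a ha e hK.mem).symm
        · exact fun a ha => mem_centralizer_singleton_iff.2 (hc.comm _ hrR' a ha e hK.mem).symm
      exact fun a ha => (mem_centralizer_singleton_iff.1 (h2 ha)).symm
    have := hL
    rcases hf.inn (MulAut.conjNormal e) (by rw [← map_mul, hK.sq, map_one]) (fun a ha => by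
      apply Subtype.ext
      rw [MulAut.conjNormal_apply, hcN a ha]
      group) with h2 | h2
    · exfalso
      apply hnt
      intro l hl
      have hlL : l ∈ L := by rw [← c.gen]; exact hl
      have h3 := congrArg (fun φ : MulAut L => ((φ ⟨l, hlL⟩ : L) : H)) h2
      simp only [MulAut.conjNormal_apply, MulAut.one_apply] at h3
      exact mul_inv_eq_iff_eq_mul.1 h3
    · intro l
      have h3 := congrArg (fun φ : MulAut L => ((φ l : L) : H)) h2
      simp only [MulAut.conjNormal_apply, MulAut.conj_apply] at h3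
      rw [h3]
      rfl
  intro K K' e e' hK hK' hc hc' hnt hnt' l hl
  have hlL : l ∈ L := by rw [← c.gen]; exact hl
  have hz0z : z0 * z0 = 1 := hf.sq
  have h2 := key K' e' hK' hc' hnt' ⟨l, hlL⟩
  have h3 := key K e hK hc hnt (z0 * ⟨l, hlL⟩ * z0⁻¹)
  have h4 : e * e' * l * (e * e')⁻¹ = l := by
    calc e * e' * l * (e * e')⁻¹ = e * (e' * l * e'⁻¹) * e⁻¹ := by group
      _ = e * ((z0 * ⟨l, hlL⟩ * z0⁻¹ : L) : H) * e⁻¹ := by rw [h2]; rfl
      _ = _ := by
        rw [h3]
        have h5 : z0 * (z0 * (⟨l, hlL⟩ : L) * z0⁻¹) * z0⁻¹ = ⟨l, hlL⟩ := by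
          calc z0 * (z0 * (⟨l, hlL⟩ : L) * z0⁻¹) * z0⁻¹ = (z0 * z0) * ⟨l, hlL⟩ * (z0 * z0)⁻¹ := by group
            _ = _ := by rw [hz0z]; group
        have h6 := congrArg (Subtype.val) h5
        exact h6
  exact mul_inv_eq_iff_eq_mul.1 h4

end

end Cfsg.Agent.Cit.Nil.LO.TypeC1
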