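import Cfsg.Agent.Cit.Nil.LO.MainQ
import Cfsg.Agent.Cit.Nil.LO.OutTwoAll
import Cfsg.Agent.Cit.Nil.LO.TypeC1

/-!
# (n1), piece (E), for two commuting members over the same involution (helper818)

As `MainQ.lean`, but `zz K = zz K'`.

* `slMain2`, `psl_mem2` : `L₂(q)`; `excOutQ2` : `G₂(q)`, `³D₄(q)`; `out2_of_card_one` : charts of rank one;
* `ChartOut2` : **SOCKET** (piece (C) for `Out2`); `kl_chart_q2`; `triv_q`, `false_of_lie_q2`;
* `false_of_lie_orth` : members over arbitrary involutions.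
-/

set_option autoImplicit false
set_option linter.dupNamespace false

open Subgroup Cfsg
open Cfsg.Agent.OddHalf.NI (LieBig)
open Cfsg.Agent.OddHalf.NI.FTwo (SL)
open Cfsg.Agent.UGT.Iface (IsL2)
open Cfsg.Agent.LOC.ChartDefs (Out QK Triv)
open Cfsg.Agent.LOC.OutTwo (Out2 inn_pair frame2)

namespace Cfsg.Agent.Cit.Nil.LO

universe u

open RG
open Cfsg.Agent.Lib.SL2Mat (conjGL)
open Cfsg.Agent.LFourA.FieldInv (conjGL_smul gl_det_ne)

/-! ### `L₂(q)` -/

section psl

section gl

variable {F : Type*} [Field F]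

/-- commuting elements of `PGL(2,F)` with the same square, an involution, are equal or inverse -/
theorem glMain2 (h2 : (2 : F) ≠ 0) {g g' : GL (Fin 2) F} (hc : conjGL g * conjGL g' = conjGL g' * conjGL g)
    (h1 : conjGL (g * g) ≠ 1) (h4 : conjGL (g * g) * conjGL (g * g) = 1)
    (he : conjGL (g * g) = conjGL (g' * g')) : conjGL g' = conjGL g ∨ conjGL g' = (conjGL g)⁻¹ := by
  have hn : ¬ ∃ d : F, (g * g).1 = d • (1 : Matrix (Fin 2) (Fin 2) F) := fun h => h1 (conjGL_eq_one_iff.2 h)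
  have h4' := h4
  rw [← map_mul, conjGL_eq_one_iff] at h4'
  obtain ⟨c, hc4⟩ := h4'
  rw [Units.val_mul] at hc4
  have ht := trace_zero hc4 hn
  -- `g'²` is a multiple of `g²`
  have hpr : ∃ d : F, (g' * g').1 = d • (g * g).1 := by
    have h3 : conjGL (g' * g' * (g * g)⁻¹) = 1 := by
      rw [map_mul, map_inv, he, mul_inv_cancel]
    obtain ⟨d, hd⟩ := conjGL_eq_one_iff.1 h3
    refine ⟨d, ?_⟩
    have h5 : (g' * g' * (g * g)⁻¹).1 * (g * g).1 = (g' * g').1 := by
      rw [← Units.val_mul, inv_mul_cancel_right]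
    rw [hd, Matrix.smul_mul, Matrix.one_mul] at h5
    exact h5.symm
  obtain ⟨d, hd⟩ := hpr
  have hd0 : d ≠ 0 := by
    rintro rfl
    rw [zero_smul] at hd
    have h5 := gl_det_ne (g' * g')
    rw [hd, Matrix.det_zero] at h5
    exact h5 rfl
  have hcom' : g'.1 * (g * g).1 = (g * g).1 * g'.1 := by
    have h3 : g'.1 * (g' * g').1 = (g' * g').1 * g'.1 := by
      rw [Units.val_mul, Matrix.mul_assoc]
    rw [hd, Matrix.mul_smul, Matrix.smul_mul] at h3
    exact smul_right_injective _ hd0 h3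
  have hcomg : g.1 * (g * g).1 = (g * g).1 * g.1 := by
    rw [Units.val_mul, Matrix.mul_assoc]
  have hPN : (g * g').1 * (g * g).1 = (g * g).1 * (g * g').1 := by
    rw [Units.val_mul g g', Matrix.mul_assoc, hcom', ← Matrix.mul_assoc, hcomg, Matrix.mul_assoc]
  have hP1 : conjGL (g * g' * (g * g')) = 1 := by
    rw [map_mul, map_mul]
    calc conjGL g * conjGL g' * (conjGL g * conjGL g') = conjGL g * (conjGL g' * conjGL g) * conjGL g' := by group
      _ = conjGL (g * g) * conjGL (g' * g') := by rw [← hc, map_mul, map_mul]; group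
      _ = 1 := by rw [← he, h4]
  obtain ⟨k, hk⟩ := conjGL_eq_one_iff.1 hP1
  by_cases hs : ∃ d : F, (g * g').1 = d • (1 : Matrix (Fin 2) (Fin 2) F)
  · right
    have h5 := conjGL_eq_one_iff.2 hs
    rw [map_mul] at h5
    exact eq_inv_of_mul_eq_one_right h5
  · left
    rw [Units.val_mul (g * g')] at hk
    have hP := trace_zero hk hs
    obtain ⟨v, hv⟩ := prop_of_comm h2 ht hP (by
      intro h0
      apply hn
      exact ⟨0, by rw [h0, zero_smul]⟩) hPN.symm
    have h5 : conjGL (g * g') = conjGL (g * g) := MulEquiv.ext fun x => conjGL_smul hv x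
    rw [map_mul, map_mul] at h5
    exact mul_left_cancel h5

end gl

variable {F : Type*} [Field F] [Fintype F]

/-- **no two commuting quaternion groups of automorphisms of `SL(2,F)` with the same involution** -/
theorem slMain2 (hF : Odd (Fintype.card F)) {z a b a' b' : MulAut (Matrix.SpecialLinearGroup (Fin 2) F)} (h : QP z a b) (h' : QP z a' b')
    (haa : a * a' = a' * a) (hab : a * b' = b' * a) (hba : b * a' = a' * b) (hbb : b * b' = b' * b) : z = 1 := by
  by_contra hz
  have h2 : (2 : F) ≠ 0 := TwoFusion.QuatCoverSL.two_ne_zero_of_odd hF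
  obtain ⟨g, hg, hgz⟩ := exists_root h
  obtain ⟨g', hg', hgz'⟩ := exists_root h'
  have c1 : ∀ x : MulAut (Matrix.SpecialLinearGroup (Fin 2) F), x * a' = a' * x → x * b' = b' * x → x * conjGL g' = conjGL g' * x := by
    intro x hx hx'
    rcases hg' with h1 | h1 | h1 <;> rw [h1]
    · exact hx
    · exact hx'
    · rw [← mul_assoc, hx, mul_assoc, hx', mul_assoc]
  have c2 : conjGL g * conjGL g' = conjGL g' * conjGL g := by
    apply c1
    · rcases hg with h1 | h1 | h1 <;> rw [h1]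
      · exact haa
      · exact hba
      · rw [mul_assoc, hba, ← mul_assoc, haa, mul_assoc]
    · rcases hg with h1 | h1 | h1 <;> rw [h1]
      · exact hab
      · exact hbb
      · rw [mul_assoc, hbb, ← mul_assoc, hab, mul_assoc]
  have e1 : conjGL (g * g) = z := by rw [map_mul, hgz]
  have e2 : conjGL (g' * g') = z := by rw [map_mul, hgz']
  have key := glMain2 h2 c2 (by rw [e1]; exact hz) (by rw [e1]; exact h.zz) (by rw [e1, e2])
  have ca : a * conjGL g = conjGL g * a := by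
    have h3 := c1 a haa hab
    rcases key with h5 | h5 <;> rw [h5] at h3
    · exact h3
    · calc a * conjGL g = conjGL g * ((conjGL g)⁻¹ * a) * conjGL g := by group
        _ = conjGL g * (a * (conjGL g)⁻¹) * conjGL g := by rw [h3]
        _ = conjGL g * a := by group
  have cb : b * conjGL g = conjGL g * b := by
    have h3 := c1 b hba hbb
    rcases key with h5 | h5 <;> rw [h5] at h3
    · exact h3
    · calc b * conjGL g = conjGL g * ((conjGL g)⁻¹ * b) * conjGL g := by group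
        _ = conjGL g * (b * (conjGL g)⁻¹) * conjGL g := by rw [h3]
        _ = conjGL g * b := by group
  have cc : b * a = a * b := by
    rcases hg with h1 | h1 | h1
    · rw [h1] at cb; exact cb
    · rw [h1] at ca; exact ca.symm
    · rw [h1] at ca
      have h5 : a * (a * b) = a * (b * a) := by rw [ca]; group
      exact (mul_left_cancel h5).symm
  apply hz
  have h5 := h.ba
  rw [cc, mul_inv_cancel_right] at h5
  rw [← h.aa]
  exact mul_eq_one_iff_eq_inv.2 h5

theorem pslMain2 (hF : Odd (Fintype.card F)) {z a b a' b' : MulAut (Matrix.ProjectiveSpecialLinearGroup (Fin 2) F)}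
    (h : QP z a b) (h' : QP z a' b') (haa : a * a' = a' * a) (hab : a * b' = b' * a) (hba : b * a' = a' * b)
    (hbb : b * b' = b' * b) : z = 1 := by
  obtain ⟨f, hf⟩ := exists_lift_psl hF
  apply hf
  rw [map_one]
  refine slMain2 hF (h.map f) (h'.map f) ?_ ?_ ?_ ?_
  · rw [← map_mul, haa, map_mul]
  · rw [← map_mul, hab, map_mul]
  · rw [← map_mul, hba, map_mul]
  · rw [← map_mul, hbb, map_mul]

/-- **`L₂(q)`** : two commuting quaternion groups with the same involution `z`: `z` centralises `L` -/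
theorem psl_mem2 {H : Type*} [Group H] {L : Subgroup H} {z a b a' b' : H} (hF : Odd (Fintype.card F)) (hN : L.Normal)
    (e : L ≃* Matrix.ProjectiveSpecialLinearGroup (Fin 2) F)
    (h : QP z a b) (h' : QP z a' b') (haa : a * a' = a' * a) (hab : a * b' = b' * a) (hba : b * a' = a' * b)
    (hbb : b * b' = b' * b) : z ∈ centralizer (L : Set H) := by
  by_contra hz
  let f : MulAut L →* MulAut (Matrix.ProjectiveSpecialLinearGroup (Fin 2) F) := (MulAut.congr e).toMonoidHom
  have hf : Function.Injective f := (MulAut.congr e).injective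
  let φ : H →* MulAut (Matrix.ProjectiveSpecialLinearGroup (Fin 2) F) := f.comp MulAut.conjNormal
  refine conj_ne_one f hf hz (pslMain2 hF (h.map φ) (h'.map φ) ?_ ?_ ?_ ?_)
  · rw [← map_mul, haa, map_mul]
  · rw [← map_mul, hab, map_mul]
  · rw [← map_mul, hba, map_mul]
  · rw [← map_mul, hbb, map_mul]

end psl

/-! ### The involutions centralising a member act as `1` or `zz` -/

section inn

variable {H : Type*} [Group H] {L : Subgroup H}

theorem cent_of_aut (hL : L.Normal) {x : H} (hx : (MulAut.conjNormal x : MulAut ↥L) = 1) : ∀ l ∈ L, x * l = l * x := by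
  intro l hl
  have h1 := congrArg Subtype.val (DFunLike.congr_fun hx (⟨l, hl⟩ : ↥L))
  rw [MulAut.conjNormal_apply, MulAut.one_apply] at h1
  have h2 : x * l * x⁻¹ = l := h1
  rwa [mul_inv_eq_iff_eq_mul] at h2

end inn

section exc

variable {H : Type u} [Group H] [Finite H] {L : Subgroup H} {F : Type} [Field F] [Fintype F] {t : H}
  {J : Subgroup H}

/-- a Sylow 2-subgroup containing `E_z` -/
theorem exists_sylow_RR {Om : Set (Subgroup H)} (w : NQ Om) (z : H) :
    ∃ S : Sylow 2 H, RR Om z ≤ (S : Subgroup H) := w.RR_two.exists_le_sylow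

/-- `G₂(q)`, `³D₄(q)` -/
theorem excOutQ2 (f : Front L F t J) (hL : L.Normal) {p : ℕ} (hp : p.Prime) (hp2 : p ≠ 2) (iso : IsG2D4 p ↥L)
    {Om : Set (Subgroup H)} (w : NQ Om) {z : H} {K K' : Subgroup H} (hK : K ∈ Ov Om z) (hK' : K' ∈ Ov Om z)
    (hc : ∀ a ∈ K, ∀ b ∈ K', a * b = b * a) : ∀ l ∈ L, z * l = l * z := by
  have hz : z ∈ RG.ZZ Om := ⟨K, hK⟩
  obtain ⟨S, hzS⟩ := exists_sylow_RR w z
  have hS : IsPGroup 2 (S : Subgroup H) := S.isPGroup'
  obtain ⟨P, hP⟩ : ∃ P, P ∈ OmS (cls J) (S : Subgroup H) := by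
    by_contra hcon
    push Not at hcon
    exact not_comm_all f.hyp S (self_mem_cls J) fun P' hP' => absurd hP' (hcon P')
  have inn := (HexBase.facts_of_iso HexFactBMain.h4_all HexFactBMain.h5_all (X := ↥L) ⟨p, hp, hp2, iso⟩
    (mem_of_front f hP.1)).1.inn
  set v : ↥L := ⟨zz P, f.le P hP.1 (f.hyp.zz_mem hP.1)⟩ with hv
  have key : ∀ x : H, x * x = 1 → (∀ a ∈ P, x * a = a * x) →
      (MulAut.conjNormal x : MulAut ↥L) = 1 ∨ (MulAut.conjNormal x : MulAut ↥L) = MulAut.conjNormal (zz P) := by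
    intro x hx hxP
    rcases inn (MulAut.conjNormal x) (by rw [← map_mul, hx, map_one]) (fun y hy => by
      apply Subtype.ext
      rw [MulAut.conjNormal_apply]
      have h1 : x * (y : H) = y * x := hxP _ hy
      rw [h1, mul_inv_cancel_right]) with h | h
    · exact Or.inl h
    · right
      rw [h]
      refine MulEquiv.ext fun y => Subtype.ext ?_
      rw [MulAut.conjNormal_apply, MulAut.conj_apply]
      rfl
  obtain ⟨K₁, h1, q1⟩ := exists_qk w hK
  obtain ⟨K₁', h1', q1'⟩ := exists_qk w hK'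
  refine cent_of_aut hL (inn_pair (MulAut.conjNormal (H := L)) (f.hyp.zz_mem hP.1) key q1 q1'
    (fun a ha b hb => hc a (h1 ha) b (h1' hb)) (fun k hk a ha => ?_) (fun k hk a ha => ?_))
  · exact slq_centralizer w f.hyp f.sls hz hS hzS hP k (WR.le_RR hK (h1 hk)) a ha
  · exact slq_centralizer w f.hyp f.sls hz hS hzS hP k (WR.le_RR hK' (h1' hk)) a ha

/-- **charts of rank one** -/
theorem out2_of_card_one (hI : CoreOne.IdentStmt.{u}) (f : Front L F t J) (hL : L.Normal) (hs : IsSimpleGroup ↥L)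
    {p : ℕ} (c : Nodes.Chart.Chart (cls J) p L) (h1 : Fintype.card c.I = 1) {R : Set (c.I → ℤ)}
    (hM : LOC.ChartDefs.MaxF c.cls R) : Out2 c.cls R := by
  obtain ⟨x, hx⟩ := c.Rne
  obtain ⟨r, hr, -⟩ := hM.max x hx
  have hrR := hM.sub r hr
  have hrR' := hM.neg r hr
  set N : Subgroup H := c.Z r ⊔ c.Z (-r) with hN
  have hNO : N ∈ cls J := c.om r hrR
  have hNL : N ≤ L := f.le N hNO
  have hmem := subgroupOf_mem_restr hNO hNL
  have hf := TypeC1.fact_of_card_one hI f hs c h1 _ hmem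
  have hz0 : ((zz (N.subgroupOf L) : ↥L) : H) ∈ N := (f.hyp.restr L).zz_mem hmem
  have cent : ∀ (K : Subgroup H), Cfsg.Agent.LOC.ChartDefs.Cen c.cls R K → ∀ k ∈ K, ∀ a ∈ N, k * a = a * k := by
    intro K hc k hk a ha
    have h2 : N ≤ centralizer {k} := by
      refine sup_le ?_ ?_
      · exact fun a ha => mem_centralizer_singleton_iff.2 (hc.comm r hr a ha k hk).symm
      · exact fun a ha => mem_centralizer_singleton_iff.2 (hc.comm _ hrR' a ha k hk).symm
    exact (mem_centralizer_singleton_iff.1 (h2 ha)).symm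
  intro K K' e hK hK' hc hc' hKK l hl
  have hlL : l ∈ L := by rw [← c.gen]; exact hl
  refine cent_of_aut hL (inn_pair (MulAut.conjNormal (H := L)) hz0 (fun x hx hxN => ?_) hK hK' hKK
    (cent K hc) (cent K' hc')) l hlL
  rcases hf.inn (MulAut.conjNormal x) (by rw [← map_mul, hx, map_one]) (fun a ha => by
      apply Subtype.ext
      rw [MulAut.conjNormal_apply, hxN a ha]
      group) with h2 | h2
  · exact Or.inl h2
  · right
    rw [h2]
    refine MulEquiv.ext fun y => Subtype.ext ?_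
    rw [MulAut.conjNormal_apply, MulAut.conj_apply]
    rfl

end exc

/-! ### (KL), same involution -/

section chart

variable {H : Type*} [Group H] [Finite H]

/-- **(KL), chart case**, two members over the same involution -/
theorem kl_chart_q2 {L : Subgroup H} {F : Type} [Field F] [Fintype F] {t : H} {J : Subgroup H} (f : Front L F t J)
    (hL : L.Normal) {p : ℕ} (C : Nodes.Chart.Chart (cls J) p L) (hout : ∀ R, LOC.ChartDefs.MaxF C.cls R → Out2 C.cls R)
    {Om : Set (Subgroup H)} (w : NQ Om) {z : H} {K K' : Subgroup H} (hK : K ∈ Ov Om z) (hK' : K' ∈ Ov Om z)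
    (hc : ∀ a ∈ K, ∀ b ∈ K', a * b = b * a) : ∀ l ∈ L, z * l = l * z := by
  have hz : z ∈ RG.ZZ Om := ⟨K, hK⟩
  obtain ⟨S, hzS⟩ := exists_sylow_RR w z
  have hS : IsPGroup 2 (S : Subgroup H) := S.isPGroup'
  have hn : ∀ g : H, g ∈ normalizer (L : Set H) := fun g => by
    rw [normalizer_eq_top_iff.2 hL]; exact mem_top g
  obtain ⟨K₁, h1, q1⟩ := exists_qk w hK
  obtain ⟨K₁', h1', q1'⟩ := exists_qk w hK'
  refine frame2 C f.hyp.conj hout (κ := {P // P ∈ OmS (cls J) (S : Subgroup H)}) (fun P => P.1)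
    (fun P => P.2.1) (fun P => f.le _ P.2.1) (fun P P' hPP => ?_) (fun P hP _ hcon => ?_) q1 q1'
    (fun a ha b hb => hc a (h1 ha) b (h1' hb))
    (fun k _ => hn k) (fun k _ => hn k) (fun P a ha k hk => ?_) (fun P a ha k hk => ?_)
  · exact sl_comm f.hyp f.sls hS P.2 P'.2 fun h => hPP (Subtype.ext h)
  · exact not_comm_all f.hyp S hP fun P' hP' => hcon ⟨P', hP'⟩
  · exact slq_centralizer w f.hyp f.sls hz hS hzS P.2 k (WR.le_RR hK (h1 hk)) a ha
  · exact slq_centralizer w f.hyp f.sls hz hS hzS P.2 k (WR.le_RR hK' (h1' hk)) a ha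

end chart

/-- **SOCKET**: the output `Out2` for all maximal frames of the charts of `L` -/
def ChartOut2 : Prop :=
  ∀ (H : Type u) [Group H] [Finite H] (L : Subgroup H) (F : Type) [Field F] [Fintype F] (t : H) (J : Subgroup H),
    Front L F t J → L.Normal → IsSimpleGroup ↥L → ¬ IsMulCommutative ↥L →
    ∀ (p : ℕ) (c : Nodes.Chart.Chart (cls J) p L) (τ : Nodes.Chart.Ty), c.IsTy τ → KindOk τ →
      (Fintype.card c.I ≤ 2 → IsLieTypeChar p ↥L) → CharP F p →
      (∀ r ∈ c.R, Nonempty (Matrix.SpecialLinearGroup (Fin 2) F ≃* ↥(c.Z r ⊔ c.Z (-r)))) →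
      ((∀ r ∈ c.R, c.Z r = c.X r) ∨ ∃ n, τ = .C n) → ∀ R, LOC.ChartDefs.MaxF c.cls R → Out2 c.cls R

section main

variable {G : Type u} [Group G] [Finite G]

/-- **(KL) for groups with `F*(G)` simple**, same involution -/
theorem triv_q2 (hT : TStmt.{u}) (hC : ChartOut2.{u}) {L : Subgroup G} (hL : L.Normal)
    (hs : IsSimpleGroup ↥L) (hna : ¬ IsMulCommutative ↥L) (hCL : centralizer (L : Set G) = ⊥)
    {Om : Set (Subgroup G)} (w : NQ Om) {z : G} {K K' : Subgroup G} (hK : K ∈ Ov Om z) (hK' : K' ∈ Ov Om z)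
    (hc : ∀ a ∈ K, ∀ b ∈ K', a * b = b * a)
    (hLie : ∃ p : ℕ, p.Prime ∧ p ≠ 2 ∧ IsLieTypeChar p ↥L) {v : G} (hv : v * v = 1)
    (hO : OO (centralizer ({v} : Set G)) ≠ ⊥) : ∀ l ∈ L, z * l = l * z := by
  obtain ⟨K₁, h1, q1⟩ := exists_qk w hK
  obtain ⟨K₁', h1', q1'⟩ := exists_qk w hK'
  obtain ⟨a, ha, b, hb, hq⟩ := exists_qp q1
  obtain ⟨a', ha', b', hb', hq'⟩ := exists_qp q1'
  have mem : ∀ x : G, x ∈ centralizer (L : Set G) → ∀ l ∈ L, x * l = l * x :=
    fun x hx l hl => (mem_centralizer_iff.1 hx l hl).symm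
  by_cases hL2 : IsL2 ↥L
  · obtain ⟨F, i1, i2, ho, -, ⟨e⟩⟩ := hL2
    exact mem _ (psl_mem2 ho hL e hq hq' (hc a (h1 ha) a' (h1' ha')) (hc a (h1 ha) b' (h1' hb'))
      (hc b (h1 hb) a' (h1' ha')) (hc b (h1 hb) b' (h1' hb')))
  by_cases hRee : Lie.IsoRee ↥L
  · exact mem z (ree_mem hL hRee hq)
  obtain ⟨F, i1, i2, t, J, f⟩ := exists_front_of_core hT hL hs hna hCL hv hO hLie hL2 hRee
  refine f.elim ?_ ?_
  · intro p c τ hτ ok small hch sl zx
    exact kl_chart_q2 f hL c (hC G L F t J f hL hs hna p c τ hτ ok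
      (fun h => OddHalf.Known.isLieTypeChar_congr (quoEquiv hs hna) (small h)) hch sl zx) w hK hK' hc
  · intro p hp hp2 iso zzc three
    exact excOutQ2 f hL hp hp2 (isG2D4_simple hs hna iso) w hK hK' hc

/-- **(n1), the Lie type case**, orthogonal members over arbitrary involutions -/
theorem false_of_lie_orth (hT : TStmt.{u}) (hC : ChartOut.{u}) (hC2 : ChartOut2.{u}) {L : Subgroup G} (hL : L.Normal)
    (hs : IsSimpleGroup ↥L) (hna : ¬ IsMulCommutative ↥L) (hCL : centralizer (L : Set G) = ⊥)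
    {Om : Set (Subgroup G)} (w : NQ Om) {K K' : Subgroup G} (hK : K ∈ Om) (hK' : K' ∈ Om)
    (hc : ∀ a ∈ K, ∀ b ∈ K', a * b = b * a)
    (hLie : ∃ p : ℕ, p.Prime ∧ p ≠ 2 ∧ IsLieTypeChar p ↥L) {v : G} (hv : v * v = 1)
    (hO : OO (centralizer ({v} : Set G)) ≠ ⊥) : False := by
  by_cases hne : zz K = zz K'
  · have h1 := triv_q2 hT hC2 hL hs hna hCL w (z := zz K) ⟨hK, rfl⟩ ⟨hK', hne.symm⟩ hc hLie hv hO
    have h2 : zz K ∈ centralizer (L : Set G) := mem_centralizer_iff.2 fun l hl => (h1 l hl).symm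
    rw [hCL, mem_bot] at h2
    exact w.hyp.zz_ne hK h2
  · exact false_of_lie_q hT hC hL hs hna hCL w (z := zz K) (u := zz K') ⟨hK, rfl⟩ ⟨hK', rfl⟩ hne hc hLie hv hO

end main

end Cfsg.Agent.Cit.Nil.LO
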