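import Mathlib
import Cfsg.Agent.Cit.Nil.LO.SevCn
import Cfsg.Agent.Cit.Nil.LO.OutTwo

/-!
# Lie odd sections, charts of type `C n`, `n ≥ 2`: two commuting `Q₈`'s with the same involution (S1309, (n8))

* `core_two` : two commuting isometries `a`, `a'` of `X q / Z q` with square `-1` which agree on a nontrivial element,
  an element commuting with `a` and inverting `a'`: impossible;
* `out2` : if `K`, `K'` are as in `Out`, commute and have the same involution `e` then `e` centralises `L`.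
-/

set_option autoImplicit false
set_option linter.unusedSectionVars false
set_option linter.dupNamespace false

namespace Cfsg.Agent.LOC.OutTwoCn

open CoxeterSystem Cfsg.Agent.ChevalleyStructure.CoxeterGeom Cfsg.Agent.Tits.Roots Cfsg.Agent.Tits.Core
  Cfsg.Agent.Tits.RootComb Cfsg.Agent.Nodes.Comb Cfsg.Agent.Nodes.SubComb Cfsg.Agent.Nodes.Reps
  Cfsg.Agent.Nodes.Coroot Cfsg.Agent.Nodes.PosPair Cfsg.Agent.Nodes.BNOf Cfsg.Agent.Nodes.RGDLib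
  Cfsg.Agent.Nodes.Chart Cfsg.Agent.Nodes.ClsNorm Cfsg.Agent.Nodes.ChartLoc Cfsg.Agent.Nodes.ChartFrame
  Cfsg.Agent.Nodes.Bruhat Cfsg.Agent.Nodes.CenVV Cfsg.Agent.LOC.ChartDefs Cfsg.Agent.LOC.LemS Cfsg.Agent.LOC.Wt
  Cfsg.Agent.LOC.ShortAll Cfsg.Agent.LOC.CnNd Cfsg.Agent.LOC.StdChart Cfsg.Agent.LOC.TypeCn Cfsg.Agent.LOC.SevCn
open scoped commutatorElement

section core

variable {I W Y : Type*} [Fintype I] [DecidableEq I] [Group W] [Fintype W] [Group Y] {M : CoxeterMatrix I}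
  {cs : CoxeterSystem M W} {A : I → I → ℤ} {h : IsCartan M A} {p : ℕ} {T : Subgroup Y} {n : I → Y}
  {X : (I → ℤ) → Subgroup Y} {R : Set (I → ℤ)} {Z : (I → ℤ) → Subgroup Y} {z : (I → ℤ) → Y}
  {r y : I → ℤ} [Finite Y] [Fact p.Prime]

/-- the properties of an isometry -/
structure Iso (X Z : (I → ℤ) → Subgroup Y) (r y : I → ℤ) (a : Y) : Prop where
  cy : ∀ u ∈ X y, a * u = u * a
  cw : ∀ u ∈ X (r - y), a * u = u * a
  nq : ∀ x ∈ X (r - (2 : ℤ) • y), a * x * a⁻¹ ∈ X (r - (2 : ℤ) • y)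
  nq' : ∀ x ∈ X (r - (2 : ℤ) • y), a⁻¹ * x * a ∈ X (r - (2 : ℤ) • y)
  nr : ∀ x ∈ X r, a * x * a⁻¹ ∈ X r
  nr' : ∀ x ∈ X r, a⁻¹ * x * a ∈ X r
  cZ : ∀ x ∈ Z (r - (2 : ℤ) • y), a * x = x * a

theorem Iso.inv {a : Y} (i : Iso X Z r y a) : Iso X Z r y a⁻¹ := by
  have key : ∀ {u : Y}, a * u = u * a → a⁻¹ * u = u * a⁻¹ := by
    intro u h0
    calc a⁻¹ * u = a⁻¹ * (u * a) * a⁻¹ := by group
      _ = a⁻¹ * (a * u) * a⁻¹ := by rw [h0]
      _ = _ := by group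
  exact ⟨fun u hu => key (i.cy u hu), fun u hu => key (i.cw u hu), fun x hx => by rw [inv_inv]; exact i.nq' x hx,
    fun x hx => by rw [inv_inv]; exact i.nq x hx, fun x hx => by rw [inv_inv]; exact i.nr' x hx,
    fun x hx => by rw [inv_inv]; exact i.nr x hx, fun x hx => key (i.cZ x hx)⟩

theorem core_two (P : Pl cs h R r y) (C : Cls cs h p T n X R Z z) (hp2 : p ≠ 2) (hexp : ∀ x ∈ Z r, x ^ p = 1)
    {e a a' b : Y} (i : Iso X Z r y a) (i' : Iso X Z r y a')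
    (heq : ∀ x ∈ X (r - (2 : ℤ) • y), e * x * e⁻¹ = z (r - (2 : ℤ) • y) * x * z (r - (2 : ℤ) • y))
    (haa : a' * a' = e) (hbq : ∀ x ∈ X (r - (2 : ℤ) • y), b * x * b⁻¹ ∈ X (r - (2 : ℤ) • y))
    (hbZ : ∀ x ∈ Z (r - (2 : ℤ) • y), b * x = x * b) (hba : b * a = a * b) (hba' : b * a' * b⁻¹ = a'⁻¹)
    {v w : Y} (hv : v ∈ X (r - (2 : ℤ) • y)) (hvZ : v ∉ Z (r - (2 : ℤ) • y)) (hw : w ∈ X (r - (2 : ℤ) • y))
    (hwZ : w ∉ Z (r - (2 : ℤ) • y)) (haw : (a * w * a⁻¹)⁻¹ * (a' * w * a'⁻¹) ∈ Z (r - (2 : ℤ) • y)) : False := by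
  obtain ⟨u, hu, hu1⟩ : ∃ u ∈ X y, u ≠ 1 := by
    by_contra hcon
    push Not at hcon
    exact Nodes.StdConn.X_ne_bot C P.root ((Subgroup.eq_bot_iff_forall _).2 hcon)
  obtain ⟨k, D, hk⟩ := exists_uk' P C hu hu1
  have hq := P.memq C
  have hle := C.le _ hq
  have hZc : ∀ n ∈ Z (r - (2 : ℤ) • y), ∀ x ∈ X (r - (2 : ℤ) • y), x * n = n * x := fun n hn x hx =>
    C.cent _ hq _ P.rootq (P.swap C).L.pos.le _ hx _ hn
  -- `(*)`
  have star : ∀ v ∈ X (r - (2 : ℤ) • y), a⁻¹ * v * a * (a'⁻¹ * v * a')⁻¹ ∈ Z (r - (2 : ℤ) • y) := by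
    intro v hv
    have hv1 := i.nq' v hv
    have hv2 := i'.nq' v hv
    have e1 := sg_cj P C D (i.cy u hu) i.cw i.nq i.nr hw hv1
    have e2 := sg_cj P C D (i'.cy u hu) i'.cw i'.nq i'.nr hw hv2
    have g1 : a * (a⁻¹ * v * a) * a⁻¹ = v := by group
    have g2 : a' * (a'⁻¹ * v * a') * a'⁻¹ = v := by group
    rw [g1] at e1
    rw [g2] at e2
    have e3 : a' * w * a'⁻¹ = (a * w * a⁻¹) * ((a * w * a⁻¹)⁻¹ * (a' * w * a'⁻¹)) := by group
    rw [e3, sg_left P C D (i.nq w hw) (hle haw) hv, sg_Zl P C D haw hv, mul_one, e1] at e2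
    have e4 : sg k w (a⁻¹ * v * a * (a'⁻¹ * v * a')⁻¹) = 1 := by
      have h1 := sg_right P C D (x := a⁻¹ * v * a * (a'⁻¹ * v * a')⁻¹) (x' := a'⁻¹ * v * a')
        (mul_mem hv1 (inv_mem hv2)) hv2 hw
      rw [inv_mul_cancel_right, e2] at h1
      exact right_eq_mul.1 h1
    exact (sg_one P C D hp2 hexp hk hw (mul_mem hv1 (inv_mem hv2)) e4).resolve_left hwZ
  have cb : ∀ x ∈ Z (r - (2 : ℤ) • y), b * x * b⁻¹ = x := fun x hx => by rw [hbZ x hx]; group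
  have ca : ∀ x ∈ Z (r - (2 : ℤ) • y), a' * x * a'⁻¹ = x := fun x hx => by rw [i'.cZ x hx]; group
  have hv' := hbq v hv
  set v' := b * v * b⁻¹ with hvd
  have hvZ' : v' ∉ Z (r - (2 : ℤ) • y) := by
    intro h0
    apply hvZ
    have h1 : b⁻¹ * v' * b = v' := by
      rw [mul_assoc, ← hbZ _ h0]; group
    have h2 : v = v' := by
      rw [← h1, hvd]; group
    rw [h2]; exact h0
  have s1 := star v' hv'
  have s2 : a⁻¹ * v' * a * (a' * v' * a'⁻¹)⁻¹ ∈ Z (r - (2 : ℤ) • y) := by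
    have h1 := star v hv
    have h2 := cb _ h1
    have h3 : b * (a⁻¹ * v * a * (a'⁻¹ * v * a')⁻¹) * b⁻¹ = a⁻¹ * v' * a * (a' * v' * a'⁻¹)⁻¹ := by
      have k1 : b * (a⁻¹ * v * a) * b⁻¹ = a⁻¹ * v' * a := by
        have k2 : b * a⁻¹ = a⁻¹ * b := by
          calc b * a⁻¹ = a⁻¹ * (a * b) * a⁻¹ := by group
            _ = a⁻¹ * (b * a) * a⁻¹ := by rw [hba]
            _ = _ := by group
        calc b * (a⁻¹ * v * a) * b⁻¹ = (b * a⁻¹) * v * (b * a⁻¹)⁻¹ := by group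
          _ = (a⁻¹ * b) * v * (a⁻¹ * b)⁻¹ := by rw [k2]
          _ = a⁻¹ * v' * a := by rw [hvd]; group
      have k3 : b * (a'⁻¹ * v * a') * b⁻¹ = a' * v' * a'⁻¹ := by
        calc b * (a'⁻¹ * v * a') * b⁻¹ = (b * a' * b⁻¹)⁻¹ * (b * v * b⁻¹) * (b * a' * b⁻¹) := by group
          _ = a' * v' * a'⁻¹ := by rw [hba', inv_inv]
      calc b * (a⁻¹ * v * a * (a'⁻¹ * v * a')⁻¹) * b⁻¹ =
          (b * (a⁻¹ * v * a) * b⁻¹) * (b * (a'⁻¹ * v * a') * b⁻¹)⁻¹ := by group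
        _ = _ := by rw [k1, k3]
    rw [← h3, h2]
    exact h1
  have s3 : a' * v' * a'⁻¹ * (a'⁻¹ * v' * a')⁻¹ ∈ Z (r - (2 : ℤ) • y) := by
    have h1 := mul_mem (inv_mem s2) s1
    have h2 : (a⁻¹ * v' * a * (a' * v' * a'⁻¹)⁻¹)⁻¹ * (a⁻¹ * v' * a * (a'⁻¹ * v' * a')⁻¹) =
        a' * v' * a'⁻¹ * (a'⁻¹ * v' * a')⁻¹ := by group
    rwa [h2] at h1
  have s4 : e * v' * e⁻¹ * v'⁻¹ ∈ Z (r - (2 : ℤ) • y) := by
    have h1 := ca _ s3
    have h2 : a' * (a' * v' * a'⁻¹ * (a'⁻¹ * v' * a')⁻¹) * a'⁻¹ = e * v' * e⁻¹ * v'⁻¹ := by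
      rw [← haa]; group
    rw [← h2, h1]
    exact s3
  rw [heq v' hv'] at s4
  have s5 := C.z_inv_self _ hq v' hv'
  set η := z (r - (2 : ℤ) • y) * v' * z (r - (2 : ℤ) • y) * v' with hη
  have s6 : z (r - (2 : ℤ) • y) * v' * z (r - (2 : ℤ) • y) = η * v'⁻¹ := by rw [hη]; group
  rw [s6] at s4
  have s7 : v' * v' ∈ Z (r - (2 : ℤ) • y) := by
    have h1 := mul_mem (inv_mem s4) s5
    have h0 : ∀ s t : Y, (s * t⁻¹ * t⁻¹)⁻¹ * s = t * t := by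
      intro s t
      rw [mul_inv_rev, mul_inv_rev, inv_inv, ← mul_assoc, inv_mul_cancel_right]
    have h2 : (η * v'⁻¹ * v'⁻¹)⁻¹ * η = v' * v' := h0 η v'
    rwa [h2] at h1
  apply hvZ'
  obtain ⟨m, hm⟩ := (C.rgd.pgrp' P.rootq) ⟨_, hv'⟩
  have hm' : v' ^ p ^ m = 1 := congrArg Subtype.val hm
  obtain ⟨l, hl⟩ : Odd (p ^ m) := ((Fact.out : p.Prime).odd_of_ne_two hp2).pow
  have h7 : (v' * v') ^ (l + 1) = v' := by
    rw [← pow_two, ← pow_mul]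
    have : 2 * (l + 1) = p ^ m + 1 := by omega
    rw [this, pow_succ, hm', one_mul]
  rw [← h7]
  exact pow_mem s7 _

/-- two commuting isometries with square `-1`, one commuting with `b`, the other inverted by `b` -/
theorem two_false (P : Pl cs h R r y) (C : Cls cs h p T n X R Z z) (hp2 : p ≠ 2) (hexp : ∀ x ∈ Z r, x ^ p = 1)
    {e a a' b : Y} (i : Iso X Z r y a) (i' : Iso X Z r y a')
    (heq : ∀ x ∈ X (r - (2 : ℤ) • y), e * x * e⁻¹ = z (r - (2 : ℤ) • y) * x * z (r - (2 : ℤ) • y))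
    (he2 : e * e = 1) (haa0 : a * a = e) (haa : a' * a' = e) (hcm : a * a' = a' * a)
    (hbq : ∀ x ∈ X (r - (2 : ℤ) • y), b * x * b⁻¹ ∈ X (r - (2 : ℤ) • y))
    (hbZ : ∀ x ∈ Z (r - (2 : ℤ) • y), b * x = x * b) (hba : b * a = a * b) (hba' : b * a' * b⁻¹ = a'⁻¹)
    (hne : ∃ t ∈ X (r - (2 : ℤ) • y), t ∉ Z (r - (2 : ℤ) • y)) : False := by
  obtain ⟨v, hv, hvZ⟩ := hne
  have hq := P.memq C
  have hle := C.le _ hq
  have hZc : ∀ n ∈ Z (r - (2 : ℤ) • y), ∀ x ∈ X (r - (2 : ℤ) • y), x * n = n * x := fun n hn x hx =>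
    C.cent _ hq _ P.rootq (P.swap C).L.pos.le _ hx _ hn
  have hcomm : ∀ x ∈ X (r - (2 : ℤ) • y), ∀ x' ∈ X (r - (2 : ℤ) • y), ⁅x, x'⁆ ∈ Z (r - (2 : ℤ) • y) :=
    fun x hx x' hx' => commutator_VV_le C hp2 hq (Subgroup.commutator_mem_commutator
      ((P.swap C).X_r_le hx) ((P.swap C).X_r_le hx'))
  -- `e` inverts modulo `Z q`
  have hinv : ∀ x ∈ X (r - (2 : ℤ) • y), e * x * e⁻¹ * x ∈ Z (r - (2 : ℤ) • y) := by
    intro x hx
    rw [heq x hx]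
    exact C.z_inv_self _ hq x hx
  have h1 := i.nq v hv
  have h2 := i'.nq v hv
  by_cases hw : (a * v * a⁻¹) * (a' * v * a'⁻¹) ∈ Z (r - (2 : ℤ) • y)
  · -- `a v a⁻¹ ≡ a'⁻¹ v a'`
    have haa' : a'⁻¹ * a'⁻¹ = e := by
      rw [← mul_inv_rev, haa, inv_eq_of_mul_eq_one_left he2]
    have hba'' : b * a'⁻¹ * b⁻¹ = a'⁻¹⁻¹ := by
      calc b * a'⁻¹ * b⁻¹ = (b * a' * b⁻¹)⁻¹ := by group
        _ = a'⁻¹⁻¹ := by rw [hba']
    refine core_two P C hp2 hexp i i'.inv heq haa' hbq hbZ hba hba'' hv hvZ hv hvZ ?_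
    rw [inv_inv]
    -- `a'⁻¹ v a' = e (a' v a'⁻¹) e⁻¹`
    have h3 : a'⁻¹ * v * a' = e * (a' * v * a'⁻¹) * e⁻¹ := by
      have h4 : a'⁻¹ = e * a' := by
        rw [inv_eq_iff_mul_eq_one, ← mul_assoc, ← haa]
        calc a' * (a' * a') * a' = (a' * a') * (a' * a') := by group
          _ = 1 := by rw [haa, he2]
      have h5 : e⁻¹ = e := inv_eq_of_mul_eq_one_left he2
      have h6 : e * a' = a' * e := by rw [← haa]; group
      calc a'⁻¹ * v * a' = a'⁻¹ * v * (a'⁻¹)⁻¹ := by group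
        _ = (e * a') * v * (e * a')⁻¹ := by rw [h4]
        _ = _ := by group
    have h4 := hinv _ h2
    rw [h3]
    have h5 : (a * v * a⁻¹)⁻¹ * (e * (a' * v * a'⁻¹) * e⁻¹) =
        (a * v * a⁻¹)⁻¹ * (e * (a' * v * a'⁻¹) * e⁻¹ * (a' * v * a'⁻¹)) * (a' * v * a'⁻¹)⁻¹ := by group
    rw [h5, hZc _ h4 _ (inv_mem h1), mul_assoc, ← mul_inv_rev]
    refine mul_mem h4 (inv_mem ?_)
    have h6 : a' * v * a'⁻¹ * (a * v * a⁻¹) = (a * v * a⁻¹ * (a' * v * a'⁻¹)) *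
        ⁅(a' * v * a'⁻¹)⁻¹, (a * v * a⁻¹)⁻¹⁆ := by
      rw [commutatorElement_def]; group
    rw [h6]
    exact mul_mem hw (hcomm _ (inv_mem h2) _ (inv_mem h1))
  · refine core_two P C hp2 hexp i i' heq haa hbq hbZ hba hba' hv hvZ (mul_mem h1 h2) hw ?_
    set t := a * (a' * v * a'⁻¹) * a⁻¹ with ht
    have htX : t ∈ X (r - (2 : ℤ) • y) := i.nq _ h2
    have e1 : a * ((a * v * a⁻¹) * (a' * v * a'⁻¹)) * a⁻¹ = (e * v * e⁻¹) * t := by
      rw [ht, ← haa0]; group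
    have e2 : a' * ((a * v * a⁻¹) * (a' * v * a'⁻¹)) * a'⁻¹ = t * (e * v * e⁻¹) := by
      have h3 : a' * (a * v * a⁻¹) * a'⁻¹ = t := by
        rw [ht]
        calc a' * (a * v * a⁻¹) * a'⁻¹ = (a' * a) * v * (a' * a)⁻¹ := by group
          _ = (a * a') * v * (a * a')⁻¹ := by rw [hcm]
          _ = _ := by group
      calc a' * ((a * v * a⁻¹) * (a' * v * a'⁻¹)) * a'⁻¹ =
          (a' * (a * v * a⁻¹) * a'⁻¹) * ((a' * a') * v * (a' * a')⁻¹) := by group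
        _ = t * (e * v * e⁻¹) := by rw [h3, haa]
    have heX : e * v * e⁻¹ ∈ X (r - (2 : ℤ) • y) := by
      have h3 := mul_mem (hle (hinv v hv)) (inv_mem hv)
      rwa [mul_inv_cancel_right] at h3
    rw [e1, e2]
    have h6 : ((e * v * e⁻¹) * t)⁻¹ * (t * (e * v * e⁻¹)) = ⁅t⁻¹, (e * v * e⁻¹)⁻¹⁆ := by
      rw [commutatorElement_def]; group
    rw [h6]
    exact hcomm _ (inv_mem htX) _ (inv_mem heX)

end core

section chart

variable {G : Type*} [Group G] {Om : Set (Subgroup G)} {p : ℕ} {L : Subgroup G} [Finite G]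

theorem AK.iso {c : Chart Om p L} {K : Subgroup G} {e : G} {r y : c.I → ℤ} {a b k : G} (H : AK c K e r y a b k) :
    Iso c.X c.Z r y a := ⟨H.cy, H.cw, H.nq, H.nq', H.nr, H.nr', H.cZ⟩

variable (c : Chart Om p L) {n : ℕ} (hn : 2 ≤ n) (hτ : c.IsTy (.C n)) {𝔽 : Type*} [Field 𝔽] [Fintype 𝔽]
  [CharP 𝔽 p] (sl : ∀ J ∈ Om, Nonempty (Matrix.SpecialLinearGroup (Fin 2) 𝔽 ≃* J))

include hn hτ sl

/-- **Two commuting `Q₈`'s with the same involution, type `C n`, `n ≥ 2`.** -/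
theorem out2 {F : Set (c.I → ℤ)} (hF : MaxF c.cls F) : OutTwo.Out2 c.cls F := by
  intro K K' e hK hK' hcen hcen' hcm
  by_contra hnt
  have : Fact p.Prime := ⟨c.prime⟩
  by_cases hXZ : ∀ r ∈ c.R, c.Z r = c.X r
  · exact hnt (triv_C_eq c hτ hXZ hF hK hcen)
  push Not at hXZ
  obtain ⟨r₀, hr₀, hne₀⟩ := hXZ
  have hne := ne_all c hr₀ hne₀
  have hexp := hexp_of c hn hτ sl
  obtain ⟨hsh, hlo⟩ := act_e c hn hτ hexp hne hF hK hcen hnt
  obtain ⟨y, hyR, P⟩ := exists_pl_of_isTy c hτ (Or.inl ⟨n, hn, rfl⟩) hr₀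
  obtain ⟨a, b, k, H⟩ := exists_a c hn hτ sl hne hF hK hcen hnt P hyR
  obtain ⟨a', b', k', H'⟩ := exists_a c hn hτ sl hne hF hK' hcen' hnt P hyR
  have hFR := F_eq_C c hτ hF
  have hq := P.memq c.cls
  -- `z r` commutes with `K`, `K'`
  have hz : ∀ (K : Subgroup G), Cen c.cls F K → ∀ k ∈ K, k * c.z r₀ = c.z r₀ * k := by
    intro K hc k hk
    have h3 : c.Z r₀ ⊔ c.Z (-r₀) ≤ Subgroup.centralizer {k} := by
      refine sup_le (fun a ha => ?_) (fun a ha => ?_)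
      · rw [Subgroup.mem_centralizer_singleton_iff]
        exact (hc.comm r₀ (by rw [hFR]; exact hr₀) a ha k hk).symm
      · rw [Subgroup.mem_centralizer_singleton_iff]
        exact (hc.comm (-r₀) (by rw [hFR]; exact neg_mem c.cls hr₀) a ha k hk).symm
    have h4 := h3 (c.cls.z_mem r₀ hr₀)
    rw [Subgroup.mem_centralizer_singleton_iff] at h4
    exact h4.symm
  have hzk := hz K hcen k H.hk
  have hzk' := hz K' hcen' k' H'.hk
  have hzb' := hz K' hcen' b' H'.hb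
  have hba : b' * a = a * b' := by
    have h1 := hcm k H.hk b' H'.hb
    rcases H.or with h2 | h2
    · rw [h2, h1]
    · rw [h2, ← mul_assoc, ← h1, mul_assoc, hzb', mul_assoc]
  have haa' : a * a' = a' * a := by
    have h1 := hcm k H.hk k' H'.hk
    have h2 : k * a' = a' * k := by
      rcases H'.or with h2 | h2
      · rw [h2, h1]
      · rw [h2, ← mul_assoc, h1, mul_assoc, hzk, mul_assoc]
    have h3 : c.z r₀ * a' = a' * c.z r₀ := by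
      rcases H'.or with h3 | h3
      · rw [h3, hzk']
      · rw [h3, ← mul_assoc, ← hzk']
    rcases H.or with h4 | h4
    · rw [h4, h2]
    · rw [h4, mul_assoc, h3, ← mul_assoc, h2, mul_assoc]
  refine two_false P c.cls c.odd (hexp r₀ hr₀) (AK.iso H) (AK.iso H') (hlo _ hq) hK.sq H.sq H'.sq haa'
    (fun x hx => nor_X c hn hτ sl hF hcen' hq H'.hb hx)
    (fun x hx => hcen'.comm _ (by rw [hFR]; exact hq) x hx b' H'.hb) hba H'.inv (hne _ hq)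

end chart

end Cfsg.Agent.LOC.OutTwoCn
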