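import Cfsg.Agent.Cit.Nil.LO.Cent
import Cfsg.Agent.Cit.CorTwo
import Cfsg.Agent.Cit.OneBasic
import Cfsg.Agent.S0205

/-!
# S1309 (n2), THREE PROPAGATION: the action on the components (helper822)

`Cps 𝓛 X` : `𝓛` is a set of quasisimple subgroups, pairwise commuting, permuted by `X`, `O(Z(⟨𝓛⟩)) = 1`
(the components of `X = C(a)`, `O(C(a)) = 1`).

* `Cps.norm` : (1) `w ∈ ZZ Om`, `K ≤ X` over `w`: `w` normalises the members of `𝓛`;
* `Cps.le_of_comm` : `w` centralises `L`, then `RR Om w` centralises `L`;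
* `Cps.center_comm` : (3'.0) `RR Om w` centralises `Z(⟨𝓛⟩)`;
* `Cps.exists_x` : (3'.1) a noncentral 2-element of the `E`-orbit of `L`, centralised by the involutions of `E`;
* `Cps.fix` : (3'.2) `c` normalises `L`.
-/

set_option autoImplicit false
set_option linter.style.haveILetI false
set_option linter.unusedSectionVars false

namespace Cfsg.Agent.Cit.Nil.LO

open Subgroup Cfsg Cit RG

variable {G : Type*} [Group G]

/-- see the head of the file -/
structure Cps (𝓛 : Set (Subgroup G)) (X : Subgroup G) : Prop where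
  qs : ∀ L ∈ 𝓛, IsQuasisimple L
  comm : ∀ L ∈ 𝓛, ∀ M ∈ 𝓛, L ≠ M → ∀ x ∈ L, ∀ y ∈ M, x * y = y * x
  conj : ∀ L ∈ 𝓛, ∀ g ∈ X, cj g L ∈ 𝓛
  odd : ∀ x ∈ SS 𝓛, (∀ y ∈ SS 𝓛, x * y = y * x) → Odd (orderOf x) → x = 1

/-! ### Tools -/

/-- a 2-group `Q` acting on a 2-group `A` modulo a subgroup `B ≠ A` -/
theorem exists_fix_mod [Finite G] {A B Q : Subgroup G} (hA : IsPGroup 2 A) (hQ : IsPGroup 2 Q) (hBA : B ≤ A)
    (hne : B ≠ A) (hQA : ∀ g ∈ Q, ∀ x ∈ A, g * x * g⁻¹ ∈ A) (hQB : ∀ g ∈ Q, ∀ x ∈ B, g * x * g⁻¹ ∈ B) :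
    ∃ x ∈ A, x ∉ B ∧ ∀ g ∈ Q, x⁻¹ * (g * x * g⁻¹) ∈ B := by
  classical
  haveI : Fact (Nat.Prime 2) := ⟨Nat.prime_two⟩
  let f : Q → A → A := fun g x => ⟨(g : G) * (x : G) * (g : G)⁻¹, hQA g g.2 x x.2⟩
  have hf : ∀ g : Q, ∀ x y : A, (QuotientGroup.leftRel (B.subgroupOf A)) x y →
      (QuotientGroup.leftRel (B.subgroupOf A)) (f g x) (f g y) := by
    intro g x y hxy
    rw [QuotientGroup.leftRel_apply] at hxy ⊢
    rw [mem_subgroupOf] at hxy ⊢
    have h1 := hQB g g.2 _ hxy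
    have h2 : ((g : G) * ((x⁻¹ * y : A) : G) * (g : G)⁻¹) = (((f g x)⁻¹ * f g y : A) : G) := by
      change (g : G) * ((x : G)⁻¹ * (y : G)) * (g : G)⁻¹ =
        ((g : G) * (x : G) * (g : G)⁻¹)⁻¹ * ((g : G) * (y : G) * (g : G)⁻¹)
      group
    rwa [h2] at h1
  letI : MulAction Q (A ⧸ B.subgroupOf A) :=
    { smul := fun g => Quotient.map' (f g) (hf g)
      one_smul := by
        intro a
        induction a using QuotientGroup.induction_on with
        | H x =>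
          change ((f 1 x : A) : A ⧸ B.subgroupOf A) = x
          congr 1
          exact Subtype.ext (by change (1 : G) * (x : G) * (1 : G)⁻¹ = x; group)
      mul_smul := by
        intro g h a
        induction a using QuotientGroup.induction_on with
        | H x =>
          change ((f (g * h) x : A) : A ⧸ B.subgroupOf A) = (f g (f h x) : A)
          congr 1
          exact Subtype.ext (by
            change ((g : G) * (h : G)) * (x : G) * ((g : G) * (h : G))⁻¹ =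
              (g : G) * ((h : G) * (x : G) * (h : G)⁻¹) * (g : G)⁻¹
            group) }
  have hdvd : 2 ∣ Nat.card (A ⧸ B.subgroupOf A) := by
    obtain ⟨n, hn⟩ := hA.index (B.subgroupOf A)
    have h1 : Nat.card (A ⧸ B.subgroupOf A) = 2 ^ n := hn
    rw [h1]
    rcases Nat.eq_zero_or_pos n with h0 | h0
    · exfalso
      rw [h0, pow_zero, index_eq_one, subgroupOf_eq_top] at hn
      exact hne (le_antisymm hBA hn)
    · exact dvd_pow_self 2 (by omega)
  have h1 : ((1 : A) : A ⧸ B.subgroupOf A) ∈ MulAction.fixedPoints Q (A ⧸ B.subgroupOf A) := by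
    intro g
    change ((f g 1 : A) : A ⧸ B.subgroupOf A) = (1 : A)
    congr 1
    exact Subtype.ext (by change (g : G) * 1 * (g : G)⁻¹ = 1; group)
  obtain ⟨b, hb, hne'⟩ := hQ.exists_fixed_point_of_prime_dvd_card_of_fixed_point _ hdvd h1
  induction b using QuotientGroup.induction_on with
  | H x =>
    refine ⟨x, x.2, fun hx => hne' ?_, fun g hg => ?_⟩
    · exact QuotientGroup.eq.2 (by rw [inv_one, one_mul, mem_subgroupOf]; exact hx)
    · have h2 := hb ⟨g, hg⟩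
      have h3 : ((f ⟨g, hg⟩ x : A) : A ⧸ B.subgroupOf A) = x := h2
      have h4 := QuotientGroup.eq.1 h3.symm
      rw [mem_subgroupOf] at h4
      exact h4

/-- commutators of `Q` centralise `x`, if `Q` acts on `x` modulo an abelian group centralised by `Q` -/
theorem fix_comm {x i j : G} {B Q : Subgroup G} (hB : ∀ g ∈ Q, ∀ b ∈ B, g * b = b * g)
    (hc : ∀ a ∈ B, ∀ b ∈ B, a * b = b * a) (hx : ∀ g ∈ Q, x⁻¹ * (g * x * g⁻¹) ∈ B) (hi : i ∈ Q) (hj : j ∈ Q) :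
    (i * j * i⁻¹ * j⁻¹) * x = x * (i * j * i⁻¹ * j⁻¹) := by
  set p := x⁻¹ * (i * x * i⁻¹) with hp
  set q := x⁻¹ * (j * x * j⁻¹) with hq
  have hpB : p ∈ B := hx i hi
  have hqB : q ∈ B := hx j hj
  have e1 : i * x = x * p * i := by rw [hp]; group
  have e2 : j * x = x * q * j := by rw [hq]; group
  have e3 : i * j * x = x * (p * q) * (i * j) := by
    calc i * j * x = i * (j * x) := by group
      _ = i * (x * q * j) := by rw [e2]
      _ = (i * x) * q * j := by group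
      _ = x * p * (i * q) * j := by rw [e1]; group
      _ = x * p * (q * i) * j := by rw [hB i hi q hqB]
      _ = _ := by group
  have e4 : j * i * x = x * (q * p) * (j * i) := by
    calc j * i * x = j * (i * x) := by group
      _ = j * (x * p * i) := by rw [e1]
      _ = (j * x) * p * i := by group
      _ = x * q * (j * p) * i := by rw [e2]; group
      _ = x * q * (p * j) * i := by rw [hB j hj p hpB]
      _ = _ := by group
  have e5 : i * j * i⁻¹ * j⁻¹ = (i * j) * (j * i)⁻¹ := by group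
  rw [e5]
  have hc1 : (j * i)⁻¹ * x = x * (q * p)⁻¹ * (j * i)⁻¹ := by
    have h1 : (j * i) * (x * (q * p)⁻¹) = x * (j * i) := by
      calc (j * i) * (x * (q * p)⁻¹) = (j * i * x) * (q * p)⁻¹ := by group
        _ = x * (q * p) * ((j * i) * (q * p)⁻¹) := by rw [e4]; group
        _ = x * (q * p) * ((q * p)⁻¹ * (j * i)) := by
            rw [hB (j * i) (mul_mem hj hi) _ (inv_mem (mul_mem hqB hpB))]
        _ = x * (j * i) := by group
    calc (j * i)⁻¹ * x = (j * i)⁻¹ * (x * (j * i)) * (j * i)⁻¹ := by group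
      _ = (j * i)⁻¹ * ((j * i) * (x * (q * p)⁻¹)) * (j * i)⁻¹ := by rw [h1]
      _ = _ := by group
  calc (i * j) * (j * i)⁻¹ * x = (i * j) * ((j * i)⁻¹ * x) := by group
    _ = (i * j) * (x * (q * p)⁻¹ * (j * i)⁻¹) := by rw [hc1]
    _ = (i * j * x) * (q * p)⁻¹ * (j * i)⁻¹ := by group
    _ = x * (p * q) * ((i * j) * (q * p)⁻¹) * (j * i)⁻¹ := by rw [e3]; group
    _ = x * (p * q) * ((q * p)⁻¹ * (i * j)) * (j * i)⁻¹ := by
        rw [hB (i * j) (mul_mem hi hj) _ (inv_mem (mul_mem hqB hpB))]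
    _ = x * (q * p) * ((q * p)⁻¹ * (i * j)) * (j * i)⁻¹ := by rw [hc p hpB q hqB]
    _ = x * ((i * j) * (j * i)⁻¹) := by group

/-- `z_K` is a commutator of elements of `K` -/
theorem exists_zz_comm {Om : Set (Subgroup G)} (h : WR Om) {K : Subgroup G} (hK : K ∈ Om) :
    ∃ i ∈ K, ∃ j ∈ K, zz K = i * j * i⁻¹ * j⁻¹ := by
  obtain ⟨a, ha, haa⟩ := h.exists_four hK
  obtain ⟨b, hb, hbb, h1, h2⟩ := h.exists_anti hK ha haa
  obtain ⟨h4, -⟩ := h.anti hK ha hb haa hbb h1 h2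
  refine ⟨b, hb, a, ha, ?_⟩
  calc zz K = zz K * (a * b) * (a * b)⁻¹ := by group
    _ = b * a * (a * b)⁻¹ := by rw [h4]
    _ = _ := by group

section odd

variable {Om : Set (Subgroup G)} {x g z : G}

/-- the commutators of `RR Om z` with elements of `C(z)` -/
theorem com_mem' (h : WR Om) (hx : x * z = z * x) (hg : g ∈ RR Om z) : x * (g * x⁻¹ * g⁻¹) ∈ RR Om z := by
  have h1 := mul_mem (h.RR_cj' hg hx) (inv_mem hg)
  have h2 : x * g * x⁻¹ * g⁻¹ = x * (g * x⁻¹ * g⁻¹) := by group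
  rwa [h2] at h1

theorem eq_one_of_odd' (h : WR Om) (hz : z ∈ ZZ Om) (hx : x ∈ RR Om z) (ho : Odd (orderOf x)) : x = 1 := by
  refine eq_one_of_two_odd (n := 2) ?_ ho
  rw [pow_succ, pow_one, pow_mul, pow_two, pow_two]
  rcases h.RR_sq hx with h1 | h1
  · rw [h1, one_mul]
  · rw [h1, h.zz_sq hz]

/-- an element `x` of odd order of `C(z)` commuting with `g x g⁻¹` is centralised by `g ∈ RR Om z` -/
theorem odd_fix' (h : WR Om) (hz : z ∈ ZZ Om) (hx : x * z = z * x) (hg : g ∈ RR Om z) (ho : Odd (orderOf x))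
    (hc : x * (g * x * g⁻¹) = (g * x * g⁻¹) * x) : g * x * g⁻¹ = x := by
  have h1 := com_mem' h hx hg
  have h2 : g * x⁻¹ * g⁻¹ = (g * x * g⁻¹)⁻¹ := by group
  rw [h2] at h1
  have h3 : x * (g * x * g⁻¹)⁻¹ = (g * x * g⁻¹)⁻¹ * x := (Commute.inv_right (show Commute _ _ from hc)).eq
  have h4 := eq_one_of_odd' h hz h1 (odd_mul h3 ho (by rw [orderOf_inv, orderOf_conj]; exact ho))
  exact (mul_inv_eq_one.1 h4).symm

end odd

namespace Cps

variable [Finite G] {Om 𝓛 : Set (Subgroup G)} {X L M K : Subgroup G} {w x y g c s a : G}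

section basic

variable (C : Cps 𝓛 X)

include C

/-- an element of `L` central in `L` is central in `⟨𝓛⟩` -/
theorem cen_all (hL : L ∈ 𝓛) (hx : x ∈ L) (hc : Cen L x) : ∀ y ∈ SS 𝓛, x * y = y * x := by
  intro y hy
  refine SS_comm (fun M hM k hk => ?_) hy
  by_cases h1 : M = L
  · rw [h1] at hk; exact hc k hk
  · exact C.comm L hL M hM (fun h => h1 h.symm) x hx k hk

theorem cen_odd (hL : L ∈ 𝓛) (hx : x ∈ L) (hc : Cen L x) (hxo : Odd (orderOf x)) : x = 1 :=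
  C.odd x (mem_SS_of hL hx) (C.cen_all hL hx hc) hxo

/-- there is a noncentral element of odd order -/
theorem exists_odd_nc (hL : L ∈ 𝓛) : ∃ j ∈ L, Odd (orderOf j) ∧ ¬ Cen L j := by
  rcases Nat.eq_two_pow_or_exists_odd_prime_and_dvd (Nat.card L) with ⟨k, hk⟩ | ⟨p, hp, hpd, hpo⟩
  · exfalso
    haveI : Fact (Nat.Prime 2) := ⟨Nat.prime_two⟩
    exact not_two (C.qs L hL) (IsPGroup.of_card hk)
  · haveI : Fact p.Prime := ⟨hp⟩
    obtain ⟨j, hj⟩ := exists_prime_orderOf_dvd_card' (G := L) p hpd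
    have h1 : orderOf (j : G) = p := by rw [Subgroup.orderOf_coe, hj]
    refine ⟨j, j.2, by rw [h1]; exact hpo, fun hc => ?_⟩
    have h2 := C.cen_odd hL j.2 hc (by rw [h1]; exact hpo)
    rw [h2, orderOf_one] at h1
    exact hp.one_lt.ne h1

/-- **(1)** : `w` normalises `L` -/
theorem norm (h : WR Om) (hK : K ∈ Ov Om w) (hKX : K ≤ X) (hL : L ∈ 𝓛) : cj w L = L := by
  by_contra hne
  have hw : w ∈ ZZ Om := WR.Ov_zz hK
  have hwX : w ∈ X := hKX (h.Ov_mem hK)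
  obtain ⟨g, hg, hgg⟩ := h.exists_four hK.1
  rw [hK.2] at hgg
  have hgR : g ∈ RR Om w := WR.le_RR hK hg
  have hgX : g ∈ X := hKX hg
  have hzg : g * w = w * g := (h.Ov_cen hK hg).symm
  have hww : w * w = 1 := h.zz_sq hw
  have hwi : w⁻¹ = w := h.zz_inv hw
  set J' := cj w L with hJ'
  have mJ' : J' ∈ 𝓛 := C.conj L hL w hwX
  have h1 : cj g L = L ∨ cj g L = J' := by
    by_contra hcon
    push Not at hcon
    obtain ⟨n1, n2⟩ := hcon
    have mg : cj g L ∈ 𝓛 := C.conj L hL g hgX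
    have mg' : cj g J' ∈ 𝓛 := C.conj J' mJ' g hgX
    have e1 : cj g J' = cj w (cj g L) := by rw [hJ', ← cj_mul, hzg, cj_mul]
    have n3 : cj g J' ≠ L := by
      intro h2
      apply n2
      rw [e1] at h2
      have h3 := congrArg (cj w⁻¹) h2
      rw [cj_inv_cj, hwi] at h3
      exact h3
    have n4 : cj g J' ≠ J' := by
      intro h2
      apply n1
      rw [e1, hJ', cj_inj] at h2
      exact h2
    obtain ⟨j, hj, hjo, hjn⟩ := C.exists_odd_nc hL
    set j' := w * j * w⁻¹ with hj'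
    have hjj' : j' ∈ J' := conj_mem_cj hj
    have hcjj : j * j' = j' * j := C.comm L hL J' mJ' (fun h => hne h.symm) j hj j' hjj'
    have hzj : w * j = j' * w := by rw [hj']; group
    have hzj' : w * j' = j * w := by
      calc w * j' = (w * w) * j * w⁻¹ := by rw [hj']; group
        _ = j * w := by rw [hww, one_mul, hwi]
    have hze : j * j' * w = w * (j * j') := by
      calc j * j' * w = j' * j * w := by rw [hcjj]
        _ = j' * (j * w) := by group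
        _ = j' * (w * j') := by rw [hzj']
        _ = (j' * w) * j' := by group
        _ = (w * j) * j' := by rw [hzj]
        _ = w * (j * j') := by group
    have heo : Odd (orderOf (j * j')) := odd_mul hcjj hjo (by rw [hj', orderOf_conj]; exact hjo)
    have hge : g * (j * j') * g⁻¹ = (g * j * g⁻¹) * (g * j' * g⁻¹) := by group
    -- everything commutes
    have k1 : g * j * g⁻¹ ∈ cj g L := conj_mem_cj hj
    have k2 : g * j' * g⁻¹ ∈ cj g J' := conj_mem_cj hjj'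
    have ca : ∀ a ∈ L, a * (g * (j * j') * g⁻¹) = (g * (j * j') * g⁻¹) * a := by
      intro a ha
      have h2 := C.comm L hL _ mg (fun h => n1 h.symm) a ha _ k1
      have h3 := C.comm L hL _ mg' (fun h => n3 h.symm) a ha _ k2
      rw [hge]
      exact (Commute.mul_right (show Commute _ _ from h2) (show Commute _ _ from h3)).eq
    have ca' : ∀ a ∈ J', a * (g * (j * j') * g⁻¹) = (g * (j * j') * g⁻¹) * a := by
      intro a ha
      have h2 := C.comm _ mJ' _ mg (fun h => n2 h.symm) a ha _ k1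
      have h3 := C.comm _ mJ' _ mg' (fun h => n4 h.symm) a ha _ k2
      rw [hge]
      exact (Commute.mul_right (show Commute _ _ from h2) (show Commute _ _ from h3)).eq
    have hcc : (j * j') * (g * (j * j') * g⁻¹) = (g * (j * j') * g⁻¹) * (j * j') :=
      (Commute.mul_left (show Commute _ _ from ca j hj) (show Commute _ _ from ca' j' hjj')).eq
    have hfix := odd_fix' h hw hze hgR heo hcc
    apply hjn
    intro y hy
    have h2 := ca y hy
    rw [hfix] at h2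
    have h3 : y * j' = j' * y := C.comm L hL _ mJ' (fun h => hne h.symm) y hy j' hjj'
    have h4 : (y * j) * j' = (j * y) * j' := by
      calc (y * j) * j' = y * (j * j') := by group
        _ = j * j' * y := h2
        _ = j * (j' * y) := by group
        _ = j * (y * j') := by rw [h3]
        _ = _ := by group
    exact (mul_right_cancel h4).symm
  rcases h1 with h1 | h1
  · apply hne
    rw [hJ', ← hgg, cj_mul, h1, h1]
  · rw [hJ', ← hgg, cj_mul, cj_inj] at h1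
    apply hne
    rw [hJ', ← hgg, cj_mul, ← h1, ← h1]

/-- `w` centralises `L`: then `RR Om w` centralises `L` -/
theorem le_of_comm (h : WR Om) (hw : w ∈ ZZ Om) (hR : RR Om w ≤ X) (hL : L ∈ 𝓛) (hc : Cen L w) :
    ∀ g ∈ RR Om w, Cen L g := by
  have h1 : ∀ g ∈ RR Om w, cj g L = L := by
    intro g hg
    by_contra hne
    obtain ⟨j, hj, hjo, hjn⟩ := C.exists_odd_nc hL
    have mg : cj g L ∈ 𝓛 := C.conj L hL g (hR hg)
    have k1 : g * j * g⁻¹ ∈ cj g L := conj_mem_cj hj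
    have h2 := odd_fix' h hw (hc j hj).symm hg hjo (C.comm L hL _ mg (fun h => hne h.symm) j hj _ k1)
    apply hjn
    intro y hy
    have h3 := C.comm L hL _ mg (fun h => hne h.symm) y hy _ k1
    rw [h2] at h3
    exact h3.symm
  -- `[L, E_w] ≤ L ∩ E_w`
  have h2 : ⁅L, RR Om w⁆ ≤ L ⊓ RR Om w := by
    rw [commutator_le]
    intro j hj g hg
    rw [commutatorElement_def]
    have e : j * g * j⁻¹ * g⁻¹ = j * (g * j⁻¹ * g⁻¹) := by group
    rw [e]
    refine ⟨mul_mem hj ?_, com_mem' h (hc j hj).symm hg⟩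
    rw [← h1 g hg]
    exact conj_mem_cj (inv_mem hj)
  have h3 : L ≤ normalizer ((L ⊓ RR Om w : Subgroup G) : Set G) := by
    intro j hj
    rw [mem_normalizer_iff_cj, cj_inf, mem_normalizer_iff_cj.1 (le_normalizer hj)]
    congr 1
    refine le_antisymm ?_ ?_
    · intro x hx
      rw [mem_cj] at hx
      have h4 := h.RR_cj' hx (hc j hj).symm
      have h5 : j * (j⁻¹ * x * j) * j⁻¹ = x := by group
      rwa [h5] at h4
    · intro x hx
      rw [mem_cj]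
      have h4 := h.RR_cj' hx (hc _ (inv_mem hj)).symm
      rwa [inv_inv] at h4
  have h4 : L ⊓ RR Om w ≤ centralizer (L : Set G) :=
    two_le (C.qs L hL) inf_le_left h3 ((h.RR_two hw).to_le inf_le_right)
  have h5 : ⁅⁅L, RR Om w⁆, L⁆ = ⊥ := commutator_eq_bot_iff_le_centralizer.2 (h2.trans h4)
  have h6 : ⁅⁅L, L⁆, RR Om w⁆ = ⊥ := by
    apply commutator_commutator_eq_bot_of_rotate
    · exact h5
    · rw [commutator_comm (RR Om w) L]; exact h5
  rw [eq_of_qs (C.qs L hL), commutator_eq_bot_iff_le_centralizer] at h6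
  intro g hg y hy
  exact mem_centralizer_iff.1 (h6 hy) g hg

/-- `⟨𝓛⟩` is invariant under `X` -/
theorem SS_cj (hg : g ∈ X) (hx : x ∈ SS 𝓛) : g * x * g⁻¹ ∈ SS 𝓛 := SS_cj_le (fun L hL => C.conj L hL g hg) hx

/-- the centre of `⟨𝓛⟩` -/
def _root_.Cfsg.Agent.Cit.Nil.LO.ZL (𝓛 : Set (Subgroup G)) : Subgroup G := SS 𝓛 ⊓ centralizer (SS 𝓛 : Set G)

theorem mem_ZL : x ∈ ZL 𝓛 ↔ x ∈ SS 𝓛 ∧ ∀ y ∈ SS 𝓛, x * y = y * x := by
  rw [ZL, mem_inf, mem_centralizer_iff]
  exact ⟨fun h => ⟨h.1, fun y hy => (h.2 y hy).symm⟩, fun h => ⟨h.1, fun y hy => (h.2 y hy).symm⟩⟩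

theorem ZL_comm (hx : x ∈ ZL 𝓛) (hy : y ∈ ZL 𝓛) : x * y = y * x := (C.mem_ZL.1 hx).2 y (C.mem_ZL.1 hy).1

theorem ZL_cj (hg : g ∈ X) (hx : x ∈ ZL 𝓛) : g * x * g⁻¹ ∈ ZL 𝓛 := by
  rw [C.mem_ZL] at hx ⊢
  refine ⟨C.SS_cj hg hx.1, fun y hy => ?_⟩
  have h1 := hx.2 _ (C.SS_cj (inv_mem hg) hy)
  rw [inv_inv] at h1
  calc g * x * g⁻¹ * y = g * (x * (g⁻¹ * y * g)) * g⁻¹ := by group
    _ = g * (g⁻¹ * y * g * x) * g⁻¹ := by rw [h1]
    _ = y * (g * x * g⁻¹) := by group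

theorem ZL_two : IsPGroup 2 (ZL 𝓛) := by
  rintro ⟨x, hx⟩
  obtain ⟨k, m, hm, hkm⟩ := Nat.exists_eq_two_pow_mul_odd (n := orderOf x) (orderOf_pos x).ne'
  refine ⟨k, Subtype.ext ?_⟩
  change x ^ 2 ^ k = 1
  have h1 : x ^ 2 ^ k ∈ ZL 𝓛 := pow_mem hx _
  refine C.odd _ (C.mem_ZL.1 h1).1 (C.mem_ZL.1 h1).2 ?_
  rw [orderOf_pow, hkm, Nat.gcd_eq_right (Dvd.intro _ rfl), Nat.mul_div_cancel_left _ (by positivity)]
  exact hm

/-- **(3'.0)** : `RR Om w` centralises `Z(⟨𝓛⟩)` -/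
theorem center_comm (h : WR Om) (hw : w ∈ ZZ Om) (hR : RR Om w ≤ X) (hx : x ∈ ZL 𝓛) (hg : g ∈ RR Om w) :
    g * x = x * g := by
  by_cases hall : ∀ L ∈ 𝓛, Cen L w
  · exact SS_comm (fun L hL k hk => C.le_of_comm h hw hR hL (hall L hL) g hg k hk) (C.mem_ZL.1 hx).1
  push Not at hall
  obtain ⟨L₀, hL₀, hn₀⟩ := hall
  have hwZ : w ∉ ZL 𝓛 := fun h1 => hn₀ fun y hy => (C.mem_ZL.1 h1).2 y (mem_SS_of hL₀ hy)
  have hww := h.zz_sq hw
  have hwX : w ∈ X := hR (h.RR_mem hw)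
  -- `E_w ∩ Z(⟨𝓛⟩) = 1`
  have h1 : ∀ y ∈ RR Om w, y ∈ ZL 𝓛 → y = 1 := by
    intro y hy hyZ
    by_contra hy1
    have hyw : y ≠ w := fun h2 => hwZ (h2 ▸ hyZ)
    have h2 : ¬ ∀ K ∈ Ov Om w, ∀ k ∈ K, y * k = k * y := by
      intro h3
      rcases h.RR_center hy h3 with h4 | h4
      · exact hy1 h4
      · exact hyw h4
    push Not at h2
    obtain ⟨K, hK, k, hk, hyk⟩ := h2
    have hkR : k ∈ RR Om w := WR.le_RR hK hk
    rcases h.RR_conj hkR hy with h3 | h3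
    · apply hyk
      rw [mul_inv_eq_iff_eq_mul] at h3
      exact h3.symm
    · apply hwZ
      have h4 : w = (k * y * k⁻¹) * y⁻¹ := by rw [h3]; group
      rw [h4]
      exact mul_mem (C.ZL_cj (hR hkR) hyZ) (inv_mem hyZ)
  have h2 : ∀ x ∈ ZL 𝓛, w * x = x * w → ∀ g ∈ RR Om w, g * x = x * g := by
    intro x hx hwx g hg
    have h3 := com_mem' h hwx.symm hg
    have h4 : x * (g * x⁻¹ * g⁻¹) ∈ ZL 𝓛 := mul_mem hx (C.ZL_cj (hR hg) (inv_mem hx))
    have h5 := h1 _ h3 h4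
    calc g * x = (x * (g * x⁻¹ * g⁻¹)) * (g * x) := by rw [h5, one_mul]
      _ = x * g := by group
  -- the subgroup `A₁`
  set A₁ : Subgroup G := ZL 𝓛 ⊓ centralizer {w} with hA₁
  have hmem : ∀ x, x ∈ A₁ ↔ x ∈ ZL 𝓛 ∧ w * x = x * w := by
    intro x
    rw [hA₁, mem_inf, mem_centralizer_singleton_iff]
    exact ⟨fun h => ⟨h.1, h.2.symm⟩, fun h => ⟨h.1, h.2.symm⟩⟩
  have hfin : A₁ = ZL 𝓛 := by
    by_contra hne
    obtain ⟨x, hx, hxn, hfix⟩ := exists_fix_mod (A := ZL 𝓛) (B := A₁) (Q := RR Om w) C.ZL_two (h.RR_two hw) inf_le_left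
      hne (fun g hg x hx => C.ZL_cj (hR hg) hx) (fun g hg x hx => by
        rw [hmem] at hx
        have h3 := h2 x hx.1 hx.2 g hg
        rw [h3, mul_inv_cancel_right, hmem]
        exact hx)
    apply hxn
    rw [hmem]
    refine ⟨hx, ?_⟩
    obtain ⟨K, hK⟩ := hw
    obtain ⟨i, hi, j, hj, hij⟩ := exists_zz_comm h hK.1
    rw [hK.2] at hij
    have h3 := fix_comm (B := A₁) (Q := RR Om w) (x := x) (i := i) (j := j)
      (fun g hg b hb => h2 b ((hmem b).1 hb).1 ((hmem b).1 hb).2 g hg)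
      (fun a ha b hb => C.ZL_comm ((hmem a).1 ha).1 ((hmem b).1 hb).1) hfix (WR.le_RR hK hi) (WR.le_RR hK hj)
    rwa [← hij] at h3
  rw [← hfin, hmem] at hx
  exact h2 x hx.1 hx.2 g hg

end basic

/-- a Sylow 2-subgroup of a group containing a quasisimple group is not central -/
theorem _root_.Cfsg.Agent.Cit.Nil.LO.syl_not_central {L L₀ S₀ : Subgroup G} (hq : IsQuasisimple L) (hL : L ≤ L₀)
    (hS : Syl S₀ L₀) : ¬ S₀ ≤ centralizer (L₀ : Set G) := by
  intro hc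
  haveI : Fact (Nat.Prime 2) := ⟨Nat.prime_two⟩
  set N : Subgroup L₀ := S₀.subgroupOf L₀ with hN
  have hNc : N ≤ center L₀ := by
    intro x hx
    rw [mem_center_iff]
    intro y
    exact Subtype.ext (mem_centralizer_iff.1 (hc hx) y y.2)
  have hNn : N.Normal := by
    refine ⟨fun n hn g => ?_⟩
    have h1 := mem_center_iff.1 (hNc hn) g
    rw [h1, mul_inv_cancel_right]
    exact hn
  haveI hNs : Group.IsSolvable ↥N := by
    have h2 : IsPGroup 2 N := hS.2.1.comap_subtype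
    have h3 : Group.IsNilpotent N := h2.isNilpotent
    infer_instance
  haveI hQs : Group.IsSolvable (↥L₀ ⧸ N) := by
    refine S0205.result (Nat.odd_iff.2 ?_)
    have h1 : ¬ 2 ∣ Nat.card (L₀ ⧸ N) := hS.2.2
    omega
  haveI hs : Group.IsSolvable ↥L₀ := by
    refine Group.isSolvable_of_ker_le_range N.subtype (QuotientGroup.mk' N) ?_
    rw [QuotientGroup.ker_mk', range_subtype]
  have hsL : Group.IsSolvable ↥L := Group.isSolvable_of_isSolvable_injective (inclusion_injective hL)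
  exact SignalizersComponents.Components.quasisimple_not_isSolvable hq hsL

section orbit

variable (C : Cps 𝓛 X) {S : Subgroup G} {𝒦 : Set (Subgroup G)}

include C

/-- **(3'.1)** -/
theorem exists_x (h : WR Om) (hS : IsPGroup 2 S) (h𝒦 : ∀ K ∈ 𝒦, K ∈ Om ∧ K ≤ S)
    (hR : ∀ K ∈ 𝒦, RR Om (zz K) ≤ X) (hL : L ∈ 𝓛) :
    ∃ x ∈ SS {M | ∃ g ∈ SS 𝒦, M = cj g L}, (∃ k : ℕ, x ^ 2 ^ k = 1) ∧ (∀ K ∈ 𝒦, x * zz K = zz K * x) ∧
      ¬ Cen L x := by
  set E := SS 𝒦 with hE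
  have hES : E ≤ S := SS_le fun K hK => (h𝒦 K hK).2
  have hE2 : IsPGroup 2 E := hS.to_le hES
  have hKR : ∀ K ∈ 𝒦, K ≤ RR Om (zz K) := fun K hK => WR.le_RR ⟨(h𝒦 K hK).1, rfl⟩
  have hEX : E ≤ X := SS_le fun K hK => (hKR K hK).trans (hR K hK)
  set orb : Set (Subgroup G) := {M | ∃ g ∈ E, M = cj g L} with horb
  have horb𝓛 : ∀ M ∈ orb, M ∈ 𝓛 := by
    rintro M ⟨g, hg, rfl⟩
    exact C.conj L hL g (hEX hg)
  set L₀ := SS orb with hL₀
  have hLL₀ : L ≤ L₀ := le_SS ⟨1, one_mem _, by rw [cj_one]⟩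
  have hEL : ∀ g ∈ E, ∀ x ∈ L₀, g * x * g⁻¹ ∈ L₀ := by
    intro g hg x hx
    refine SS_cj_le (𝒦 := orb) (fun M hM => ?_) hx
    obtain ⟨k, hk, rfl⟩ := hM
    exact ⟨g * k, mul_mem hg hk, by rw [cj_mul]⟩
  have hEn : E ≤ normalizer (L₀ : Set G) := by
    intro g hg
    rw [mem_normalizer_iff]
    intro x
    refine ⟨hEL g hg x, fun hx => ?_⟩
    have h1 := hEL g⁻¹ (inv_mem hg) _ hx
    have h2 : g⁻¹ * (g * x * g⁻¹) * g⁻¹⁻¹ = x := by group
    rwa [h2] at h1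
  obtain ⟨S₀, hS₀, hES₀⟩ := OneBasic.exists_syl_normalized hE2 hEn
  set B : Subgroup G := S₀ ⊓ centralizer (L₀ : Set G) with hB
  have hBmem : ∀ b, b ∈ B ↔ b ∈ S₀ ∧ ∀ y ∈ L₀, b * y = y * b := by
    intro b
    rw [hB, mem_inf, mem_centralizer_iff]
    exact ⟨fun h => ⟨h.1, fun y hy => (h.2 y hy).symm⟩, fun h => ⟨h.1, fun y hy => (h.2 y hy).symm⟩⟩
  have hne : B ≠ S₀ := by
    intro h1
    refine syl_not_central (C.qs L hL) hLL₀ hS₀ ?_
    rw [← h1]
    exact inf_le_right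
  have hL₀𝓛 : L₀ ≤ SS 𝓛 := SS_mono horb𝓛
  have hBZ : ∀ b ∈ B, b ∈ ZL 𝓛 := by
    intro b hb
    rw [hBmem] at hb
    have hbL := hS₀.1 hb.1
    rw [C.mem_ZL]
    refine ⟨hL₀𝓛 hbL, fun y hy => SS_comm (fun M hM k hk => ?_) hy⟩
    by_cases hMo : M ∈ orb
    · exact hb.2 k (mem_SS_of hMo hk)
    · refine (SS_comm (x := k) (fun N hN n hn => ?_) hbL).symm
      exact C.comm M hM N (horb𝓛 N hN) (fun h1 => hMo (h1 ▸ hN)) k hk n hn
  have hBE : ∀ g ∈ E, ∀ b ∈ B, g * b = b * g := by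
    intro g hg b hb
    refine (SS_comm (x := b) (fun K hK k hk => ?_) hg).symm
    have hz : zz K ∈ ZZ Om := ⟨K, (h𝒦 K hK).1, rfl⟩
    exact (C.center_comm h hz (hR K hK) (hBZ b hb) (hKR K hK hk)).symm
  have hES₀' : ∀ g ∈ E, ∀ x ∈ S₀, g * x * g⁻¹ ∈ S₀ := fun g hg x hx => (mem_normalizer_iff.1 (hES₀ hg) x).1 hx
  obtain ⟨x, hxS, hxB, hfix⟩ := exists_fix_mod (A := S₀) (B := B) (Q := E) hS₀.2.1 hE2 inf_le_left hne hES₀'
    (fun g hg b hb => by rw [hBE g hg b hb, mul_inv_cancel_right]; exact hb)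
  have hxL := hS₀.1 hxS
  have hxK : ∀ K ∈ 𝒦, x * zz K = zz K * x := by
    intro K hK
    obtain ⟨i, hi, j, hj, hij⟩ := exists_zz_comm h (h𝒦 K hK).1
    have h3 := fix_comm (B := B) (Q := E) (x := x) (i := i) (j := j) hBE
      (fun a ha b hb => C.ZL_comm (hBZ a ha) (hBZ b hb)) hfix (mem_SS_of hK hi) (mem_SS_of hK hj)
    rw [← hij] at h3
    exact h3.symm
  -- a conjugate is nontrivial on `L`
  have h4 : ∃ M ∈ orb, ¬ Cen M x := by
    by_contra hcon
    push Not at hcon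
    apply hxB
    rw [hBmem]
    exact ⟨hxS, fun y hy => SS_comm (fun M hM k hk => hcon M hM k hk) hy⟩
  obtain ⟨_, ⟨g, hg, rfl⟩, hn⟩ := h4
  have hgz : ∀ K ∈ 𝒦, zz K * g = g * zz K := by
    intro K hK
    refine SS_comm (fun M hM m hm => ?_) hg
    by_cases h1 : K = M
    · rw [← h1] at hm
      exact (h.cen (h𝒦 K hK).1 hm).symm
    · exact h.pg K (h𝒦 K hK).1 M (h𝒦 M hM).1 S hS (h𝒦 K hK).2 (h𝒦 M hM).2 h1 _ (h.zm (h𝒦 K hK).1) m hm
  refine ⟨g⁻¹ * x * g, ?_, ?_, ?_, ?_⟩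
  · have h5 := hEL g⁻¹ (inv_mem hg) x hxL
    rwa [inv_inv] at h5
  · obtain ⟨k, hk⟩ := hS₀.2.1 ⟨x, hxS⟩
    refine ⟨k, ?_⟩
    have hk' : x ^ 2 ^ k = 1 := congrArg Subtype.val hk
    have h5 : g⁻¹ * x * g = g⁻¹ * x * g⁻¹⁻¹ := by rw [inv_inv]
    rw [h5, conj_pow, hk']
    group
  · intro K hK
    have h5 := hgz K hK
    have h6 := hxK K hK
    calc g⁻¹ * x * g * zz K = g⁻¹ * x * (g * zz K) := by group
      _ = g⁻¹ * (x * zz K) * g := by rw [← h5]; group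
      _ = g⁻¹ * (zz K * x) * g := by rw [h6]
      _ = (g⁻¹ * (zz K * g)) * (g⁻¹ * x * g) := by group
      _ = (g⁻¹ * (g * zz K)) * (g⁻¹ * x * g) := by rw [h5]
      _ = zz K * (g⁻¹ * x * g) := by group
  · intro hc
    apply hn
    intro y hy
    rw [mem_cj] at hy
    have h5 := hc _ hy
    calc x * y = g * (g⁻¹ * x * g * (g⁻¹ * y * g)) * g⁻¹ := by group
      _ = g * (g⁻¹ * y * g * (g⁻¹ * x * g)) * g⁻¹ := by rw [h5]
      _ = y * x := by group

/-- **(3'.2)** : `c` normalises the components -/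
theorem fix (h : WR Om) (hS : IsPGroup 2 S) (h𝒦 : ∀ K ∈ 𝒦, K ∈ Om ∧ K ≤ S)
    (hR : ∀ K ∈ 𝒦, RR Om (zz K) ≤ X) {N : Subgroup G} (hc : Odd (orderOf c)) (hcX : c ∈ X)
    (hcK : ∀ K ∈ 𝒦, ∀ k ∈ K, c * k = k * c)
    (hcN : c ∈ N) (hN : ∀ y ∈ SS 𝓛, y * s = s * y → ∀ n ∈ N, y * n * y⁻¹ ∈ N)
    (hs : ∀ y ∈ SS 𝓛, (∀ K ∈ 𝒦, y * zz K = zz K * y) → y * s = s * y)
    (ha : ∀ L ∈ 𝓛, Cen L a)
    (hN2 : ∀ u ∈ N, u ∈ SS 𝓛 → (∃ k : ℕ, u ^ 2 ^ k = 1) → u = 1 ∨ u = a) (hL : L ∈ 𝓛) : cj c L = L := by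
  have hE2 : IsPGroup 2 (SS 𝒦) := hS.to_le (SS_le fun K hK => (h𝒦 K hK).2)
  have hcE : ∀ g ∈ SS 𝒦, c * g = g * c := fun g hg => SS_comm (fun K hK k hk => hcK K hK k hk) hg
  by_cases horb : ∃ g ∈ SS 𝒦, cj c L = cj g L
  · obtain ⟨g, hg, hgL⟩ := horb
    -- `g⁻¹ c` normalises `L`
    have h1 : cj (g⁻¹ * c) L = L := by rw [cj_mul, hgL, cj_inv_cj]
    have h2 : ∀ n : ℕ, cj ((g⁻¹ * c) ^ n) L = L := by
      intro n
      induction n with
      | zero => rw [pow_zero, cj_one]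
      | succ n ih => rw [pow_succ, cj_mul, h1, ih]
    have h3 := h2 (orderOf c)
    have hcg : Commute g⁻¹ c := (Commute.inv_left (show Commute g c from (hcE g hg).symm))
    rw [hcg.mul_pow, pow_orderOf_eq_one, mul_one] at h3
    -- `g` is a power of `g⁻¹ ^ m`
    obtain ⟨k, hk⟩ := hE2 ⟨g, hg⟩
    have hk' : g ^ 2 ^ k = 1 := congrArg Subtype.val hk
    have hco : Nat.Coprime (orderOf c) (orderOf g⁻¹) := by
      rw [orderOf_inv]
      exact (((Nat.coprime_two_right.2 hc).pow_right k)).coprime_dvd_right (orderOf_dvd_of_pow_eq_one hk')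
    obtain ⟨j, hj⟩ := exists_pow_eq_self_of_coprime hco
    have h4 : ∀ n : ℕ, cj ((g⁻¹ ^ orderOf c) ^ n) L = L := by
      intro n
      induction n with
      | zero => rw [pow_zero, cj_one]
      | succ n ih => rw [pow_succ, cj_mul, h3, ih]
    have h5 := h4 j
    rw [hj] at h5
    rw [hgL]
    have h6 := congrArg (cj g) h5
    rw [cj_cj_inv] at h6
    exact h6.symm
  · exfalso
    push Not at horb
    obtain ⟨x, hx, ⟨k, hk⟩, hxK, hxn⟩ := C.exists_x h hS h𝒦 hR hL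
    have hKR : ∀ K ∈ 𝒦, K ≤ RR Om (zz K) := fun K hK => WR.le_RR ⟨(h𝒦 K hK).1, rfl⟩
    have hEX : SS 𝒦 ≤ X := SS_le fun K hK => (hKR K hK).trans (hR K hK)
    have horb𝓛 : {M | ∃ g ∈ SS 𝒦, M = cj g L} ⊆ 𝓛 := by
      rintro M ⟨g, hg, rfl⟩
      exact C.conj L hL g (hEX hg)
    have hx𝓛 : x ∈ SS 𝓛 := SS_mono horb𝓛 hx
    have hxs := hs x hx𝓛 hxK
    -- `c x c⁻¹` commutes with the orbit
    have h1 : ∀ g ∈ SS 𝒦, ∀ y ∈ cj g L, c * x * c⁻¹ * y = y * (c * x * c⁻¹) := by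
      intro g hg y hy
      have h2 : x ∈ (centralizer {y} : Subgroup G).comap (MulAut.conj c).toMonoidHom := by
        refine (SS_le (𝒦 := {M | ∃ g ∈ SS 𝒦, M = cj g L}) fun M hM => ?_) hx
        obtain ⟨g', hg', rfl⟩ := hM
        intro m hm
        rw [mem_comap]
        change c * m * c⁻¹ ∈ _
        rw [mem_centralizer_singleton_iff]
        refine C.comm (cj c (cj g' L)) (C.conj _ (C.conj L hL g' (hEX hg')) c hcX) (cj g L) (C.conj L hL g (hEX hg)) ?_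
          _ (conj_mem_cj hm) y hy
        rw [← cj_mul, hcE g' hg', cj_mul]
        intro h3
        refine horb (g'⁻¹ * g) (mul_mem (inv_mem hg') hg) ?_
        rw [cj_mul, ← h3, cj_inv_cj]
      rw [mem_comap] at h2
      exact mem_centralizer_singleton_iff.1 h2
    have h2 : Cen L (c * x * c⁻¹) := fun y hy => h1 1 (one_mem _) y (by rwa [cj_one])
    have h3 : (c * x * c⁻¹) * x = x * (c * x * c⁻¹) := by
      refine SS_comm (fun M hM k hk => ?_) hx
      obtain ⟨g, hg, rfl⟩ := hM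
      exact h1 g hg k hk
    -- the element `u`
    set u := (c * x * c⁻¹) * x⁻¹ with hu
    have huN : u ∈ N := by
      have h4 : u = c * (x * c⁻¹ * x⁻¹) := by rw [hu]; group
      rw [h4]
      exact mul_mem hcN (hN x hx𝓛 hxs _ (inv_mem hcN))
    have hu𝓛 : u ∈ SS 𝓛 := mul_mem (C.SS_cj hcX hx𝓛) (inv_mem hx𝓛)
    have hu2 : u ^ 2 ^ k = 1 := by
      have h4 : Commute (c * x * c⁻¹) x⁻¹ := Commute.inv_right h3
      rw [hu, h4.mul_pow, conj_pow, hk, inv_pow, hk]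
      group
    have hux : c * x * c⁻¹ = u * x := by rw [hu]; group
    apply hxn
    rcases hN2 u huN hu𝓛 ⟨k, hu2⟩ with h4 | h4
    · rw [h4, one_mul] at hux
      rwa [hux] at h2
    · rw [h4] at hux
      intro y hy
      have h5 := h2 y hy
      rw [hux] at h5
      have h6 := ha L hL y hy
      have h7 : a * (x * y) = a * (y * x) := by
        calc a * (x * y) = a * x * y := by group
          _ = y * (a * x) := h5
          _ = (y * a) * x := by group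
          _ = a * y * x := by rw [← h6]
          _ = a * (y * x) := by group
      exact mul_left_cancel h7

end orbit

end Cps

end Cfsg.Agent.Cit.Nil.LO
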