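import Cfsg.Agent.Cit.Nil.LO.TW
import Cfsg.Agent.Cit.Nil.LO.ReeQ
import Cfsg.Agent.Cit.Nil.LO.LTwoInner
import Cfsg.Agent.Cit.Nil.LO.ThreeComp
import Cfsg.Agent.S1073

/-!
# S1309, node (n2) THREE PROPAGATION: components `²G₂(q)`

* `inner_of_inv` : an automorphism of order 1 or 2 is the conjugation by an element `w`, `w * w = 1`;
* `ree_fix` : an automorphism of order 1 or 2 of `²G₂(q)` fixes an element of odd order;
* `TW.cps` : the components of `H` as a `Cps`;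
* `TW.z_norm` : the involutions of the members normalise every component;
* `ree_cent` : the involutions of the members in `S` centralise the components `²G₂(q)`.
-/

set_option autoImplicit false
set_option linter.unusedSectionVars false
set_option linter.style.haveILetI false

namespace Cfsg.Agent.Cit.Nil.LO

open Subgroup Cfsg Cit RG
open Cfsg.Agent.Omega.Lie.OutT Cfsg.Agent.Omega.Lie.OutT.Small

section aut

variable {L : Type*} [Group L]

/-- automorphisms of order 1 or 2 are conjugations by elements with `w * w = 1` -/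
theorem inner_of_inv [Finite L] [IsSimpleGroup L] (hL : ¬ IsMulCommutative L)
    (h : ∀ S : Sylow 2 L, Nat.card (S : Subgroup L) = 8 ∧ ∀ s ∈ S, s * s = 1) {a : MulAut L}
    (ha : a * a = 1) : ∃ w : L, w * w = 1 ∧ a = MulAut.conj w := by
  have : Fact (Nat.Prime 2) := ⟨Nat.prime_two⟩
  have h4 : a ^ 2 ^ 1 = 1 := by rw [pow_one, pow_two, ha]
  have hp : IsPGroup 2 (zpowers a) := by
    rintro ⟨_, m, rfl⟩
    refine ⟨1, Subtype.ext ?_⟩
    change (a ^ m) ^ 2 ^ 1 = 1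
    rw [← zpow_natCast, zpow_comm, zpow_natCast, h4, one_zpow]
  obtain ⟨S, hS⟩ := Cfsg.Agent.Omega.Lie.OutT.Small.exists_sylow hp
  obtain ⟨h8, hexp⟩ := h S
  have hinv : ∀ s ∈ S, s⁻¹ = s := fun s hs => inv_eq_of_mul_eq_one_left (hexp s hs)
  have hab : ∀ a ∈ S, ∀ b ∈ S, a * b = b * a := by
    intro a ha b hb
    have h1 := hinv _ ((S : Subgroup L).mul_mem ha hb)
    rw [mul_inv_rev, hinv a ha, hinv b hb] at h1
    exact h1.symm
  have h2 : 2 ∣ Nat.card L := by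
    refine Dvd.dvd.trans ?_ (S : Subgroup L).card_subgroup_dvd_card
    rw [h8]; norm_num
  have haS : ∀ s ∈ S, a s ∈ S := hS a (mem_zpowers a)
  have haS' : ∀ s ∈ S, a s = s := triv_on hL S h8 hexp haS (fun s _ => DFunLike.congr_fun ha s)
  obtain ⟨w, rfl⟩ := inner_of_cent hL h2 S hab (k := 1) h4 haS'
  refine ⟨w, ?_, rfl⟩
  have hinj := conj_inj hL
  apply hinj
  rw [map_mul, ha, map_one]

/-- the transvection of order 3 -/
theorem exists_three {F : Type*} [Field F] [Fintype F] {m : ℕ} (hF : Fintype.card F = 3 ^ (2 * m + 1)) :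
    ∃ y : Matrix.ProjectiveSpecialLinearGroup (Fin 2) F, y ≠ 1 ∧ y ^ 3 = 1 := by
  haveI := Cfsg.Agent.S1157.charP_three hF
  let T : Matrix.SpecialLinearGroup (Fin 2) F := ⟨!![1, 1; 0, 1], by simp [Matrix.det_fin_two]⟩
  have hT2 : T ^ 3 = 1 := by
    have h3 : (3 : F) = 0 := by exact_mod_cast CharP.cast_eq_zero F 3
    apply Subtype.ext
    rw [Matrix.SpecialLinearGroup.coe_pow]
    have h1 : (T : Matrix (Fin 2) (Fin 2) F) = !![1, 1; 0, 1] := rfl
    rw [h1, pow_succ, pow_two, Matrix.SpecialLinearGroup.coe_one]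
    ext i j
    fin_cases i <;> fin_cases j <;> simp [Matrix.mul_apply, Fin.sum_univ_two]
    linear_combination h3
  refine ⟨QuotientGroup.mk T, ?_, ?_⟩
  · intro h
    have h1 : T ∈ center (Matrix.SpecialLinearGroup (Fin 2) F) := (QuotientGroup.eq_one_iff T).1 h
    rw [Matrix.SpecialLinearGroup.mem_center_iff] at h1
    obtain ⟨r, -, hr⟩ := h1
    have h2 := congrFun (congrFun hr 0) 1
    have h3 : (T : Matrix (Fin 2) (Fin 2) F) 0 1 = 1 := rfl
    rw [h3] at h2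
    simp at h2
  · rw [← QuotientGroup.mk_pow, hT2, QuotientGroup.mk_one]

/-- the Sylow 2-subgroups of `²G₂(q)` -/
theorem ree_data (hL : Cfsg.Lie.IsoRee L) : Finite L ∧ IsSimpleGroup L ∧ ¬ IsMulCommutative L ∧
    ∀ S : Sylow 2 L, Nat.card (S : Subgroup L) = 8 ∧ ∀ s ∈ S, s * s = 1 := by
  obtain ⟨F, _, _, m, hm, hF, ⟨e⟩⟩ := hL
  obtain ⟨hs, hc⟩ := Cfsg.Agent.S1073.result hm hF
  obtain ⟨u, huH, hu1, hu2⟩ := Cfsg.Agent.S1157.exists_involution hF
  obtain ⟨-, hS⟩ := Cfsg.Agent.S1152.result hF u huH hu1 hu2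
  have hfin : Finite ↥(Cfsg.Lie.twistedG2 F (3 ^ m)) := inferInstance
  have : Finite L := Finite.of_equiv _ e.symm.toEquiv
  have : IsSimpleGroup L := e.isSimpleGroup
  refine ⟨‹_›, ‹_›, fun hcL => hc
    ⟨⟨fun x y => e.symm.injective (by rw [map_mul, map_mul]; exact hcL.is_comm.comm _ _)⟩⟩, fun S => ?_⟩
  have hfac : Fact (Nat.Prime 2) := ⟨Nat.prime_two⟩
  obtain ⟨h8, hx⟩ := hS (S.mapSurjective (f := e.toMonoidHom) e.surjective)
  constructor
  · rw [← h8]
    exact Nat.card_congr ((S : Subgroup L).equivMapOfInjective e.toMonoidHom e.injective).toEquiv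
  · intro s hs'
    apply e.injective
    rw [map_mul, map_one]
    exact hx _ ⟨s, hs', rfl⟩

/-- **automorphisms of order 1 or 2 of `²G₂(q)` fix elements of order 3** -/
theorem ree_fix (hL : Cfsg.Lie.IsoRee L) {α : MulAut L} (hα : α * α = 1) : ∃ y : L, y ≠ 1 ∧ Odd (orderOf y) ∧ α y = y := by
  obtain ⟨_, _, hnc, hSL⟩ := ree_data hL
  obtain ⟨F, _, _, m, hm, hF, ⟨e⟩⟩ := hL
  obtain ⟨u, huH, hu1, hu2⟩ := Cfsg.Agent.S1157.exists_involution hF
  obtain ⟨⟨ε⟩, hS⟩ := Cfsg.Agent.S1152.result hF u huH hu1 hu2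
  have hfin : Finite ↥(Cfsg.Lie.twistedG2 F (3 ^ m)) := inferInstance
  haveI := Cfsg.Agent.S1157.charP_three hF
  have hcd := Cfsg.Agent.LieRecognition.ReeCent.centData hu1 hu2 ε Cfsg.Agent.LieRecognition.ReePSL.klein
  have hconj : ∀ v : ↥(Cfsg.Lie.twistedG2 F (3 ^ m)), v ≠ 1 → v * v = 1 → ∃ c, c * u * c⁻¹ = v :=
    fun v hv1 hv2 => Cfsg.Agent.LieRecognition.ReeInv.isConj_involution hcd Cfsg.Agent.LieRecognition.ReePSL.klein
      (Cfsg.Agent.S1116.result hF hm) hS hv1 hv2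
  obtain ⟨w, hw, rfl⟩ := inner_of_inv hnc hSL hα
  obtain ⟨y, hy1, hy3⟩ := exists_three hF
  -- an element of order 3 which commutes with `u`
  obtain ⟨x, hx⟩ : ∃ x, x = ((ε.symm (1, y) : centralizer {u}) : ↥(Cfsg.Lie.twistedG2 F (3 ^ m))) := ⟨_, rfl⟩
  have hxu : x * u = u * x := by rw [hx]; exact mem_centralizer_singleton_iff.1 (ε.symm (1, y)).2
  have hx1 : x ≠ 1 := by
    intro h
    rw [hx] at h
    have h1 : ε.symm (1, y) = 1 := Subtype.ext h
    rw [map_eq_one_iff _ ε.symm.injective] at h1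
    exact hy1 (Prod.ext_iff.1 h1).2
  have hx3 : x ^ 3 = 1 := by
    have h1 : ε.symm (1, y) ^ 3 = 1 := by
      rw [← map_pow, Prod.pow_mk, one_pow, hy3]
      exact map_one _
    rw [hx]
    exact congrArg Subtype.val h1
  obtain ⟨g, hg⟩ : ∃ g : ↥(Cfsg.Lie.twistedG2 F (3 ^ m)), e w * (g * x * g⁻¹) = (g * x * g⁻¹) * e w := by
    by_cases h1 : e w = 1
    · exact ⟨1, by rw [h1, one_mul, mul_one]⟩
    · obtain ⟨g, hg⟩ := hconj (e w) h1 (by rw [← map_mul, hw, map_one])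
      refine ⟨g, ?_⟩
      rw [← hg]
      calc g * u * g⁻¹ * (g * x * g⁻¹) = g * (u * x) * g⁻¹ := by group
        _ = g * (x * u) * g⁻¹ := by rw [hxu]
        _ = _ := by group
  refine ⟨e.symm (g * x * g⁻¹), ?_, ?_, ?_⟩
  · intro h
    rw [map_eq_one_iff _ e.symm.injective, conj_eq_one_iff] at h
    exact hx1 h
  · rw [MulEquiv.orderOf_eq, orderOf_conj]
    exact Odd.of_dvd_nat (by decide : Odd 3) (orderOf_dvd_of_pow_eq_one hx3)
  · obtain ⟨v, hv⟩ : ∃ v, v = e.symm (g * x * g⁻¹) := ⟨_, rfl⟩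
    have hv' : e v = g * x * g⁻¹ := by rw [hv, e.apply_symm_apply]
    rw [← hv, MulAut.conj_apply, mul_inv_eq_iff_eq_mul]
    apply e.injective
    rw [map_mul, map_mul, hv']
    exact hg

end aut

section grp

variable {H : Type*} [Group H] [Finite H] {Om : Set (Subgroup H)} {S : Sylow 2 H} {N E L K : Subgroup H} {s c z : H}

/-- the components of a core-free group -/
theorem cps_components (hc : pPrimeCore 2 H = ⊥) : Cps {L : Subgroup H | IsComponent L} ⊤ := by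
  have hcm : ∀ L ∈ {L : Subgroup H | IsComponent L}, ∀ M ∈ {L : Subgroup H | IsComponent L}, L ≠ M →
      ∀ x ∈ L, ∀ y ∈ M, x * y = y * x := by
    intro L hL M hM hne x hx y hy
    have h1 := SignalizersComponents.Components.component_le_centralizer_of_ne hL hM hne
    exact ((mem_centralizer_iff.1 (h1 hx)) y hy).symm
  have hcj : ∀ L ∈ {L : Subgroup H | IsComponent L}, ∀ g ∈ (⊤ : Subgroup H), cj g L ∈ {L : Subgroup H | IsComponent L} :=
    fun L hL g _ => SignalizersComponents.Components.isComponent_conj g hL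
  refine ⟨fun L hL => hL.2, hcm, hcj, ?_⟩
  intro x hx hxc ho
  obtain ⟨E, hE⟩ : ∃ E : Subgroup H, E = SS {L : Subgroup H | IsComponent L} := ⟨_, rfl⟩
  rw [← hE] at hx hxc
  have hEn : ∀ g, ∀ y ∈ E, g * y * g⁻¹ ∈ E := by
    intro g y hy
    rw [hE] at hy ⊢
    exact SS_cj_le (fun L hL => hcj L hL g (mem_top g)) hy
  obtain ⟨Z, hZ⟩ : ∃ Z : Subgroup H, Z = E ⊓ centralizer (E : Set H) := ⟨_, rfl⟩
  have hmZ : ∀ y, y ∈ Z ↔ y ∈ E ∧ ∀ e ∈ E, y * e = e * y := by
    intro y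
    rw [hZ, mem_inf, mem_centralizer_iff]
    exact ⟨fun h => ⟨h.1, fun e he => (h.2 e he).symm⟩, fun h => ⟨h.1, fun e he => (h.2 e he).symm⟩⟩
  have hxZ : x ∈ Z := (hmZ x).2 ⟨hx, hxc⟩
  have hZn : ∀ g, g ∈ normalizer (Z : Set H) := by
    have h1 : ∀ g, ∀ y ∈ Z, g * y * g⁻¹ ∈ Z := by
      intro g y hy
      rw [hmZ] at hy ⊢
      refine ⟨hEn g y hy.1, fun e he => ?_⟩
      have h2 := hy.2 _ (hEn g⁻¹ e he)
      rw [inv_inv] at h2
      calc g * y * g⁻¹ * e = g * (y * (g⁻¹ * e * g)) * g⁻¹ := by group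
        _ = g * (g⁻¹ * e * g * y) * g⁻¹ := by rw [h2]
        _ = _ := by group
    intro g
    rw [mem_normalizer_iff]
    refine fun y => ⟨h1 g y, fun hy => ?_⟩
    have h2 := h1 g⁻¹ _ hy
    have h3 : g⁻¹ * (g * y * g⁻¹) * g⁻¹⁻¹ = y := by group
    rwa [h3] at h2
  have h1 : zpowers x ≤ OO Z := by
    refine le_OO (by rw [zpowers_le]; exact hxZ) ?_ ?_
    · intro y hy
      rw [mem_normalizer_iff]
      intro u
      have hyE := ((hmZ y).1 hy).1
      have hcomm : ∀ v ∈ zpowers x, y * v * y⁻¹ = v := by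
        rintro _ ⟨n, rfl⟩
        have h2 := hxc y hyE
        have h3 : Commute y (x ^ n) := (show Commute x y from h2).symm.zpow_right n
        rw [mul_inv_eq_iff_eq_mul]
        exact h3
      refine ⟨fun hu => by rw [hcomm u hu]; exact hu, fun hu => ?_⟩
      have h4 := hcomm _ hu
      have h5 : y * u * y⁻¹ = u := by
        have h6 : y⁻¹ * (y * (y * u * y⁻¹) * y⁻¹) * y = y⁻¹ * (y * u * y⁻¹) * y := by rw [h4]
        have h7 : y⁻¹ * (y * (y * u * y⁻¹) * y⁻¹) * y = y * u * y⁻¹ := by group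
        have h8 : y⁻¹ * (y * u * y⁻¹) * y = u := by group
        rw [h7, h8] at h6
        exact h6
      rwa [h5] at hu
    · rw [Nat.card_zpowers]
      intro h2
      exact (Nat.not_even_iff_odd.2 ho) (even_iff_two_dvd.2 h2)
  have h2 : (OO Z).Normal := by
    rw [← normalizer_eq_top_iff, eq_top_iff]
    intro g _
    rw [mem_normalizer_iff_cj, ← OO_cj, mem_normalizer_iff_cj.1 (hZn g)]
  have h3 : OO Z ≤ pPrimeCore 2 H :=
    Lib.Cores.le_pPrimeCore h2 ((Nat.Prime.coprime_iff_not_dvd Nat.prime_two).2 (odd_OO Z)).symm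
  rw [hc, le_bot_iff] at h3
  rw [h3, le_bot_iff, zpowers_eq_bot] at h1
  exact h1

/-- the involutions of the members normalise every component -/
theorem zz_norm (w : WR Om) (hc : pPrimeCore 2 H = ⊥) (hL : IsComponent L) (hK : K ∈ Om) : cj (zz K) L = L :=
  (cps_components hc).norm w ⟨hK, rfl⟩ le_top hL

theorem TW.z_norm' (t : TW Om S N E s c) (hL : IsComponent L) (hK : K ∈ Om) : zz K ∈ normalizer (L : Set H) :=
  mem_normalizer_iff_cj.2 (zz_norm t.w t.core hL hK)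

/-- **the involutions of the members centralise the components `²G₂(q)`** -/
theorem ree_cent_of (w : WR Om) (hc : pPrimeCore 2 H = ⊥) (hL : IsComponent L)
    (hRee : Cfsg.Lie.IsoRee (↥L ⧸ center ↥L)) (hK : K ∈ Om) : Cen L (zz K) := by
  by_contra hn
  have C := cps_components hc
  have hKz : K ∈ Ov Om (zz K) := ⟨hK, rfl⟩
  have hz : zz K ∈ RG.ZZ Om := ⟨K, hK, rfl⟩
  have hp : ⁅L, L⁆ = L := SignalizersComponents.Components.component_commutator_self hL
  have hzN : zz K ∈ normalizer (L : Set H) := mem_normalizer_iff_cj.2 (zz_norm w hc hL hK)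
  obtain ⟨_, _, hnc, hSL⟩ := ree_data hRee
  obtain ⟨ψ, hψ⟩ : ∃ ψ : normalizer (L : Set H) →* MulAut (L ⧸ center L),
      ∀ (x : normalizer (L : Set H)) (l : L), ψ x (l : L ⧸ center L) = (cjL x l : L ⧸ center L) :=
    ⟨(quoAut L).comp L.normalizerMonoidHom, fun x l => rfl⟩
  -- an automorphism trivial on `L / Z(L)`
  have htriv : ∀ x : normalizer (L : Set H), ψ x = 1 → ∀ l ∈ L, (x : H) * l = l * x := by
    intro x h
    apply cent_of_mod hp
    intro l hl
    have h1 := hψ x ⟨l, hl⟩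
    rw [h, MulAut.one_apply, QuotientGroup.eq] at h1
    refine ⟨l⁻¹ * ((x : H) * l * (x : H)⁻¹), ?_, ?_, by group⟩
    · exact L.mul_mem (L.inv_mem hl) (cjL x ⟨l, hl⟩).2
    · intro m hm
      have h3 := mem_center_iff.1 h1 ⟨m, hm⟩
      exact (congrArg Subtype.val h3).symm
  have hzz : (⟨zz K, hzN⟩ : normalizer (L : Set H)) * ⟨zz K, hzN⟩ = 1 := Subtype.ext (w.zz_sq hz)
  -- an element of odd order of `C_L(z)`
  have hx : ∃ x ∈ L, x ≠ 1 ∧ Odd (orderOf x) ∧ zz K * x = x * zz K := by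
    obtain ⟨y, hy1, hyo, hy⟩ := ree_fix hRee (α := ψ ⟨zz K, hzN⟩) (by rw [← map_mul, hzz, map_one])
    obtain ⟨l0, hl0⟩ := QuotientGroup.mk_surjective y
    have hZ : IsPGroup 2 (center L) := isPGroup_center_component hc hL
    obtain ⟨l, hl, ho⟩ := exists_odd_lift hZ l0 hyo (by rw [hl0, pow_orderOf_eq_one])
    rw [hl0] at hl
    have h1 := hψ ⟨zz K, hzN⟩ l
    rw [hl, hy, ← hl, QuotientGroup.eq] at h1
    obtain ⟨ζ, hζ⟩ : ∃ ζ, ζ = l⁻¹ * cjL ⟨zz K, hzN⟩ l := ⟨_, rfl⟩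
    rw [← hζ] at h1
    have hcm : l * ζ = ζ * l := mem_center_iff.1 h1 l
    have hcj : cjL ⟨zz K, hzN⟩ l = l * ζ := by rw [hζ]; group
    have h3 : Odd (orderOf (cjL ⟨zz K, hzN⟩ l)) := by
      have : orderOf (cjL ⟨zz K, hzN⟩ l) = orderOf l := by
        rw [← Subgroup.orderOf_coe, ← Subgroup.orderOf_coe]
        have : ((cjL ⟨zz K, hzN⟩ l : L) : H) = MulAut.conj (zz K) (l : H) := rfl
        rw [this, MulEquiv.orderOf_eq]
      rw [this]; exact ho
    have h4 : Odd (orderOf ζ) := by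
      have hcomm : l⁻¹ * cjL ⟨zz K, hzN⟩ l = cjL ⟨zz K, hzN⟩ l * l⁻¹ := by
        rw [hcj, ← mul_assoc, inv_mul_cancel, one_mul, hcm, mul_inv_cancel_right]
      rw [hζ]
      exact ltwo_odd_mul hcomm (odd_inv ho) h3
    obtain ⟨k, hk⟩ := hZ ⟨ζ, h1⟩
    have h5 : ζ = 1 := eq_one_of_odd_two h4 (congrArg Subtype.val hk)
    rw [h5, mul_one] at hcj
    have h6 : zz K * l * (zz K)⁻¹ = l := congrArg Subtype.val hcj
    rw [mul_inv_eq_iff_eq_mul] at h6
    refine ⟨l, l.2, ?_, by rw [Subgroup.orderOf_coe]; exact ho, h6⟩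
    intro h7
    apply hy1
    rw [← hl, show l = 1 from Subtype.ext h7]
    rfl
  -- the members over `z` normalise `L`
  have hnorm : ∀ g ∈ RR Om (zz K), cj g L = L := by
    intro g hg
    by_contra hne
    obtain ⟨x, hxL, hx1, hxo, hxz⟩ := hx
    have hcomm := C.comm L hL (cj g L) (C.conj L hL g (mem_top g)) (fun h => hne h.symm) x hxL _ (conj_mem_cj (g := g) hxL)
    have h1 := odd_fix' w hz hxz.symm hg hxo hcomm
    apply hx1
    refine C.cen_odd hL hxL ?_ hxo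
    intro y hy
    have h2 := C.comm L hL (cj g L) (C.conj L hL g (mem_top g)) (fun h => hne h.symm) y hy _ (conj_mem_cj (g := g) hxL)
    rw [h1] at h2
    exact h2.symm
  obtain ⟨a, ha, haa⟩ := w.exists_four hK
  have haN : a ∈ normalizer (L : Set H) := mem_normalizer_iff_cj.2 (hnorm a (WR.le_RR hKz ha))
  have h1 : ψ ⟨a, haN⟩ * ψ ⟨a, haN⟩ = ψ ⟨zz K, hzN⟩ := by
    rw [← map_mul]
    congr 1
    exact Subtype.ext haa
  have h2 : ψ ⟨zz K, hzN⟩ = 1 := by
    rw [← h1]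
    apply sq_eq_one hnc hSL
    rw [h1, ← map_mul, hzz, map_one]
  exact hn (htriv _ h2)

/-- **981's literal** -/
theorem ree_cent (t : TW Om S N E s c) (hL : IsComponent L) (hRee : Cfsg.Lie.IsoRee (↥L ⧸ center ↥L)) :
    ∀ K ∈ Om, K ≤ (S : Subgroup H) → ∀ x ∈ L, zz K * x = x * zz K :=
  fun _ hK _ => ree_cent_of t.w t.core hL hRee hK

end grp

end Cfsg.Agent.Cit.Nil.LO
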