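import Cfsg.Agent.Cit.Nil.LO.TWComp
import Cfsg.Agent.Cit.Nil.LO.LTwoInner
import Cfsg.Agent.Cit.Nil.LO.ThreeTypes
import Cfsg.Agent.Cit.Nil.LO.ThreeRee
import Cfsg.Agent.Cit.Nil.Three.Inst
import Cfsg.Agent.UGT.Iface

/-!
# S1309, node (n2) THREE PROPAGATION: the assembly

* `Sock` : the remaining piece (section 7 of LieOdd);
* `TW.inner` : in the world `TW` the element `c` acts on every component `L` of `H = C(a)` as an element of `L`.
-/

set_option autoImplicit false
set_option linter.style.haveILetI false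
set_option linter.unusedSectionVars false

namespace Cfsg.Agent.Cit.Nil.LO

open Subgroup Cfsg Cit RG
open Cfsg.Agent.OddHalf.NI3.Bad.Unb (IsUnb)
open Cfsg.Agent.OddHalf.Iface (LieOdd)
open Cfsg.Agent.UGT.Iface (IsL2)

universe u

/-- **the remaining piece** -/
structure Sock : Prop where
  /-- section 7 of LieOdd -/
  seven : ∀ (H : Type u) [Group H] [Finite H] (Om : Set (Subgroup H)) (S : Sylow 2 H) (N L : Subgroup H) (s c a : H),
    TW Om S N (RR Om a) s c → (∀ x : H, a * x = x * a) → IsComponent L → ¬ Cen L s → LieOdd (↥L ⧸ center ↥L) →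
    ¬ IsL2 (↥L ⧸ center ↥L) → ¬ Lie.IsoRee (↥L ⧸ center ↥L) → Cen L c

theorem inner_of_cen {H : Type*} [Group H] {L : Subgroup H} {c : H} (h : Cen L c) :
    ∃ l ∈ L, ∀ x ∈ L, c * x * c⁻¹ = l * x * l⁻¹ :=
  ⟨1, one_mem L, fun x hx => by rw [h x hx, mul_inv_cancel_right, one_mul, inv_one, mul_one]⟩

/-- **the odd element `c` is inner on every component** -/
theorem TW.inner (h1311 : P11.{u}) (hs : Sock.{u}) {H : Type u} [Group H] [Finite H] {Om : Set (Subgroup H)}
    {S : Sylow 2 H} {N L : Subgroup H} {s c a : H} (t : TW Om S N (RR Om a) s c) (ha : ∀ x : H, a * x = x * a)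
    (hL : IsComponent L) : ∃ l ∈ L, ∀ x ∈ L, c * x * c⁻¹ = l * x * l⁻¹ := by
  rcases TW.unb h1311 t ha hL with h | ⟨hn, hU⟩
  · exact inner_of_cen h
  rcases hU with hLie | hU
  · by_cases hRee : Lie.IsoRee (↥L ⧸ center ↥L)
    · exfalso
      obtain ⟨K, hK, hKS, h1, -⟩ := t.exists_w hL hn
      exact h1 (ree_cent t hL hRee K hK hKS)
    by_cases hL2 : IsL2 (↥L ⧸ center ↥L)
    · obtain ⟨F, i1, i2, ho, h5, ⟨e⟩⟩ := hL2
      obtain ⟨K, hK, hKS, h1, h2⟩ := t.exists_w hL hn
      have hw1 : ∃ m ∈ L, zz K * m ≠ m * zz K := by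
        by_contra hcon
        push Not at hcon
        exact h1 hcon
      obtain ⟨l, hl, -, h3, -⟩ := ltwo_inner t.w (eq_of_qs hL.2) (t.two_center hL) e ho (by omega) (w := zz K)
        ⟨K, hK, rfl⟩ (mem_normalizer_iff_cj.2 (t.zz_norm hL hK)) hw1 (fun K' _ k _ => by
          by_cases h4 : cj k L = L
          · exact Or.inl (mem_normalizer_iff_cj.2 h4)
          · right
            intro x hx y hy
            exact Comp.comm_of_ne hL (Comp.isComponent_cj hL k) (Ne.symm h4) hx (conj_mem_cj hy)) t.odd (t.c_norm ha hL)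
        (h2 _ (t.w.zm hK))
      exact ⟨l, hl, h3⟩
    · exact inner_of_cen (hs.seven H Om S N L s c a t ha hL hn hLie hL2 hRee)
  · exact t.inner_sp ha hL hU

end Cfsg.Agent.Cit.Nil.LO
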