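import Cfsg.Agent.Cit.Nil.LO.Cent
import Cfsg.Agent.Cit.Nil.RG.Closed
import Cfsg.Agent.Cit.CTEnd
import Cfsg.Agent.Cit.TComp

/-!
# S1309, node (n2) THREE PROPAGATION: the world for one component `L` of `H = C(a)`

`H` plays `C(a)`, `Om` = the members contained in `H`, `S` a Sylow 2-subgroup of `H`, `s ∈ T_S`, `N / E = O(C_H(s) / E)`,
`E` the product of the members over `a`, `c ∈ N` of odd order centralising the members in `S` (those not in `O₂(H)`).

* `TW.RR_le` : `K ∈ Om`, `K ≤ S` : all members over `z_K` are contained in `S`;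
* `TW.comm_p` : `c` centralises the `p`-elements of `C_L(s)` (THEOREM FIX).
-/

set_option autoImplicit false
set_option linter.style.haveILetI false
set_option linter.unusedSectionVars false

namespace Cfsg.Agent.Cit.Nil.LO

open Subgroup Cfsg Cit RG

/-- the world of (n2) -/
structure TW {H : Type*} [Group H] [Finite H] (Om : Set (Subgroup H)) (S : Sylow 2 H) (N E : Subgroup H) (s c : H) :
    Prop where
  hyp : Hyp Om
  card : ∀ K ∈ Om, Nat.card K = 8
  core : pPrimeCore 2 H = ⊥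
  s2 : s * s = 1
  sT : s ∈ closure {z | ∃ K ∈ Om, K ≤ (S : Subgroup H) ∧ zz K = z}
  odd : Odd (orderOf c)
  cN : c ∈ N
  Ns : N ≤ centralizer {s}
  nN : centralizer {s} ≤ normalizer (N : Set H)
  nE : E.Normal
  EN : E ≤ N
  E2 : E ≤ pCore 2 H
  rel : Odd (E.relIndex N)
  fix : ∀ K ∈ Om, K ≤ (S : Subgroup H) → (∀ k ∈ K, c * k = k * c) ∨ K ≤ pCore 2 H

section gen

variable {H : Type*} [Group H] [Finite H]

/-- a group with a central Sylow 2-subgroup -/
theorem split_central {M Z : Subgroup H} (hZ : IsPGroup 2 Z) (hc : ∀ z ∈ Z, ∀ m ∈ M, z * m = m * z)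
    (hr : Odd (Z.relIndex M)) {m : H} (hm : m ∈ M) : ∃ z ∈ Z, ∃ o ∈ OO M, m = z * o := by
  haveI : Fact (Nat.Prime 2) := ⟨Nat.prime_two⟩
  have hP : IsPGroup 2 (Z.subgroupOf M) := hZ.comap_subtype
  have hi : ¬ 2 ∣ (Z.subgroupOf M).index := by
    intro h
    have h1 : Z.relIndex M = (Z.subgroupOf M).index := rfl
    rw [← h1] at h
    exact (Nat.not_even_iff_odd.2 hr) (even_iff_two_dvd.2 h)
  let P : Sylow 2 M := hP.toSylow hi
  have hPZ : (P : Subgroup M) = Z.subgroupOf M := rfl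
  have hPc : normalizer ((P : Subgroup M) : Set M) ≤ centralizer ((P : Subgroup M) : Set M) := by
    intro g _
    rw [mem_centralizer_iff]
    intro x hx
    exact Subtype.ext (hc _ (mem_subgroupOf.1 (by rw [hPZ] at hx; exact hx)) _ g.2)
  have hK := MonoidHom.ker_transferSylow_isComplement' P hPc
  have hK2 := MonoidHom.not_dvd_card_ker_transferSylow P hPc
  obtain ⟨K, hKe⟩ : ∃ K : Subgroup M, K = (MonoidHom.transferSylow P hPc).ker := ⟨_, rfl⟩
  rw [← hKe] at hK hK2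
  have hKn : K.Normal := by rw [hKe]; infer_instance
  obtain ⟨⟨x, y⟩, hxy⟩ := hK.2 ⟨m, hm⟩
  have h1 : K ≤ oddCore M := Lib.Cores.le_pPrimeCore hKn ((Nat.Prime.coprime_iff_not_dvd Nat.prime_two).2 hK2).symm
  have h2 : (y : M) ∈ Z.subgroupOf M := by rw [← hPZ]; exact y.2
  have h3 : ((y : M) : H) ∈ Z := mem_subgroupOf.1 h2
  refine ⟨_, h3, ((x : M) : H), mem_map.2 ⟨x, h1 x.2, rfl⟩, ?_⟩
  have h4 : ((x : M) : H) * ((y : M) : H) = m := congrArg Subtype.val hxy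
  rw [hc _ h3 _ (x : M).2, h4]

/-- components centralise `O₂` -/
theorem comp_pCore {L : Subgroup H} (hL : IsComponent L) {x l : H} (hx : x ∈ pCore 2 H) (hl : l ∈ L) : l * x = x * l := by
  have h2 := ((SignalizersComponents.Components.component_le_layer hL).trans
    (SignalizersComponents.Components.layer_le_centralizer_fitting (G := H))) hl
  exact (mem_centralizer_iff.1 h2 x (Lib.Cores.pCore_le_fittingSubgroup 2 hx)).symm

end gen

namespace TW

variable {H : Type*} [Group H] [Finite H] {Om : Set (Subgroup H)} {S : Sylow 2 H} {N E L K : Subgroup H} {s c : H}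

/-- the nil family -/
theorem w (t : TW Om S N E s c) : WR Om := WR.of_hyp t.hyp t.card

/-- all members over `z_K` lie in `S` -/
theorem _root_.Cfsg.Agent.Cit.Nil.RG.WR.RR_le_sylow (w : WR Om) (S : Sylow 2 H) (hK : K ∈ Om) (hKS : K ≤ (S : Subgroup H)) :
    RR Om (zz K) ≤ (S : Subgroup H) := by
  haveI : Fact (Nat.Prime 2) := ⟨Nat.prime_two⟩
  obtain ⟨𝒦, h𝒦⟩ : ∃ 𝒦 : Set (Subgroup H), 𝒦 = {M | M ∈ Om ∧ ∃ K ∈ Om, K ≤ (S : Subgroup H) ∧ zz M = zz K} := ⟨_, rfl⟩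
  have hS2 : IsPGroup 2 (S : Subgroup H) := S.isPGroup'
  have h1 : IsPGroup 2 (SS 𝒦) := by
    refine SS_two _ 𝒦 rfl ?_ ?_
    · intro M hM
      rw [h𝒦] at hM
      exact w.two hM.1
    · intro M hM M' hM' hne
      rw [h𝒦] at hM hM'
      obtain ⟨hMO, K, hK, hKS, hz⟩ := hM
      obtain ⟨hMO', K', hK', hKS', hz'⟩ := hM'
      by_cases he : zz K = zz K'
      · exact w.comm M hMO M' hMO' (by rw [hz, hz', he]) hne
      · have hKK : K ≠ K' := by rintro rfl; exact he rfl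
        have h2 := w.pg K hK K' hK' _ hS2 hKS hKS' hKK
        have h3 := w.CP_of_cen (z := zz K) (t := zz K') ⟨hK, rfl⟩
          (fun k hk => (h2 k hk _ (w.zm hK')).symm) he
        exact h3.2 M ⟨hMO, hz⟩ M' ⟨hMO', hz'⟩
  have h2 : (S : Subgroup H) ≤ normalizer (SS 𝒦 : Set H) := by
    have h3 : ∀ g ∈ (S : Subgroup H), ∀ x ∈ SS 𝒦, g * x * g⁻¹ ∈ SS 𝒦 := by
      intro g hg x hx
      refine SS_cj_le (𝒦 := 𝒦) (𝒦' := 𝒦) (fun M hM => ?_) hx
      rw [h𝒦] at hM ⊢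
      obtain ⟨hMO, K, hK, hKS, hz⟩ := hM
      refine ⟨w.conj M hMO g, cj g K, w.conj K hK g, ?_, ?_⟩
      · intro x hx
        rw [mem_cj] at hx
        have h4 := (S : Subgroup H).mul_mem ((S : Subgroup H).mul_mem hg (hKS hx)) ((S : Subgroup H).inv_mem hg)
        have h5 : g * (g⁻¹ * x * g) * g⁻¹ = x := by group
        rwa [h5] at h4
      · rw [w.zcj hMO, w.zcj hK, hz]
    intro g hg
    rw [mem_normalizer_iff]
    intro x
    refine ⟨h3 g hg x, fun hx => ?_⟩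
    have h4 := h3 g⁻¹ ((S : Subgroup H).inv_mem hg) _ hx
    have h5 : g⁻¹ * (g * x * g⁻¹) * g⁻¹⁻¹ = x := by group
    rwa [h5] at h4
  have h3 : IsPGroup 2 ((S : Subgroup H) ⊔ SS 𝒦 : Subgroup H) := hS2.to_sup_of_normal_right' h1 h2
  have h4 : (S : Subgroup H) ⊔ SS 𝒦 = (S : Subgroup H) := S.is_maximal' h3 le_sup_left
  have h5 : SS 𝒦 ≤ (S : Subgroup H) := by rw [← h4]; exact le_sup_right
  refine le_trans (SS_le fun M hM => le_SS ?_) h5
  rw [h𝒦]
  exact ⟨hM.1, K, hK, hKS, hM.2⟩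

theorem RR_le (t : TW Om S N E s c) (hK : K ∈ Om) (hKS : K ≤ (S : Subgroup H)) : RR Om (zz K) ≤ (S : Subgroup H) :=
  t.w.RR_le_sylow S hK hKS

theorem two_center (t : TW Om S N E s c) (hL : IsComponent L) : IsPGroup 2 (center L) :=
  isPGroup_center_component t.core hL

/-- `N ∩ L = Z × O(N ∩ L)`, `Z` central in `L` -/
theorem split (t : TW Om S N E s c) (hL : IsComponent L) {m : H} (hm : m ∈ N ⊓ L) :
    ∃ z ∈ E ⊓ L, ∃ o ∈ OO (N ⊓ L), m = z * o := by
  refine split_central ((Lib.Cores.pCore_isPGroup 2).to_le (inf_le_left.trans t.E2)) ?_ ?_ hm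
  · intro z hz m hm
    exact (comp_pCore hL (t.E2 hz.1) hm.2).symm
  · have h1 : (E ⊓ L).relIndex (N ⊓ L) ∣ E.relIndex N := by
      have h2 : (E ⊓ L).relIndex (N ⊓ L) = E.relIndex (N ⊓ L) := by
        rw [← inf_relIndex_right E (N ⊓ L)]
        congr 1
        ext x
        simp only [mem_inf]
        exact ⟨fun h => ⟨h.1, t.EN h.1, h.2⟩, fun h => ⟨h.1, h.2.2⟩⟩
      rw [h2]
      have h3 : (E.subgroupOf N).Normal := t.nE.comap _
      rw [← relIndex_subgroupOf (H := E) (inf_le_left : N ⊓ L ≤ N)]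
      exact relIndex_dvd_index_of_normal _ _
    exact Odd.of_dvd_nat t.rel h1

/-- `[v, c] ∈ O(C_L(s))` for `v ∈ C_L(s)` of odd order -/
theorem com_mem (t : TW Om S N E s c) (hL : IsComponent L) (hcL : c ∈ normalizer (L : Set H)) {v : H} (hv : v ∈ L)
    (hvs : v * s = s * v) (hvo : Odd (orderOf v)) : v * c * v⁻¹ * c⁻¹ ∈ OO (L ⊓ centralizer {s}) := by
  have hvC : v ∈ centralizer ({s} : Set H) := mem_centralizer_singleton_iff.2 hvs
  have hvN : v ∈ normalizer (N : Set H) := t.nN hvC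
  -- `e := c v c⁻¹ v⁻¹`
  have he : c * v * c⁻¹ * v⁻¹ ∈ N ⊓ L := by
    constructor
    · have h1 := (mem_normalizer_iff.1 hvN c⁻¹).1 (N.inv_mem t.cN)
      have h2 : c * v * c⁻¹ * v⁻¹ = c * (v * c⁻¹ * v⁻¹) := by group
      rw [h2]
      exact N.mul_mem t.cN h1
    · exact L.mul_mem ((mem_normalizer_iff.1 hcL v).1 hv) (L.inv_mem hv)
  obtain ⟨z, hz, o, ho, h1⟩ := t.split hL he
  have hvn : v ∈ normalizer (OO (N ⊓ L) : Set H) := by
    rw [mem_normalizer_iff_cj, ← OO_cj, cj_inf, mem_normalizer_iff_cj.1 hvN, mem_normalizer_iff_cj.1 (le_normalizer hv)]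
  -- `c v c⁻¹ = z (o v)`
  have h2 : c * v * c⁻¹ = z * (o * v) := by
    rw [← mul_assoc, ← h1]; group
  have hzc : Commute z (o * v) := by
    have h3 := comp_pCore hL (t.E2 hz.1) (L.mul_mem (OO_le _ ho).2 hv)
    exact h3.symm
  have hpow : ∀ k : ℕ, (o * v) ^ k * (v ^ k)⁻¹ ∈ OO (N ⊓ L) := by
    intro k
    induction k with
    | zero => rw [pow_zero, pow_zero, inv_one, mul_one]; exact one_mem _
    | succ k ih =>
      have h3 : (o * v) ^ (k + 1) * (v ^ (k + 1))⁻¹ = o * (v * ((o * v) ^ k * (v ^ k)⁻¹) * v⁻¹) := by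
        rw [pow_succ' (o * v), pow_succ' v, mul_inv_rev]
        have h4 : (v ^ k)⁻¹ * v⁻¹ = v⁻¹ * (v ^ k)⁻¹ := by
          rw [← mul_inv_rev, ← mul_inv_rev, ← pow_succ', ← pow_succ]
        calc o * v * (o * v) ^ k * ((v ^ k)⁻¹ * v⁻¹) = o * (v * ((o * v) ^ k * (v ^ k)⁻¹) * v⁻¹) := by
              simp only [mul_assoc]
          _ = _ := rfl
      rw [h3]
      exact mul_mem ho ((mem_normalizer_iff.1 hvn _).1 ih)
  have h3 : z ^ orderOf v ∈ OO (N ⊓ L) := by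
    have h4 : (c * v * c⁻¹) ^ orderOf v = 1 := by rw [conj_pow, pow_orderOf_eq_one]; group
    rw [h2, hzc.mul_pow] at h4
    have h5 := hpow (orderOf v)
    rw [pow_orderOf_eq_one, inv_one, mul_one] at h5
    have h6 : z ^ orderOf v = ((o * v) ^ orderOf v)⁻¹ := eq_inv_of_mul_eq_one_left h4
    rw [h6]
    exact inv_mem h5
  have hz2 : IsPGroup 2 (zpowers z) := by
    refine (Lib.Cores.pCore_isPGroup (G := H) 2).to_le ?_
    rw [zpowers_le]
    exact t.E2 hz.1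
  have h4 : z = 1 := by
    obtain ⟨n, hn⟩ := hz2 ⟨z, mem_zpowers z⟩
    have hn' : z ^ 2 ^ n = 1 := congrArg Subtype.val hn
    have h5 : Odd (orderOf (z ^ orderOf v)) := by
      rw [← Subgroup.orderOf_mk _ h3]
      have h6 := odd_OO (N ⊓ L)
      rw [← Nat.not_even_iff_odd, even_iff_two_dvd]
      exact fun h7 => h6 (h7.trans (orderOf_dvd_natCard _))
    have h6 : z ^ orderOf v = 1 := eq_one_of_two_odd (n := n) (by
      rw [← pow_mul, mul_comm, pow_mul, hn', one_pow]) h5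
    have h7 : Odd (orderOf z) := Odd.of_dvd_nat hvo (orderOf_dvd_of_pow_eq_one h6)
    exact eq_one_of_two_odd hn' h7
  rw [h4, one_mul] at h1
  have h5 : OO (N ⊓ L) ≤ OO (L ⊓ centralizer {s}) := by
    refine le_OO (le_inf ((OO_le _).trans inf_le_right) (((OO_le _).trans inf_le_left).trans t.Ns)) ?_ (odd_OO _)
    rintro y ⟨hyL, hys⟩
    rw [mem_normalizer_iff_cj, ← OO_cj, cj_inf, mem_normalizer_iff_cj.1 (t.nN hys),
      mem_normalizer_iff_cj.1 (le_normalizer hyL)]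
  have h6 : v * c * v⁻¹ * c⁻¹ = (c * v * c⁻¹ * v⁻¹)⁻¹ := by group
  rw [h6, h1]
  exact inv_mem (h5 ho)

/-- **THEOREM FIX**: `c` centralises the `p`-elements of `C_L(s)` -/
theorem comm_p (t : TW Om S N E s c) (hL : IsComponent L) (hcL : c ∈ normalizer (L : Set H))
    (hsL : s ∈ normalizer (L : Set H)) {p : ℕ} [Fact p.Prime] (hp : p ≠ 2) (hF : CT.FixP p L) {v : H} (hv : v ∈ L)
    (hvs : v * s = s * v) (hvp : IsPGroup p (zpowers v)) : v * c = c * v := by
  obtain ⟨k, hk⟩ := hvp ⟨v, mem_zpowers v⟩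
  have hk' : v ^ p ^ k = 1 := congrArg Subtype.val hk
  have hpo : Odd p := (Fact.out : p.Prime).odd_of_ne_two hp
  have hvo : Odd (orderOf v) := Odd.of_dvd_nat (hpo.pow (n := k)) (orderOf_dvd_of_pow_eq_one hk')
  have h3 := t.com_mem hL hcL hv hvs hvo
  obtain ⟨h1, h2⟩ := hF s t.s2 hsL
  obtain ⟨e, he⟩ : ∃ e, e = v * c * v⁻¹ * c⁻¹ := ⟨_, rfl⟩
  rw [← he] at h3
  have hve := h2 v hv hvs hvp e h3
  have h4 : c * v * c⁻¹ = e⁻¹ * v := by rw [he]; group
  have h5 : (e⁻¹ * v) ^ p ^ k = 1 := by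
    rw [← h4, conj_pow, hk']; group
  have h6 : Commute e⁻¹ v := ((show Commute v e from hve).symm).inv_left
  rw [h6.mul_pow, hk', mul_one, inv_pow, inv_eq_one] at h5
  have h7 : orderOf e ∣ p ^ k := orderOf_dvd_of_pow_eq_one h5
  have h8 : orderOf e ∣ Nat.card (OO (L ⊓ centralizer {s})) := by
    rw [← Subgroup.orderOf_mk e h3]; exact orderOf_dvd_natCard _
  have h9 : Nat.Coprime (p ^ k) (Nat.card (OO (L ⊓ centralizer {s}))) :=
    Nat.Coprime.pow_left k (((Nat.Prime.coprime_iff_not_dvd Fact.out).2 h1))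
  have h10 : orderOf e = 1 := Nat.eq_one_of_dvd_coprimes h9 h7 h8
  rw [orderOf_eq_one_iff, he, mul_inv_eq_one, mul_inv_eq_iff_eq_mul] at h10
  exact h10

end TW

end Cfsg.Agent.Cit.Nil.LO
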