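import Cfsg.Agent.Cit.Nil.LO.Prop
import Cfsg.Agent.Cit.Nil.End
import Cfsg.Agent.Cit.Nil.Ind.SubB
import Cfsg.Agent.Cit.Nil.Three.Choice
import Cfsg.Agent.Cit.Nil.Three.Lem

/-!
# S1309, node (n2) THREE PROPAGATION: the end

* `three_of` : THREE in `C(s)`, `s ∈ T_T`, gives THREE in `G`;
* `no_three`, `no_three'` : **(n2)** in the world `SCW`;
* `t0_cent` : `T0` for `C(s)`;
* `nil_or_one` : NIL or ONE for the members in `C(s)`, if no member has THREE in `C(s)`;
* `an` : NIL or ONE for the members in `C(s)`, `1 ≠ s ∈ T_T`.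
-/

set_option autoImplicit false
set_option linter.style.haveILetI false
set_option linter.unusedSectionVars false

namespace Cfsg.Agent.Cit.Nil.LO

open Subgroup Cfsg Cit RG IndDefs
open Cfsg.Agent.Cit.Nil.Three (H8 TG)

universe u

section three

variable {G : Type u} [Group G] [Finite G] {Om : Set (Subgroup G)} {s : G} {T₀ : Subgroup G}

theorem pPrimeCore_cent (hc : centralizerPPrimeCore 2 s = ⊥) : pPrimeCore 2 ↥(centralizer ({s} : Set G)) = ⊥ := by
  rw [centralizerPPrimeCore] at hc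
  exact (map_eq_bot_iff_of_injective _ (centralizer ({s} : Set G)).subtype_injective).1 hc

theorem h8_of (t : T0 Om) : H8 Om := ⟨t.hyp, t.card⟩

/-- `T_T` has exponent 2 -/
theorem TG_sq (t : T0 Om) (hT₀ : IsPGroup 2 T₀) (hs : s ∈ TG Om T₀) : s * s = 1 := by
  have h8 := h8_of t
  have hw : WR Om := WR.of_hyp t.hyp t.card
  have hcm : ∀ x ∈ TG Om T₀, ∀ K ∈ Om, K ≤ T₀ → x * zz K = zz K * x := fun x hx K hK hKT =>
    h8.le_cent_TG hT₀ hK hKT hx (hw.zm hK)
  rw [TG] at hs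
  induction hs using closure_induction with
  | mem x hx => obtain ⟨K, hK, -, rfl⟩ := hx; exact hw.zs hK
  | one => rw [one_mul]
  | mul x y hx hy h1 h2 =>
    have hxy : x * y = y * x := by
      have h3 : TG Om T₀ ≤ centralizer ({x} : Set G) := by
        rw [TG, closure_le]
        rintro z ⟨K, hK, hKT, rfl⟩
        exact mem_centralizer_singleton_iff.2 (hcm x hx K hK hKT).symm
      exact (mem_centralizer_singleton_iff.1 (h3 hy)).symm
    calc x * y * (x * y) = x * (y * x) * y := by group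
      _ = (x * x) * (y * y) := by rw [← hxy]; group
      _ = 1 := by rw [h1, h2, one_mul]
  | inv x hx h1 => rw [← mul_inv_rev, h1, inv_one]

/-- **(n2), `T0` form**: THREE in `C(s)` gives THREE in `G` -/
theorem three_of (h1311 : P11.{u}) (h7 : Sock.{u}) (t : T0 Om)
    (hcore : ∀ v : G, orderOf v = 2 → centralizerPPrimeCore 2 v = ⊥) (hT₀ : IsPGroup 2 T₀) (hs : s ∈ TG Om T₀)
    {K : Subgroup ↥(centralizer ({s} : Set G))} (hK : K ∈ restr Om (centralizer {s})) (h3 : IndDefs.Three K) :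
    ∃ K' ∈ Om, IndDefs.Three K' := by
  have h8 := h8_of t
  have hw : WR Om := WR.of_hyp t.hyp t.card
  obtain ⟨K', J, T, hK', hT, hKT, hsT, hKJ, hJ, hsub, ⟨e⟩⟩ := h8.exists_data hT₀ hs hK h3
  refine ⟨K', hK', ?_⟩
  have h1 : orderOf (zz K') = 2 := (hw.zz_spec hK').2
  refine h8.three_prop hK' (pPrimeCore_cent (hcore _ h1)) hT hKT (TG_sq t hT hsT) hsT hKJ hJ hsub e ?_
  intro S N s' c tw _ L hL
  exact tw.inner h1311 h7 (fun x => (Three.ac_cen (zz K') x)) hL

/-- **(n2)**: no THREE in `C(s)`, `s ∈ T_T` -/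
theorem no_three (h1311 : P11.{u}) (h7 : Sock.{u}) (w : SCW G Om)
    (hcore : ∀ v : G, orderOf v = 2 → centralizerPPrimeCore 2 v = ⊥) (hT₀ : IsPGroup 2 T₀) (hs : s ∈ TG Om T₀) :
    ∀ K ∈ restr Om (centralizer {s}), ¬ IndDefs.Three K := by
  intro K hK h3
  obtain ⟨K', hK', h4⟩ := three_of h1311 h7 w.t0 hcore hT₀ hs hK h3
  exact w.three K' hK' h4

/-- **(n2)**, on the level of `G` -/
theorem no_three' (h1311 : P11.{u}) (h7 : Sock.{u}) (w : SCW G Om)
    (hcore : ∀ v : G, orderOf v = 2 → centralizerPPrimeCore 2 v = ⊥) (hT₀ : IsPGroup 2 T₀) (hs : s ∈ TG Om T₀)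
    {K J : Subgroup G} (hK : K ∈ Om) (hKJ : K ≤ J) (hJ : J ≤ centralizer {zz K} ⊓ centralizer {s})
    (hsub : (J.subgroupOf (centralizer {zz K} ⊓ centralizer {s})).IsSubnormal)
    (e : (↥J ⧸ oddCore ↥J) ≃* Matrix.SpecialLinearGroup (Fin 2) (ZMod 3)) : False := by
  have h8 := h8_of w.t0
  have hw : WR Om := WR.of_hyp w.t0.hyp w.t0.card
  obtain ⟨T, hT, hKT, hsT⟩ := h8.exists_T hT₀ hs hK (hKJ.trans (hJ.trans inf_le_right))
  have h1 : orderOf (zz K) = 2 := (hw.zz_spec hK).2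
  refine w.three K hK (h8.three_prop hK (pPrimeCore_cent (hcore _ h1)) hT hKT (TG_sq w.t0 hT hsT) hsT hKJ hJ hsub e ?_)
  intro S N s' c tw _ L hL
  exact tw.inner h1311 h7 (fun x => (Three.ac_cen (zz K) x)) hL

end three

section cent

variable {G : Type u} [Group G] [Finite G] {Om : Set (Subgroup G)} {s : G}

/-- `T0` for `C(s)` -/
theorem t0_cent (t : T0 Om) (hc : centralizerPPrimeCore 2 s = ⊥) : T0 (restr Om (centralizer {s})) where
  hyp := t.hyp.restr _
  card K hK := by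
    rw [← t.card _ hK, card_map_of_injective (centralizer ({s} : Set G)).subtype_injective]
  core := pPrimeCore_cent hc

/-- `C(s) < G` -/
theorem card_cent_lt (w : SCW G Om) (hs : s ≠ 1) : Nat.card ↥(centralizer ({s} : Set G)) < Nat.card G := by
  refine lt_of_le_of_ne (Nat.le_of_dvd Nat.card_pos (card_subgroup_dvd_card _)) fun h => hs ?_
  have h1 : centralizer ({s} : Set G) = ⊤ := Subgroup.eq_top_of_card_eq _ h
  have h2 : s ∈ centralizer (generalizedFittingSubgroup G : Set G) := by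
    rw [mem_centralizer_iff]
    intro y _
    have h3 : y ∈ centralizer ({s} : Set G) := by rw [h1]; exact mem_top y
    exact mem_centralizer_singleton_iff.1 h3
  rwa [End.centralizer_fstar w.simple w.na, mem_bot] at h2

/-- NIL or ONE in `C(s)`, if there is no THREE in `C(s)` -/
theorem nil_or_one (w : SCW G Om) (hs : orderOf s = 2) (hc : centralizerPPrimeCore 2 s = ⊥)
    (h3 : ∀ K ∈ restr Om (centralizer {s}), ¬ IndDefs.Three K) :
    ∀ K ∈ restr Om (centralizer {s}), NIL K ∨ ONE (restr Om (centralizer {s})) K := by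
  intro K hK
  have hs1 : s ≠ 1 := by rintro rfl; rw [orderOf_one] at hs; omega
  rcases w.ih _ _ (card_cent_lt w hs1) (t0_cent w.t0 hc) K hK with h | h | ⟨K₁, hK₁, h⟩
  · exact Or.inl h
  · exact Or.inr h
  · exact absurd h (h3 K₁ (comp_sub hK hK₁))

/-- **AN(s)**: NIL or ONE in `C(s)` for `1 ≠ s ∈ T_T` -/
theorem an (h1311 : P11.{u}) (h7 : Sock.{u}) (w : SCW G Om)
    (hcore : ∀ v : G, orderOf v = 2 → centralizerPPrimeCore 2 v = ⊥) {T₀ : Subgroup G} (hT₀ : IsPGroup 2 T₀)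
    (hs : s ∈ TG Om T₀) (hs1 : s ≠ 1) :
    ∀ K ∈ restr Om (centralizer {s}), NIL K ∨ ONE (restr Om (centralizer {s})) K := by
  have h2 : orderOf s = 2 := orderOf_eq_prime (by rw [pow_two]; exact TG_sq w.t0 hT₀ hs) hs1
  exact nil_or_one w h2 (hcore s h2) (no_three h1311 h7 w hcore hT₀ hs)

end cent

end Cfsg.Agent.Cit.Nil.LO
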