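import Mathlib

/-!
# The plane: the centraliser of `Q₈` and of a torus of order `q - 1` (S1309, section 7 of LieOdd; abstract)

`P` an abelian group of odd order `q²`, `S` a commutative set of `q - 1` endomorphisms, semiregular on `P - 0`, `a`, `b`
injective endomorphisms commuting with `S`, `a b = - b a`. An injective endomorphism `g` commuting with `S`, `a`, `b` lies
in `S`.
-/

set_option autoImplicit false
set_option linter.unusedSectionVars false
set_option linter.style.haveILetI false

namespace Cfsg.Agent.LOC.SevAbs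

variable {P : Type*} [AddCommGroup P] [Finite P]

/-- the hypotheses -/
structure Hy (q : ℕ) (S : Set (AddMonoid.End P)) (a b : AddMonoid.End P) : Prop where
  card : Nat.card P = q * q
  two : 2 ≤ q
  odd : ∀ v : P, v + v = 0 → v = 0
  cardS : Nat.card S + 1 = q
  inj : ∀ s ∈ S, ∀ t ∈ S, ∀ v : P, v ≠ 0 → s v = t v → s = t
  nz : ∀ s ∈ S, ∀ v : P, v ≠ 0 → s v ≠ 0
  comm : ∀ s ∈ S, ∀ t ∈ S, s * t = t * s
  sa : ∀ s ∈ S, s * a = a * s
  sb : ∀ s ∈ S, s * b = b * s
  ab : a * b = -(b * a)
  inja : ∀ v : P, a v = 0 → v = 0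
  injb : ∀ v : P, b v = 0 → v = 0

variable {q : ℕ} {S : Set (AddMonoid.End P)} {a b g : AddMonoid.End P}

theorem Hy.false_of_comm (H : Hy q S a b) {v : P} (hv : v ≠ 0) (h : a (b v) = b (a v)) : False := by
  have h1 : a (b v) = -(b (a v)) := DFunLike.congr_fun H.ab v
  rw [h] at h1
  have h2 : b (a v) + b (a v) = 0 := by
    nth_rewrite 2 [h1]
    exact add_neg_cancel _
  exact hv (H.inja v (H.injb _ (H.odd _ h2)))

/-- `S ∪ {0} → P`, `s ↦ s v` is injective -/
theorem Hy.card_le (H : Hy q S a b) (U : AddSubgroup P) (hS : ∀ s ∈ S, ∀ u ∈ U, s u ∈ U) {v : P} (hv : v ∈ U)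
    (hv0 : v ≠ 0) : q ≤ Nat.card U ∧ (Nat.card U = q → ∀ w ∈ U, w ≠ 0 → ∃ s ∈ S, s v = w) := by
  classical
  let f : Option S → U := fun x => match x with
    | none => 0
    | some s => ⟨(s : AddMonoid.End P) v, hS s s.2 v hv⟩
  have hf : Function.Injective f := by
    rintro (_ | s) (_ | t) e
    · rfl
    · exfalso
      exact H.nz t t.2 v hv0 (congrArg Subtype.val e).symm
    · exfalso
      exact H.nz s s.2 v hv0 (congrArg Subtype.val e)
    · have := H.inj s s.2 t t.2 v hv0 (congrArg Subtype.val e)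
      rw [Subtype.ext this]
  have hSfin : Finite S := by
    have : Finite (AddMonoid.End P) := Finite.of_injective (fun f : AddMonoid.End P => (f : P → P))
      DFunLike.coe_injective
    infer_instance
  have hc : Nat.card (Option S) = q := by rw [Finite.card_option, H.cardS]
  refine ⟨by rw [← hc]; exact Nat.card_le_card_of_injective f hf, fun hU w hw hw0 => ?_⟩
  have hs : Function.Surjective f := ((Nat.bijective_iff_injective_and_card f).2 ⟨hf, by rw [hc, hU]⟩).2
  obtain ⟨x, hx⟩ := hs ⟨w, hw⟩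
  rcases x with _ | s
  · exact absurd (congrArg Subtype.val hx).symm hw0
  · exact ⟨s, s.2, congrArg Subtype.val hx⟩

/-- invariant subgroups have order greater than `q` -/
theorem Hy.card_lt (H : Hy q S a b) (U : AddSubgroup P) (hS : ∀ s ∈ S, ∀ u ∈ U, s u ∈ U) (ha : ∀ u ∈ U, a u ∈ U)
    (hb : ∀ u ∈ U, b u ∈ U) (hU : U ≠ ⊥) : q < Nat.card U := by
  obtain ⟨⟨v, hv⟩, hv0'⟩ := AddSubgroup.ne_bot_iff_exists_ne_zero.1 hU
  have hv0 : v ≠ 0 := fun h0 => hv0' (Subtype.ext h0)
  obtain ⟨h1, h2⟩ := H.card_le U hS hv hv0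
  refine lt_of_le_of_ne h1 fun h3 => ?_
  obtain ⟨s, hs, es⟩ := h2 h3.symm (a v) (ha _ hv) (fun h0 => hv0 (H.inja _ h0))
  obtain ⟨t, ht, et⟩ := h2 h3.symm (b v) (hb _ hv) (fun h0 => hv0 (H.injb _ h0))
  refine H.false_of_comm hv0 ?_
  have c1 : t (a v) = a (t v) := DFunLike.congr_fun (H.sa t ht) v
  have c2 : s (b v) = b (s v) := DFunLike.congr_fun (H.sb s hs) v
  have c3 : s (t v) = t (s v) := DFunLike.congr_fun (H.comm s hs t ht) v
  calc a (b v) = a (t v) := by rw [et]
    _ = t (a v) := c1.symm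
    _ = t (s v) := by rw [es]
    _ = s (t v) := c3.symm
    _ = s (b v) := by rw [et]
    _ = b (s v) := c2
    _ = b (a v) := by rw [es]

/-- the centraliser -/
def DD (S : Set (AddMonoid.End P)) (a b : AddMonoid.End P) : Subring (AddMonoid.End P) :=
  Subring.centralizer (insert a (insert b S))

theorem mem_DD {f : AddMonoid.End P} : f ∈ DD S a b ↔ a * f = f * a ∧ b * f = f * b ∧ ∀ s ∈ S, s * f = f * s := by
  unfold DD
  rw [Subring.mem_centralizer_iff]
  constructor
  · intro h
    exact ⟨h a (Set.mem_insert _ _), h b (Set.mem_insert_of_mem _ (Set.mem_insert _ _)),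
      fun s hs => h s (Set.mem_insert_of_mem _ (Set.mem_insert_of_mem _ hs))⟩
  · rintro ⟨h1, h2, h3⟩ x (rfl | rfl | hx)
    · exact h1
    · exact h2
    · exact h3 x hx

theorem Hy.inj_of_mem (H : Hy q S a b) {f : AddMonoid.End P} (hf : f ∈ DD S a b) (h0 : f ≠ 0) {v : P} (hv : f v = 0) :
    v = 0 := by
  obtain ⟨fa, fb, fs⟩ := mem_DD.1 hf
  by_contra hv0
  have e1 : ∀ x : P, a (f x) = f (a x) := fun x => DFunLike.congr_fun fa x
  have e2 : ∀ x : P, b (f x) = f (b x) := fun x => DFunLike.congr_fun fb x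
  have e3 : ∀ s ∈ S, ∀ x : P, s (f x) = f (s x) := fun s hs x => DFunLike.congr_fun (fs s hs) x
  let f' : P →+ P := f
  have hker : q < Nat.card f'.ker := by
    refine H.card_lt _ ?_ ?_ ?_ ?_
    · intro s hs u hu
      change f (s u) = 0
      have : f u = 0 := hu
      rw [← e3 s hs, this, map_zero]
    · intro u hu
      change f (a u) = 0
      have : f u = 0 := hu
      rw [← e1, this, map_zero]
    · intro u hu
      change f (b u) = 0
      have : f u = 0 := hu
      rw [← e2, this, map_zero]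
    · intro hb
      apply hv0
      have : v ∈ f'.ker := hv
      rw [hb] at this
      exact this
  have hran : q < Nat.card f'.range := by
    refine H.card_lt _ ?_ ?_ ?_ ?_
    · rintro s hs _ ⟨u, rfl⟩
      exact ⟨s u, (e3 s hs u).symm⟩
    · rintro _ ⟨u, rfl⟩
      exact ⟨a u, (e1 u).symm⟩
    · rintro _ ⟨u, rfl⟩
      exact ⟨b u, (e2 u).symm⟩
    · intro hb
      apply h0
      ext u
      have : f u ∈ f'.range := ⟨u, rfl⟩
      rw [hb] at this
      exact this
  have h1 : Nat.card f'.range * Nat.card f'.ker = Nat.card P := by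
    rw [← Nat.card_congr (QuotientAddGroup.quotientKerEquivRange f').toEquiv]
    exact (AddSubgroup.card_eq_card_quotient_mul_card_addSubgroup _).symm
  rw [H.card] at h1
  have h2 : q * q < Nat.card f'.range * Nat.card f'.ker :=
    Nat.mul_lt_mul_of_lt_of_le hran hker.le (by have := H.two; omega)
  omega

/-- **The centraliser is `S ∪ {0}`.** -/
theorem Hy.mem (H : Hy q S a b) (hg : ∀ v : P, g v = 0 → v = 0) (hgS : ∀ s ∈ S, s * g = g * s)
    (hga : a * g = g * a) (hgb : b * g = g * b) : g ∈ S := by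
  classical
  have hfin : Finite (AddMonoid.End P) := Finite.of_injective (fun f : AddMonoid.End P => (f : P → P))
    DFunLike.coe_injective
  have hnt : Nontrivial P := by
    rw [← Finite.one_lt_card_iff_nontrivial, H.card]
    have := H.two
    nlinarith
  obtain ⟨v, hv⟩ := exists_ne (0 : P)
  set D := DD S a b with hD
  have hdom : IsDomain D := by
    haveI : NoZeroDivisors D := ⟨by
      intro x y hxy
      by_cases hx : x = 0
      · exact Or.inl hx
      · right
        apply Subtype.ext
        ext w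
        have h1 : (x : AddMonoid.End P) ((y : AddMonoid.End P) w) = 0 := by
          have := congrArg (fun u : D => (u : AddMonoid.End P) w) hxy
          exact this
        exact H.inj_of_mem x.2 (fun h0 => hx (Subtype.ext h0)) h1⟩
    haveI : Nontrivial D := ⟨⟨0, 1, fun h0 => by
      apply hv
      have := congrArg (fun u : D => (u : AddMonoid.End P) v) h0
      exact this.symm⟩⟩
    exact NoZeroDivisors.to_isDomain D
  have hfield := Finite.isDomain_to_isField D
  have hSD : ∀ s ∈ S, s ∈ D := fun s hs =>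
    mem_DD.2 ⟨(H.sa s hs).symm, (H.sb s hs).symm, fun t ht => H.comm t ht s hs⟩
  have evi : ∀ {w : P}, w ≠ 0 → Function.Injective (fun f : D => (f : AddMonoid.End P) w) := by
    intro w hw f f' e
    by_contra hne
    have h1 : ((f - f' : D) : AddMonoid.End P) w = 0 := by
      change (f : AddMonoid.End P) w - (f' : AddMonoid.End P) w = 0
      exact sub_eq_zero.2 e
    exact hw (H.inj_of_mem (f - f').2 (fun h0 => hne (sub_eq_zero.1 (Subtype.ext h0))) h1)
  -- not transitive
  obtain ⟨w, hw⟩ : ∃ w, ∀ f : D, (f : AddMonoid.End P) v ≠ w := by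
    by_contra hcon
    push Not at hcon
    obtain ⟨f, hf⟩ := hcon (a v)
    obtain ⟨f', hf'⟩ := hcon (b v)
    refine H.false_of_comm hv ?_
    obtain ⟨fa, fb, -⟩ := mem_DD.1 f.2
    obtain ⟨fa', fb', -⟩ := mem_DD.1 f'.2
    have c1 : a ((f' : AddMonoid.End P) v) = (f' : AddMonoid.End P) (a v) := DFunLike.congr_fun fa' v
    have c2 : b ((f : AddMonoid.End P) v) = (f : AddMonoid.End P) (b v) := DFunLike.congr_fun fb v
    have c3 : (f' : AddMonoid.End P) ((f : AddMonoid.End P) v) = (f : AddMonoid.End P) ((f' : AddMonoid.End P) v) :=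
      DFunLike.congr_fun (congrArg Subtype.val (hfield.mul_comm f' f)) v
    calc a (b v) = a ((f' : AddMonoid.End P) v) := by rw [hf']
      _ = (f' : AddMonoid.End P) (a v) := c1
      _ = (f' : AddMonoid.End P) ((f : AddMonoid.End P) v) := by rw [hf]
      _ = (f : AddMonoid.End P) ((f' : AddMonoid.End P) v) := c3
      _ = (f : AddMonoid.End P) (b v) := by rw [hf']
      _ = b ((f : AddMonoid.End P) v) := c2.symm
      _ = b (a v) := by rw [hf]
  have hw0 : w ≠ 0 := fun h0 => hw 0 (by rw [h0]; rfl)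
  have hpair : Function.Injective (fun x : D × D => (x.1 : AddMonoid.End P) v + (x.2 : AddMonoid.End P) w) := by
    rintro ⟨f₁, f₂⟩ ⟨f₁', f₂'⟩ e
    have e' : (f₁ : AddMonoid.End P) v + (f₂ : AddMonoid.End P) w =
      (f₁' : AddMonoid.End P) v + (f₂' : AddMonoid.End P) w := e
    have e1 : ((f₁ - f₁' : D) : AddMonoid.End P) v = ((f₂' - f₂ : D) : AddMonoid.End P) w := by
      change (f₁ : AddMonoid.End P) v - (f₁' : AddMonoid.End P) v = (f₂' : AddMonoid.End P) w - (f₂ : AddMonoid.End P) w
      rw [sub_eq_sub_iff_add_eq_add, e', add_comm]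
    by_cases h2 : f₂' - f₂ = 0
    · rw [h2] at e1
      have h3 : f₁ = f₁' := by
        by_contra hne
        exact hv (H.inj_of_mem (f₁ - f₁').2 (fun h0 => hne (sub_eq_zero.1 (Subtype.ext h0))) e1)
      rw [h3, (sub_eq_zero.1 h2)]
    · exfalso
      obtain ⟨k, hk⟩ := hfield.mul_inv_cancel h2
      apply hw (k * (f₁ - f₁'))
      have h3 : ((k * (f₂' - f₂) : D) : AddMonoid.End P) w = w := by
        rw [hfield.mul_comm, hk]; rfl
      have h4 : ((k * (f₁ - f₁') : D) : AddMonoid.End P) v = (k : AddMonoid.End P) (((f₁ - f₁' : D) : AddMonoid.End P) v) :=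
        rfl
      rw [h4, e1]
      exact h3
  have hcard : Nat.card D * Nat.card D ≤ q * q := by
    rw [← H.card, ← Nat.card_prod]
    exact Nat.card_le_card_of_injective _ hpair
  have hle : Nat.card D ≤ q := by
    by_contra hcon
    push Not at hcon
    have := Nat.mul_lt_mul_of_lt_of_le hcon hcon.le (by omega)
    omega
  -- `S ∪ {0} = D`
  let φ : Option S → D := fun x => match x with
    | none => 0
    | some s => ⟨s, hSD s s.2⟩
  have hφ : Function.Injective φ := by
    rintro (_ | s) (_ | t) e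
    · rfl
    · exfalso
      refine H.nz t t.2 v hv ?_
      have := congrArg (fun u : D => (u : AddMonoid.End P) v) e
      exact this.symm
    · exfalso
      refine H.nz s s.2 v hv ?_
      have := congrArg (fun u : D => (u : AddMonoid.End P) v) e
      exact this
    · have h1 : (s : AddMonoid.End P) = t := congrArg (fun u : D => (u : AddMonoid.End P)) e
      rw [Subtype.ext h1]
  have hc : Nat.card (Option S) = q := by rw [Finite.card_option, H.cardS]
  have hφs : Function.Surjective φ := by
    refine ((Nat.bijective_iff_injective_and_card φ).2 ⟨hφ, le_antisymm ?_ ?_⟩).2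
    · exact Nat.card_le_card_of_injective φ hφ
    · rw [hc]; exact hle
  have hgD : g ∈ D := mem_DD.2 ⟨hga, hgb, hgS⟩
  obtain ⟨x, hx⟩ := hφs ⟨g, hgD⟩
  rcases x with _ | s
  · exfalso
    apply hv
    apply hg v
    have := congrArg (fun u : D => (u : AddMonoid.End P) v) hx
    exact this.symm
  · have h1 : (s : AddMonoid.End P) = g := congrArg (fun u : D => (u : AddMonoid.End P)) hx
    rw [← h1]
    exact s.2

end Cfsg.Agent.LOC.SevAbs
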