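import Cfsg.Agent.Cit.Nil.LO.Front
import Cfsg.Agent.Cit.AssemblyNil
import Cfsg.Agent.UGT.L2i.FactsRep

/-!
# S1309 (n1), pieces (E0), (E1) for `L` simple and for `L = F*(G)` simple

* `exists_front_simple` : (E1) for `L ⊴ H` simple with `C_H(L) = 1`, `L` `LieBig`, not `PSL₂(q)`;
* `exists_front_of_core` : the same, with `O(C(v)) ≠ 1` for an involution `v` instead of `LieBig`;
* `exists_front_fs` : the same for `L = F*(G)`;
* `isG2D4_simple` : `Front.elim` gives `IsG2D4 p (L / Z(L))`; this is `IsG2D4 p L` for simple `L`.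
-/

set_option autoImplicit false
set_option linter.dupNamespace false

open Subgroup Cfsg
open Cfsg.Agent.OddHalf.NI (LieBig)
open Cfsg.Agent.UGT.Iface (IsL2)

namespace Cfsg.Agent.Cit.Nil.LO

universe u

theorem center_eq_bot {L : Type*} [Group L] (hs : IsSimpleGroup L) (hna : ¬ IsMulCommutative L) :
    center L = ⊥ := by
  rcases (inferInstance : (center L).Normal).eq_bot_or_eq_top with h | h
  · exact h
  · exact absurd ⟨⟨fun a b => ((mem_center_iff.1 (show a ∈ center L by rw [h]; trivial)) b).symm⟩⟩ hna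

/-- `L / Z(L) ≃ L` -/
noncomputable def quoEquiv {L : Type*} [Group L] (hs : IsSimpleGroup L) (hna : ¬ IsMulCommutative L) :
    (L ⧸ center L) ≃* L :=
  (QuotientGroup.quotientMulEquivOfEq (center_eq_bot hs hna)).trans QuotientGroup.quotientBot

/-- a non-abelian simple group is quasisimple -/
theorem quasi_of_simple {L : Type*} [Group L] (hs : IsSimpleGroup L) (hna : ¬ IsMulCommutative L) :
    IsQuasisimple L := by
  refine ⟨⟨End.commutator_eq_top hs hna⟩, ?_⟩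
  exact (quoEquiv hs hna).isSimpleGroup_congr.2 hs

theorem lieBig_congr {X Y : Type*} [Group X] [Group Y] (e : X ≃* Y) (h : LieBig X) : LieBig Y := by
  obtain ⟨F, i1, i2, ho, h3, h⟩ := h
  refine ⟨F, i1, i2, ho, h3, ?_⟩
  rcases h with h | h | h | h | h | h | h | h | h | h | h | h | h
  · obtain ⟨n, hn, ⟨f⟩⟩ := h
    exact Or.inl ⟨n, hn, ⟨e.symm.trans f⟩⟩
  · obtain ⟨m, hm, ⟨f⟩⟩ := h
    exact Or.inr (Or.inl ⟨m, hm, ⟨e.symm.trans f⟩⟩)
  · obtain ⟨n, q, hq, hF, hn, ⟨f⟩⟩ := h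
    exact Or.inr (Or.inr (Or.inl ⟨n, q, hq, hF, hn, ⟨e.symm.trans f⟩⟩))
  · obtain ⟨m, hm, ⟨f⟩⟩ := h
    exact Or.inr (Or.inr (Or.inr (Or.inl ⟨m, hm, ⟨e.symm.trans f⟩⟩)))
  · obtain ⟨m, hm, ⟨f⟩⟩ := h
    exact Or.inr (Or.inr (Or.inr (Or.inr (Or.inl ⟨m, hm, ⟨e.symm.trans f⟩⟩))))
  · obtain ⟨m, a, b, hm, hab, ⟨f⟩⟩ := h
    exact Or.inr (Or.inr (Or.inr (Or.inr (Or.inr (Or.inl ⟨m, a, b, hm, hab, ⟨e.symm.trans f⟩⟩)))))
  · obtain ⟨f⟩ := h
    exact Or.inr (Or.inr (Or.inr (Or.inr (Or.inr (Or.inr (Or.inl ⟨e.symm.trans f⟩))))))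
  · obtain ⟨f⟩ := h
    exact Or.inr (Or.inr (Or.inr (Or.inr (Or.inr (Or.inr (Or.inr (Or.inl ⟨e.symm.trans f⟩)))))))
  · obtain ⟨f⟩ := h
    exact Or.inr (Or.inr (Or.inr (Or.inr (Or.inr (Or.inr (Or.inr (Or.inr (Or.inl ⟨e.symm.trans f⟩))))))))
  · obtain ⟨f⟩ := h
    exact Or.inr (Or.inr (Or.inr (Or.inr (Or.inr (Or.inr (Or.inr (Or.inr (Or.inr (Or.inl ⟨e.symm.trans f⟩)))))))))
  · obtain ⟨f⟩ := h
    exact Or.inr (Or.inr (Or.inr (Or.inr (Or.inr (Or.inr (Or.inr (Or.inr (Or.inr (Or.inr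
      (Or.inl ⟨e.symm.trans f⟩))))))))))
  · obtain ⟨q, hq, hq3, hF, ⟨f⟩⟩ := h
    exact Or.inr (Or.inr (Or.inr (Or.inr (Or.inr (Or.inr (Or.inr (Or.inr (Or.inr (Or.inr (Or.inr
      (Or.inl ⟨q, hq, hq3, hF, ⟨e.symm.trans f⟩⟩)))))))))))
  · obtain ⟨q, hq, hq3, hF, ⟨f⟩⟩ := h
    exact Or.inr (Or.inr (Or.inr (Or.inr (Or.inr (Or.inr (Or.inr (Or.inr (Or.inr (Or.inr (Or.inr
      (Or.inr ⟨q, hq, hq3, hF, ⟨e.symm.trans f⟩⟩)))))))))))

theorem isG2D4_congr {p : ℕ} {X Y : Type*} [Group X] [Group Y] (e : X ≃* Y) (h : IsG2D4 p X) : IsG2D4 p Y := by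
  obtain ⟨F, i1, i2, i3, h⟩ := h
  refine ⟨F, i1, i2, i3, ?_⟩
  rcases h with h | ⟨q, hq, hF, h⟩
  · obtain ⟨f⟩ := h
    exact Or.inl ⟨e.symm.trans f⟩
  · obtain ⟨f⟩ := h
    exact Or.inr ⟨q, hq, hF, ⟨e.symm.trans f⟩⟩

section simple

variable {H : Type u} [Group H] [Finite H] {L : Subgroup H}

/-- **(E1), `L` simple.** -/
theorem exists_front_simple (hT : TStmt.{u}) (hL : L.Normal) (hs : IsSimpleGroup ↥L)
    (hna : ¬ IsMulCommutative ↥L) (hC : centralizer (L : Set H) = ⊥) (hbig : LieBig ↥L) (hL2 : ¬ IsL2 ↥L) :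
    ∃ (F : Type) (_ : Field F) (_ : Fintype F) (t : H) (J : Subgroup H), Front L F t J := by
  have e := quoEquiv hs hna
  refine exists_front hT hL (quasi_of_simple hs hna) ?_ ?_ (lieBig_congr e.symm hbig)
    fun h => hL2 (UGT.L2i.isL2_congr h e)
  · rw [center_eq_bot hs hna]; exact IsPGroup.of_bot
  · rw [hC]; exact IsPGroup.of_bot

/-- **(E0), `L` simple.** -/
theorem lieBig_of_core_simple (hL : L.Normal) (hs : IsSimpleGroup ↥L)
    (hna : ¬ IsMulCommutative ↥L) (hC : centralizer (L : Set H) = ⊥) {v : H} (hv : v * v = 1)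
    (hO : OO (centralizer ({v} : Set H)) ≠ ⊥) (hLie : ∃ p : ℕ, p.Prime ∧ p ≠ 2 ∧ IsLieTypeChar p ↥L)
    (hL2 : ¬ IsL2 ↥L) (hRee : ¬ Lie.IsoRee ↥L) : LieBig ↥L := by
  have e := quoEquiv hs hna
  obtain ⟨p, hp, hp2, hLp⟩ := hLie
  refine lieBig_congr e (lieBig_of_core hL (quasi_of_simple hs hna) ?_ ?_ hv hO
    ⟨p, hp, hp2, OddHalf.Known.isLieTypeChar_congr e.symm hLp⟩ (fun h => hL2 (UGT.L2i.isL2_congr h e))
    (fun h => hRee (GH.Defs.isoRee_congr e h)))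
  · rw [center_eq_bot hs hna]; exact IsPGroup.of_bot
  · rw [hC]; exact IsPGroup.of_bot

/-- **(E0) + (E1), `L` simple.** -/
theorem exists_front_of_core (hT : TStmt.{u}) (hL : L.Normal) (hs : IsSimpleGroup ↥L)
    (hna : ¬ IsMulCommutative ↥L) (hC : centralizer (L : Set H) = ⊥) {v : H} (hv : v * v = 1)
    (hO : OO (centralizer ({v} : Set H)) ≠ ⊥) (hLie : ∃ p : ℕ, p.Prime ∧ p ≠ 2 ∧ IsLieTypeChar p ↥L)
    (hL2 : ¬ IsL2 ↥L) (hRee : ¬ Lie.IsoRee ↥L) :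
    ∃ (F : Type) (_ : Field F) (_ : Fintype F) (t : H) (J : Subgroup H), Front L F t J :=
  exists_front_simple hT hL hs hna hC (lieBig_of_core_simple hL hs hna hC hv hO hLie hL2 hRee) hL2

end simple

/-- **(E0) + (E1) for `F*(G)` simple.** -/
theorem exists_front_fs (hT : TStmt.{u}) {G : Type u} [Group G] [Finite G] (fs : AssemblyNil.FS G) {v : G}
    (hv : orderOf v = 2) (hO : centralizerPPrimeCore 2 v ≠ ⊥)
    (hLie : ∃ p : ℕ, p.Prime ∧ p ≠ 2 ∧ IsLieTypeChar p ↥(generalizedFittingSubgroup G))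
    (hL2 : ¬ IsL2 ↥(generalizedFittingSubgroup G)) (hRee : ¬ Lie.IsoRee ↥(generalizedFittingSubgroup G)) :
    ∃ (F : Type) (_ : Field F) (_ : Fintype F) (t : G) (J : Subgroup G),
      Front (generalizedFittingSubgroup G) F t J :=
  exists_front_of_core hT (Lib.GenFitting.genFitting_normal (G := G)) fs.simple fs.na
    (End.centralizer_fstar fs.simple fs.na) (by rw [← pow_two, ← hv]; exact pow_orderOf_eq_one v) hO hLie hL2 hRee

/-- in the world of `Front.elim`, for simple `L` -/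
theorem isG2D4_simple {p : ℕ} {L : Type*} [Group L] (hs : IsSimpleGroup L) (hna : ¬ IsMulCommutative L)
    (h : IsG2D4 p (L ⧸ center L)) : IsG2D4 p L := isG2D4_congr (quoEquiv hs hna) h

end Cfsg.Agent.Cit.Nil.LO
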