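import Cfsg.Agent.Cit.Nil.LO.TWComp
import Cfsg.Agent.Cit.Nil.LO.Simple
import Cfsg.Agent.UGT.U2.FOne.HexRows

/-!
# S1309 (n2), section 7 of LieOdd: the pair `(s, N)` on the component `L`

* `Pr τ D` : `τ` an involutory automorphism, `D ≠ 1` an odd group of automorphisms commuting with `τ`, normalised by
  the fixed points of `τ`;
* `TW.exists_pr` : in the world `TW` with `s`, `c` nontrivial on `L`;
* `lieBig_of_pr` : `L / Z(L)` is `LieBig`; `three_lt` : `3 < q`; `big_of_pr` : the same for `G₂(q)`, `³D₄(q)`.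
-/

set_option autoImplicit false
set_option linter.dupNamespace false
set_option linter.unusedSectionVars false

open Subgroup Cfsg
open Cfsg.Agent.OddHalf.NI (LieBig)
open Cfsg.Agent.UGT.Iface (IsL2)
open Cfsg.Agent.UGT.U2 (FOne.F1D)
open Cfsg.Agent.UGT.U2.AutBar (bar bar_mk bar_conj bar_injective)

namespace Cfsg.Agent.Cit.Nil.LO.SevPair

open RG

universe u

/-- a pair -/
structure Pr {M : Type*} [Group M] (τ : MulAut M) (D : Subgroup (MulAut M)) : Prop where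
  e1 : τ * τ = 1
  e2 : τ ≠ 1
  e3 : Odd (Nat.card D)
  e4 : D ≠ ⊥
  e5 : ∀ δ ∈ D, δ * τ = τ * δ
  e6 : ∀ k : M, τ k = k → ∀ δ ∈ D, MulAut.conj k * δ * (MulAut.conj k)⁻¹ ∈ D

section tw

variable {H : Type u} [Group H] [Finite H] {Om : Set (Subgroup H)} {S : Sylow 2 H} {N L E : Subgroup H} {s c a : H}

theorem ne_one {n : H} (hn : n ∈ normalizer (L : Set H)) (h : ¬ Cen L n) :
    L.normalizerMonoidHom ⟨n, hn⟩ ≠ 1 := by
  intro h1
  apply h
  intro x hx
  have h2 : (⟨n, hn⟩ : ↥(normalizer (L : Set H))) ∈ L.normalizerMonoidHom.ker := h1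
  rw [normalizerMonoidHom_ker, mem_subgroupOf, mem_centralizer_iff] at h2
  exact (h2 x hx).symm

theorem eq_one {n : H} (hn : n ∈ normalizer (L : Set H)) (h : Cen L n) :
    L.normalizerMonoidHom ⟨n, hn⟩ = 1 := by
  have h2 : (⟨n, hn⟩ : ↥(normalizer (L : Set H))) ∈ L.normalizerMonoidHom.ker := by
    rw [normalizerMonoidHom_ker, mem_subgroupOf, mem_centralizer_iff]
    exact fun x hx => (h x hx).symm
  exact h2

theorem apply_nm {n : H} (hn : n ∈ normalizer (L : Set H)) (x : ↥L) :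
    ((L.normalizerMonoidHom ⟨n, hn⟩ x : ↥L) : H) = n * x * n⁻¹ := rfl

theorem nm_conj (x : ↥L) : L.normalizerMonoidHom ⟨x, le_normalizer x.2⟩ = MulAut.conj x := by
  ext y
  rfl

/-- **the pair** -/
theorem exists_pr (t : TW Om S N (RR Om a) s c) (ha : ∀ x : H, a * x = x * a) (hL : IsComponent L)
    (hs : ¬ Cen L s) (hc : ¬ Cen L c) : ∃ (τ : MulAut ↥L) (D : Subgroup (MulAut ↥L)), Pr τ D := by
  have hsn := t.s_norm hL
  have hcn := t.c_norm ha hL
  have hmem : ∀ n ∈ N, n * s = s * n := fun n hn => mem_centralizer_singleton_iff.1 (t.Ns hn)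
  refine ⟨L.normalizerMonoidHom ⟨s, hsn⟩, (N.subgroupOf (normalizer (L : Set H))).map L.normalizerMonoidHom, ?_,
    ne_one hsn hs, ?_, ?_, ?_, ?_⟩
  · rw [← map_mul]
    have : (⟨s, hsn⟩ * ⟨s, hsn⟩ : ↥(normalizer (L : Set H))) = 1 := Subtype.ext t.s2
    rw [this, map_one]
  · -- the order
    rw [← Nat.not_even_iff_odd, even_iff_two_dvd]
    intro h2
    obtain ⟨δ, ho⟩ := exists_prime_orderOf_dvd_card' 2 h2
    obtain ⟨⟨n, hn⟩, hnN, hδ⟩ := mem_map.1 δ.2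
    have ho' : orderOf (L.normalizerMonoidHom ⟨n, hn⟩) = 2 := by
      rw [hδ, Subgroup.orderOf_coe]
      exact ho
    -- the 2-part of `n`
    obtain ⟨k, m, hm, hkm⟩ := Nat.exists_eq_two_pow_mul_odd (n := orderOf n) (orderOf_pos n).ne'
    have h3 : n ^ m ∈ RR Om a := t.mem_E (N.pow_mem hnN m) ⟨k, by rw [← pow_mul, mul_comm, ← hkm, pow_orderOf_eq_one]⟩
    have h4 : Cen L (n ^ m) := fun x hx => (comp_pCore hL (t.E2 h3) hx).symm
    have h5 := eq_one (pow_mem hn m) h4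
    have h6 : (⟨n ^ m, pow_mem hn m⟩ : ↥(normalizer (L : Set H))) = ⟨n, hn⟩ ^ m := rfl
    rw [h6, map_pow] at h5
    have h7 : 2 ∣ m := by rw [← ho']; exact orderOf_dvd_of_pow_eq_one h5
    exact (Nat.not_even_iff_odd.2 hm) (even_iff_two_dvd.2 h7)
  · intro h
    have h1 : L.normalizerMonoidHom ⟨c, hcn⟩ ∈ (N.subgroupOf (normalizer (L : Set H))).map L.normalizerMonoidHom :=
      mem_map_of_mem _ (show (⟨c, hcn⟩ : ↥(normalizer (L : Set H))) ∈ N.subgroupOf _ from t.cN)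
    rw [h, mem_bot] at h1
    exact ne_one hcn hc h1
  · rintro _ ⟨⟨n, hn⟩, hnN, rfl⟩
    rw [← map_mul, ← map_mul]
    congr 1
    exact Subtype.ext (hmem n hnN)
  · rintro k hk _ ⟨⟨n, hn⟩, hnN, rfl⟩
    have h1 : s * (k : H) * s⁻¹ = k := congrArg Subtype.val hk
    have h2 : (k : H) * s = s * k := by
      calc (k : H) * s = s * k * s⁻¹ * s := by rw [h1]
        _ = s * k := by group
    rw [← nm_conj, ← map_inv, ← map_mul, ← map_mul]
    refine mem_map_of_mem _ (mem_subgroupOf.2 ?_)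
    exact (mem_normalizer_iff.1 (t.nN (mem_centralizer_singleton_iff.2 h2)) n).1 hnN

end tw

section pr

variable {M : Type u} [Group M] [Finite M] {τ : MulAut M} {D : Subgroup (MulAut M)}

theorem lieBig_of_pr (hq : IsQuasisimple M) (h2 : IsPGroup 2 ↥(center M))
    (hLie : ∃ p : ℕ, p.Prime ∧ p ≠ 2 ∧ IsLieTypeChar p (M ⧸ center M)) (hL2 : ¬ IsL2 (M ⧸ center M))
    (hRee : ¬ Lie.IsoRee (M ⧸ center M)) (h : Pr τ D) : LieBig (M ⧸ center M) :=
  (UGT.U2.RL.exists_loc UGT.U2.FOne.Final.fAll hq h2 hLie hL2 hRee h.e1 h.e2 h.e3 h.e4 h.e5 h.e6).1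

/-- **the field has more than three elements** -/
theorem three_lt (hq : IsQuasisimple M) (h2 : IsPGroup 2 ↥(center M)) {q : ℕ} (hF1 : UGT.U2.FOne.F1D q (M ⧸ center M))
    (h : Pr τ D) : 3 < q := by
  have hs := hq.2
  have hinj := bar_injective hq.1
  have hxx : bar τ * bar τ = 1 := by rw [← map_mul, h.e1, map_one]
  have hx1 : bar τ ≠ 1 := fun h' => h.e2 (hinj (by rw [h', map_one]))
  have hx : orderOf (bar τ) = 2 := orderOf_eq_prime (by rw [pow_two, hxx]) hx1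
  have hodd : Odd (Nat.card (D.map bar)) := by
    rw [Subgroup.card_map_of_injective hinj]; exact h.e3
  have hcomm : ∀ d ∈ D.map bar, d * bar τ = bar τ * d := by
    rintro _ ⟨δ, hδ, rfl⟩
    rw [← map_mul, h.e5 δ hδ, map_mul]
  have hnorm : ∀ v : M ⧸ center M, UGT.U2.FOne.Liftable (bar τ) v → ∀ d ∈ D.map bar,
      MulAut.conj v * d * (MulAut.conj v)⁻¹ ∈ D.map bar := by
    rintro v hv _ ⟨δ, hδ, rfl⟩
    obtain ⟨k, rfl, hk⟩ := UGT.U2.RL.exists_fixed h2 τ hv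
    rw [← bar_conj, ← map_inv, ← map_mul, ← map_mul]
    exact mem_map_of_mem _ (h.e6 k hk δ hδ)
  have hne : D.map bar ≠ ⊥ := by
    intro h'
    exact h.e4 ((Subgroup.map_eq_bot_iff_of_injective D hinj).mp h')
  have hZ : center (M ⧸ center M) = ⊥ := by
    have h3 : Group.IsPerfect M := hq.1
    exact Group.IsPerfect.center_quotient_center_eq_bot M
  obtain ⟨z, J, hz, hzJ, hJz, hsub, hgood, hJx, d, hd, hJd, j, hj, hdj⟩ :=
    hF1 (bar τ) (D.map bar) hx hodd hcomm hnorm hne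
  rcases hgood with h0 | ⟨h3, -⟩
  · obtain ⟨F, i1, i2, h4, h5, -⟩ := id h0
    have h6 : 1 < Nat.card F := Finite.one_lt_card
    rw [h4] at h6
    rcases Nat.lt_or_ge 3 q with h7 | h7
    · exact h7
    exfalso
    have h8 : q = 3 := by
      obtain ⟨m, rfl⟩ := h5
      omega
    subst h8
    exact hdj (UGT.U2.Three.three_false hZ (bar τ) (D.map bar) (fun g => DFunLike.congr_fun hxx g) hodd hcomm
      (fun v hv ho => hnorm v ⟨hv, Or.inl ho⟩) J h0 hJx hd hJd j hj)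
  · exact h3

/-- `G₂(q)`, `³D₄(q)`, `q > 3` odd -/
def BigG (X : Type*) [Group X] : Prop :=
  ∃ (F : Type) (_ : Field F) (_ : Fintype F), Odd (Fintype.card F) ∧
    ((3 < Fintype.card F ∧ Nonempty (X ≃* Lie.chevG2.group F)) ∨
      ∃ q : ℕ, IsPrimePow q ∧ Odd q ∧ 3 < q ∧ Fintype.card F = q ^ 3 ∧ Nonempty (X ≃* Lie.twistedD4 F q))

theorem big_of_pr (hq : IsQuasisimple M) (h2 : IsPGroup 2 ↥(center M)) {p : ℕ} (hp : p.Prime) (hp2 : p ≠ 2)
    (hG : IsG2D4 p (M ⧸ center M)) (h : Pr τ D) : BigG (M ⧸ center M) := by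
  obtain ⟨F, i1, i2, i3, h3⟩ := hG
  have ho : Odd (Fintype.card F) := by
    obtain ⟨n, -, hn⟩ := FiniteField.card F p
    rw [hn]
    exact (hp.odd_of_ne_two hp2).pow
  refine ⟨F, i1, i2, ho, ?_⟩
  rcases h3 with ⟨⟨e⟩⟩ | ⟨q, hq1, hF, ⟨e⟩⟩
  · exact Or.inl ⟨three_lt hq h2 ((UGT.U2.FOne.HexRows.g2_row F ho).of_equiv e.symm) h, ⟨e⟩⟩
  · have hqo : Odd q := by
      rw [hF] at ho
      exact Nat.Odd.of_mul_right (by rwa [pow_succ] at ho)
    exact Or.inr ⟨q, hq1, hqo, three_lt hq h2 ((UGT.U2.FOne.HexRows.twD4_row F q hq1 hqo hF).of_equiv e.symm) h,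
      hF, ⟨e⟩⟩

end pr

end Cfsg.Agent.Cit.Nil.LO.SevPair
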