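import Cfsg.Agent.Cit.Nil.LO.SevX
import Cfsg.Agent.Cit.Nil.LO.SevPair
import Cfsg.Agent.Cit.HexFactBMain

/-!
# S1309 (n2), section 7 of LieOdd: `G₂(q)`, `³D₄(q)`, `q > 3`

* `Duo Y P Q w` : `P`, `Q` the two factors of `C(w)`; `exists_duo` : existence for a member `P` of `Y`;
* `false_of_duo` : no quaternion 2-group acts on `Y` with involution `w`, centralises `P` and is normalised by `Q`.
-/

set_option autoImplicit false
set_option linter.dupNamespace false
set_option linter.unusedSectionVars false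

open Subgroup Cfsg

namespace Cfsg.Agent.Cit.Nil.LO.SevExc

open SevPair SevX
open Cfsg.Agent.Cit.HexBase (Mem HexGrp fx SL2 H4All H5All)

universe u

/-- the two factors `P`, `Q` of `C(w)` -/
structure Duo (Y : Type*) [Group Y] (P Q : Subgroup Y) (w : Y) : Prop where
  sq : w * w = 1
  ne : w ≠ 1
  comm : ∀ x ∈ P, ∀ y ∈ Q, x * y = y * x
  cen : ∀ g, (∀ x ∈ P, g * x = x * g) → g ∈ Q
  quasi : IsQuasisimple ↥Q
  quat : ∃ j ∈ Q, ∃ i ∈ Q, j * j = w ∧ i * j ≠ j * i
  inn : ∀ a : MulAut Y, a * a = 1 → (∀ x ∈ P, a x = x) → a = 1 ∨ a = MulAut.conj w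

theorem Duo.equiv {Y Y' : Type*} [Group Y] [Group Y'] {P Q : Subgroup Y} {w : Y} (h : Duo Y P Q w) (e : Y ≃* Y') :
    Duo Y' (P.map e.toMonoidHom) (Q.map e.toMonoidHom) (e w) := by
  refine ⟨by rw [← map_mul, h.sq, map_one], by simpa using h.ne, ?_, ?_, ?_, ?_, ?_⟩
  · rintro _ ⟨x, hx, rfl⟩ _ ⟨y, hy, rfl⟩
    change e x * e y = e y * e x
    rw [← map_mul, h.comm x hx y hy, map_mul]
  · intro g hg
    rw [HexBase.mem_map_iff]
    refine h.cen _ fun x hx => ?_
    apply e.injective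
    rw [map_mul, map_mul, e.apply_symm_apply]
    exact hg _ ⟨x, hx, rfl⟩
  · exact SignalizersComponents.Components.isQuasisimple_of_mulEquiv (Q.equivMapOfInjective e.toMonoidHom e.injective)
      h.quasi
  · obtain ⟨j, hj, i, hi, h1, h2⟩ := h.quat
    refine ⟨e j, ⟨j, hj, rfl⟩, e i, ⟨i, hi, rfl⟩, by rw [← map_mul, h1], fun h3 => h2 ?_⟩
    rw [← map_mul, ← map_mul] at h3
    exact e.injective h3
  · intro a haa hP
    have key := h.inn ((e.trans a).trans e.symm) (by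
      ext x
      have h1 : a (a (e x)) = e x := DFunLike.congr_fun haa (e x)
      change e.symm (a (e (e.symm (a (e x))))) = x
      rw [e.apply_symm_apply, h1, e.symm_apply_apply]) (fun x hx => by
      change e.symm (a (e x)) = x
      have h1 : a (e x) = e x := hP _ ⟨x, hx, rfl⟩
      rw [h1, e.symm_apply_apply])
    rcases key with h1 | h1
    · left
      ext y
      have h2 : e.symm (a (e (e.symm y))) = e.symm y := DFunLike.congr_fun h1 (e.symm y)
      rw [e.apply_symm_apply] at h2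
      exact e.symm.injective h2
    · right
      ext y
      have h2 : e.symm (a (e (e.symm y))) = w * e.symm y * w⁻¹ := DFunLike.congr_fun h1 (e.symm y)
      rw [e.apply_symm_apply] at h2
      have h3 := congrArg e h2
      rw [e.apply_symm_apply, map_mul, map_mul, map_inv, e.apply_symm_apply] at h3
      exact h3

section hex

variable {E : Type} [Field E] {σ : E ≃+* E} {L : Type} [Group L] [Finite L] (c : HexGrp σ L)

theorem quat_ne {z i j : L} (hz : z ≠ 1) (h : j * i = z * (i * j)) : i * j ≠ j * i := by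
  intro h1
  apply hz
  rw [← h1] at h
  exact (mul_eq_right.1 h.symm)

/-- `IsQuasisimple (SL₂(F))` -/
theorem quasi_of {F : Type} [Field F] [Finite F] (hF : 3 < Nat.card F) {Q : Subgroup L} (e : SL2 F ≃* ↥Q) :
    IsQuasisimple ↥Q :=
  SignalizersComponents.Components.isQuasisimple_of_mulEquiv e
    (SignalizersComponents.SLQuasisimple.isQuasisimple_two hF)

theorem duo14 [Finite E] (h2 : (2 : E) ≠ 0) (h5 : c.H5) (hc : 3 < Nat.card ↥(fx σ)) : Duo L c.K1 c.K4 c.z where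
  sq := c.z_sq
  ne := c.z_ne h2
  comm := by
    rintro _ ⟨x, rfl⟩ _ ⟨y, rfl⟩
    exact c.comm_pb_p4 x y
  cen g hg := c.centralizer_K1 h2 fun x => hg _ ⟨x, rfl⟩
  quasi := quasi_of hc c.equivK4
  quat := by
    obtain ⟨i, hi, j, hj, h1, h3, h4⟩ := HexGrp.quat_of (K := ↥(fx σ)) c.p4 c.z_eq_p4
    exact ⟨j, hj, i, hi, h3, quat_ne (c.z_ne h2) h4⟩
  inn := h5.1

theorem duo41 [Finite E] (h2 : (2 : E) ≠ 0) (h5 : c.H5) (hc : 3 < Nat.card E) : Duo L c.K4 c.K1 c.z where
  sq := c.z_sq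
  ne := c.z_ne h2
  comm := by
    rintro _ ⟨x, rfl⟩ _ ⟨y, rfl⟩
    exact (c.comm_pb_p4 y x).symm
  cen g hg := c.centralizer_K4 h2 fun x => hg _ ⟨x, rfl⟩
  quasi := quasi_of hc (c.equivK1 h2)
  quat := by
    obtain ⟨i, hi, j, hj, h1, h3, h4⟩ := HexGrp.quat_of (K := E) c.pb rfl
    exact ⟨j, hj, i, hi, h3, quat_ne (c.z_ne h2) h4⟩
  inn := h5.2

theorem exists_duo_hex [Finite E] (h2 : (2 : E) ≠ 0) (h4 : c.H4) (h5 : c.H5) (hc : 3 < Nat.card ↥(fx σ))
    {K : Subgroup L} {w : L} (hK : Mem L K w) : ∃ Q, Duo L K Q w := by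
  have hcE : 3 < Nat.card E := hc.trans_le (Nat.card_le_card_of_injective _ Subtype.val_injective)
  obtain ⟨g, hg⟩ := c.hone h2 w c.z hK.sq hK.ne c.z_sq (c.z_ne h2)
  have k := hK.equiv (MulAut.conj g)
  have eg : (MulAut.conj g) w = c.z := by rw [MulAut.conj_apply, hg]
  rw [eg] at k
  have key : ∃ Q, Duo L (K.map (MulAut.conj g : L ≃* L).toMonoidHom) Q c.z := by
    rcases h4 _ k with e | e
    · rw [e]
      exact ⟨c.K4, duo14 c h2 h5 hc⟩
    · rw [e]
      exact ⟨c.K1, duo41 c h2 h5 hcE⟩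
  obtain ⟨Q, hQ⟩ := key
  have k2 := hQ.equiv (MulAut.conj g⁻¹)
  have e1 : (K.map (MulAut.conj g : L ≃* L).toMonoidHom).map (MulAut.conj g⁻¹ : L ≃* L).toMonoidHom = K := by
    rw [Subgroup.map_map]
    convert Subgroup.map_id K using 2
    ext x
    change g⁻¹ * (g * x * g⁻¹) * g⁻¹⁻¹ = x
    group
  have e2 : (MulAut.conj g⁻¹) c.z = w := by
    rw [MulAut.conj_apply, ← hg]
    group
  rw [e1, e2] at k2
  exact ⟨_, k2⟩

end hex

/-- **Existence of the second factor.** -/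
theorem exists_duo {X : Type u} [Group X] [Finite X] (hX : BigG X) {K : Subgroup X} {w : X} (hK : Mem X K w) :
    ∃ Q, Duo X K Q w := by
  obtain ⟨F, i1, i2, ho, h⟩ := hX
  have h2 : (2 : F) ≠ 0 := SignalizersComponents.SLQuasisimple.two_ne_zero_of_odd ho
  have back : ∀ (L : Type) [Group L] (e : X ≃* L), (∀ K' : Subgroup L, ∀ w', Mem L K' w' → ∃ Q, Duo L K' Q w') →
      ∃ Q, Duo X K Q w := by
    intro L _ e h
    have : Finite L := Finite.of_equiv _ e.toEquiv
    obtain ⟨Q, hQ⟩ := h _ _ (hK.equiv e)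
    have k := hQ.equiv e.symm
    have e1 : (K.map e.toMonoidHom).map e.symm.toMonoidHom = K := by
      ext x
      rw [HexBase.mem_map_iff, HexBase.mem_map_iff]
      simp
    rw [e1, e.symm_apply_apply] at k
    exact ⟨_, k⟩
  rcases h with ⟨h3, ⟨e⟩⟩ | ⟨q, hq, hqo, h3, hc, ⟨e⟩⟩
  · refine back _ e fun K' w' hM => ?_
    have : Finite ↥(Lie.chevG2.group F) := Finite.of_equiv _ e.toEquiv
    have c := HexG2.g2 F h2
    refine exists_duo_hex c h2 (HexFactBMain.h4_all _ _ _ c h2) (HexFactBMain.h5_all _ _ _ c h2) ?_ hM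
    have h4 : Nat.card ↥(fx (RingEquiv.refl F)) = Nat.card F :=
      Nat.card_congr ⟨fun x => x.1, fun x => ⟨x, rfl⟩, fun _ => rfl, fun _ => rfl⟩
    rw [h4, Nat.card_eq_fintype_card]
    exact h3
  · refine back _ e fun K' w' hM => ?_
    have : Finite ↥(Lie.twistedD4 F q) := Finite.of_equiv _ e.toEquiv
    obtain ⟨σ, hσ, ⟨c⟩⟩ := HexD4.exists_d4 hc
    refine exists_duo_hex c h2 (HexFactBMain.h4_all _ _ _ c h2) (HexFactBMain.h5_all _ _ _ c h2) ?_ hM
    have h4 : Nat.card ↥(fx σ) = q := by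
      rw [← OddHalf.LongSL.Tw.card_fixed (F := F) (q := q) (k := 3) hq.two_le hc]
      exact Nat.card_congr (Equiv.subtypeEquivRight fun x => by rw [HexBase.mem_fx, hσ])
    rw [h4]
    exact h3

/-- an involution of `X` centralising `P` -/
theorem Duo.dich {X : Type*} [Group X] {Y : Subgroup X} [hY : Y.Normal] (hC : centralizer (Y : Set X) = ⊥)
    {P Q : Subgroup ↥Y} {w : ↥Y} (D : Duo ↥Y P Q w) {x : X} (hx : x * x = 1)
    (hxP : ∀ y ∈ P, x * (y : X) = y * x) : x = 1 ∨ x = w := by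
  have one : ∀ x : X, (∀ y ∈ Y, x * y = y * x) → x = 1 := by
    intro x hx
    have h1 : x ∈ centralizer (Y : Set X) := mem_centralizer_iff.2 fun y hy => (hx y hy).symm
    rwa [hC, mem_bot] at h1
  rcases D.inn (MulAut.conjNormal x) (by rw [← map_mul, hx, map_one]) (fun y hy => by
    apply Subtype.ext
    rw [MulAut.conjNormal_apply, hxP y hy, mul_inv_cancel_right]) with h | h
  · left
    refine one x fun y hy => ?_
    have h1 := congrArg Subtype.val (DFunLike.congr_fun h (⟨y, hy⟩ : ↥Y))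
    rw [MulAut.conjNormal_apply, MulAut.one_apply] at h1
    have h2 : x * y * x⁻¹ = y := h1
    rwa [mul_inv_eq_iff_eq_mul] at h2
  · right
    have h0 := one (x * (w : X)⁻¹) fun y hy => ?_
    · rwa [mul_inv_eq_one] at h0
    have hwy : (w : X)⁻¹ * y * w ∈ Y := mul_mem (mul_mem (inv_mem w.2) hy) w.2
    have h1 := congrArg Subtype.val (DFunLike.congr_fun h (⟨_, hwy⟩ : ↥Y))
    rw [MulAut.conjNormal_apply, MulAut.conj_apply] at h1
    have h2 : x * ((w : X)⁻¹ * y * w) * x⁻¹ = (w : X) * ((w : X)⁻¹ * y * w) * (w : X)⁻¹ := h1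
    have h3 : x * ((w : X)⁻¹ * y * w) * x⁻¹ = y := by rw [h2]; group
    calc x * (w : X)⁻¹ * y = (x * ((w : X)⁻¹ * y * w) * x⁻¹) * (x * (w : X)⁻¹) := by group
      _ = y * (x * (w : X)⁻¹) := by rw [h3]

/-- **No quaternion group.** `Y ⊴ X` with trivial centraliser, `Ē` a 2-group centralising `P`, normalised by `Q`,
`k ∈ Ē` with `k² ≠ 1` an involution. -/
theorem false_of_duo {X : Type*} [Group X] [Finite X] {Y : Subgroup X} (hY : Y.Normal)
    (hC : centralizer (Y : Set X) = ⊥) {P Q : Subgroup ↥Y} {w : ↥Y} (D : Duo ↥Y P Q w) {E : Subgroup X}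
    (hE : IsPGroup 2 ↥E) (hEP : ∀ e ∈ E, ∀ x ∈ P, e * x = x * e)
    (hQE : ∀ y ∈ Q, (y : X) ∈ normalizer (E : Set X)) {k : X} (hk : k ∈ E) (hk1 : k * k ≠ 1)
    (hk2 : k * k * (k * k) = 1) : False := by
  have dich : ∀ x : X, x * x = 1 → (∀ y ∈ P, x * y = y * x) → x = 1 ∨ x = w := fun x hx hxP =>
    D.dich hC hx hxP
  -- `k² = w`
  have hkw : k * k = w := by
    rcases dich (k * k) hk2 (hEP _ (mul_mem hk hk)) with h | h
    · exact absurd h hk1
    · exact h
  -- `E ∩ Y ≤ Q`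
  have hB : ∀ b ∈ E, ∀ hb : b ∈ Y, (⟨b, hb⟩ : ↥Y) ∈ Q := fun b hbE hb =>
    D.cen _ fun x hx => Subtype.ext (hEP b hbE x hx)
  -- `E ∩ Y` is central in `Q`
  obtain ⟨B, hBd⟩ : ∃ B : Subgroup ↥Q, B = (E.subgroupOf Y).subgroupOf Q := ⟨_, rfl⟩
  have hBn : B.Normal := by
    constructor
    intro b hb y
    rw [hBd] at hb ⊢
    rw [mem_subgroupOf, mem_subgroupOf] at hb ⊢
    exact (mem_normalizer_iff.1 (hQE y y.2) _).1 hb
  have hB2 : IsPGroup 2 ↥B := by
    rw [hBd]
    exact (hE.comap_subtype (K := Y)).comap_subtype (K := Q)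
  have hBc : B ≤ center ↥Q := by
    rcases SignalizersComponents.LayerBasic.quasisimple_normal D.quasi B hBn with h | h
    · exfalso
      have h1 : IsPGroup 2 ↥Q := by
        rw [h] at hB2
        exact hB2.of_equiv topEquiv
      have h3 : Group.IsNilpotent ↥Q := by
        have : Fact (Nat.Prime 2) := ⟨Nat.prime_two⟩
        exact h1.isNilpotent
      exact SignalizersComponents.Components.quasisimple_not_isSolvable D.quasi inferInstance
    · exact h
  have hQQ : ⁅Q, Q⁆ = Q := OddHalf.NI.FTwo.commutator_eq_of_quasisimple D.quasi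
  -- `E` centralises `Q`
  have hEQ : ∀ a ∈ Q.map Y.subtype, ∀ e ∈ E, a * e = e * a := by
    refine three (A := Q.map Y.subtype) (B := E) (by rw [← map_commutator, hQQ]) ?_
    rintro _ ⟨a, ha, rfl⟩ e he _ ⟨c, hc, rfl⟩
    have h1 : (a : X) * e * (a : X)⁻¹ * e⁻¹ ∈ E := mul_mem ((mem_normalizer_iff.1 (hQE a ha) e).1 he) (inv_mem he)
    have h3 : (a : X) * e * (a : X)⁻¹ * e⁻¹ ∈ Y := by
      have h4 : (a : X) * e * (a : X)⁻¹ * e⁻¹ = (a : X) * (e * (a : X)⁻¹ * e⁻¹) := by group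
      rw [h4]
      exact mul_mem a.2 (hY.conj_mem _ (inv_mem a.2) e)
    have h4 := hB _ h1 h3
    have h5 : (⟨⟨_, h3⟩, h4⟩ : ↥Q) ∈ B := by
      rw [hBd, mem_subgroupOf, mem_subgroupOf]
      exact h1
    have h6 := mem_center_iff.1 (hBc h5) ⟨c, hc⟩
    exact (congrArg (fun x : ↥Q => ((x : ↥Y) : X)) h6).symm
  obtain ⟨j, hj, i, hi, hjj, hij⟩ := D.quat
  have hkj : (j : X) * k = k * j := hEQ _ ⟨j, hj, rfl⟩ k hk
  have hki : (i : X) * k = k * i := hEQ _ ⟨i, hi, rfl⟩ k hk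
  have hjj' : (j : X) * j = w := congrArg Subtype.val hjj
  have hww : (w : X) * w = 1 := congrArg Subtype.val D.sq
  have key := dich (k * j) (by
    calc k * (j : X) * (k * j) = k * ((j : X) * k) * j := by group
      _ = (k * k) * ((j : X) * j) := by rw [hkj]; group
      _ = 1 := by rw [hkw, hjj', hww]) (fun y hy => by
    have h1 : (y : X) * j = j * y := congrArg Subtype.val (D.comm y hy j hj)
    calc k * (j : X) * y = k * ((y : X) * j) := by rw [h1]; group
      _ = (k * y) * j := by group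
      _ = (y * k) * j := by rw [hEP k hk y hy]
      _ = y * (k * j) := by group)
  apply hij
  apply Subtype.ext
  push_cast
  have hiw : (i : X) * w = w * i := by
    rw [← hkw]
    calc (i : X) * (k * k) = (i * k) * k := by group
      _ = (k * i) * k := by rw [hki]
      _ = k * (i * k) := by group
      _ = k * (k * i) := by rw [hki]
      _ = k * k * i := by group
  rcases key with h | h
  · have h1 : (j : X) = k⁻¹ := (inv_eq_of_mul_eq_one_right h).symm
    rw [h1]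
    calc (i : X) * k⁻¹ = k⁻¹ * (k * i) * k⁻¹ := by group
      _ = k⁻¹ * (i * k) * k⁻¹ := by rw [hki]
      _ = k⁻¹ * i := by group
  · have h1 : (j : X) = k⁻¹ * w := by rw [← h]; group
    rw [h1]
    calc (i : X) * (k⁻¹ * w) = k⁻¹ * (k * i) * k⁻¹ * w := by group
      _ = k⁻¹ * (i * k) * k⁻¹ * w := by rw [hki]
      _ = k⁻¹ * (i * w) := by group
      _ = k⁻¹ * w * i := by rw [hiw]; group

end Cfsg.Agent.Cit.Nil.LO.SevExc
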