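import Cfsg.Agent.Cit.Nil.LO.KLChart
import Cfsg.Agent.OddHalf.LongSL.Lift

/-!
# S1309 (n2), section 7: the classical class for a given long root subgroup

* `lift_track` : `HasLong.lift`, with the image;
* `subnormal_up` : `J₀` subnormal in `C_L(j)`, `L` subnormal in `H`: `J₀` is subnormal in `C_H(j)`;
* `hyp_of_sl` : `Hyp (cls J)` for `J ≃ SL₂(F)`, `|F| > 3`, `j ∈ J` subnormal in `C_H(j)`;
* `front_of` : `Front L F j J` for a given `J`.
-/

set_option autoImplicit false
set_option linter.dupNamespace false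

open Subgroup Cfsg
open Cfsg.Agent.OddHalf.NI (LieBig)
open Cfsg.Agent.UGT.Iface (IsL2)
open Cfsg.Agent.OddHalf.NI.FTwo (SL)

namespace Cfsg.Agent.Cit.Nil.LO.SevFront

universe u

section lift

open scoped commutatorElement
open Cfsg.Agent.OddHalf.LongSL

/-- `HasLong.lift`, with the image -/
theorem lift_track {K X : Type*} [Group K] [Finite K] [Group X] (π : K →* X) (hπ : Function.Surjective π)
    (hc : π.ker ≤ center K) (h2 : IsPGroup 2 ↥π.ker) {F : Type} [Field F] [Fintype F] (hq : 3 < Fintype.card F)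
    (hqo : Odd (Fintype.card F)) {j : X} {J : Subgroup X} (hj1 : orderOf j = 2) (hj2 : j ∈ J)
    (hj3 : J ≤ centralizer ({j} : Set X)) (hj4 : (J.subgroupOf (centralizer ({j} : Set X))).IsSubnormal)
    (e : ↥J ≃* Matrix.SpecialLinearGroup (Fin 2) F) :
    ∃ (i : K) (E : Subgroup K), π i = j ∧ E.map π = J ∧ orderOf i = 2 ∧ i ∈ E ∧ E ≤ centralizer ({i} : Set K) ∧
      (E.subgroupOf (centralizer ({i} : Set K))).IsSubnormal ∧
      Nonempty (↥E ≃* Matrix.SpecialLinearGroup (Fin 2) F) := by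
  have hperf : commutator ↥J = ⊤ := by
    have h3 : (commutator ↥J).map e.toMonoidHom = commutator (Matrix.SpecialLinearGroup (Fin 2) F) := by
      rw [_root_.commutator_def, _root_.commutator_def, map_commutator]
      congr 1 <;> exact map_top_of_surjective _ e.surjective
    rw [TwoFusion.SLTwoFacts.commutator_eq_top hq] at h3
    rw [eq_top_iff]
    intro x _
    have h4 : e.toMonoidHom x ∈ (commutator ↥J).map e.toMonoidHom := by rw [h3]; trivial
    obtain ⟨y, hy, hxy⟩ := h4
    rwa [← e.injective hxy]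
  have hJJ : ⁅J, J⁆ = J := by
    have h3 : (commutator ↥J).map J.subtype = ⁅J, J⁆ := by
      rw [_root_.commutator_def, map_commutator, ← MonoidHom.range_eq_map, Subgroup.range_subtype]
    rw [← h3, hperf, ← MonoidHom.range_eq_map, Subgroup.range_subtype]
  set P : Subgroup K := J.comap π with hP
  have hPJ : P.map π = J := map_comap_eq_self_of_surjective hπ J
  set E : Subgroup K := ⁅P, P⁆ with hE
  have hEP : E ≤ P := commutator_le_self P
  have hEJ : E.map π = J := by rw [hE, map_commutator, hPJ, hJJ]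
  have hdec : ∀ x ∈ P, ∃ y ∈ E, ∃ z ∈ center K, x = y * z := by
    intro x hx
    have h3 : π x ∈ E.map π := by rw [hEJ]; exact hx
    obtain ⟨y, hy, hxy⟩ := h3
    refine ⟨y, hy, y⁻¹ * x, hc ?_, by group⟩
    rw [MonoidHom.mem_ker, map_mul, map_inv, hxy, inv_mul_cancel]
  have hEE : ⁅E, E⁆ = E := by
    refine le_antisymm (commutator_le_self E) ?_
    conv_lhs => rw [hE]
    rw [commutator_le]
    intro x hx y hy
    obtain ⟨x', hx', z, hz, rfl⟩ := hdec x hx
    obtain ⟨y', hy', w, hw, rfl⟩ := hdec y hy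
    have hz' := mem_center_iff.1 hz
    have hw' := mem_center_iff.1 hw
    have h3 : ⁅x' * z, y' * w⁆ = ⁅x', y'⁆ := by
      rw [commutatorElement_def, commutatorElement_def, mul_inv_rev, mul_inv_rev]
      calc x' * z * (y' * w) * (z⁻¹ * x'⁻¹) * (w⁻¹ * y'⁻¹)
          = x' * (z * y') * (w * (z⁻¹ * x'⁻¹) * w⁻¹) * y'⁻¹ := by group
        _ = x' * (y' * z) * (z⁻¹ * x'⁻¹) * y'⁻¹ := by
            rw [← hz' y', ← hw' (z⁻¹ * x'⁻¹), mul_inv_cancel_right]
        _ = x' * y' * x'⁻¹ * y'⁻¹ := by group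
    rw [h3]
    exact commutator_mem_commutator hx' hy'
  have hEperf : commutator ↥E = ⊤ := by
    have h3 : (commutator ↥E).map E.subtype = E := by
      rw [_root_.commutator_def, map_commutator, ← MonoidHom.range_eq_map, Subgroup.range_subtype, hEE]
    rw [eq_top_iff]
    intro x _
    have h4 : E.subtype x ∈ (commutator ↥E).map E.subtype := by rw [h3]; exact x.2
    obtain ⟨y, hy, hxy⟩ := h4
    rwa [← E.subtype_injective hxy]
  -- the map to `SL₂`
  have hEJ' : ∀ x : ↥E, π x ∈ J := fun x => by rw [← hEJ]; exact mem_map_of_mem _ x.2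
  let πE : ↥E →* ↥J := (π.comp E.subtype).codRestrict J hEJ'
  have hπE : Function.Surjective πE := by
    rintro ⟨y, hy⟩
    rw [← hEJ] at hy
    obtain ⟨x, hx, hxy⟩ := hy
    exact ⟨⟨x, hx⟩, Subtype.ext hxy⟩
  let π' : ↥E →* Matrix.SpecialLinearGroup (Fin 2) F := e.toMonoidHom.comp πE
  have hπ' : Function.Surjective π' := e.surjective.comp hπE
  have hkin : ∀ x : ↥E, x ∈ π'.ker → π x = 1 := by
    intro x hx
    have h3 : e (πE x) = 1 := hx
    have h4 : πE x = 1 := (map_eq_one_iff e e.injective).1 h3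
    exact congrArg Subtype.val h4
  have hk : π'.ker = ⊥ := by
    let Q : Sylow 2 (Matrix.SpecialLinearGroup (Fin 2) F) := default
    obtain ⟨k, -, ⟨e'⟩⟩ := S0261.result (F := F) hqo Q
    have : NeZero (2 ^ k) := ⟨by positivity⟩
    refine ker_eq_bot hEperf π' hπ' ?_ ?_ Q e'
    · intro x hx
      rw [mem_center_iff]
      intro g
      exact Subtype.ext (mem_center_iff.1 (hc (MonoidHom.mem_ker.2 (hkin x hx))) g)
    · rintro ⟨x, hx⟩
      obtain ⟨k, hk⟩ := h2 ⟨x, hkin x hx⟩
      refine ⟨k, ?_⟩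
      have h3 : (x : K) ^ 2 ^ k = 1 := congrArg Subtype.val hk
      apply Subtype.ext
      apply Subtype.ext
      simpa using h3
  have hinj : Function.Injective π' := (MonoidHom.ker_eq_bot_iff _).1 hk
  obtain ⟨i, hi⟩ := hπE ⟨j, hj2⟩
  have hij : π i = j := congrArg Subtype.val hi
  have hEC : E ≤ centralizer ({(i : K)} : Set K) := by
    intro x hx
    rw [mem_centralizer_iff]
    rintro _ rfl
    have h3 : π' (i * ⟨x, hx⟩) = π' (⟨x, hx⟩ * i) := by
      show e (πE (i * ⟨x, hx⟩)) = e (πE (⟨x, hx⟩ * i))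
      congr 1
      rw [map_mul, map_mul, hi]
      apply Subtype.ext
      exact mem_centralizer_iff.1 (hj3 (πE ⟨x, hx⟩).2) j rfl
    exact congrArg Subtype.val (hinj h3)
  refine ⟨i, E, hij, hEJ, ?_, i.2, hEC, ?_, ⟨MulEquiv.ofBijective π' ⟨hinj, hπ'⟩⟩⟩
  · rw [Subgroup.orderOf_coe, ← orderOf_injective π' hinj]
    show orderOf (e (πE i)) = 2
    rw [hi]
    exact (orderOf_injective e.toMonoidHom e.injective _).trans
      ((Subgroup.orderOf_coe (⟨j, hj2⟩ : ↥J)).symm.trans hj1)
  · -- subnormality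
    set D : Subgroup K := (centralizer ({j} : Set X)).comap π with hD
    have hCD : centralizer ({(i : K)} : Set K) ≤ D := by
      intro x hx
      rw [hD, mem_comap, mem_centralizer_iff]
      rintro _ rfl
      rw [← hij, ← map_mul, ← map_mul, mem_centralizer_iff.1 hx _ rfl]
    have hPD : (P.subgroupOf D).IsSubnormal := by
      let f : ↥D →* ↥(centralizer ({j} : Set X)) := (π.comp D.subtype).codRestrict _ (fun x => x.2)
      have h3 := hj4.comap f
      have h4 : (J.subgroupOf (centralizer ({j} : Set X))).comap f = P.subgroupOf D := by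
        ext x; rfl
      rwa [h4] at h3
    have hPle : P ≤ D := comap_mono hj3
    have hED : (E.subgroupOf D).IsSubnormal := by
      refine Subgroup.IsSubnormal.trans (K := P.subgroupOf D) ?_ (Subgroup.Normal.isSubnormal ?_) hPD
      · intro x hx
        exact hEP hx
      · constructor
        rintro ⟨⟨x, hxD⟩, hxP⟩ hx ⟨⟨g, hgD⟩, hgP⟩
        have hx' : x ∈ E := hx
        have hg' : g ∈ P := hgP
        have h3 : g * x * g⁻¹ ∈ E := by
          have h4 : g * x * g⁻¹ = ⁅g, x⁆ * x := by rw [commutatorElement_def]; group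
          rw [h4]
          exact mul_mem (commutator_mem_commutator hg' (hEP hx')) hx'
        exact h3
    have h3 := hED.comap (Subgroup.inclusion hCD)
    have h4 : (E.subgroupOf D).comap (Subgroup.inclusion hCD) = E.subgroupOf (centralizer ({(i : K)} : Set K)) := by
      ext x; rfl
    rwa [h4] at h3

end lift

/-- subnormality in the centraliser -/
theorem subnormal_up {H : Type*} [Group H] {L : Subgroup H} (hL : L.IsSubnormal) {j : ↥L} {J₀ : Subgroup ↥L}
    (h6 : (J₀.subgroupOf (centralizer ({j} : Set ↥L))).IsSubnormal) :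
    ((J₀.map L.subtype).subgroupOf (centralizer ({(j : H)} : Set H))).IsSubnormal := by
  obtain ⟨J, hJ⟩ : ∃ J : Subgroup H, J = J₀.map L.subtype := ⟨_, rfl⟩
  have hJL : J ≤ L := by rw [hJ]; exact map_subtype_le _
  rw [← hJ]
  set C : Subgroup H := centralizer ({(j : H)} : Set H) with hCdef
  let f : ↥(L.subgroupOf C) →* ↥(centralizer ({j} : Set ↥L)) :=
    { toFun := fun x => ⟨⟨(x : ↥C), x.2⟩, mem_centralizer_singleton_iff.2
        (Subtype.ext (mem_centralizer_singleton_iff.1 (x : ↥C).2))⟩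
      map_one' := rfl
      map_mul' := fun _ _ => rfl }
  refine Subgroup.IsSubnormal.trans (K := L.subgroupOf C) (fun x hx => hJL hx) ?_ (hL.comap C.subtype)
  have h7 := h6.comap f
  have h8 : (J₀.subgroupOf (centralizer ({j} : Set ↥L))).comap f = (J.subgroupOf C).subgroupOf (L.subgroupOf C) := by
    ext x
    rw [mem_comap, mem_subgroupOf, mem_subgroupOf, mem_subgroupOf, hJ]
    constructor
    · intro hx
      exact ⟨_, hx, rfl⟩
    · rintro ⟨y, hy, hyx⟩
      have h9 : y = ⟨((x : ↥C) : H), x.2⟩ := Subtype.ext hyx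
      rw [h9] at hy
      exact hy
  rwa [h8] at h7

/-- a classical subgroup -/
structure Cl {H : Type*} [Group H] (F : Type) [Field F] [Fintype F] (j : H) (J : Subgroup H) : Prop where
  sl : SL F ↥J
  ord : orderOf j = 2
  mem : j ∈ J
  cent : J ≤ centralizer ({j} : Set H)
  sub : (J.subgroupOf (centralizer ({j} : Set H))).IsSubnormal

section cl

variable {H : Type u} [Group H] [Finite H] {F : Type} [Field F] [Fintype F] {j : H} {J : Subgroup H}

theorem Cl.hyp_zz (h : Cl F j J) : Hyp (cls J) ∧ zz J = j := by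
  have hO := h.sl.oddCore_eq_bot
  have eO : J ⧸ oddCore J ≃* J := (QuotientGroup.quotientMulEquivOfEq hO).trans QuotientGroup.quotientBot
  have hbigJ : Cit.Seven.IsBig (↥J ⧸ oddCore ↥J) := by
    obtain ⟨f⟩ := h.sl.equiv
    exact Or.inl ⟨F, inferInstance, inferInstance, h.sl.odd, h.sl.three, ⟨eO.trans f⟩⟩
  have hp2 : Fact (Nat.Prime 2) := ⟨Nat.prime_two⟩
  have hcomp : IsComponent (J.subgroupOf (centralizer ({j} : Set H))) :=
    ⟨h.sub, SignalizersComponents.Components.isQuasisimple_of_mulEquiv (subgroupOfEquivOfLe h.cent).symm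
      h.sl.quasisimple⟩
  have hpc : IsPComponent 2 (J.subgroupOf (centralizer ({j} : Set H))) := by
    refine SignalizersComponents.EvenComponent.isPComponent_of_isComponent hcomp ?_
    rw [Nat.card_congr (subgroupOfEquivOfLe h.cent).toEquiv, ← h.ord]
    have h1 : orderOf j = orderOf (⟨j, h.mem⟩ : J) := by rw [← Subgroup.orderOf_coe]
    rw [h1]
    exact orderOf_dvd_natCard _
  exact Cit.Seven.hyp_of_comp j h.ord J h.cent h.mem hpc hbigJ

theorem Cl.ty (h : Cl F j J) : ∀ K ∈ cls J, Ty K := by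
  have hO := h.sl.oddCore_eq_bot
  have hperf : ⁅J, J⁆ = J := OddHalf.NI.FTwo.commutator_eq_of_quasisimple h.sl.quasisimple
  have eO : J ⧸ oddCore J ≃* J := (QuotientGroup.quotientMulEquivOfEq hO).trans QuotientGroup.quotientBot
  have hTyJ : Cit.Ty J := by
    obtain ⟨f⟩ := h.sl.equiv
    exact Or.inr ⟨Or.inl ⟨F, inferInstance, inferInstance, h.sl.odd, ⟨eO.trans f⟩⟩, hperf⟩
  rintro _ ⟨g, rfl⟩
  exact hTyJ.map_of_injective (MulAut.conj g).toMonoidHom (MulAut.conj g).injective

theorem Cl.slm (h : Cl F j J) {K : Subgroup H} (hK : K ∈ cls J) : SL F ↥K := by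
  obtain ⟨g, rfl⟩ := hK
  exact h.sl.cj g

theorem Cl.sls (h : Cl F j J) : SLs (cls J) := fun _ hJ => ⟨F, inferInstance, inferInstance, h.slm hJ⟩

/-- **`Front` for a given `J`** -/
theorem Cl.front (h : Cl F j J) (hT : TStmt.{u}) {L : Subgroup H} (hL : L.Normal) (hJL : J ≤ L)
    (hq : IsQuasisimple ↥L) (h2 : IsPGroup 2 ↥(center ↥L)) (hC : IsPGroup 2 ↥(centralizer (L : Set H)))
    (hL2 : ¬ IsL2 (↥L ⧸ center ↥L)) : Front L F j J := by
  obtain ⟨hOm, hzz⟩ := h.hyp_zz
  have hle : ∀ K ∈ cls J, K ≤ L := by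
    rintro _ ⟨g, rfl⟩
    rintro _ ⟨x, hx, rfl⟩
    exact hL.conj_mem x (hJL hx) g
  have hcore := pPrimeCore_eq_bot hL hq h2 hC
  have hTT := hT H (cls J) hOm h.ty (Cfsg.Agent.Cit.uni_cls J)
  have hP := piece_of_normal hL hq hOm hle ⟨J, self_mem_cls J⟩ ((Cit.tt_iff_hasPieces hOm hcore).1 hTT)
  refine ⟨h.sl, h.ord, h.mem, h.cent, h.sub, hle, hOm, hzz, h.ty, Cfsg.Agent.Cit.uni_cls J, hcore, hP, ?_⟩
  rintro ⟨g, hg⟩
  exact hL2 (isL2_of_sl (by rw [hg]; exact h.sl.cj g))

end cl

end Cfsg.Agent.Cit.Nil.LO.SevFront
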