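import Mathlib
import Cfsg.Agent.Cit.Nil.LO.SevAbs
import Cfsg.Agent.Cit.Nil.LO.FormGrp

/-!
# The plane in a section `M / N` (S1309, section 7 of LieOdd)

`SG` : the data (`N ≤ Z(M)`, `[M, M] ≤ N`, `|M| = q² |N|`, `H` abelian of order `q - 1` normalising `M`, `N`, semiregular on
`M / N`, `a`, `b` commuting with `H`, `a b = e b a`, `e` inverts `M / N`).

* `SG.exists_t` : an element `g` of `N(M) ∩ N(N)` commuting with `H`, `a`, `b` acts on `M / N` as an element of `H`;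
* `SG.triv` : `g` of odd order, centralising `N = [M, M]`; elements of `H` centralising `N` have order `≤ 2`:
  `g` centralises `M / N`;
* `SG.cent` : hence every element of `M` inverted by an element commuting with `g`.
-/

set_option autoImplicit false
set_option linter.unusedSectionVars false
set_option linter.style.haveILetI false

namespace Cfsg.Agent.LOC.SevGrp

open Cfsg.Agent.LOC.ChartDefs Cfsg.Agent.LOC.SevAbs
open scoped commutatorElement

variable {G : Type*} [Group G]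

/-- `k` normalises `M` and `N` -/
def Nm (M N : Subgroup G) (k : G) : Prop :=
  k ∈ Subgroup.normalizer (M : Set G) ∧ k ∈ Subgroup.normalizer (N : Set G)

variable {M N H : Subgroup G} {a b e g : G} {q : ℕ}

theorem Nm.memM {k : G} (hk : Nm M N k) {m : G} (hm : m ∈ M) : k * m * k⁻¹ ∈ M :=
  (Subgroup.mem_normalizer_iff.1 hk.1 m).1 hm

theorem Nm.memN {k : G} (hk : Nm M N k) {m : G} (hm : m ∈ N) : k * m * k⁻¹ ∈ N :=
  (Subgroup.mem_normalizer_iff.1 hk.2 m).1 hm

theorem Nm.mul {k l : G} (hk : Nm M N k) (hl : Nm M N l) : Nm M N (k * l) :=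
  ⟨mul_mem hk.1 hl.1, mul_mem hk.2 hl.2⟩

theorem Nm.inv {k : G} (hk : Nm M N k) : Nm M N k⁻¹ := ⟨inv_mem hk.1, inv_mem hk.2⟩

/-- conjugation on `M` -/
def conjM {k : G} (hk : Nm M N k) : M →* M where
  toFun m := ⟨k * m * k⁻¹, hk.memM m.2⟩
  map_one' := Subtype.ext (by push_cast; group)
  map_mul' m m' := Subtype.ext (by push_cast; group)

/-- conjugation on `M / N` -/
def act [(N.subgroupOf M).Normal] {k : G} (hk : Nm M N k) : AddMonoid.End (Additive (M ⧸ N.subgroupOf M)) :=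
  MonoidHom.toAdditive (QuotientGroup.map (N.subgroupOf M) (N.subgroupOf M) (conjM hk) (by
    intro m hm
    rw [Subgroup.mem_comap, Subgroup.mem_subgroupOf]
    rw [Subgroup.mem_subgroupOf] at hm
    exact hk.memN hm))

/-- the class of `m` -/
def cl (N : Subgroup G) [(N.subgroupOf M).Normal] (m : M) : Additive (M ⧸ N.subgroupOf M) :=
  Additive.ofMul (QuotientGroup.mk m)

section

variable [(N.subgroupOf M).Normal]

theorem act_cl {k : G} (hk : Nm M N k) (m : M) : act hk (cl N m) = cl N ⟨k * m * k⁻¹, hk.memM m.2⟩ := rfl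

theorem cl_surj (v : Additive (M ⧸ N.subgroupOf M)) : ∃ m, cl N m = v := by
  obtain ⟨m, hm⟩ := QuotientGroup.mk_surjective (Additive.toMul v)
  exact ⟨m, by unfold cl; rw [hm]; rfl⟩

theorem cl_eq {m m' : M} : cl N m = cl N m' ↔ (m : G)⁻¹ * m' ∈ N := by
  unfold cl
  rw [Additive.ofMul.injective.eq_iff, QuotientGroup.eq, Subgroup.mem_subgroupOf]
  rfl

theorem cl_zero {m : M} : cl N m = 0 ↔ (m : G) ∈ N := by
  have h1 : (0 : Additive (M ⧸ N.subgroupOf M)) = cl N 1 := rfl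
  rw [h1, eq_comm, cl_eq]
  simp

theorem cl_add (m m' : M) : cl N (m * m') = cl N m + cl N m' := rfl

theorem act_mul {k l : G} (hk : Nm M N k) (hl : Nm M N l) : act (hk.mul hl) = act hk * act hl := by
  ext v
  obtain ⟨m, rfl⟩ := cl_surj v
  change act (hk.mul hl) (cl N m) = act hk (act hl (cl N m))
  rw [act_cl, act_cl, act_cl]
  congr 1
  exact Subtype.ext (by push_cast; group)

theorem act_congr {k l : G} (hk : Nm M N k) (hl : Nm M N l) (h : k = l) : act hk = act hl := by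
  subst h; rfl

theorem act_comm {k l : G} (hk : Nm M N k) (hl : Nm M N l) (h : k * l = l * k) : act hk * act hl = act hl * act hk := by
  rw [← act_mul, ← act_mul]
  exact act_congr _ _ h

theorem act_inj {k : G} (hk : Nm M N k) (v : Additive (M ⧸ N.subgroupOf M)) (hv : act hk v = 0) : v = 0 := by
  obtain ⟨m, rfl⟩ := cl_surj v
  rw [act_cl, cl_zero] at hv
  rw [cl_zero]
  have := hk.inv.memN hv
  have e1 : k⁻¹ * (k * m * k⁻¹) * k⁻¹⁻¹ = m := by group
  change k⁻¹ * (k * m * k⁻¹) * k⁻¹⁻¹ ∈ N at this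
  rwa [e1] at this

end

/-- the data -/
structure SG (M N H : Subgroup G) (a b e : G) (q : ℕ) : Prop where
  le : N ≤ M
  cen : ∀ c ∈ N, ∀ m ∈ M, c * m = m * c
  comm : ∀ u ∈ M, ∀ v ∈ M, ⁅u, v⁆ ∈ N
  odd : Odd (Nat.card M)
  card : Nat.card M = q * q * Nat.card N
  two : 2 ≤ q
  nH : ∀ t ∈ H, Nm M N t
  cardH : Nat.card H + 1 = q
  commH : ∀ s ∈ H, ∀ t ∈ H, s * t = t * s
  reg : ∀ t ∈ H, ∀ m ∈ M, t * m * t⁻¹ * m⁻¹ ∈ N → m ∉ N → t = 1
  na : Nm M N a
  nb : Nm M N b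
  Ha : ∀ t ∈ H, t * a = a * t
  Hb : ∀ t ∈ H, t * b = b * t
  ab : a * b = e * (b * a)
  ne : Nm M N e
  inv : ∀ m ∈ M, e * m * e⁻¹ * m ∈ N

theorem SG.normal (S : SG M N H a b e q) : (N.subgroupOf M).Normal := ⟨by
  intro c hc m
  rw [Subgroup.mem_subgroupOf] at hc ⊢
  have : ((m * c * m⁻¹ : M) : G) = c := by
    push_cast
    rw [← S.cen _ hc m m.2]
    group
  rw [this]
  exact hc⟩

theorem SG.exists_t [Finite G] (S : SG M N H a b e q) (hg : Nm M N g) (gH : ∀ t ∈ H, t * g = g * t)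
    (ga : a * g = g * a) (gb : b * g = g * b) : ∃ t ∈ H, ∀ m ∈ M, (t * m * t⁻¹)⁻¹ * (g * m * g⁻¹) ∈ N := by
  classical
  haveI := S.normal
  letI iC : AddCommGroup (Additive (M ⧸ N.subgroupOf M)) :=
    { (inferInstance : AddGroup (Additive (M ⧸ N.subgroupOf M))) with
      add_comm := by
        intro u v
        obtain ⟨m, rfl⟩ := cl_surj u
        obtain ⟨m', rfl⟩ := cl_surj v
        rw [← cl_add, ← cl_add, cl_eq]
        have h1 := S.comm (m' : G)⁻¹ (inv_mem m'.2) (m : G)⁻¹ (inv_mem m.2)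
        rw [commutatorElement_def, inv_inv, inv_inv] at h1
        push_cast
        have e1 : ((m : G) * m')⁻¹ * (m' * m) = (m' : G)⁻¹ * (m : G)⁻¹ * m' * m := by group
        rw [e1]
        exact h1 }
  haveI : Finite (Additive (M ⧸ N.subgroupOf M)) := inferInstanceAs (Finite (M ⧸ N.subgroupOf M))
  let Sx : Set (AddMonoid.End (Additive (M ⧸ N.subgroupOf M))) := {f | ∃ t, ∃ ht : t ∈ H, f = act (S.nH t ht)}
  -- semiregularity
  have hreg : ∀ s (hs : s ∈ H) t (ht : t ∈ H), ∀ v : Additive (M ⧸ N.subgroupOf M), v ≠ 0 →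
      act (S.nH s hs) v = act (S.nH t ht) v → s = t := by
    intro s hs t ht v hv he
    obtain ⟨m, rfl⟩ := cl_surj v
    rw [act_cl, act_cl, cl_eq] at he
    rw [Ne, cl_zero] at hv
    have h1 := (S.nH s hs).inv.memN he
    have h2 : s⁻¹ * t = 1 := by
      refine S.reg _ (mul_mem (inv_mem hs) ht) m m.2 ?_ hv
      have h3 : s⁻¹ * ((s * (m : G) * s⁻¹)⁻¹ * (t * m * t⁻¹)) * s⁻¹⁻¹ =
          (m : G)⁻¹ * (s⁻¹ * t * m * (s⁻¹ * t)⁻¹ * (m : G)⁻¹) * m := by group
      change s⁻¹ * ((s * (m : G) * s⁻¹)⁻¹ * (t * m * t⁻¹)) * s⁻¹⁻¹ ∈ N at h1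
      rw [h3] at h1
      have h4 := S.cen _ h1 _ (inv_mem m.2)
      have h5 : s⁻¹ * t * (m : G) * (s⁻¹ * t)⁻¹ * (m : G)⁻¹ =
          m * ((m : G)⁻¹ * (s⁻¹ * t * m * (s⁻¹ * t)⁻¹ * (m : G)⁻¹) * m) * (m : G)⁻¹ := by group
      rw [h5, mul_assoc, h4, mul_inv_cancel_left]
      exact h1
    calc s = s * (s⁻¹ * t) := by rw [h2, mul_one]
      _ = t := by group
  have hcardM : Nat.card (Additive (M ⧸ N.subgroupOf M)) = q * q := by
    have h1 := Subgroup.card_eq_card_quotient_mul_card_subgroup (N.subgroupOf M)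
    have h2 : Nat.card (N.subgroupOf M) = Nat.card N := Nat.card_congr (Subgroup.subgroupOfEquivOfLe S.le).toEquiv
    rw [S.card, h2] at h1
    have h3 : 0 < Nat.card N := Nat.card_pos
    exact (Nat.eq_of_mul_eq_mul_right h3 h1).symm
  have hodd : ∀ v : Additive (M ⧸ N.subgroupOf M), v + v = 0 → v = 0 := by
    intro v hv
    have h1 : addOrderOf v ∣ 2 := by
      apply addOrderOf_dvd_of_nsmul_eq_zero
      rw [two_nsmul]
      exact hv
    have h2 : Odd (Nat.card (Additive (M ⧸ N.subgroupOf M))) := by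
      rw [hcardM]
      have := S.odd
      rw [S.card, Nat.odd_mul] at this
      exact this.1
    have h3 := Nat.eq_one_of_dvd_coprimes (Nat.coprime_two_left.2 h2) h1 (addOrderOf_dvd_natCard v)
    rwa [AddMonoid.addOrderOf_eq_one_iff] at h3
  have hcardS : Nat.card Sx + 1 = q := by
    rw [← S.cardH]
    congr 1
    refine Nat.card_congr (Equiv.ofBijective (fun t : H => (⟨act (S.nH t t.2), t, t.2, rfl⟩ : Sx)) ⟨?_, ?_⟩).symm
    · intro s t he
      have h1 : act (S.nH s s.2) = act (S.nH t t.2) := congrArg Subtype.val he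
      have hnt : Nontrivial (Additive (M ⧸ N.subgroupOf M)) := by
        rw [← Finite.one_lt_card_iff_nontrivial, hcardM]
        have := S.two
        nlinarith
      obtain ⟨v, hv⟩ := exists_ne (0 : Additive (M ⧸ N.subgroupOf M))
      exact Subtype.ext (hreg s s.2 t t.2 v hv (by rw [h1]))
    · rintro ⟨_, t, ht, rfl⟩
      exact ⟨⟨t, ht⟩, rfl⟩
  have hHy : Hy q Sx (act S.na) (act S.nb) := by
    refine ⟨hcardM, S.two, hodd, hcardS, ?_, ?_, ?_, ?_, ?_, ?_, act_inj S.na, act_inj S.nb⟩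
    · rintro _ ⟨s, hs, rfl⟩ _ ⟨t, ht, rfl⟩ v hv he
      exact act_congr _ _ (hreg s hs t ht v hv he)
    · rintro _ ⟨s, hs, rfl⟩ v hv h0
      exact hv (act_inj _ v h0)
    · rintro _ ⟨s, hs, rfl⟩ _ ⟨t, ht, rfl⟩
      exact act_comm _ _ (S.commH s hs t ht)
    · rintro _ ⟨s, hs, rfl⟩
      exact act_comm _ _ (S.Ha s hs)
    · rintro _ ⟨s, hs, rfl⟩
      exact act_comm _ _ (S.Hb s hs)
    · refine DFunLike.ext _ _ fun v => ?_
      obtain ⟨m, rfl⟩ := cl_surj v
      change act S.na (act S.nb (cl N m)) = -(act S.nb (act S.na (cl N m)))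
      rw [act_cl, act_cl, act_cl, act_cl, eq_neg_iff_add_eq_zero, ← cl_add, cl_zero]
      have h1 := S.inv _ ((S.nb.mul S.na).memM m.2)
      have h2 : a * (b * (m : G) * b⁻¹) * a⁻¹ * (b * (a * m * a⁻¹) * b⁻¹) =
          e * (b * a * m * (b * a)⁻¹) * e⁻¹ * (b * a * m * (b * a)⁻¹) := by
        have h3 : a * (b * (m : G) * b⁻¹) * a⁻¹ = (a * b) * m * (a * b)⁻¹ := by group
        rw [h3, S.ab]; group
      change a * (b * (m : G) * b⁻¹) * a⁻¹ * (b * (a * m * a⁻¹) * b⁻¹) ∈ N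
      rw [h2]
      exact h1
  have hmem := hHy.mem (g := act hg) (act_inj hg) (by
    rintro _ ⟨s, hs, rfl⟩
    exact act_comm _ _ (gH s hs)) (act_comm _ _ ga) (act_comm _ _ gb)
  obtain ⟨t, ht, he⟩ := hmem
  refine ⟨t, ht, fun m hm => ?_⟩
  have h1 : act (S.nH t ht) (cl N ⟨m, hm⟩) = act hg (cl N ⟨m, hm⟩) := by rw [he]
  rw [act_cl, act_cl, cl_eq] at h1
  exact h1

/-- `[u c, v d] = [u, v]` for central `c`, `d` -/
theorem comm_cen {u v c d : G} (hcu : ∀ x ∈ ({u, v, c, d} : Set G), c * x = x * c)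
    (hdu : ∀ x ∈ ({u, v, c, d} : Set G), d * x = x * d) : ⁅u * c, v * d⁆ = ⁅u, v⁆ := by
  have c1 := hcu u (by simp)
  have c2 := hcu v (by simp)
  have c3 := hcu d (by simp)
  have d1 := hdu u (by simp)
  have d2 := hdu v (by simp)
  rw [commutatorElement_def, commutatorElement_def]
  have k1 : u * c * (v * d) = u * v * (c * d) := by
    calc u * c * (v * d) = u * (c * v) * d := by group
      _ = u * (v * c) * d := by rw [c2]
      _ = u * v * (c * d) := by group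
  have k2 : v * d * (u * c) = v * u * (c * d) := by
    calc v * d * (u * c) = v * (d * u) * c := by group
      _ = v * (u * d) * c := by rw [d1]
      _ = v * u * (d * c) := by group
      _ = v * u * (c * d) := by rw [← c3]
  calc u * c * (v * d) * (u * c)⁻¹ * (v * d)⁻¹ = u * c * (v * d) * (v * d * (u * c))⁻¹ := by group
    _ = u * v * (c * d) * (v * u * (c * d))⁻¹ := by rw [k1, k2]
    _ = u * v * u⁻¹ * v⁻¹ := by group

theorem SG.triv [Finite G] (S : SG M N H a b e q) (hg : Nm M N g) (gH : ∀ t ∈ H, t * g = g * t)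
    (ga : a * g = g * a) (gb : b * g = g * b) (hodd : Odd (orderOf g)) (hgN : ∀ c ∈ N, g * c = c * g)
    (hgen : ∀ t : G, (∀ u ∈ M, ∀ v ∈ M, t * ⁅u, v⁆ = ⁅u, v⁆ * t) → ∀ c ∈ N, t * c = c * t)
    (hinv : ∀ t ∈ H, (∀ c ∈ N, t * c = c * t) → t * t = 1) : ∀ m ∈ M, g * m * g⁻¹ * m⁻¹ ∈ N := by
  obtain ⟨t, ht, h1⟩ := S.exists_t hg gH ga gb
  -- `t` centralises `N`
  have h2 : ∀ c ∈ N, t * c = c * t := by
    refine hgen t fun u hu v hv => ?_
    have k1 := h1 u hu
    have k2 := h1 v hv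
    set c := (t * u * t⁻¹)⁻¹ * (g * u * g⁻¹) with hc
    set d := (t * v * t⁻¹)⁻¹ * (g * v * g⁻¹) with hd
    have e1 : g * u * g⁻¹ = t * u * t⁻¹ * c := by rw [hc]; group
    have e2 : g * v * g⁻¹ = t * v * t⁻¹ * d := by rw [hd]; group
    have mu := (S.nH t ht).memM hu
    have mv := (S.nH t ht).memM hv
    have h3 : ⁅g * u * g⁻¹, g * v * g⁻¹⁆ = ⁅t * u * t⁻¹, t * v * t⁻¹⁆ := by
      rw [e1, e2]
      apply comm_cen
      · rintro x (rfl | rfl | rfl | rfl)
        · exact S.cen _ k1 _ mu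
        · exact S.cen _ k1 _ mv
        · rfl
        · exact S.cen _ k1 _ (S.le k2)
      · rintro x (rfl | rfl | rfl | rfl)
        · exact S.cen _ k2 _ mu
        · exact S.cen _ k2 _ mv
        · exact S.cen _ k2 _ (S.le k1)
        · rfl
    have h4 : g * ⁅u, v⁆ * g⁻¹ = ⁅g * u * g⁻¹, g * v * g⁻¹⁆ := by
      simp only [commutatorElement_def]; group
    have h5 : t * ⁅u, v⁆ * t⁻¹ = ⁅t * u * t⁻¹, t * v * t⁻¹⁆ := by
      simp only [commutatorElement_def]; group
    have h6 := hgN _ (S.comm u hu v hv)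
    have h7 : t * ⁅u, v⁆ * t⁻¹ = ⁅u, v⁆ := by
      rw [h5, ← h3, ← h4, h6]; group
    calc t * ⁅u, v⁆ = t * ⁅u, v⁆ * t⁻¹ * t := by group
      _ = ⁅u, v⁆ * t := by rw [h7]
  have h3 := hinv t ht h2
  -- `g²` is trivial on `M / N`
  have key : ∀ k : ℕ, ∀ m ∈ M, (g * g) ^ k * m * ((g * g) ^ k)⁻¹ * m⁻¹ ∈ N := by
    have base : ∀ m ∈ M, g * g * m * (g * g)⁻¹ * m⁻¹ ∈ N := by
      intro m hm
      have k1 := h1 m hm
      have mt := (S.nH t ht).memM hm
      have k2 := h1 _ mt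
      set c := (t * m * t⁻¹)⁻¹ * (g * m * g⁻¹) with hc
      set d := (t * (t * m * t⁻¹) * t⁻¹)⁻¹ * (g * (t * m * t⁻¹) * g⁻¹) with hd
      have e1 : g * m * g⁻¹ = t * m * t⁻¹ * c := by rw [hc]; group
      have e2 : g * (t * m * t⁻¹) * g⁻¹ = m * d := by
        have : t * (t * m * t⁻¹) * t⁻¹ = m := by
          calc t * (t * m * t⁻¹) * t⁻¹ = (t * t) * m * (t * t)⁻¹ := by group
            _ = m := by rw [h3]; group
        rw [hd, this]; group
      have e3 : g * g * m * (g * g)⁻¹ = m * d * c := by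
        calc g * g * m * (g * g)⁻¹ = g * (g * m * g⁻¹) * g⁻¹ := by group
          _ = g * (t * m * t⁻¹ * c) * g⁻¹ := by rw [e1]
          _ = (g * (t * m * t⁻¹) * g⁻¹) * (g * c * g⁻¹) := by group
          _ = m * d * c := by rw [e2, hgN c k1]; group
      rw [e3]
      have e4 : m * d * c * m⁻¹ = d * c := by
        have q1 : m * d = d * m := (S.cen d k2 m hm).symm
        have q2 : m * c = c * m := (S.cen c k1 m hm).symm
        calc m * d * c * m⁻¹ = d * (m * c) * m⁻¹ := by rw [q1]; group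
          _ = d * c := by rw [q2]; group
      rw [e4]
      exact mul_mem k2 k1
    intro k
    induction k with
    | zero => intro m hm; simp
    | succ k ih =>
      intro m hm
      have k1 := base m hm
      have k2 := ih m hm
      set c := g * g * m * (g * g)⁻¹ * m⁻¹ with hc
      have e1 : g * g * m * (g * g)⁻¹ = c * m := by rw [hc]; group
      have gc : ∀ k : ℕ, (g * g) ^ k * c = c * (g * g) ^ k := by
        intro k
        have : Commute g c := hgN c k1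
        exact ((this.mul_left this).pow_left k)
      have e2 : (g * g) ^ (k + 1) * m * ((g * g) ^ (k + 1))⁻¹ * m⁻¹ =
          c * ((g * g) ^ k * m * ((g * g) ^ k)⁻¹ * m⁻¹) := by
        calc (g * g) ^ (k + 1) * m * ((g * g) ^ (k + 1))⁻¹ * m⁻¹ =
            (g * g) ^ k * (g * g * m * (g * g)⁻¹) * ((g * g) ^ k)⁻¹ * m⁻¹ := by rw [pow_succ]; group
          _ = ((g * g) ^ k * c) * m * ((g * g) ^ k)⁻¹ * m⁻¹ := by rw [e1]; group
          _ = c * ((g * g) ^ k * m * ((g * g) ^ k)⁻¹ * m⁻¹) := by rw [gc]; group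
      rw [e2]
      exact mul_mem k1 k2
  intro m hm
  obtain ⟨k, hk⟩ := hodd
  have h4 : (g * g) ^ (k + 1) = g := by
    have : (g * g) ^ (k + 1) = g ^ (2 * k + 1) * g := by
      rw [← pow_two, ← pow_mul, ← pow_succ]
      congr 1
    rw [this, ← hk, pow_orderOf_eq_one, one_mul]
  have := key (k + 1) m hm
  rwa [h4] at this

/-- `g` centralises the elements of `M` inverted by an element `f` commuting with `g` (which centralises `N`) -/
theorem cent_of_inv {f m : G} (hN : ∀ c ∈ N, c * c = 1 → c = 1) (hcen : ∀ c ∈ N, c * m = m * c)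
    (hg : g * m * g⁻¹ * m⁻¹ ∈ N) (hfN : ∀ c ∈ N, f * c = c * f) (hfg : f * g = g * f) (hf : f * m * f⁻¹ = m⁻¹) :
    g * m = m * g := by
  set c := g * m * g⁻¹ * m⁻¹ with hc
  have e1 : g * m * g⁻¹ = c * m := by rw [hc]; group
  have e2 : g * m⁻¹ * g⁻¹ = m⁻¹ * c⁻¹ := by
    have : g * m⁻¹ * g⁻¹ = (g * m * g⁻¹)⁻¹ := by group
    rw [this, e1]; group
  -- conjugate `e1` by `f`
  have e3 : f * (g * m * g⁻¹) * f⁻¹ = g * m⁻¹ * g⁻¹ := by
    calc f * (g * m * g⁻¹) * f⁻¹ = (f * g) * m * (f * g)⁻¹ := by group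
      _ = (g * f) * m * (g * f)⁻¹ := by rw [hfg]
      _ = g * (f * m * f⁻¹) * g⁻¹ := by group
      _ = g * m⁻¹ * g⁻¹ := by rw [hf]
  have e4 : f * (c * m) * f⁻¹ = c * m⁻¹ := by
    calc f * (c * m) * f⁻¹ = (f * c) * m * f⁻¹ := by group
      _ = c * (f * m * f⁻¹) := by rw [hfN c hg]; group
      _ = c * m⁻¹ := by rw [hf]
  rw [e1, e4, e2] at e3
  have e5 : c * m⁻¹ = m⁻¹ * c := by
    calc c * m⁻¹ = m⁻¹ * (m * c) * m⁻¹ := by group
      _ = m⁻¹ * (c * m) * m⁻¹ := by rw [hcen c hg]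
      _ = m⁻¹ * c := by group
  rw [e5] at e3
  have e6 : c = c⁻¹ := mul_left_cancel e3
  have e7 : c = 1 := hN c hg (by nth_rewrite 2 [e6]; exact mul_inv_cancel c)
  rw [e7, one_mul] at e1
  calc g * m = g * m * g⁻¹ * g := by group
    _ = m * g := by rw [e1]

end Cfsg.Agent.LOC.SevGrp
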