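import Cfsg.Agent.Cit.Nil.LO.ThreeComp
import Cfsg.Agent.OddHalf.NI3.Bad.Unb
import Cfsg.Agent.Cit.AssemblyNil

/-!
# S1309 (n2), THREE PROPAGATION: the components on which `c` is nontrivial are unbalanced (helper822)

* `unbM` : `X` simple, `α`, `β` commuting automorphisms, `α` an involution, `β` of odd order, `β` trivial on
  `C_X(α)` modulo a normal subgroup of odd order: `X` is in the list of S1311.
* `unbQM` : the same for `L` quasisimple, `β` trivial on `Z(L)`.
* `unb_comp` : in a group: `c` centralises `L`, or `s` does not centralise `L` and `L / Z(L)` is in the list of S1311.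
-/

set_option autoImplicit false
set_option linter.style.haveILetI false
set_option linter.unusedSectionVars false

namespace Cfsg.Agent.Cit.Nil.LO

open Subgroup Cfsg Cit RG
open Cfsg.Agent.OddHalf.NI.Ex (fix mem_fix bar bar_mk bar_mul bar_one eq_one_of_bar)
open Cfsg.Agent.OddHalf.NI3 (Sn)
open Cfsg.Agent.OddHalf.NI3.Bad.Unb (IsUnb genFit_eq conj_mul_eq)
open Cfsg.Agent.SignalizersComponents

universe u

/-- S1311 for all groups with simple `F*` -/
def P11 : Prop := ∀ (G : Type u) [Group G] [Finite G], AssemblyNil.FS G → AssemblyNil.St1311 G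

section simple

variable {X : Type u} [Group X]

/-- **S1311 for commuting automorphisms, modulo a subgroup `M` of odd order.** -/
theorem unbM (h1311 : P11.{u}) [Finite X] (hs : IsSimpleGroup X) (hna : ¬ IsMulCommutative X)
    {α β : MulAut X} (hα : α * α = 1) (hα1 : α ≠ 1) (hβ : Odd (orderOf β)) (hβ1 : β ≠ 1) (hc : α * β = β * α)
    (F M : Subgroup X) (hFn : ∀ x, α x = x → ∀ f ∈ F, x * f * x⁻¹ ∈ F) (hFβ : ∀ f ∈ F, β f ∈ F)
    (hFα : ∀ f ∈ F, α f = f) (hFx : ∀ x, α x = x → x * (β x)⁻¹ ∈ F) (hMF : M ≤ F)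
    (hMn : ∀ f ∈ F, ∀ m ∈ M, f * m * f⁻¹ ∈ M) (hMβ : ∀ m ∈ M, β m ∈ M) (hMo : ¬ 2 ∣ Nat.card M)
    (hβM : ∀ f ∈ F, f * (β f)⁻¹ ∈ M) : IsUnb X := by
  haveI : Fact (Nat.Prime 2) := ⟨Nat.prime_two⟩
  have hZ : center X = ⊥ := by
    rcases hs.eq_bot_or_eq_top_of_normal (center X) inferInstance with h | h
    · exact h
    · exfalso
      apply hna
      refine ⟨⟨fun a b => ?_⟩⟩
      exact mem_center_iff.mp (h ▸ mem_top b : b ∈ center X) a
  have hinj : Function.Injective (MulAut.conj : X →* MulAut X) := by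
    rw [injective_iff_map_eq_one]
    intro x hx
    rw [← mem_bot, ← hZ, mem_center_iff]
    intro y
    have h1 := DFunLike.congr_fun hx y
    rw [MulAut.conj_apply, MulAut.one_apply, mul_inv_eq_iff_eq_mul] at h1
    exact h1.symm
  set I : Subgroup (MulAut X) := (MulAut.conj : X →* MulAut X).range with hI
  have hIn : I.Normal := by
    refine ⟨?_⟩
    rintro _ ⟨x, rfl⟩ g
    exact ⟨g x, by rw [conj_mul_eq, mul_inv_cancel_right]⟩
  set K : Subgroup (MulAut X) := closure {α, β} with hK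
  have hKc : ∀ k ∈ K, k * α = α * k := by
    intro k hk
    have h1 : K ≤ centralizer ({α} : Set (MulAut X)) := by
      rw [hK, closure_le]
      rintro k (rfl | rfl)
      · exact mem_centralizer_singleton_iff.2 rfl
      · exact mem_centralizer_singleton_iff.2 hc.symm
    exact mem_centralizer_singleton_iff.1 (h1 hk)
  have hKb : ∀ k ∈ K, k * β = β * k := by
    intro k hk
    have h1 : K ≤ centralizer ({β} : Set (MulAut X)) := by
      rw [hK, closure_le]
      rintro k (rfl | rfl)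
      · exact mem_centralizer_singleton_iff.2 hc
      · exact mem_centralizer_singleton_iff.2 rfl
    exact mem_centralizer_singleton_iff.1 (h1 hk)
  have hβFz : ∀ (n : ℕ), ∀ f ∈ F, (β ^ n) f ∈ F := by
    intro n
    induction n with
    | zero => intro f hf; rw [pow_zero, MulAut.one_apply]; exact hf
    | succ n ih => intro f hf; rw [pow_succ, MulAut.mul_apply]; exact ih _ (hFβ f hf)
  -- `K` leaves `F` invariant
  have hKF : ∀ k ∈ K, ∀ f ∈ F, k f ∈ F := by
    intro k hk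
    refine closure_induction (p := fun k _ => ∀ f ∈ F, k f ∈ F) ?_ ?_ ?_ ?_ hk
    · rintro k (rfl | rfl) f hf
      · rw [hFα f hf]; exact hf
      · exact hFβ f hf
    · intro f hf; rw [MulAut.one_apply]; exact hf
    · intro k k' _ _ h1 h2 f hf
      rw [MulAut.mul_apply]; exact h1 _ (h2 f hf)
    · intro k _ h1 f hf
      have h2 : ∀ n : ℕ, ∀ f ∈ F, (k ^ n) f ∈ F := by
        intro n
        induction n with
        | zero => intro f hf; rw [pow_zero, MulAut.one_apply]; exact hf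
        | succ n ih => intro f hf; rw [pow_succ, MulAut.mul_apply]; exact ih _ (h1 f hf)
      have h3 : k⁻¹ = k ^ (orderOf k - 1) := by
        rw [inv_eq_iff_mul_eq_one, ← pow_succ', Nat.sub_add_cancel (orderOf_pos k), pow_orderOf_eq_one]
      rw [h3]
      exact h2 _ f hf
  set A : Subgroup (MulAut X) := I ⊔ K with hA
  have hIA : I ≤ A := le_sup_left
  have hαA : α ∈ A := (le_sup_right : K ≤ A) (subset_closure (Or.inl rfl))
  have hβA : β ∈ A := (le_sup_right : K ≤ A) (subset_closure (Or.inr rfl))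
  -- the elements of `C_A(α)`
  have hdec : ∀ c ∈ centralizer ({α} : Set (MulAut X)) ⊓ A, ∃ x : X, α x = x ∧ ∃ k ∈ K, c = MulAut.conj x * k := by
    intro c hc0
    have hc1 := (mem_inf.1 hc0).1
    have hc2 : c ∈ I ⊔ K := (mem_inf.1 hc0).2
    obtain ⟨_, ⟨x, rfl⟩, k, hk, rfl⟩ := (Subgroup.mem_sup_of_normal_left).1 hc2
    refine ⟨x, ?_, k, hk, rfl⟩
    apply hinj
    rw [mem_centralizer_singleton_iff] at hc1
    have h1 : MulAut.conj x * α * k = MulAut.conj (α x) * α * k := by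
      calc MulAut.conj x * α * k = MulAut.conj x * k * α := by rw [mul_assoc, ← hKc k hk, mul_assoc]
        _ = α * (MulAut.conj x * k) := hc1
        _ = MulAut.conj (α x) * α * k := by rw [← mul_assoc, conj_mul_eq]
    exact (mul_right_cancel (mul_right_cancel h1)).symm
  -- the subnormal chain
  set N : Subgroup (MulAut X) := F.map (MulAut.conj : X →* MulAut X) with hN
  set W : Subgroup (MulAut X) := N ⊔ zpowers β with hW
  set D₀ : Subgroup (MulAut X) := M.map (MulAut.conj : X →* MulAut X) with hD₀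
  set D : Subgroup (MulAut X) := D₀ ⊔ zpowers β with hD
  have hWC : W ≤ centralizer ({α} : Set (MulAut X)) ⊓ A := by
    refine sup_le ?_ ?_
    · rintro _ ⟨f, hf, rfl⟩
      refine mem_inf.2 ⟨?_, hIA ⟨f, rfl⟩⟩
      rw [mem_centralizer_singleton_iff]
      show MulAut.conj f * α = α * MulAut.conj f
      rw [conj_mul_eq, hFα f hf]
    · rw [zpowers_le]
      exact ⟨mem_centralizer_singleton_iff.2 hc.symm, hβA⟩
  have hDW : D ≤ W := sup_le_sup_right (Subgroup.map_mono hMF) _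
  -- a subgroup mapped into itself is normalised
  have hnorm : ∀ (Y : Subgroup (MulAut X)) (c : MulAut X), (∀ y ∈ Y, c * y * c⁻¹ ∈ Y) → c ∈ normalizer (Y : Set (MulAut X)) := by
    intro Y c h1
    rw [Cit.mem_normalizer_iff_cj]
    have h2 : Cit.cj c Y ≤ Y := by
      rw [Cit.cj_def, map_le_iff_le_comap]
      exact h1
    exact Subgroup.eq_of_le_of_card_ge h2 (Cit.card_cj c Y).ge
  have hβD₀ : β ∈ normalizer (D₀ : Set (MulAut X)) := by
    apply hnorm
    rintro _ ⟨m, hm, rfl⟩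
    refine ⟨β m, hMβ m hm, ?_⟩
    rw [conj_mul_eq, mul_inv_cancel_right]
  have hDodd : ¬ 2 ∣ Nat.card D := by
    refine LB.odd_sup ?_ ?_ ?_
    · rw [hD₀, Subgroup.card_map_of_injective hinj]; exact hMo
    · rw [Nat.card_zpowers]; exact hβ.not_two_dvd_nat
    · rw [zpowers_le]; exact hβD₀
  have s1 : Sn D W := by
    refine Sn.of_normal hDW (sup_le ?_ ?_)
    · rintro _ ⟨f, hf, rfl⟩
      apply hnorm
      intro y hy
      have h2 : D ≤ D.comap (MulAut.conj (MulAut.conj f : MulAut X)).toMonoidHom := by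
        refine sup_le ?_ ?_
        · rintro _ ⟨m, hm, rfl⟩
          rw [mem_comap]
          refine mem_sup_left ⟨f * m * f⁻¹, hMn f hf m hm, ?_⟩
          rw [map_mul, map_mul, map_inv]
          rfl
        · rw [zpowers_le, mem_comap]
          have h1 : (MulAut.conj (MulAut.conj f : MulAut X)).toMonoidHom β = MulAut.conj (f * (β f)⁻¹) * β := by
            show MulAut.conj f * β * (MulAut.conj f)⁻¹ = _
            have h2 : β * (MulAut.conj f)⁻¹ = (MulAut.conj (β f))⁻¹ * β := by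
              rw [eq_inv_mul_iff_mul_eq, ← mul_assoc, ← conj_mul_eq, mul_inv_cancel_right]
            rw [mul_assoc, h2, map_mul, map_inv, mul_assoc]
          rw [h1]
          exact mul_mem (mem_sup_left ⟨_, hβM f hf, rfl⟩) (mem_sup_right (mem_zpowers β))
      exact h2 hy
    · rw [zpowers_le]
      exact le_normalizer (mem_sup_right (mem_zpowers β))
  have s2 : Sn W (centralizer ({α} : Set (MulAut X)) ⊓ A) := by
    refine Sn.of_normal hWC ?_
    intro c hc'
    apply hnorm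
    obtain ⟨x, hx, k, hk, rfl⟩ := hdec c hc'
    have key : W ≤ W.comap (MulAut.conj (MulAut.conj x * k)).toMonoidHom := by
      refine sup_le ?_ ?_
      · rintro _ ⟨f, hf, rfl⟩
        rw [mem_comap]
        have h1 : (MulAut.conj (MulAut.conj x * k)).toMonoidHom (MulAut.conj f) = MulAut.conj (x * k f * x⁻¹) := by
          show MulAut.conj x * k * MulAut.conj f * (MulAut.conj x * k)⁻¹ = _
          rw [mul_assoc (MulAut.conj x), conj_mul_eq, map_mul, map_mul, map_inv]
          group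
        rw [h1]
        exact mem_sup_left ⟨_, hFn x hx _ (hKF k hk f hf), rfl⟩
      · rw [zpowers_le, mem_comap]
        have h1 : (MulAut.conj (MulAut.conj x * k)).toMonoidHom β = MulAut.conj (x * (β x)⁻¹) * β := by
          show MulAut.conj x * k * β * (MulAut.conj x * k)⁻¹ = _
          have h2 : β * (MulAut.conj x)⁻¹ = (MulAut.conj (β x))⁻¹ * β := by
            rw [eq_inv_mul_iff_mul_eq, ← mul_assoc, ← conj_mul_eq, mul_inv_cancel_right]
          rw [mul_assoc (MulAut.conj x), hKb k hk, mul_inv_rev, map_mul, map_inv]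
          calc MulAut.conj x * (β * k) * (k⁻¹ * (MulAut.conj x)⁻¹) = MulAut.conj x * (β * (MulAut.conj x)⁻¹) := by group
            _ = MulAut.conj x * (MulAut.conj (β x))⁻¹ * β := by rw [h2]; group
        rw [h1]
        exact mul_mem (mem_sup_left ⟨_, hFx x hx, rfl⟩) (mem_sup_right (mem_zpowers β))
    intro y hy
    exact key hy
  have s3 := (s1.trans s2).comap A.subtype
  -- `F*(A)`
  have hα' : orderOf (⟨α, hαA⟩ : ↥A) = 2 := by
    refine orderOf_eq_prime ?_ ?_
    · rw [pow_two]; exact Subtype.ext hα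
    · intro h; exact hα1 (congrArg Subtype.val h)
  let e1 : X ≃* ↥I := MulEquiv.ofBijective (MulAut.conj : X →* MulAut X).rangeRestrict
    ⟨fun a b h => hinj (congrArg Subtype.val h), MonoidHom.rangeRestrict_surjective _⟩
  let e2 : ↥I ≃* ↥(I.subgroupOf A) := (subgroupOfEquivOfLe hIA).symm
  have hIAn : (I.subgroupOf A).Normal := inferInstance
  haveI hsI : IsSimpleGroup ↥(I.subgroupOf A) := by
    haveI := hs
    exact (e1.trans e2).symm.isSimpleGroup
  have hnaI : ¬ IsMulCommutative ↥(I.subgroupOf A) := by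
    intro h
    apply hna
    refine ⟨⟨fun a b => ?_⟩⟩
    apply (e1.trans e2).injective
    rw [map_mul, map_mul]
    exact h.is_comm.comm _ _
  have hcen : centralizer ((I.subgroupOf A : Subgroup ↥A) : Set ↥A) = ⊥ := by
    rw [eq_bot_iff]
    intro g hg
    rw [mem_bot]
    apply Subtype.ext
    show (g : MulAut X) = 1
    ext x
    rw [MulAut.one_apply]
    have h1 := mem_centralizer_iff.1 hg ⟨MulAut.conj x, hIA ⟨x, rfl⟩⟩ (show MulAut.conj x ∈ I from ⟨x, rfl⟩)
    have h2 : MulAut.conj x * (g : MulAut X) = g * MulAut.conj x := congrArg Subtype.val h1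
    rw [conj_mul_eq] at h2
    exact (hinj (mul_right_cancel h2)).symm
  have hF := genFit_eq hIAn hsI hnaI hcen
  -- the core
  have hcore : centralizerPPrimeCore 2 (⟨α, hαA⟩ : ↥A) ≠ ⊥ := by
    intro h
    have h0 := (Subgroup.map_eq_bot_iff_of_injective _
      (centralizer ({(⟨α, hαA⟩ : ↥A)} : Set ↥A)).subtype_injective).1 h
    have h2 : (centralizer ({α} : Set (MulAut X)) ⊓ A).comap A.subtype =
        centralizer ({(⟨α, hαA⟩ : ↥A)} : Set ↥A) := by
      ext x
      rw [mem_comap, mem_inf]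
      simp only [coe_subtype, mem_centralizer_singleton_iff]
      constructor
      · rintro ⟨h3, -⟩
        exact Subtype.ext h3
      · intro h3
        exact ⟨congrArg Subtype.val h3, x.2⟩
    rw [h2] at s3
    have h3 := CompBasic.subnormal_coprime_le_pPrimeCore (p := 2) s3.2 ?_
    · rw [h0, le_bot_iff] at h3
      have hβC : (⟨β, hβA⟩ : ↥A) ∈ centralizer ({(⟨α, hαA⟩ : ↥A)} : Set ↥A) :=
        mem_centralizer_singleton_iff.2 (Subtype.ext hc.symm)
      have h4 : (⟨⟨β, hβA⟩, hβC⟩ : ↥(centralizer ({(⟨α, hαA⟩ : ↥A)} : Set ↥A))) ∈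
          (D.comap A.subtype).subgroupOf (centralizer ({(⟨α, hαA⟩ : ↥A)} : Set ↥A)) :=
        (mem_sup_right (mem_zpowers β) : β ∈ D)
      rw [h3, mem_bot] at h4
      exact hβ1 (congrArg Subtype.val (congrArg Subtype.val h4))
    · have h5 : Nat.card ((D.comap A.subtype).subgroupOf (centralizer ({(⟨α, hαA⟩ : ↥A)} : Set ↥A))) ∣
          Nat.card D := by
        refine (Subgroup.card_comap_dvd_of_injective _ _ (subtype_injective _)).trans ?_
        exact Subgroup.card_comap_dvd_of_injective _ _ (subtype_injective _)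
      refine Nat.Coprime.of_dvd_left h5 ((Nat.coprime_two_right).2 ?_)
      exact Nat.odd_iff.2 (by omega)
  -- conclusion
  have hs' : IsSimpleGroup ↥(generalizedFittingSubgroup ↥A) := by rw [hF]; exact hsI
  have hna' : ¬ IsMulCommutative ↥(generalizedFittingSubgroup ↥A) := by rw [hF]; exact hnaI
  have hev : 2 ∣ Nat.card ↥(generalizedFittingSubgroup ↥A) := by
    rw [hF]
    by_contra h
    have h1 : Group.IsSolvable ↥(I.subgroupOf A) := S0205.result (Nat.odd_iff.2 (by omega))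
    exact Components.quasisimple_not_isSolvable (IntrinsicDiag.quasisimple_of_simple hsI hnaI) h1
  have h5 : IsUnb ↥(generalizedFittingSubgroup ↥A) := h1311 ↥A ⟨hs', hna', hev⟩ ⟨α, hαA⟩ hα' hcore
  exact h5.congr ((MulEquiv.subgroupCongr hF).trans (e1.trans e2).symm)

end simple

section quasi

variable {L : Type u} [Group L] [Finite L]

/-- **S1311 for quasisimple groups, modulo a subgroup `M` whose 2-elements are central.** -/
theorem unbQM (h1311 : P11.{u}) (hq : IsQuasisimple L) {α β : MulAut L} (hα : α * α = 1) (hα1 : α ≠ 1)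
    (hβ : Odd (orderOf β)) (hβ1 : β ≠ 1) (hc : α * β = β * α) (hz : ∀ x ∈ center L, β x = x) (M : Subgroup L)
    (hMn : ∀ f, α f = f → ∀ m ∈ M, f * m * f⁻¹ ∈ M) (hMβ : ∀ m ∈ M, β m ∈ M) (hMα : ∀ m ∈ M, α m = m)
    (hM2 : ∀ m ∈ M, (∃ k : ℕ, m ^ 2 ^ k = 1) → m ∈ center L) (hM : ∀ f, α f = f → f * (β f)⁻¹ ∈ M) :
    IsUnb (L ⧸ center L) := by
  haveI : Fact (Nat.Prime 2) := ⟨Nat.prime_two⟩
  have hp : commutator L = ⊤ := hq.1.commutator_eq_top
  have hmk : ∀ x y : L, (x : L ⧸ center L) = (y : L ⧸ center L) → ∃ ζ ∈ center L, x * ζ = y := by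
    intro x y h
    exact ⟨x⁻¹ * y, QuotientGroup.eq.1 h, by group⟩
  have key : ∀ l ζ : L, ζ ∈ center L → α l = l * ζ → ∀ f, α f = f → α (l * f * l⁻¹) = l * f * l⁻¹ := by
    intro l ζ hζ hl f hf'
    rw [map_mul, map_mul, map_inv, hl, hf']
    have h1 : ζ * f = f * ζ := (mem_center_iff.1 hζ f).symm
    calc l * ζ * f * (l * ζ)⁻¹ = l * (ζ * f) * ζ⁻¹ * l⁻¹ := by group
      _ = l * f * l⁻¹ := by rw [h1]; group
  have hαβ : ∀ f, α f = f → α (β f) = β f := by
    intro f hf
    have h3 : α (β f) = β (α f) := DFunLike.congr_fun hc f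
    rw [h3, hf]
  have hbp : ∀ n : ℕ, bar (β ^ n) = bar β ^ n := by
    intro n
    induction n with
    | zero => rw [pow_zero, pow_zero, bar_one]
    | succ n ih => rw [pow_succ, pow_succ, bar_mul, ih]
  refine unbM h1311 hq.2 (OddHalf.Soft.quo_na hq) (α := bar α) (β := bar β) ?_ ?_ ?_ ?_ ?_
    ((fix α).map (QuotientGroup.mk' (center L))) (M.map (QuotientGroup.mk' (center L))) ?_ ?_ ?_ ?_ ?_ ?_ ?_ ?_ ?_
  · rw [← bar_mul, hα, bar_one]
  · exact fun h => hα1 (eq_one_of_bar hp h)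
  · refine Odd.of_dvd_nat hβ (orderOf_dvd_of_pow_eq_one ?_)
    rw [← hbp, pow_orderOf_eq_one, bar_one]
  · exact fun h => hβ1 (eq_one_of_bar hp h)
  · rw [← bar_mul, ← bar_mul, hc]
  · intro x hx
    obtain ⟨l, rfl⟩ := QuotientGroup.mk_surjective x
    rintro _ ⟨f, hf', rfl⟩
    rw [bar_mk] at hx
    obtain ⟨ζ, hζ, h1⟩ := hmk _ _ hx.symm
    exact ⟨l * f * l⁻¹, key l ζ hζ h1.symm f hf', rfl⟩
  · rintro _ ⟨f, hf', rfl⟩
    exact ⟨β f, hαβ f hf', rfl⟩
  · rintro _ ⟨f, hf', rfl⟩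
    show bar α (f : L ⧸ center L) = (f : L ⧸ center L)
    rw [bar_mk, show α f = f from hf']
  · intro x hx
    obtain ⟨l, rfl⟩ := QuotientGroup.mk_surjective x
    rw [bar_mk] at hx
    obtain ⟨ζ, hζ, h1⟩ := hmk _ _ hx.symm
    refine ⟨l * (β l)⁻¹, ?_, rfl⟩
    show α (l * (β l)⁻¹) = l * (β l)⁻¹
    have h2 : α (β l) = β l * ζ := by
      have h3 : α (β l) = β (α l) := DFunLike.congr_fun hc l
      rw [h3, ← h1, map_mul, hz ζ hζ]
    rw [map_mul, map_inv, h2, ← h1]
    have h4 : ζ * (β l)⁻¹ = (β l)⁻¹ * ζ := (mem_center_iff.1 hζ _).symm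
    calc l * ζ * (β l * ζ)⁻¹ = l * (ζ * ζ⁻¹) * (β l)⁻¹ := by group
      _ = l * (β l)⁻¹ := by group
  · exact Subgroup.map_mono fun m hm => hMα m hm
  · rintro _ ⟨f, hf', rfl⟩ _ ⟨m, hm, rfl⟩
    refine ⟨f * m * f⁻¹, hMn f hf' m hm, ?_⟩
    rw [map_mul, map_mul, map_inv]
  · rintro _ ⟨m, hm, rfl⟩
    exact ⟨β m, hMβ m hm, rfl⟩
  · intro h2
    obtain ⟨y, hy⟩ := exists_prime_orderOf_dvd_card' 2 h2
    obtain ⟨m, hm, hmy⟩ := y.2
    have hy1 : (y : L ⧸ center L) ^ 2 = 1 := by
      have h3 := pow_orderOf_eq_one y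
      rw [hy] at h3
      exact congrArg Subtype.val h3
    have hy2 : (y : L ⧸ center L) ≠ 1 := by
      intro h3
      have h4 : orderOf (y : L ⧸ center L) = 2 := by rw [Subgroup.orderOf_coe, hy]
      rw [h3, orderOf_one] at h4
      omega
    obtain ⟨k, r, hr, hkr⟩ := Nat.exists_eq_two_pow_mul_odd (n := orderOf m) (orderOf_pos m).ne'
    have h5 : m ^ r ∈ center L := by
      refine hM2 _ (pow_mem hm r) ⟨k, ?_⟩
      rw [← pow_mul, mul_comm, ← hkr, pow_orderOf_eq_one]
    have h6 : (y : L ⧸ center L) ^ r = 1 := by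
      rw [← hmy, ← map_pow]
      exact (QuotientGroup.eq_one_iff _).2 h5
    apply hy2
    obtain ⟨j, hj⟩ := hr
    rw [hj, pow_succ, pow_mul, hy1, one_pow, one_mul] at h6
    exact h6
  · rintro _ ⟨f, hf', rfl⟩
    refine ⟨f * (β f)⁻¹, hM f hf', ?_⟩
    rfl

end quasi

section group

variable {G : Type u} [Group G] [Finite G] {L N : Subgroup G} {s c a : G}

/-- conjugation by an element of `N(L)` -/
def actL (h : cj s L = L) : MulAut L := WR.actK h

theorem actL_apply (h : cj s L = L) (x : L) : ((actL h x : L) : G) = s * x * s⁻¹ := rfl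

theorem Cen_of_actL (h : cj s L = L) (h1 : actL h = 1) : Cen L s := by
  intro x hx
  have h2 := congrArg Subtype.val (DFunLike.congr_fun h1 ⟨x, hx⟩)
  rw [actL_apply, MulAut.one_apply] at h2
  exact mul_inv_eq_iff_eq_mul.1 h2

/-- an element acting trivially modulo the centre acts trivially -/
theorem Cen_of_mod (hq : IsQuasisimple L) (h : cj c L = L) (h1 : ∀ x ∈ L, Cen L (c * x * c⁻¹ * x⁻¹)) : Cen L c := by
  apply Cen_of_actL h
  apply eq_one_of_bar hq.1.commutator_eq_top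
  ext y
  obtain ⟨x, rfl⟩ := QuotientGroup.mk_surjective y
  rw [bar_mk, MulAut.one_apply, eq_comm, QuotientGroup.eq, mem_center_iff]
  intro z
  apply Subtype.ext
  change (z : G) * ((x : G)⁻¹ * (c * x * c⁻¹)) = (x : G)⁻¹ * (c * x * c⁻¹) * z
  have h2 := h1 x x.2 ((x : G) * z * (x : G)⁻¹) (mul_mem (mul_mem x.2 z.2) (inv_mem x.2))
  calc (z : G) * ((x : G)⁻¹ * (c * x * c⁻¹)) =
      (x : G)⁻¹ * ((x * z * (x : G)⁻¹) * (c * x * c⁻¹ * (x : G)⁻¹)) * x := by group
    _ = (x : G)⁻¹ * ((c * x * c⁻¹ * (x : G)⁻¹) * (x * z * (x : G)⁻¹)) * x := by rw [h2]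
    _ = _ := by group

/-- **(U)** : `c` centralises `L`, or `s` does not centralise `L` and `L / Z(L)` is in the list of S1311. -/
theorem unb_comp (h1311 : P11.{u}) (hq : IsQuasisimple L) (hsL : cj s L = L) (hcL : cj c L = L)
    (hss : s * s = 1) (hcs : c * s = s * c) (hc : Odd (orderOf c)) (hcZ : ∀ x ∈ L, Cen L x → c * x = x * c)
    (hcN : c ∈ N) (hNs : ∀ n ∈ N, n * s = s * n)
    (hN : ∀ y ∈ L, y * s = s * y → ∀ n ∈ N, y * n * y⁻¹ ∈ N) (ha : Cen L a)
    (hN2 : ∀ u ∈ N, u ∈ L → (∃ k : ℕ, u ^ 2 ^ k = 1) → u = 1 ∨ u = a) :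
    Cen L c ∨ (¬ Cen L s ∧ IsUnb (↥L ⧸ center ↥L)) := by
  haveI : Fact (Nat.Prime 2) := ⟨Nat.prime_two⟩
  have hNc : ∀ u ∈ N, u ∈ L → (∃ k : ℕ, u ^ 2 ^ k = 1) → Cen L u := by
    intro u hu huL hk
    rcases hN2 u hu huL hk with rfl | rfl
    · exact fun y _ => by rw [one_mul, mul_one]
    · exact ha
  have hcom : ∀ x ∈ L, c * x * c⁻¹ ∈ L := by
    intro x hx
    have h1 := conj_mem_cj (g := c) hx
    rwa [hcL] at h1
  by_cases hs : Cen L s
  · left
    have hNL : ∀ y ∈ L, ∀ n ∈ N, y * n * y⁻¹ ∈ N := fun y hy n hn => hN y hy (hs y hy).symm n hn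
    have hn : ((N ⊓ L).subgroupOf L).Normal := by
      rw [normal_subgroupOf_iff_le_normalizer inf_le_right]
      intro y hy
      rw [mem_normalizer_iff]
      intro n
      constructor
      · rintro ⟨h1, h2⟩
        exact ⟨hNL y hy n h1, L.mul_mem (L.mul_mem hy h2) (L.inv_mem hy)⟩
      · rintro ⟨h1, h2⟩
        have h3 := hNL _ (inv_mem hy) _ h1
        have h4 := L.mul_mem (L.mul_mem (L.inv_mem hy) h2) hy
        have e : y⁻¹ * (y * n * y⁻¹) * y = n := by group
        rw [inv_inv, e] at h3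
        rw [e] at h4
        exact ⟨h3, h4⟩
    rcases SignalizersComponents.LayerBasic.quasisimple_normal hq _ hn with h1 | h1
    · exfalso
      rw [subgroupOf_eq_top] at h1
      obtain ⟨S₀, hS₀⟩ := Hyp.exists_syl L
      refine syl_not_central hq le_rfl hS₀ fun x hx => ?_
      rw [mem_centralizer_iff]
      intro y hy
      obtain ⟨k, hk⟩ := hS₀.2.1 ⟨x, hx⟩
      exact (hNc x (h1 (hS₀.1 hx)).1 (hS₀.1 hx) ⟨k, congrArg Subtype.val hk⟩ y hy).symm
    · refine Cen_of_mod hq hcL fun x hx => ?_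
      have h2 : c * x * c⁻¹ * x⁻¹ ∈ N ⊓ L := by
        refine ⟨?_, L.mul_mem (hcom x hx) (L.inv_mem hx)⟩
        have h3 : c * x * c⁻¹ * x⁻¹ = c * (x * c⁻¹ * x⁻¹) := by group
        rw [h3]
        exact mul_mem hcN (hNL x hx _ (inv_mem hcN))
      intro y hy
      have h3 : (⟨c * x * c⁻¹ * x⁻¹, h2.2⟩ : L) ∈ center L := h1 (by rw [mem_subgroupOf]; exact h2)
      exact (congrArg Subtype.val (mem_center_iff.1 h3 ⟨y, hy⟩)).symm
  by_cases hcc : Cen L c
  · exact Or.inl hcc
  right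
  refine ⟨hs, ?_⟩
  have hpow : ∀ n : ℕ, ∀ x : L, (((actL hcL) ^ n) x : G) = c ^ n * x * (c ^ n)⁻¹ := by
    intro n
    induction n with
    | zero => intro x; rw [pow_zero, pow_zero, MulAut.one_apply]; group
    | succ n ih => intro x; rw [pow_succ, MulAut.mul_apply, ih, actL_apply, pow_succ]; group
  refine unbQM h1311 hq (α := actL hsL) (β := actL hcL) ?_ (fun h => hs (Cen_of_actL hsL h)) ?_
    (fun h => hcc (Cen_of_actL hcL h)) ?_ ?_ ((N ⊓ L ⊓ centralizer {s}).subgroupOf L) ?_ ?_ ?_ ?_ ?_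
  · ext x
    change s * (s * x * s⁻¹) * s⁻¹ = (x : G)
    calc s * (s * x * s⁻¹) * s⁻¹ = (s * s) * x * (s * s)⁻¹ := by group
      _ = x := by rw [hss]; group
  · refine Odd.of_dvd_nat hc (orderOf_dvd_of_pow_eq_one ?_)
    ext x
    rw [hpow, pow_orderOf_eq_one, MulAut.one_apply]
    group
  · ext x
    change s * (c * x * c⁻¹) * s⁻¹ = c * (s * x * s⁻¹) * c⁻¹
    calc s * (c * x * c⁻¹) * s⁻¹ = (s * c) * x * (s * c)⁻¹ := by group
      _ = _ := by rw [← hcs]; group
  · intro x hx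
    apply Subtype.ext
    rw [actL_apply, hcZ x x.2 fun y hy => (congrArg Subtype.val (mem_center_iff.1 hx ⟨y, hy⟩)).symm,
      mul_inv_cancel_right]
  · intro f hf m hm
    rw [mem_subgroupOf, mem_inf, mem_inf, mem_centralizer_singleton_iff] at hm ⊢
    have hf' : s * f * s⁻¹ = (f : G) := congrArg Subtype.val hf
    have hfs : (f : G) * s = s * f := (mul_inv_eq_iff_eq_mul.1 hf').symm
    refine ⟨⟨hN f f.2 hfs m hm.1.1, (f * m * f⁻¹ : L).2⟩, ?_⟩
    change (f : G) * m * (f : G)⁻¹ * s = s * ((f : G) * m * (f : G)⁻¹)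
    have h1 : (f : G)⁻¹ * s = s * (f : G)⁻¹ := by
      rw [inv_mul_eq_iff_eq_mul, ← mul_assoc, hfs, mul_inv_cancel_right]
    calc (f : G) * m * (f : G)⁻¹ * s = f * m * ((f : G)⁻¹ * s) := by group
      _ = f * (m * s) * (f : G)⁻¹ := by rw [h1]; group
      _ = (f * s) * m * (f : G)⁻¹ := by rw [hm.2]; group
      _ = _ := by rw [hfs]; group
  · intro m hm
    rw [mem_subgroupOf, mem_inf, mem_inf, mem_centralizer_singleton_iff] at hm ⊢
    refine ⟨⟨?_, (actL hcL m).2⟩, ?_⟩
    · change c * m * c⁻¹ ∈ N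
      exact mul_mem (mul_mem hcN hm.1.1) (inv_mem hcN)
    · change c * m * c⁻¹ * s = s * (c * m * c⁻¹)
      exact hNs _ (mul_mem (mul_mem hcN hm.1.1) (inv_mem hcN))
  · intro m hm
    rw [mem_subgroupOf, mem_inf, mem_inf, mem_centralizer_singleton_iff] at hm
    apply Subtype.ext
    rw [actL_apply, ← hm.2, mul_inv_cancel_right]
  · rintro m hm ⟨k, hk⟩
    rw [mem_subgroupOf, mem_inf, mem_inf] at hm
    rw [mem_center_iff]
    intro y
    exact Subtype.ext (hNc m hm.1.1 m.2 ⟨k, congrArg Subtype.val hk⟩ y y.2).symm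
  · intro f hf
    have hf' : s * f * s⁻¹ = (f : G) := congrArg Subtype.val hf
    have hfs : (f : G) * s = s * f := (mul_inv_eq_iff_eq_mul.1 hf').symm
    rw [mem_subgroupOf, mem_inf, mem_inf, mem_centralizer_singleton_iff]
    have h1 : ((f * (actL hcL f)⁻¹ : L) : G) = f * c * (f : G)⁻¹ * c⁻¹ := by
      change (f : G) * (c * f * c⁻¹)⁻¹ = _
      group
    have h2 : (f : G) * c * (f : G)⁻¹ * c⁻¹ ∈ N := mul_mem (hN f f.2 hfs c hcN) (inv_mem hcN)
    refine ⟨⟨by rw [h1]; exact h2, (f * (actL hcL f)⁻¹ : L).2⟩, ?_⟩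
    rw [h1]
    exact hNs _ h2

end group

end Cfsg.Agent.Cit.Nil.LO
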