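import Cfsg.Agent.Cit.Nil.LO.TW
import Cfsg.Agent.Cit.Nil.LO.ThreeUnb
import Cfsg.Agent.Cit.CoreTools

/-!
# S1309, node (n2): 822's theorems on the components, in the world `TW`

`E = RR Om a`, `a` central in `H`.

* `cps` : the components of `H`;
* `TW.zz_norm`, `TW.s_norm`, `TW.c_norm` : `z_K`, `s`, `c` normalise every component;
* `TW.cZ` : `c` centralises `Z(L)`;
* `TW.unb` : `c` centralises `L`, or `s` does not centralise `L` and `L / Z(L)` is in the list of S1311;
* `TW.exists_w` : `s` nontrivial on `L`: some `z_K`, `K ≤ S`, is nontrivial on `L` (and commutes with `c`).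
-/

set_option autoImplicit false
set_option linter.style.haveILetI false
set_option linter.unusedSectionVars false

namespace Cfsg.Agent.Cit.Nil.LO

open Subgroup Cfsg Cit RG
open Cfsg.Agent.OddHalf.NI3.Bad.Unb (IsUnb)

universe u

section cps

variable {H : Type*} [Group H] [Finite H]

/-- the components -/
def CC (H : Type*) [Group H] : Set (Subgroup H) := {L | IsComponent L}

theorem cps (hcore : pPrimeCore 2 H = ⊥) : Cps (CC H) ⊤ where
  qs _ hL := hL.2
  comm _ hL _ hM hne _ hx _ hy := Comp.comm_of_ne hL hM hne hx hy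
  conj _ hL g _ := Comp.isComponent_cj hL g
  odd := by
    intro x hx hc ho
    -- `x` centralises `F*(H)`
    have h2 : x ∈ centralizer (pCore 2 H : Set H) := by
      rw [mem_centralizer_iff]
      intro y hy
      exact SS_comm (fun L hL k hk => (comp_pCore hL hy hk).symm) hx
    have h1 : x ∈ centralizer (generalizedFittingSubgroup H : Set H) := by
      refine OneComp.mem_centralizer_genFit hcore (fun F hF => ?_) h2
      rw [mem_centralizer_iff]
      exact fun f hf => (hc f (mem_SS_of hF hf)).symm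
    have h3 := OneComp.centralizer_genFit_le hcore h1
    obtain ⟨n, hn⟩ := Lib.Cores.pCore_isPGroup (G := H) 2 ⟨x, h3⟩
    exact eq_one_of_two_odd (n := n) (congrArg Subtype.val hn) ho

/-- the centre of a component -/
theorem mem_ZL_of {L : Subgroup H} (hL : IsComponent L) {x : H} (hx : x ∈ L) (hc : Cen L x) : x ∈ ZL (CC H) := by
  rw [ZL, mem_inf, mem_centralizer_iff]
  refine ⟨mem_SS_of hL hx, fun y hy => ?_⟩
  refine (SS_comm (fun M hM m hm => ?_) hy).symm
  by_cases hne : M = L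
  · exact hc m (hne ▸ hm)
  · exact (Comp.comm_of_ne hM hL hne hm hx).symm

end cps

namespace TW

variable {H : Type*} [Group H] [Finite H] {Om : Set (Subgroup H)} {S : Sylow 2 H} {N L K : Subgroup H} {E : Subgroup H}
  {s c a : H}

theorem zz_norm (t : TW Om S N E s c) (hL : IsComponent L) (hK : K ∈ Om) : cj (zz K) L = L :=
  (cps t.core).norm t.w ⟨hK, rfl⟩ le_top hL

theorem s_norm (t : TW Om S N E s c) (hL : IsComponent L) : s ∈ normalizer (L : Set H) := by
  have h1 : closure {z | ∃ K ∈ Om, K ≤ (S : Subgroup H) ∧ zz K = z} ≤ normalizer (L : Set H) := by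
    rw [closure_le]
    rintro z ⟨K, hK, -, rfl⟩
    exact mem_normalizer_iff_cj.2 (t.zz_norm hL hK)
  exact h1 t.sT

/-- an element commuting with the `z_K`, `K ≤ S`, commutes with `s` -/
theorem comm_s (t : TW Om S N E s c) {y : H} (hy : ∀ K ∈ Om, K ≤ (S : Subgroup H) → y * zz K = zz K * y) :
    y * s = s * y := by
  have h1 : closure {z | ∃ K ∈ Om, K ≤ (S : Subgroup H) ∧ zz K = z} ≤ centralizer ({y} : Set H) := by
    rw [closure_le]
    rintro z ⟨K, hK, hKS, rfl⟩
    exact mem_centralizer_singleton_iff.2 (hy K hK hKS).symm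
  exact (mem_centralizer_singleton_iff.1 (h1 t.sT)).symm

/-- the 2-elements of `N` lie in `E` -/
theorem mem_E (t : TW Om S N E s c) {u : H} (hu : u ∈ N) (hk : ∃ k : ℕ, u ^ 2 ^ k = 1) : u ∈ E := by
  obtain ⟨k, hk⟩ := hk
  have hn : (E.subgroupOf N).Normal := t.nE.comap _
  have h1 : (QuotientGroup.mk' (E.subgroupOf N) ⟨u, hu⟩) = 1 := by
    refine eq_one_of_two_odd (n := k) ?_ ?_
    · rw [← map_pow]
      have : (⟨u, hu⟩ : N) ^ 2 ^ k = 1 := Subtype.ext hk
      rw [this, map_one]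
    · refine Odd.of_dvd_nat t.rel ?_
      have h2 : E.relIndex N = Nat.card (N ⧸ E.subgroupOf N) := rfl
      rw [h2]
      exact orderOf_dvd_natCard _
  have h2 : (⟨u, hu⟩ : N) ∈ E.subgroupOf N := (QuotientGroup.eq_one_iff _).1 h1
  exact mem_subgroupOf.1 h2

section a

variable (t : TW Om S N (RR Om a) s c) (ha : ∀ x : H, a * x = x * a)

include t ha

theorem two_mem {u : H} (hu : u ∈ N) (hS : u ∈ SS (CC H)) (hk : ∃ k : ℕ, u ^ 2 ^ k = 1) : u = 1 ∨ u = a := by
  have h1 := t.mem_E hu hk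
  refine t.w.RR_center h1 fun K hK k hk => ?_
  exact (SS_comm (fun L hL l hl => (comp_pCore hL (t.E2 (WR.le_RR hK hk)) hl).symm) hS).symm

theorem c_norm (hL : IsComponent L) : c ∈ normalizer (L : Set H) := by
  rw [mem_normalizer_iff_cj]
  refine (cps t.core).fix (𝒦 := {K | K ∈ Om ∧ K ≤ (S : Subgroup H) ∧ ¬ K ≤ pCore 2 H}) (S := (S : Subgroup H))
    (N := N) (s := s) (a := a) t.w S.isPGroup' (fun K hK => ⟨hK.1, hK.2.1⟩) (fun _ _ => le_top) t.odd (mem_top c)
    (fun K hK => (t.fix K hK.1 hK.2.1).resolve_right hK.2.2) t.cN ?_ ?_ ?_ ?_ hL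
  · intro y _ hys n hn
    exact (mem_normalizer_iff.1 (t.nN (mem_centralizer_singleton_iff.2 hys)) n).1 hn
  · intro y hy h1
    refine t.comm_s fun K hK hKS => ?_
    by_cases h2 : K ≤ pCore 2 H
    · exact (SS_comm (fun L hL l hl => (comp_pCore hL (h2 (t.w.zm hK)) hl).symm) hy).symm
    · exact h1 K ⟨hK, hKS, h2⟩
  · exact fun M _ x _ => ha x
  · exact fun u hu hS hk => t.two_mem ha hu hS hk

/-- `c` centralises `Z(L)` -/
theorem cZ (hL : IsComponent L) {x : H} (hx : x ∈ L) (hc : Cen L x) : c * x = x * c := by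
  have hZ := mem_ZL_of hL hx hc
  have hxs : x * s = s * x := t.comm_s fun K hK _ =>
    ((cps t.core).center_comm t.w (w := zz K) ⟨K, hK, rfl⟩ le_top hZ (t.w.RR_mem ⟨K, hK, rfl⟩)).symm
  have hxN := t.nN (mem_centralizer_singleton_iff.2 hxs)
  have hcL := t.c_norm ha hL
  -- `c x c⁻¹ x⁻¹ ∈ N`
  obtain ⟨e, he⟩ : ∃ e, e = c * x * c⁻¹ * x⁻¹ := ⟨_, rfl⟩
  have h1 : e ∈ N := by
    have h2 := (mem_normalizer_iff.1 hxN c⁻¹).1 (N.inv_mem t.cN)
    have h3 : e = c * (x * c⁻¹ * x⁻¹) := by rw [he]; group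
    rw [h3]
    exact N.mul_mem t.cN h2
  have hcx : c * x * c⁻¹ ∈ L := (mem_normalizer_iff.1 hcL x).1 hx
  have hccx : Cen L (c * x * c⁻¹) := by
    intro y hy
    have hy' : c⁻¹ * y * c ∈ L := by
      have h2 := (mem_normalizer_iff.1 (inv_mem hcL) y).1 hy
      rwa [inv_inv] at h2
    calc c * x * c⁻¹ * y = c * (x * (c⁻¹ * y * c)) * c⁻¹ := by group
      _ = c * ((c⁻¹ * y * c) * x) * c⁻¹ := by rw [hc _ hy']
      _ = y * (c * x * c⁻¹) := by group
  have heZ : e ∈ ZL (CC H) := by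
    rw [he]
    exact mul_mem (mem_ZL_of hL hcx hccx) (inv_mem hZ)
  have h2 : ∃ k : ℕ, e ^ 2 ^ k = 1 := by
    obtain ⟨k, hk⟩ := (cps t.core).ZL_two ⟨e, heZ⟩
    exact ⟨k, congrArg Subtype.val hk⟩
  have h3 : c * x * c⁻¹ = e * x := by rw [he]; group
  have h4 : e = 1 := by
    rcases t.two_mem ha h1 ((cps t.core).mem_ZL.1 heZ).1 h2 with h5 | h5
    · exact h5
    -- `e = a`
    have h6 : ∀ n : ℕ, c ^ n * x * (c ^ n)⁻¹ = a ^ n * x := by
      intro n
      induction n with
      | zero => simp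
      | succ n ih =>
        calc c ^ (n + 1) * x * (c ^ (n + 1))⁻¹ = c * (c ^ n * x * (c ^ n)⁻¹) * c⁻¹ := by
              rw [pow_succ']; group
          _ = c * (a ^ n * x) * c⁻¹ := by rw [ih]
          _ = a ^ n * (c * x * c⁻¹) := by
              have h7 : c * a ^ n = a ^ n * c := ((show Commute a c from ha c).pow_left n).symm
              rw [← mul_assoc, h7]; group
          _ = a ^ (n + 1) * x := by rw [h3, h5, pow_succ, mul_assoc]
    have h7 := h6 (orderOf c)
    rw [pow_orderOf_eq_one, one_mul, inv_one, mul_one] at h7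
    have h8 : a ^ orderOf c = 1 := by
      have : 1 * x = a ^ orderOf c * x := by rw [one_mul]; exact h7
      exact (mul_right_cancel this).symm
    rw [h5]
    obtain ⟨k, hk⟩ := h2
    rw [h5] at hk
    exact eq_one_of_two_odd hk (Odd.of_dvd_nat t.odd (orderOf_dvd_of_pow_eq_one h8))
  rw [h4, one_mul] at h3
  rw [mul_inv_eq_iff_eq_mul] at h3
  exact h3

end a

/-- **(U)** -/
theorem unb (h1311 : P11.{u}) {H : Type u} [Group H] [Finite H] {Om : Set (Subgroup H)} {S : Sylow 2 H}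
    {N L : Subgroup H} {s c a : H} (t : TW Om S N (RR Om a) s c) (ha : ∀ x : H, a * x = x * a) (hL : IsComponent L) :
    Cen L c ∨ (¬ Cen L s ∧ IsUnb (↥L ⧸ center ↥L)) := by
  refine unb_comp h1311 (N := N) (s := s) (a := a) hL.2 (mem_normalizer_iff_cj.1 (t.s_norm hL))
    (mem_normalizer_iff_cj.1 (t.c_norm ha hL)) t.s2 (mem_centralizer_singleton_iff.1 (t.Ns t.cN)) t.odd
    (fun x hx hc => t.cZ ha hL hx hc) t.cN (fun n hn => mem_centralizer_singleton_iff.1 (t.Ns hn)) ?_ (fun x _ => ha x) ?_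
  · intro y _ hys n hn
    exact (mem_normalizer_iff.1 (t.nN (mem_centralizer_singleton_iff.2 hys)) n).1 hn
  · exact fun u hu huL hk => t.two_mem ha hu (mem_SS_of hL huL) hk

/-- `s` nontrivial on `L` : some `z_K` is nontrivial on `L`; it commutes with `c` -/
theorem exists_w (t : TW Om S N E s c) (hL : IsComponent L) (hs : ¬ Cen L s) :
    ∃ K ∈ Om, K ≤ (S : Subgroup H) ∧ ¬ Cen L (zz K) ∧ ∀ k ∈ K, c * k = k * c := by
  by_contra hcon
  push Not at hcon
  apply hs
  intro y hy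
  refine (t.comm_s fun K hK hKS => ?_).symm
  by_contra h1
  have h2 : ¬ Cen L (zz K) := fun h => h1 (h y hy).symm
  obtain ⟨k, hk, h3⟩ := hcon K hK hKS h2
  rcases t.fix K hK hKS with h4 | h4
  · exact h3 (h4 k hk)
  · exact h1 (comp_pCore hL (h4 (t.w.zm hK)) hy)

end TW

end Cfsg.Agent.Cit.Nil.LO
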