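import Cfsg.Agent.Cit.Nil.LO.SevFront
import Cfsg.Agent.Cit.Nil.LO.CentSL
import Cfsg.Agent.Cit.Nil.LO.TWComp
import Cfsg.Agent.Cit.Nil.LO.Simple

/-!
# S1309 (n2), section 7 of LieOdd: the group `X = N(L) / C(L)` of a component `L`

* `NX L π` : `π : N(L) → X` is surjective with kernel `C(L)`; `im π P` : the image of `P ∩ N(L)`;
* `three` : `A` perfect, `[A, B]` centralises `A` : `A`, `B` commute;
* `NX.simple`, `NX.nc`, `NX.centralizer_im`, `NX.quo` : `im π L ≃ L / Z(L)` is simple with trivial centraliser;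
* `NX.exists_J` : the classical member of `X` lifts to `H`;
* `im_mem_cls`, `frame_max` : the members in `L` of `Om_c(S)` give a maximal frame of `X`;
* `RR_norm` : the members `K ≤ S` normalise `L`.
-/

set_option autoImplicit false
set_option linter.dupNamespace false
set_option linter.unusedSectionVars false

open Subgroup Cfsg
open Cfsg.Agent.OddHalf.NI (LieBig)
open Cfsg.Agent.UGT.Iface (IsL2)
open Cfsg.Agent.OddHalf.NI.FTwo (SL)

namespace Cfsg.Agent.Cit.Nil.LO.SevX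

open SevFront RG

universe u

/-- **Three subgroups.** -/
theorem three {G : Type*} [Group G] {A B : Subgroup G} (hA : ⁅A, A⁆ = A)
    (h : ∀ a ∈ A, ∀ b ∈ B, ∀ c ∈ A, a * b * a⁻¹ * b⁻¹ * c = c * (a * b * a⁻¹ * b⁻¹)) :
    ∀ a ∈ A, ∀ b ∈ B, a * b = b * a := by
  have h1 : ⁅⁅A, B⁆, A⁆ = ⊥ := by
    rw [commutator_eq_bot_iff_le_centralizer, commutator_le]
    intro a ha b hb
    rw [mem_centralizer_iff]
    intro c hc
    exact (h a ha b hb c hc).symm
  have h2 : ⁅⁅B, A⁆, A⁆ = ⊥ := by rw [commutator_comm B A, h1]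
  have h3 : ⁅⁅A, A⁆, B⁆ = ⊥ := commutator_commutator_eq_bot_of_rotate h1 h2
  rw [hA, commutator_eq_bot_iff_le_centralizer] at h3
  intro a ha b hb
  exact (mem_centralizer_iff.1 (h3 ha) b hb).symm

section nx

variable {H : Type*} [Group H] {X : Type*} [Group X] {L : Subgroup H}

/-- `X = N(L) / C(L)` -/
structure NX (L : Subgroup H) (π : ↥(normalizer (L : Set H)) →* X) : Prop where
  surj : Function.Surjective π
  ker : ∀ n, π n = 1 ↔ (n : H) ∈ centralizer (L : Set H)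

/-- the image -/
def im (π : ↥(normalizer (L : Set H)) →* X) (P : Subgroup H) : Subgroup X :=
  (P.subgroupOf (normalizer (L : Set H))).map π

variable {π : ↥(normalizer (L : Set H)) →* X}

theorem mem_im {P : Subgroup H} {x : X} :
    x ∈ im π P ↔ ∃ (n : H) (hn : n ∈ normalizer (L : Set H)), n ∈ P ∧ π ⟨n, hn⟩ = x := by
  constructor
  · rintro ⟨⟨n, hn⟩, h1, h2⟩
    exact ⟨n, hn, h1, h2⟩
  · rintro ⟨n, hn, h1, h2⟩
    exact ⟨⟨n, hn⟩, h1, h2⟩

theorem im_mono {P Q : Subgroup H} (h : P ≤ Q) : im π P ≤ im π Q := by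
  intro x hx
  obtain ⟨n, hn, h1, h2⟩ := mem_im.1 hx
  exact mem_im.2 ⟨n, hn, h h1, h2⟩

theorem im_cj {n : H} (hn : n ∈ normalizer (L : Set H)) (P : Subgroup H) :
    im π (cj n P) = cj (π ⟨n, hn⟩) (im π P) := by
  ext x
  rw [mem_cj]
  constructor
  · intro hx
    obtain ⟨m, hm, h1, rfl⟩ := mem_im.1 hx
    refine mem_im.2 ⟨n⁻¹ * m * n, mul_mem (mul_mem (inv_mem hn) hm) hn, mem_cj.1 h1, ?_⟩
    rw [← map_inv, ← map_mul, ← map_mul]
    rfl
  · intro hx
    obtain ⟨m, hm, h1, h2⟩ := mem_im.1 hx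
    refine mem_im.2 ⟨n * m * n⁻¹, mul_mem (mul_mem hn hm) (inv_mem hn), conj_mem_cj h1, ?_⟩
    have h3 : (⟨n * m * n⁻¹, mul_mem (mul_mem hn hm) (inv_mem hn)⟩ : ↥(normalizer (L : Set H))) =
        ⟨n, hn⟩ * ⟨m, hm⟩ * ⟨n, hn⟩⁻¹ := rfl
    rw [h3, map_mul, map_mul, h2, map_inv]
    group

theorem im_normal (h : NX L π) : (im π L).Normal :=
  Subgroup.Normal.map (inferInstanceAs (L.subgroupOf (normalizer (L : Set H))).Normal) π h.surj

theorem im_isPGroup {P : Subgroup H} {p : ℕ} (hP : IsPGroup p ↥P) : IsPGroup p ↥(im π P) :=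
  (hP.comap_subtype (K := normalizer (L : Set H))).map π

/-- elements acting trivially modulo the centre -/
theorem NX.mem_centralizer (h : NX L π) (hL : ⁅L, L⁆ = L) {n : H} (hn : n ∈ normalizer (L : Set H))
    (hc : ∀ x ∈ im π L, π ⟨n, hn⟩ * x = x * π ⟨n, hn⟩) : n ∈ centralizer (L : Set H) := by
  obtain ⟨B, hB⟩ : ∃ B : Subgroup H, B = ((centralizer (im π L : Set X)).comap π).map
    (normalizer (L : Set H)).subtype := ⟨_, rfl⟩
  have hnB : n ∈ B := by
    rw [hB]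
    refine ⟨⟨n, hn⟩, ?_, rfl⟩
    rw [SetLike.mem_coe, mem_comap, mem_centralizer_iff]
    intro x hx
    exact (hc x hx).symm
  have key := three (A := L) (B := B) hL (by
    intro a ha b hb c hc
    rw [hB] at hb
    obtain ⟨⟨b, hbn⟩, hb1, rfl⟩ := hb
    rw [SetLike.mem_coe, mem_comap, mem_centralizer_iff] at hb1
    have haN : a ∈ normalizer (L : Set H) := le_normalizer ha
    have h1 := hb1 (π ⟨a, haN⟩) (mem_im.2 ⟨a, haN, ha, rfl⟩)
    have h2 : π (⟨a, haN⟩ * ⟨b, hbn⟩ * ⟨a, haN⟩⁻¹ * ⟨b, hbn⟩⁻¹) = 1 := by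
      rw [map_mul, map_mul, map_mul, map_inv, map_inv, h1]
      group
    exact (mem_centralizer_iff.1 ((h.ker _).1 h2) c hc).symm)
  rw [mem_centralizer_iff]
  exact fun l hl => key l hl n hnB

/-- `X` acts faithfully on the image of `L` -/
theorem NX.centralizer_im (h : NX L π) (hL : ⁅L, L⁆ = L) : centralizer (im π L : Set X) = ⊥ := by
  rw [eq_bot_iff]
  intro x hx
  rw [mem_bot]
  obtain ⟨⟨n, hn⟩, rfl⟩ := h.surj x
  rw [h.ker]
  exact h.mem_centralizer hL hn fun y hy => (mem_centralizer_iff.1 hx y hy).symm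

/-- the map `L → im π L` -/
def rho (π : ↥(normalizer (L : Set H)) →* X) : ↥L →* ↥(im π L) :=
  (π.comp (inclusion le_normalizer)).codRestrict (im π L) fun l => mem_im.2 ⟨l, le_normalizer l.2, l.2, rfl⟩

theorem coe_rho (l : ↥L) : ((rho π l : ↥(im π L)) : X) = π ⟨l, le_normalizer l.2⟩ := rfl

theorem rho_surj : Function.Surjective (rho π) := by
  rintro ⟨x, hx⟩
  obtain ⟨n, hn, h1, rfl⟩ := mem_im.1 hx
  exact ⟨⟨n, h1⟩, rfl⟩

theorem NX.ker_rho (h : NX L π) : (rho π).ker = center ↥L := by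
  ext l
  rw [MonoidHom.mem_ker, mem_center_iff]
  have h1 : rho π l = 1 ↔ π ⟨l, le_normalizer l.2⟩ = 1 := by
    rw [← coe_rho, OneMemClass.coe_eq_one]
  rw [h1, h.ker, mem_centralizer_iff]
  constructor
  · intro h2 g
    exact Subtype.ext (h2 g g.2)
  · intro h2 g hg
    exact congrArg Subtype.val (h2 ⟨g, hg⟩)

/-- `L / Z(L) ≃ im π L` -/
noncomputable def NX.quo (h : NX L π) : (↥L ⧸ center ↥L) ≃* ↥(im π L) :=
  (QuotientGroup.quotientMulEquivOfEq h.ker_rho.symm).trans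
    (QuotientGroup.quotientKerEquivOfSurjective (rho π) rho_surj)

theorem NX.simple (h : NX L π) (hq : IsQuasisimple ↥L) : IsSimpleGroup ↥(im π L) :=
  h.quo.isSimpleGroup_congr.1 hq.2

theorem NX.nc (h : NX L π) (hq : IsQuasisimple ↥L) : ¬ IsMulCommutative ↥(im π L) := by
  intro hc
  have h1 := hq.1.commutator_eq_top
  have h2 : commutator ↥L ≤ (rho π).ker := by
    rw [_root_.commutator_def, commutator_le]
    intro a _ b _
    rw [MonoidHom.mem_ker, map_commutatorElement, commutatorElement_eq_one_iff_mul_comm]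
    exact mul_comm' _ _
  have h3 : Nontrivial (↥L ⧸ center ↥L) := hq.2.toNontrivial
  rw [h1, h.ker_rho, top_le_iff] at h2
  rw [h2] at h3
  obtain ⟨a, b, hab⟩ := h3
  exact hab ((QuotientGroup.subsingleton_quotient_top (G := ↥L)).elim a b)

end nx

section cls

variable {H : Type u} [Group H] [Finite H] {X : Type u} [Group X] [Finite X] {L : Subgroup H}
  {π : ↥(normalizer (L : Set H)) →* X} {F : Type} [Field F] [Fintype F]

/-- **The classical member of `X` lifts to `H`.** -/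
theorem NX.exists_J (h : NX L π) (h2 : IsPGroup 2 ↥(center ↥L)) (hs : L.IsSubnormal) {t : X} {JX : Subgroup X}
    (f : Front (im π L) F t JX) : ∃ (j : H) (J : Subgroup H), Cl F j J ∧ J ≤ L ∧ im π J = JX := by
  have hle := f.J_le
  obtain ⟨e⟩ := (f.sl.congr (subgroupOfEquivOfLe hle).symm).equiv
  obtain ⟨i, E, h3, h4, h5, h6, h7, h8, ⟨e'⟩⟩ := lift_track (rho π) rho_surj (by rw [h.ker_rho])
    (by rw [h.ker_rho]; exact h2) f.sl.three f.sl.odd (j := ⟨t, hle f.mem⟩) (J := JX.subgroupOf (im π L))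
    (by rw [Subgroup.orderOf_mk]; exact f.ord) (mem_subgroupOf.2 f.mem) (by
      intro x hx
      rw [mem_centralizer_singleton_iff]
      exact Subtype.ext (mem_centralizer_singleton_iff.1 (f.cent (mem_subgroupOf.1 hx)))) (by
      set C : Subgroup ↥(im π L) := centralizer {(⟨t, hle f.mem⟩ : ↥(im π L))} with hC
      let g : ↥C →* ↥(centralizer ({t} : Set X)) :=
        { toFun := fun x => ⟨((x : ↥(im π L)) : X), mem_centralizer_singleton_iff.2
            (congrArg Subtype.val (mem_centralizer_singleton_iff.1 x.2))⟩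
          map_one' := rfl
          map_mul' := fun _ _ => rfl }
      exact f.sub.comap g) e
  refine ⟨(i : H), E.map L.subtype, ⟨?_, ?_, mem_map_of_mem L.subtype h6, ?_, subnormal_up hs h8⟩,
    map_subtype_le _, ?_⟩
  · exact ⟨f.sl.odd, f.sl.three, ⟨(E.equivMapOfInjective L.subtype L.subtype_injective).symm.trans e'⟩⟩
  · rw [Subgroup.orderOf_coe]; exact h5
  · rintro _ ⟨x, hx, rfl⟩
    rw [mem_centralizer_singleton_iff]
    exact congrArg Subtype.val (mem_centralizer_singleton_iff.1 (h7 hx))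
  · ext x
    rw [mem_im]
    constructor
    · rintro ⟨n, hn, ⟨y, hy, rfl⟩, rfl⟩
      have h9 : rho π y ∈ JX.subgroupOf (im π L) := by rw [← h4]; exact mem_map_of_mem _ hy
      exact mem_subgroupOf.1 h9
    · intro hx
      have h9 : (⟨x, hle hx⟩ : ↥(im π L)) ∈ E.map (rho π) := by rw [h4]; exact mem_subgroupOf.2 hx
      obtain ⟨y, hy, hyx⟩ := h9
      exact ⟨y, le_normalizer y.2, mem_map_of_mem _ hy, congrArg Subtype.val hyx⟩

omit [Finite H] in
/-- a component meeting its conjugate in a non-abelian group -/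
theorem norm_of_meet [Finite H] (hL : IsComponent L) {P : Subgroup H} (hPn : ∃ a ∈ P, ∃ b ∈ P, a * b ≠ b * a)
    (hPL : P ≤ L) {g : H} (hg : cj g P ≤ L) : g ∈ normalizer (L : Set H) := by
  rw [mem_normalizer_iff_cj]
  by_contra hne
  obtain ⟨a, ha, b, hb, hab⟩ := hPn
  have h1 := Comp.comm_of_ne (Comp.isComponent_cj hL g) hL hne (conj_mem_cj (hPL ha)) (hg (conj_mem_cj hb))
  apply hab
  calc a * b = g⁻¹ * ((g * a * g⁻¹) * (g * b * g⁻¹)) * g := by group
    _ = g⁻¹ * ((g * b * g⁻¹) * (g * a * g⁻¹)) * g := by rw [h1]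
    _ = b * a := by group

variable {j : H} {J : Subgroup H}

theorem _root_.Cfsg.Agent.Cit.Nil.LO.SevFront.Cl.nonab (c : Cl F j J) : ∃ a ∈ J, ∃ b ∈ J, a * b ≠ b * a := by
  by_contra hcon
  push Not at hcon
  exact c.hyp_zz.1.not_le_centralizer_self (self_mem_cls J) fun x hx => mem_centralizer_iff.2 fun y hy => hcon y hy x hx

theorem _root_.Cfsg.Agent.Cit.Nil.LO.SevFront.Cl.perfect (c : Cl F j J) {P : Subgroup H} (hP : P ∈ cls J) :
    ⁅P, P⁆ = P := OddHalf.NI.FTwo.commutator_eq_of_quasisimple (c.slm hP).quasisimple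

/-- the members in `L` -/
theorem exists_norm (hL : IsComponent L) (c : Cl F j J) (hJL : J ≤ L) {P : Subgroup H} (hP : P ∈ cls J)
    (hPL : P ≤ L) : ∃ g ∈ normalizer (L : Set H), P = cj g J := by
  obtain ⟨g, rfl⟩ := hP
  exact ⟨g, norm_of_meet hL c.nonab hJL hPL, rfl⟩

theorem im_mem_cls (hL : IsComponent L) (c : Cl F j J) (hJL : J ≤ L) {P : Subgroup H} (hP : P ∈ cls J)
    (hPL : P ≤ L) : im π P ∈ cls (im π J) := by
  obtain ⟨g, hg, rfl⟩ := exists_norm hL c hJL hP hPL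
  exact ⟨_, im_cj hg J⟩

omit [Finite H] [Finite X] in
theorem im_comm {P Q : Subgroup H} (h : ∀ a ∈ P, ∀ b ∈ Q, a * b = b * a) : Cit.TypeDet.cm (im π P) (im π Q) := by
  intro x hx y hy
  obtain ⟨a, ha, h1, rfl⟩ := mem_im.1 hx
  obtain ⟨b, hb, h2, rfl⟩ := mem_im.1 hy
  rw [← map_mul, ← map_mul]
  congr 1
  exact Subtype.ext (h a h1 b h2)

/-- **The frame of `X` is maximal.** -/
theorem frame_max (h : NX L π) (hL : IsComponent L) (c : Cl F j J) (hJL : J ≤ L) (S : Sylow 2 H) {P : Subgroup X}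
    (hP : P ∈ cls (im π J)) :
    ¬ ∀ Q ∈ OmS (cls J) (S : Subgroup H), Q ≤ L → Cit.TypeDet.cm P (im π Q) := by
  intro hcon
  obtain ⟨x, rfl⟩ := hP
  obtain ⟨⟨n, hn⟩, rfl⟩ := h.surj x
  rw [← im_cj hn] at hcon
  have hPc : cj n J ∈ cls J := ⟨n, rfl⟩
  have hPL : cj n J ≤ L := by
    rw [← mem_normalizer_iff_cj.1 hn]
    exact cj_mono n hJL
  refine not_comm_all c.hyp_zz.1 S hPc fun Q hQ => ?_
  by_cases hQL : Q ≤ L
  · refine three (c.perfect hPc) fun a ha b hb d hd => ?_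
    have haN : a ∈ normalizer (L : Set H) := le_normalizer (hPL ha)
    have hbN : b ∈ normalizer (L : Set H) := le_normalizer (hQL hb)
    have h1 := hcon Q hQ hQL _ (mem_im.2 ⟨a, haN, ha, rfl⟩) _ (mem_im.2 ⟨b, hbN, hb, rfl⟩)
    have h2 : π (⟨a, haN⟩ * ⟨b, hbN⟩ * ⟨a, haN⟩⁻¹ * ⟨b, hbN⟩⁻¹) = 1 := by
      rw [map_mul, map_mul, map_mul, map_inv, map_inv, h1]
      group
    exact (mem_centralizer_iff.1 ((h.ker _).1 h2) d (hPL hd)).symm
  · obtain ⟨g, hg⟩ := hQ.1
    have h1 : L ≠ cj g L := by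
      intro h1
      apply hQL
      rw [hg, h1]
      exact cj_mono g hJL
    intro a ha b hb
    refine Comp.comm_of_ne hL (Comp.isComponent_cj hL g) h1 (hPL ha) ?_
    rw [hg] at hb
    exact cj_mono g hJL hb

theorem exists_frame (h : NX L π) (hL : IsComponent L) (c : Cl F j J) (hJL : J ≤ L) (S : Sylow 2 H) :
    ∃ Q ∈ OmS (cls J) (S : Subgroup H), Q ≤ L := by
  by_contra hcon
  push Not at hcon
  exact frame_max h hL c hJL S (self_mem_cls _) fun Q hQ hQL => absurd hQL (hcon Q hQ)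

variable {Om : Set (Subgroup H)} {S : Sylow 2 H} {N E : Subgroup H} {s d : H}

/-- `E_z`, `z = z_K`, `K ≤ S`, centralises the members in `S` -/
theorem RR_cent (t : TW Om S N E s d) (c : Cl F j J) {K : Subgroup H} (hK : K ∈ Om) (hKS : K ≤ (S : Subgroup H))
    {Q : Subgroup H} (hQ : Q ∈ OmS (cls J) (S : Subgroup H)) : ∀ g ∈ RR Om (zz K), ∀ x ∈ Q, g * x = x * g :=
  sl_centralizer t.w c.hyp_zz.1 c.sls ⟨K, hK, rfl⟩ S.isPGroup' (t.RR_le hK hKS) hQ

/-- **`E_z` normalises `L`** -/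
theorem RR_norm (t : TW Om S N E s d) (h : NX L π) (hL : IsComponent L) (c : Cl F j J) (hJL : J ≤ L)
    {K : Subgroup H} (hK : K ∈ Om) (hKS : K ≤ (S : Subgroup H)) : RR Om (zz K) ≤ normalizer (L : Set H) := by
  obtain ⟨Q, hQ, hQL⟩ := exists_frame h hL c hJL S
  intro g hg
  have h1 := RR_cent t c hK hKS hQ g hg
  obtain ⟨F', _, _, hF'⟩ := c.sls Q hQ.1
  have h2 : ∃ a ∈ Q, ∃ b ∈ Q, a * b ≠ b * a := by
    by_contra hcon
    push Not at hcon
    exact c.hyp_zz.1.not_le_centralizer_self hQ.1 fun x hx =>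
      mem_centralizer_iff.2 fun y hy => hcon y hy x hx
  refine norm_of_meet hL h2 hQL fun x hx => ?_
  have h3 := h1 _ (mem_cj.1 hx)
  have h4 : x = g⁻¹ * x * g := by
    calc x = g * (g⁻¹ * x * g) * g⁻¹ := by group
      _ = (g⁻¹ * x * g) * g * g⁻¹ := by rw [h3]
      _ = g⁻¹ * x * g := by group
  rw [h4]
  exact hQL (mem_cj.1 hx)

end cls

end Cfsg.Agent.Cit.Nil.LO.SevX
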